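/-
helper54: the local criterion of flatness, nilpotent layer, without the Tor functor.

Fix a presentation `0 → K → F → M → 0` of an `R`-module `M` with `F` flat
(`ι : K →ₗ[R] F`, `π : F →ₗ[R] M`).  "`Tor₁(N, M) = 0`" is expressed as injectivity of
`ι.lTensor N : N ⊗ K → N ⊗ F`.
-/
import Mathlib.RingTheory.Flat.Equalizer
import Mathlib.RingTheory.Flat.Tensor
import Mathlib.RingTheory.Flat.Stability
import Mathlib.Algebra.Module.Torsion.Basic
import Mathlib.LinearAlgebra.TensorProduct.Tower
import Mathlib.LinearAlgebra.TensorProduct.RightExactness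
import Mathlib.RingTheory.Ideal.Quotient.Operations

set_option autoImplicit false

namespace Groth.Agent.Lib.Helper54.LocalFlat

open TensorProduct Function

section Chase

variable {R : Type*} [CommRing R]
variable {K F M : Type*} [AddCommGroup K] [AddCommGroup F] [AddCommGroup M]
  [Module R K] [Module R F] [Module R M]
variable {N' N N'' : Type*} [AddCommGroup N'] [AddCommGroup N] [AddCommGroup N'']
  [Module R N'] [Module R N] [Module R N'']

omit [AddCommGroup K] [AddCommGroup F] [AddCommGroup N'] [AddCommGroup N] in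
theorem comm_sq {K F N' N : Type*} [AddCommMonoid K] [AddCommMonoid F] [AddCommMonoid N']
    [AddCommMonoid N] [Module R K] [Module R F] [Module R N'] [Module R N]
    (ι : K →ₗ[R] F) (f : N' →ₗ[R] N) (x : N' ⊗[R] K) :
    ι.lTensor N (f.rTensor K x) = f.rTensor F (ι.lTensor N' x) := by
  rw [← LinearMap.comp_apply, ← LinearMap.comp_apply, LinearMap.lTensor_comp_rTensor,
    LinearMap.rTensor_comp_lTensor]

/-- "`Tor₁(-, M) = 0`" is closed under extensions. -/
theorem lTensor_injective_of_exact (ι : K →ₗ[R] F) (f : N' →ₗ[R] N) (g : N →ₗ[R] N'')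
    (hfF : Injective (f.rTensor F)) (hfg : Exact f g) (hg : Surjective g)
    (h' : Injective (ι.lTensor N')) (h'' : Injective (ι.lTensor N'')) :
    Injective (ι.lTensor N) := by
  rw [injective_iff_map_eq_zero]
  intro x hx
  have h1 : g.rTensor K x = 0 := by
    apply h''
    rw [comm_sq, hx, map_zero, map_zero]
  obtain ⟨x', rfl⟩ := (rTensor_exact K hfg hg x).1 h1
  have h2 : ι.lTensor N' x' = 0 := by
    apply hfF
    rw [← comm_sq, hx, map_zero]
  rw [h' (h2.trans (map_zero _).symm), map_zero]

/-- If "`Tor₁(N'', M) = 0`" then `N' ⊗ M → N ⊗ M` is injective for `0 → N' → N → N'' → 0`. -/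
theorem rTensor_injective_of_lTensor_injective (ι : K →ₗ[R] F) (π : F →ₗ[R] M)
    (hex : Exact ι π) (hπ : Surjective π)
    (f : N' →ₗ[R] N) (g : N →ₗ[R] N'')
    (hfF : Injective (f.rTensor F)) (hfg : Exact f g) (hg : Surjective g)
    (h'' : Injective (ι.lTensor N'')) : Injective (f.rTensor M) := by
  rw [injective_iff_map_eq_zero]
  intro z hz
  obtain ⟨y, rfl⟩ := LinearMap.lTensor_surjective N' hπ z
  have h1 : π.lTensor N (f.rTensor F y) = 0 := by
    rw [comm_sq, hz]
  obtain ⟨x₁, hx₁⟩ := (lTensor_exact N hex hπ _).1 h1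
  have h2 : g.rTensor K x₁ = 0 := by
    apply h''
    rw [comm_sq, hx₁, map_zero, ← LinearMap.comp_apply, ← LinearMap.rTensor_comp,
      hfg.linearMap_comp_eq_zero]
    simp
  obtain ⟨x', rfl⟩ := (rTensor_exact K hfg hg x₁).1 h2
  have h3 : y = ι.lTensor N' x' := by
    apply hfF
    rw [← comm_sq, hx₁]
  rw [h3, ← LinearMap.comp_apply, ← LinearMap.lTensor_comp, hex.linearMap_comp_eq_zero]
  simp

/-- Converse for flat `N`: if `N' ⊗ M → N ⊗ M` is injective and `N` is flat then
"`Tor₁(N'', M) = 0`". -/
theorem lTensor_injective_of_rTensor_injective (ι : K →ₗ[R] F) (π : F →ₗ[R] M)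
    (hex : Exact ι π) (hπ : Surjective π)
    (f : N' →ₗ[R] N) (g : N →ₗ[R] N'') (hfg : Exact f g) (hg : Surjective g)
    (hιN : Injective (ι.lTensor N)) (h : Injective (f.rTensor M)) :
    Injective (ι.lTensor N'') := by
  rw [injective_iff_map_eq_zero]
  intro x'' hx''
  obtain ⟨x, rfl⟩ := LinearMap.rTensor_surjective K hg x''
  have h1 : g.rTensor F (ι.lTensor N x) = 0 := by
    rw [← comm_sq, hx'']
  obtain ⟨y', hy'⟩ := (rTensor_exact F hfg hg _).1 h1
  have h2 : π.lTensor N' y' = 0 := by
    apply h
    rw [← comm_sq, hy', map_zero, ← LinearMap.comp_apply, ← LinearMap.lTensor_comp,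
      hex.linearMap_comp_eq_zero]
    simp
  obtain ⟨x', rfl⟩ := (lTensor_exact N' hex hπ _).1 h2
  have h3 : x = f.rTensor K x' := by
    apply hιN
    rw [comm_sq, hy']
  rw [h3, ← LinearMap.comp_apply, ← LinearMap.rTensor_comp, hfg.linearMap_comp_eq_zero]
  simp

end Chase

section Core

variable {R : Type*} [CommRing R] (I : Ideal R)
variable {K F M : Type*} [AddCommGroup K] [AddCommGroup F] [AddCommGroup M]
  [Module R K] [Module R F] [Module R M]

open AlgebraTensorModule in
/-- Naturality of `cancelBaseChange` in the second variable. -/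
theorem cancel_comm (ι : K →ₗ[R] F) (A : Type*) [CommRing A] [Algebra R A]
    (N : Type*) [AddCommGroup N] [Module R N] [Module A N] [IsScalarTower R A N]
    (x : N ⊗[A] (A ⊗[R] K)) :
    ι.lTensor N (cancelBaseChange R A A N K x) =
      cancelBaseChange R A A N F ((ι.baseChange A).lTensor N x) := by
  induction x using TensorProduct.induction_on with
  | zero => simp
  | tmul n y =>
    induction y using TensorProduct.induction_on with
    | zero => simp
    | tmul a k => simp
    | add y₁ y₂ h₁ h₂ => simp only [tmul_add, map_add, h₁, h₂]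
  | add x₁ x₂ h₁ h₂ => simp only [map_add, h₁, h₂]

open AlgebraTensorModule in
/-- Naturality of `cancelBaseChange` in the first variable. -/
theorem cancel_comm' (A : Type*) [CommRing A] [Algebra R A]
    {N' N : Type*} [AddCommGroup N'] [Module R N'] [Module A N'] [IsScalarTower R A N']
    [AddCommGroup N] [Module R N] [Module A N] [IsScalarTower R A N]
    (f : N' →ₗ[A] N) (x : N' ⊗[A] (A ⊗[R] M)) :
    (f.restrictScalars R).rTensor M (cancelBaseChange R A A N' M x) =
      cancelBaseChange R A A N M (f.rTensor (A ⊗[R] M) x) := by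
  induction x using TensorProduct.induction_on with
  | zero => simp
  | tmul n y =>
    induction y using TensorProduct.induction_on with
    | zero => simp
    | tmul a k => simp
    | add y₁ y₂ h₁ h₂ => simp only [tmul_add, map_add, h₁, h₂]
  | add x₁ x₂ h₁ h₂ => simp only [map_add, h₁, h₂]

/-- "`Tor₁(N, M) = 0`" for modules `N` over `R ⧸ I`, when `M ⧸ I M` is flat over `R ⧸ I` and
"`Tor₁(R ⧸ I, M) = 0`". -/
theorem lTensor_injective_of_module_quotient (ι : K →ₗ[R] F) (π : F →ₗ[R] M)
    (hex : Exact ι π) (hπ : Surjective π)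
    [Module.Flat (R ⧸ I) ((R ⧸ I) ⊗[R] M)] (h0 : Injective (ι.lTensor (R ⧸ I)))
    (N : Type*) [AddCommGroup N] [Module R N] [Module (R ⧸ I) N] [IsScalarTower R (R ⧸ I) N] :
    Injective (ι.lTensor N) := by
  have hinj : Injective (ι.baseChange (R ⧸ I)) := h0
  have hexb : Exact (ι.baseChange (R ⧸ I)) (π.baseChange (R ⧸ I)) := lTensor_exact (R ⧸ I) hex hπ
  have hsurj : Surjective (π.baseChange (R ⧸ I)) := LinearMap.lTensor_surjective (R ⧸ I) hπ
  have key := LinearMap.lTensor_injective_of_exact_of_flat (π.baseChange (R ⧸ I)) hsurj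
    (ι.baseChange (R ⧸ I)) hinj hexb N
  intro x y hxy
  have h1 : (AlgebraTensorModule.cancelBaseChange R (R ⧸ I) (R ⧸ I) N F)
      (((ι.baseChange (R ⧸ I)).lTensor N)
        ((AlgebraTensorModule.cancelBaseChange R (R ⧸ I) (R ⧸ I) N K).symm x)) =
      (AlgebraTensorModule.cancelBaseChange R (R ⧸ I) (R ⧸ I) N F)
      (((ι.baseChange (R ⧸ I)).lTensor N)
        ((AlgebraTensorModule.cancelBaseChange R (R ⧸ I) (R ⧸ I) N K).symm y)) := by
    rw [← cancel_comm, ← cancel_comm, LinearEquiv.apply_symm_apply, LinearEquiv.apply_symm_apply]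
    exact hxy
  exact (AlgebraTensorModule.cancelBaseChange R (R ⧸ I) (R ⧸ I) N K).symm.injective
    (key ((AlgebraTensorModule.cancelBaseChange R (R ⧸ I) (R ⧸ I) N F).injective h1))

/-- "`Tor₁(N, M) = 0`" for all modules `N` killed by a power of `I`, when `M ⧸ I M` is flat over
`R ⧸ I` and "`Tor₁(R ⧸ I, M) = 0`". -/
theorem lTensor_injective_of_pow_smul_eq_zero (ι : K →ₗ[R] F) (π : F →ₗ[R] M)
    (hex : Exact ι π) (hπ : Surjective π) [Module.Flat R F]
    [Module.Flat (R ⧸ I) ((R ⧸ I) ⊗[R] M)] (h0 : Injective (ι.lTensor (R ⧸ I)))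
    (m : ℕ) : ∀ (N : Type*) [AddCommGroup N] [Module R N],
      (∀ a ∈ I ^ m, ∀ x : N, a • x = 0) → Injective (ι.lTensor N) := by
  induction m with
  | zero =>
    intro N _ _ hN
    have : Subsingleton N := ⟨fun x y => by
      have hx := hN 1 (by simp) x
      have hy := hN 1 (by simp) y
      rw [one_smul] at hx hy
      rw [hx, hy]⟩
    have : Subsingleton (N ⊗[R] K) := inferInstance
    exact injective_of_subsingleton _
  | succ m ih =>
    intro N _ _ hN
    -- the submodule `I • N` is killed by `I ^ m`, the quotient by `I`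
    have h' : Injective (ι.lTensor ↥(I • (⊤ : Submodule R N))) := by
      apply ih
      intro a ha x
      apply Subtype.ext
      rw [Submodule.coe_smul, Submodule.coe_zero]
      have hx := x.2
      refine Submodule.smul_induction_on hx ?_ ?_
      · intro b hb n _
        rw [smul_smul]
        exact hN _ (by rw [pow_succ]; exact Ideal.mul_mem_mul ha hb) n
      · intro y z hy hz
        rw [smul_add, hy, hz, add_zero]
    have htors : Module.IsTorsionBySet R (N ⧸ (I • (⊤ : Submodule R N))) (I : Set R) := by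
      intro x a
      obtain ⟨n, rfl⟩ := Submodule.Quotient.mk_surjective _ x
      rw [← Submodule.Quotient.mk_smul, Submodule.Quotient.mk_eq_zero]
      exact Submodule.smul_mem_smul a.2 Submodule.mem_top
    let _ : Module (R ⧸ I) (N ⧸ (I • (⊤ : Submodule R N))) := htors.module
    have : IsScalarTower R (R ⧸ I) (N ⧸ (I • (⊤ : Submodule R N))) := htors.isScalarTower
    have h'' : Injective (ι.lTensor (N ⧸ (I • (⊤ : Submodule R N)))) :=
      lTensor_injective_of_module_quotient I ι π hex hπ h0 _
    exact lTensor_injective_of_exact ι (I • (⊤ : Submodule R N)).subtype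
      (I • (⊤ : Submodule R N)).mkQ
      (Module.Flat.rTensor_preserves_injective_linearMap _ (Submodule.injective_subtype _))
      (LinearMap.exact_subtype_mkQ _) (Submodule.mkQ_surjective _) h' h''

end Core

end Groth.Agent.Lib.Helper54.LocalFlat
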