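/-
helper54: the local criterion of flatness, nilpotent layer: main statements.
-/
import Groth.Agent.Lib.Helper54.LocalFlat

set_option autoImplicit false
set_option maxHeartbeats 400000

namespace Groth.Agent.Lib.Helper54.LocalFlat

open TensorProduct Function

section Main

universe u v

variable {R : Type u} [CommRing R] (I : Ideal R) (M : Type v) [AddCommGroup M] [Module R M]

/-- The canonical free presentation of `M`. -/
noncomputable abbrev presπ : (M →₀ R) →ₗ[R] M := Finsupp.linearCombination R id

/-- The kernel of the canonical free presentation of `M`. -/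
noncomputable abbrev presι : ↥(LinearMap.ker (presπ (R := R) M)) →ₗ[R] (M →₀ R) :=
  (LinearMap.ker (presπ (R := R) M)).subtype

theorem presπ_surjective : Surjective (presπ (R := R) M) :=
  Finsupp.linearCombination_surjective R surjective_id

theorem pres_exact : Exact (presι (R := R) M) (presπ M) :=
  LinearMap.exact_subtype_ker_map _

/-- "`Tor₁(R ⧸ I, M) = 0`" in terms of the canonical presentation. -/
theorem tor_quotient_of_rTensor_injective
    (htor : Injective (I.subtype.rTensor M)) :
    Injective ((presι (R := R) M).lTensor (R ⧸ I)) := by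
  have h1 : Injective ((presι (R := R) M).lTensor R) :=
    Module.Flat.lTensor_preserves_injective_linearMap _ (Submodule.injective_subtype _)
  have h3 : Exact I.subtype I.mkQ := LinearMap.exact_subtype_mkQ _
  have a0 := lTensor_injective_of_rTensor_injective (R := R)
    (K := ↥(LinearMap.ker (presπ (R := R) M))) (F := M →₀ R) (M := M)
    (N' := I) (N := R) (N'' := R ⧸ I) (presι M) (presπ M)
  have a1 := a0 (pres_exact M) (presπ_surjective M)
  have a2 := a1 I.subtype I.mkQ
  have a3 := a2 h3 (Submodule.mkQ_surjective _)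
  exact a3 h1 htor

/-- Main technical statement (Stacks 051C (2)): if `M ⧸ I M` is flat over `R ⧸ I` and
`I ⊗ M → M` is injective, then for every injective map `N' → N` whose cokernel is killed by a power
of `I`, the map `N' ⊗ M → N ⊗ M` is injective. -/
theorem rTensor_injective_of_cokernel_torsion [Module.Flat (R ⧸ I) ((R ⧸ I) ⊗[R] M)]
    (htor : Injective (I.subtype.rTensor M)) (m : ℕ)
    {N' N : Type*} [AddCommGroup N'] [AddCommGroup N] [Module R N'] [Module R N]
    (f : N' →ₗ[R] N) (hf : Injective f)
    (hN : ∀ a ∈ I ^ m, ∀ x : N, ∃ y : N', f y = a • x) :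
    Injective (f.rTensor M) := by
  have hkill : ∀ a ∈ I ^ m, ∀ x : N ⧸ LinearMap.range f, a • x = 0 := by
    intro a ha x
    obtain ⟨n, rfl⟩ := Submodule.Quotient.mk_surjective _ x
    rw [← Submodule.Quotient.mk_smul, Submodule.Quotient.mk_eq_zero]
    obtain ⟨y, hy⟩ := hN a ha n
    exact ⟨y, hy⟩
  have h0 := tor_quotient_of_rTensor_injective I M htor
  have b0 := lTensor_injective_of_pow_smul_eq_zero (R := R)
      (K := ↥(LinearMap.ker (presπ (R := R) M))) (F := M →₀ R) (M := M) I (presι M) (presπ M)
  have b1 := b0 (pres_exact M) (presπ_surjective M)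
  have b2 := b1 h0 m
  have h'' := b2 (N ⧸ LinearMap.range f) hkill
  have hfF : Injective (f.rTensor (M →₀ R)) :=
    Module.Flat.rTensor_preserves_injective_linearMap _ hf
  have hex : Exact f (LinearMap.range f).mkQ := LinearMap.exact_map_mkQ_range f
  have a0 := rTensor_injective_of_lTensor_injective (R := R)
    (K := ↥(LinearMap.ker (presπ (R := R) M))) (F := M →₀ R) (M := M)
    (N' := N') (N := N) (N'' := N ⧸ LinearMap.range f) (presι M) (presπ M)
  have a1 := a0 (pres_exact M) (presπ_surjective M)
  have a2 := a1 f (LinearMap.range f).mkQ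
  have a3 := a2 hfF hex (Submodule.mkQ_surjective _)
  exact a3 h''

/-- Local criterion of flatness, nilpotent case: if `I` is nilpotent, `M ⧸ I M` is flat over
`R ⧸ I` and `I ⊗ M → M` is injective, then `M` is flat. -/
theorem flat_of_isNilpotent (hI : IsNilpotent I) [Module.Flat (R ⧸ I) ((R ⧸ I) ⊗[R] M)]
    (htor : Injective (I.subtype.rTensor M)) : Module.Flat R M := by
  obtain ⟨m, hm⟩ := hI
  rw [Module.Flat.iff_rTensor_injective']
  intro J
  apply rTensor_injective_of_cokernel_torsion I M htor m J.subtype (Submodule.injective_subtype _)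
  intro a ha x
  rw [hm] at ha
  have : a = 0 := ha
  exact ⟨0, by simp [this]⟩

/-- Stacks 051C (1): if `M ⧸ I M` is flat over `R ⧸ I` and `I ⊗ M → M` is injective, then
`M ⧸ I ^ n M` is flat over `R ⧸ I ^ n`. -/
theorem flat_quotient_pow [Module.Flat (R ⧸ I) ((R ⧸ I) ⊗[R] M)]
    (htor : Injective (I.subtype.rTensor M)) (n : ℕ) :
    Module.Flat (R ⧸ I ^ n) ((R ⧸ I ^ n) ⊗[R] M) := by
  rw [Module.Flat.iff_rTensor_preserves_injective_linearMap]
  intro N' N _ _ _ _ f hf
  let _ : Module R N' := Module.compHom N' (algebraMap R (R ⧸ I ^ n))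
  let _ : Module R N := Module.compHom N (algebraMap R (R ⧸ I ^ n))
  have : IsScalarTower R (R ⧸ I ^ n) N' := IsScalarTower.of_algebraMap_smul fun _ _ => rfl
  have : IsScalarTower R (R ⧸ I ^ n) N := IsScalarTower.of_algebraMap_smul fun _ _ => rfl
  have key : Injective ((f.restrictScalars R).rTensor M) := by
    apply rTensor_injective_of_cokernel_torsion I M htor n (f.restrictScalars R) hf
    intro a ha x
    refine ⟨0, ?_⟩
    rw [map_zero]
    change (0 : N) = algebraMap R (R ⧸ I ^ n) a • x
    rw [Ideal.Quotient.algebraMap_eq, Ideal.Quotient.eq_zero_iff_mem.2 ha, zero_smul]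
  intro x y hxy
  have h1 : (f.restrictScalars R).rTensor M
        (AlgebraTensorModule.cancelBaseChange R (R ⧸ I ^ n) (R ⧸ I ^ n) N' M x) =
      (f.restrictScalars R).rTensor M
        (AlgebraTensorModule.cancelBaseChange R (R ⧸ I ^ n) (R ⧸ I ^ n) N' M y) := by
    rw [cancel_comm', cancel_comm', hxy]
  exact (AlgebraTensorModule.cancelBaseChange R (R ⧸ I ^ n) (R ⧸ I ^ n) N' M).injective (key h1)

end Main

end Groth.Agent.Lib.Helper54.LocalFlat
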