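/-
helper54: base change of "`Tor₁(R ⧸ I, M)`" (Stacks 10.99.7 + the flatness refinement used in
10.99.8).  `Tor₁(R ⧸ I, M)` is the kernel of the multiplication `I ⊗ M → M`.

Main statement `mem_span_of_isBaseChange`: if `M ⧸ I M` is flat over `R ⧸ I`, `R → R'` is a ring
map and `N` is the base change of `M` to `R'`, then the kernel of `IR' ⊗[R'] N → N` is spanned over
`R'` by the image of the kernel of `I ⊗[R] M → M`.
-/
import Groth.Agent.Lib.Helper54.LocalFlat2
import Mathlib.RingTheory.IsTensorProduct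
import Mathlib.RingTheory.TensorProduct.Basic

set_option autoImplicit false
set_option maxHeartbeats 400000

namespace Groth.Agent.Lib.Helper54.TorBC

open TensorProduct Function

section Mu

variable {R : Type*} [CommRing R] (I : Ideal R) (M : Type*) [AddCommGroup M] [Module R M]

/-- The multiplication map `I ⊗ M → M`. -/
noncomputable def mu : I ⊗[R] M →ₗ[R] M :=
  (TensorProduct.lid R M).toLinearMap ∘ₗ I.subtype.rTensor M

@[simp] theorem mu_tmul (a : I) (m : M) : mu I M (a ⊗ₜ m) = (a : R) • m := by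
  simp [mu]

theorem mu_eq_zero_iff (x : I ⊗[R] M) : mu I M x = 0 ↔ I.subtype.rTensor M x = 0 := by
  simp [mu]

theorem mu_injective [Module.Flat R M] : Injective (mu I M) := by
  unfold mu
  exact (TensorProduct.lid R M).injective.comp
    (Module.Flat.rTensor_preserves_injective_linearMap _ (Submodule.injective_subtype _))

variable {M} in
theorem mu_natural {F : Type*} [AddCommGroup F] [Module R F] (π : F →ₗ[R] M) (x : I ⊗[R] F) :
    mu I M (π.lTensor I x) = π (mu I F x) := by
  induction x using TensorProduct.induction_on with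
  | zero => simp
  | tmul a f => simp
  | add x y hx hy => simp only [map_add, hx, hy]

end Mu

section Phi

variable {R : Type*} [CommRing R] (R' : Type*) [CommRing R'] [Algebra R R'] (I : Ideal R)
variable {M : Type*} [AddCommGroup M] [Module R M]
variable {N : Type*} [AddCommGroup N] [Module R N] [Module R' N] [IsScalarTower R R' N]

/-- The comparison map `I ⊗[R] M → IR' ⊗[R'] N` induced by an `R`-linear map `g : M → N`. -/
noncomputable def phi (g : M →ₗ[R] N) :
    I ⊗[R] M →ₗ[R] (I.map (algebraMap R R')) ⊗[R'] N :=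
  (TensorProduct.mapOfCompatibleSMul R' R R (I.map (algebraMap R R')) N) ∘ₗ
    (TensorProduct.map (Algebra.idealMap R' I) g)

@[simp] theorem phi_tmul (g : M →ₗ[R] N) (a : I) (m : M) :
    phi R' I g (a ⊗ₜ m) = (Algebra.idealMap R' I a) ⊗ₜ[R'] g m := rfl

theorem mu_phi (g : M →ₗ[R] N) (x : I ⊗[R] M) :
    mu (I.map (algebraMap R R')) N (phi R' I g x) = g (mu I M x) := by
  induction x using TensorProduct.induction_on with
  | zero => simp
  | tmul a m => simp
  | add x y hx hy => simp only [map_add, hx, hy]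

theorem lTensor_phi {N₂ : Type*} [AddCommGroup N₂] [Module R N₂] [Module R' N₂]
    [IsScalarTower R R' N₂] (h : N →ₗ[R'] N₂) (g : M →ₗ[R] N) (x : I ⊗[R] M) :
    h.lTensor _ (phi R' I g x) = phi R' I (h.restrictScalars R ∘ₗ g) x := by
  induction x using TensorProduct.induction_on with
  | zero => simp
  | tmul a m => simp
  | add x y hx hy => simp only [map_add, hx, hy]

theorem phi_lTensor {F : Type*} [AddCommGroup F] [Module R F] (π : F →ₗ[R] M) (g : M →ₗ[R] N)
    (x : I ⊗[R] F) : phi R' I g (π.lTensor I x) = phi R' I (g ∘ₗ π) x := by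
  induction x using TensorProduct.induction_on with
  | zero => simp
  | tmul a m => simp
  | add x y hx hy => simp only [map_add, hx, hy]

end Phi

section Kill

variable {R : Type*} [CommRing R] (R' : Type*) [CommRing R'] [Algebra R R'] (I : Ideal R)
variable (F : Type*) [AddCommGroup F] [Module R F]

theorem smul_quot_eq_zero (a : R) (ha : a ∈ I) (w : (R ⧸ I) ⊗[R] F) : a • w = 0 := by
  induction w using TensorProduct.induction_on with
  | zero => simp
  | tmul rb f =>
    have h0 : a • rb = 0 := by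
      rw [Algebra.smul_def, Ideal.Quotient.algebraMap_eq, Ideal.Quotient.eq_zero_iff_mem.2 ha,
        zero_mul]
    rw [TensorProduct.smul_tmul', h0, zero_tmul]
  | add x y hx hy => rw [smul_add, hx, hy, add_zero]

theorem map_smul_eq_zero (a' : R') (ha' : a' ∈ I.map (algebraMap R R'))
    (t : R' ⊗[R] ((R ⧸ I) ⊗[R] F)) : a' • t = 0 := by
  have key : ∀ a ∈ I, ∀ t : R' ⊗[R] ((R ⧸ I) ⊗[R] F), (algebraMap R R' a) • t = 0 := by
    intro a ha t
    rw [algebraMap_smul]
    induction t using TensorProduct.induction_on with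
    | zero => simp
    | tmul r' w =>
      rw [TensorProduct.smul_tmul', TensorProduct.smul_tmul, smul_quot_eq_zero I F a ha, tmul_zero]
    | add x y hx hy => rw [smul_add, hx, hy, add_zero]
  have ha'' : a' ∈ Ideal.span ((algebraMap R R') '' (I : Set R)) := ha'
  revert t
  refine Submodule.span_induction
    (p := fun a' _ => ∀ t : R' ⊗[R] ((R ⧸ I) ⊗[R] F), a' • t = 0) ?_ ?_ ?_ ?_ ha''
  · rintro _ ⟨a, ha, rfl⟩ t
    exact key a ha t
  · intro t
    simp
  · intro x y _ _ hx hy t
    rw [add_smul, hx, hy, add_zero]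
  · intro r x _ hx t
    rw [smul_eq_mul, mul_smul, hx, smul_zero]

end Kill


section Cancel

variable {R : Type*} [CommRing R]

/-- For a linear map `f` of modules over an `R`-algebra `A`: `f ⊗[R] X` is injective iff
`f ⊗[A] (A ⊗[R] X)` is. -/
theorem rTensor_restrictScalars_injective_iff (A : Type*) [CommRing A] [Algebra R A]
    {N' N : Type*} [AddCommGroup N'] [Module R N'] [Module A N'] [IsScalarTower R A N']
    [AddCommGroup N] [Module R N] [Module A N] [IsScalarTower R A N]
    (f : N' →ₗ[A] N) (X : Type*) [AddCommGroup X] [Module R X] :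
    Injective ((f.restrictScalars R).rTensor X) ↔ Injective (f.rTensor (A ⊗[R] X)) := by
  have hcomm : ((f.restrictScalars R).rTensor X) ∘
        (AlgebraTensorModule.cancelBaseChange R A A N' X) =
      (AlgebraTensorModule.cancelBaseChange R A A N X) ∘ (f.rTensor (A ⊗[R] X)) := by
    funext x
    exact LocalFlat.cancel_comm' A f x
  constructor
  · intro h
    have h1 : Injective ((AlgebraTensorModule.cancelBaseChange R A A N X) ∘
        (f.rTensor (A ⊗[R] X))) := by
      rw [← hcomm]
      exact h.comp (LinearEquiv.injective _)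
    exact Injective.of_comp h1
  · intro h
    have h1 : Injective (((f.restrictScalars R).rTensor X) ∘
        (AlgebraTensorModule.cancelBaseChange R A A N' X)) := by
      rw [hcomm]
      exact (LinearEquiv.injective _).comp h
    intro x y hxy
    obtain ⟨x', rfl⟩ := (AlgebraTensorModule.cancelBaseChange R A A N' X).surjective x
    obtain ⟨y', rfl⟩ := (AlgebraTensorModule.cancelBaseChange R A A N' X).surjective y
    rw [h1 hxy]

end Cancel

section Main

variable {R : Type*} [CommRing R] (R' : Type*) [CommRing R'] [Algebra R R'] (I : Ideal R)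
variable {L F M : Type*} [AddCommGroup L] [AddCommGroup F] [AddCommGroup M]
  [Module R L] [Module R F] [Module R M]
variable (ι : L →ₗ[R] F) (π : F →ₗ[R] M)

/-- The reduction map `F → (R ⧸ I) ⊗ F`. -/
noncomputable abbrev qF (F : Type*) [AddCommGroup F] [Module R F] : F →ₗ[R] (R ⧸ I) ⊗[R] F :=
  TensorProduct.mk R (R ⧸ I) F 1

/-- Purity step: if `M ⧸ I M` is flat over `R ⧸ I`, then for every `R`-module `X`, an element of
`X ⊗ L` dying in `X ⊗ (F ⧸ I F)` comes from `X ⊗ (L ∩ I F)`. -/
theorem mem_range_lTensor_ker (hex : Exact ι π) (hπ : Surjective π)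
    [Module.Flat (R ⧸ I) ((R ⧸ I) ⊗[R] M)]
    (X : Type*) [AddCommGroup X] [Module R X]
    (ξ : X ⊗[R] L) (hξ : ((qF I F) ∘ₗ ι).lTensor X ξ = 0) :
    ξ ∈ LinearMap.range ((LinearMap.ker ((qF I F) ∘ₗ ι)).subtype.lTensor X) := by
  have hexb : Exact (ι.baseChange (R ⧸ I)) (π.baseChange (R ⧸ I)) :=
    lTensor_exact (R ⧸ I) hex hπ
  have hsurjb : Surjective (π.baseChange (R ⧸ I)) := LinearMap.lTensor_surjective (R ⧸ I) hπ
  let ι₀ : ((R ⧸ I) ⊗[R] L) ⧸ LinearMap.ker (ι.baseChange (R ⧸ I)) →ₗ[R ⧸ I] (R ⧸ I) ⊗[R] F :=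
    (LinearMap.ker (ι.baseChange (R ⧸ I))).liftQ (ι.baseChange (R ⧸ I)) le_rfl
  have hι₀ : Injective ι₀ :=
    LinearMap.ker_eq_bot.1 (Submodule.ker_liftQ_eq_bot _ _ _ le_rfl)
  have hex0 : Exact ι₀ (π.baseChange (R ⧸ I)) := by
    rw [LinearMap.exact_iff]
    rw [Submodule.range_liftQ]
    exact LinearMap.exact_iff.1 hexb
  have key1 : Injective (ι₀.lTensor ((R ⧸ I) ⊗[R] X)) :=
    LinearMap.lTensor_injective_of_exact_of_flat (π.baseChange (R ⧸ I)) hsurjb ι₀ hι₀ hex0 _
  have key2 : Injective (ι₀.rTensor ((R ⧸ I) ⊗[R] X)) :=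
    (LinearMap.lTensor_inj_iff_rTensor_inj _ ι₀).1 key1
  have key3 : Injective ((ι₀.restrictScalars R).rTensor X) :=
    (rTensor_restrictScalars_injective_iff (R ⧸ I) ι₀ X).2 key2
  have key4 : Injective ((ι₀.restrictScalars R).lTensor X) :=
    (LinearMap.lTensor_inj_iff_rTensor_inj _ (ι₀.restrictScalars R)).2 key3
  let ρ : L →ₗ[R] ((R ⧸ I) ⊗[R] L) ⧸ LinearMap.ker (ι.baseChange (R ⧸ I)) :=
    ((LinearMap.ker (ι.baseChange (R ⧸ I))).mkQ.restrictScalars R) ∘ₗ
      (TensorProduct.mk R (R ⧸ I) L 1)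
  have hρι : (ι₀.restrictScalars R) ∘ₗ ρ = (qF I F) ∘ₗ ι := by
    ext l
    simp [ι₀, ρ]
  have hρ : Surjective ρ := by
    have h1 : Surjective (TensorProduct.mk R (R ⧸ I) L 1) :=
      TensorProduct.mk_surjective R L (R ⧸ I) Ideal.Quotient.mk_surjective
    exact (Submodule.mkQ_surjective _).comp h1
  have hPρ : Exact (LinearMap.ker ((qF I F) ∘ₗ ι)).subtype ρ := by
    rw [LinearMap.exact_iff, Submodule.range_subtype, ← hρι]
    ext l
    simp only [LinearMap.mem_ker, LinearMap.comp_apply]
    constructor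
    · intro h
      rw [h, map_zero]
    · intro h
      exact hι₀ (h.trans (map_zero _).symm)
  have h1 : (ι₀.restrictScalars R).lTensor X (ρ.lTensor X ξ) = 0 := by
    rw [← LinearMap.comp_apply, ← LinearMap.lTensor_comp, hρι]
    exact hξ
  have h2 : ρ.lTensor X ξ = 0 := key4 (h1.trans (map_zero _).symm)
  exact (lTensor_exact X hPρ hρ ξ).1 h2

/-- Base change of the kernel of `I ⊗ M → M`, for `R' ⊗[R] M`, in terms of a presentation. -/
theorem mem_span_aux (hex : Exact ι π) (hπ : Surjective π) [Module.Flat R F]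
    [Module.Flat (R ⧸ I) ((R ⧸ I) ⊗[R] M)]
    (z : (I.map (algebraMap R R')) ⊗[R'] (R' ⊗[R] M))
    (hz : mu (I.map (algebraMap R R')) (R' ⊗[R] M) z = 0) :
    z ∈ Submodule.span R' (phi R' I (TensorProduct.mk R R' M 1) '' {x | mu I M x = 0}) := by
  have hπ' : Surjective (π.baseChange R') := LinearMap.lTensor_surjective R' hπ
  obtain ⟨zt, rfl⟩ := LinearMap.lTensor_surjective (I.map (algebraMap R R')) hπ' z
  have hy : π.baseChange R' (mu (I.map (algebraMap R R')) (R' ⊗[R] F) zt) = 0 := by
    rw [← mu_natural]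
    exact hz
  have hex' : Exact (ι.baseChange R') (π.baseChange R') := lTensor_exact R' hex hπ
  obtain ⟨ξ, hξ⟩ := (hex' _).1 hy
  have claim : ∀ w : (I.map (algebraMap R R')) ⊗[R'] (R' ⊗[R] F),
      (qF I F).lTensor R' (mu (I.map (algebraMap R R')) (R' ⊗[R] F) w) = 0 := by
    intro w
    induction w using TensorProduct.induction_on with
    | zero => simp
    | tmul a' f' =>
      rw [mu_tmul]
      have h1 : (qF I F).lTensor R' ((a' : R') • f') = (a' : R') • (qF I F).lTensor R' f' :=
        ((qF I F).baseChange R').map_smul (a' : R') f'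
      rw [h1, map_smul_eq_zero R' I F _ a'.2]
    | add x y hx hy => rw [map_add, map_add, hx, hy, add_zero]
  have h4 : ((qF I F) ∘ₗ ι).lTensor R' ξ = 0 := by
    rw [LinearMap.lTensor_comp, LinearMap.comp_apply]
    have h0 : ι.lTensor R' ξ = mu (I.map (algebraMap R R')) (R' ⊗[R] F) zt := hξ
    rw [h0, claim]
  obtain ⟨ξP, hξP⟩ := mem_range_lTensor_ker I ι π hex hπ R' ξ h4
  -- the lift `τ`
  have hPmem : ∀ p : LinearMap.ker ((qF I F) ∘ₗ ι), ι p.1 ∈ LinearMap.range (mu I F) := by
    intro p
    have hp : (1 : R ⧸ I) ⊗ₜ[R] ι p.1 = 0 := p.2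
    have hexI : Exact (I.subtype.rTensor F) (I.mkQ.rTensor F) :=
      rTensor_exact F (LinearMap.exact_subtype_mkQ I) (Submodule.mkQ_surjective I)
    have h1 : I.mkQ.rTensor F ((1 : R) ⊗ₜ[R] ι p.1) = 0 := by
      rw [LinearMap.rTensor_tmul]
      exact hp
    obtain ⟨t, ht⟩ := (hexI _).1 h1
    refine ⟨t, ?_⟩
    unfold mu
    rw [LinearMap.comp_apply, ht]
    simp
  let e := LinearEquiv.ofInjective (mu I F) (mu_injective I F)
  let τ : LinearMap.ker ((qF I F) ∘ₗ ι) →ₗ[R] I ⊗[R] F :=
    e.symm.toLinearMap ∘ₗ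
      (LinearMap.codRestrict (LinearMap.range (mu I F))
        (ι ∘ₗ (LinearMap.ker ((qF I F) ∘ₗ ι)).subtype) hPmem)
  have hτ : ∀ p : LinearMap.ker ((qF I F) ∘ₗ ι), mu I F (τ p) = ι p.1 := by
    intro p
    have h1 := e.apply_symm_apply ⟨ι p.1, hPmem p⟩
    exact congrArg Subtype.val h1
  have h6 : ∀ w : R' ⊗[R] (LinearMap.ker ((qF I F) ∘ₗ ι)),
      mu (I.map (algebraMap R R')) (R' ⊗[R] F)
        ((phi R' I (TensorProduct.mk R R' F 1)).liftBaseChange R' (τ.lTensor R' w)) =
      ι.baseChange R' ((LinearMap.ker ((qF I F) ∘ₗ ι)).subtype.lTensor R' w) := by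
    intro w
    induction w using TensorProduct.induction_on with
    | zero => simp
    | tmul r' p =>
      simp only [LinearMap.lTensor_tmul, LinearMap.liftBaseChange_tmul, map_smul, mu_phi, hτ,
        TensorProduct.mk_apply, Submodule.subtype_apply, LinearMap.baseChange_tmul,
        TensorProduct.smul_tmul', smul_eq_mul, mul_one]
    | add x y hx hy => simp only [map_add, hx, hy]
  have hzt : zt = (phi R' I (TensorProduct.mk R R' F 1)).liftBaseChange R' (τ.lTensor R' ξP) := by
    apply mu_injective (I.map (algebraMap R R')) (R' ⊗[R] F)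
    rw [h6, hξP]
    exact hξ.symm
  rw [hzt]
  have hmk : ((π.baseChange R').restrictScalars R) ∘ₗ (TensorProduct.mk R R' F 1) =
      (TensorProduct.mk R R' M 1) ∘ₗ π := by
    ext f
    simp
  have h7 : ∀ w : R' ⊗[R] (LinearMap.ker ((qF I F) ∘ₗ ι)),
      (π.baseChange R').lTensor (I.map (algebraMap R R'))
        ((phi R' I (TensorProduct.mk R R' F 1)).liftBaseChange R' (τ.lTensor R' w)) ∈
      Submodule.span R' (phi R' I (TensorProduct.mk R R' M 1) '' {x | mu I M x = 0}) := by
    intro w
    induction w using TensorProduct.induction_on with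
    | zero => simp
    | tmul r' p =>
      rw [LinearMap.lTensor_tmul, LinearMap.liftBaseChange_tmul, map_smul, lTensor_phi, hmk,
        ← phi_lTensor]
      refine Submodule.smul_mem _ _ (Submodule.subset_span ⟨_, ?_, rfl⟩)
      change mu I M (π.lTensor I (τ p)) = 0
      rw [mu_natural, hτ]
      exact hex.apply_apply_eq_zero p.1
    | add x y hx hy =>
      rw [map_add, map_add, map_add]
      exact add_mem hx hy
  exact h7 ξP

end Main

section Final

variable {R : Type*} [CommRing R] (R' : Type*) [CommRing R'] [Algebra R R'] (I : Ideal R)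
variable (M : Type*) [AddCommGroup M] [Module R M]

theorem mem_span_mk [Module.Flat (R ⧸ I) ((R ⧸ I) ⊗[R] M)]
    (z : (I.map (algebraMap R R')) ⊗[R'] (R' ⊗[R] M))
    (hz : mu (I.map (algebraMap R R')) (R' ⊗[R] M) z = 0) :
    z ∈ Submodule.span R' (phi R' I (TensorProduct.mk R R' M 1) '' {x | mu I M x = 0}) := by
  have hex : Exact (LinearMap.ker (Finsupp.linearCombination R (id : M → M))).subtype
      (Finsupp.linearCombination R (id : M → M)) := LinearMap.exact_subtype_ker_map _
  have hπ : Surjective (Finsupp.linearCombination R (id : M → M)) :=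
    Finsupp.linearCombination_surjective R surjective_id
  exact mem_span_aux (L := ↥(LinearMap.ker (Finsupp.linearCombination R (id : M → M))))
    (F := M →₀ R) R' I _ _ hex hπ z hz

variable {M}

/-- **Base change of `Tor₁(R ⧸ I, M)`**: if `M ⧸ I M` is flat over `R ⧸ I` and `g : M → N` is a base
change to `R'`, the kernel of `IR' ⊗[R'] N → N` is spanned over `R'` by the image of the kernel of
`I ⊗[R] M → M`. -/
theorem mem_span_of_isBaseChange {N : Type*} [AddCommGroup N] [Module R N] [Module R' N]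
    [IsScalarTower R R' N] (g : M →ₗ[R] N) (hg : IsBaseChange R' g)
    [Module.Flat (R ⧸ I) ((R ⧸ I) ⊗[R] M)]
    (z : (I.map (algebraMap R R')) ⊗[R'] N) (hz : mu (I.map (algebraMap R R')) N z = 0) :
    z ∈ Submodule.span R' (phi R' I g '' {x | mu I M x = 0}) := by
  have he : (hg.equiv.toLinearMap.restrictScalars R) ∘ₗ (TensorProduct.mk R R' M 1) = g := by
    ext m
    simp [IsBaseChange.equiv_tmul]
  have hz₀ : mu (I.map (algebraMap R R')) _
      (hg.equiv.symm.toLinearMap.lTensor (I.map (algebraMap R R')) z) = 0 := by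
    rw [mu_natural, hz, map_zero]
  have h1 := mem_span_mk R' I M _ hz₀
  have h2 : z = hg.equiv.toLinearMap.lTensor (I.map (algebraMap R R'))
      (hg.equiv.symm.toLinearMap.lTensor (I.map (algebraMap R R')) z) := by
    rw [← LinearMap.comp_apply, ← LinearMap.lTensor_comp]
    simp
  rw [h2]
  have h3 := Submodule.mem_map_of_mem (f := hg.equiv.toLinearMap.lTensor (I.map (algebraMap R R')))
    h1
  rw [Submodule.map_span] at h3
  refine Submodule.span_mono ?_ h3
  rintro _ ⟨_, ⟨x, hx, rfl⟩, rfl⟩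
  exact ⟨x, hx, by rw [lTensor_phi, he]⟩

end Final

end Groth.Agent.Lib.Helper54.TorBC
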