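/-
helper54: "`M ⧸ I M` is flat over `R ⧸ I`" phrased through `R`-modules killed by `I` (`QF I M`),
and its stability under base change and under localization with respect to a multiplicative subset
of an algebra acting on the module.
-/
import Groth.Agent.Lib.Helper54.TorBC
import Mathlib.RingTheory.Localization.BaseChange
import Mathlib.Algebra.Module.LocalizedModule.Submodule

set_option autoImplicit false
set_option maxHeartbeats 400000

namespace Groth.Agent.Lib.Helper54.QFlat

open TensorProduct Function

universe u v w

/-- `QF I M`: tensoring with `M` preserves injectivity of maps between `R`-modules killed by `I`. -/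
def QF {R : Type u} [CommRing R] (I : Ideal R) (M : Type v) [AddCommGroup M] [Module R M] : Prop :=
  ∀ (X Y : Type u) [AddCommGroup X] [AddCommGroup Y] [Module R X] [Module R Y] (f : X →ₗ[R] Y),
    (∀ a ∈ I, ∀ x : X, a • x = 0) → (∀ a ∈ I, ∀ y : Y, a • y = 0) → Injective f →
      Injective (f.rTensor M)

section Basic

variable {R : Type u} [CommRing R] (I : Ideal R) (M : Type v) [AddCommGroup M] [Module R M]

theorem qf_of_flat [Module.Flat (R ⧸ I) ((R ⧸ I) ⊗[R] M)] : QF I M := by
  intro X Y _ _ _ _ f hX hY hf
  have hX' : Module.IsTorsionBySet R X (I : Set R) := fun x a => hX a.1 a.2 x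
  have hY' : Module.IsTorsionBySet R Y (I : Set R) := fun y a => hY a.1 a.2 y
  letI := hX'.module
  letI := hY'.module
  haveI : IsScalarTower R (R ⧸ I) X := hX'.isScalarTower
  haveI : IsScalarTower R (R ⧸ I) Y := hY'.isScalarTower
  let f' : X →ₗ[R ⧸ I] Y :=
    { toFun := f
      map_add' := f.map_add
      map_smul' := by
        intro r x
        obtain ⟨r, rfl⟩ := Ideal.Quotient.mk_surjective r
        simp only [RingHom.id_apply]
        rw [hX'.mk_smul, hY'.mk_smul, f.map_smul] }
  have h1 : Injective (f'.rTensor ((R ⧸ I) ⊗[R] M)) :=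
    Module.Flat.rTensor_preserves_injective_linearMap f' hf
  have h2 := (TorBC.rTensor_restrictScalars_injective_iff (R ⧸ I) f' M).2 h1
  have h3 : f'.restrictScalars R = f := LinearMap.ext fun _ => rfl
  rw [h3] at h2
  exact h2

theorem flat_of_qf (h : QF I M) : Module.Flat (R ⧸ I) ((R ⧸ I) ⊗[R] M) := by
  rw [Module.Flat.iff_rTensor_injective']
  intro 𝔞
  rw [← TorBC.rTensor_restrictScalars_injective_iff (R ⧸ I) 𝔞.subtype M]
  apply h
  · intro a ha x
    apply Subtype.ext
    rw [Submodule.coe_smul_of_tower, Submodule.coe_zero, Algebra.smul_def,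
      Ideal.Quotient.algebraMap_eq, Ideal.Quotient.eq_zero_iff_mem.2 ha, zero_mul]
  · intro a ha y
    rw [Algebra.smul_def, Ideal.Quotient.algebraMap_eq, Ideal.Quotient.eq_zero_iff_mem.2 ha,
      zero_mul]
  · exact Submodule.injective_subtype _

end Basic

section BaseChange

variable {R : Type u} [CommRing R] {R' : Type u} [CommRing R'] [Algebra R R'] (I : Ideal R)
variable {M : Type v} [AddCommGroup M] [Module R M]
variable {N : Type w} [AddCommGroup N] [Module R N] [Module R' N] [IsScalarTower R R' N]

theorem qf_of_isBaseChange (g : M →ₗ[R] N) (hg : IsBaseChange R' g) (h : QF I M) :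
    QF (I.map (algebraMap R R')) N := by
  intro X Y _ _ _ _ f hX hY hf
  letI : Module R X := Module.compHom X (algebraMap R R')
  letI : Module R Y := Module.compHom Y (algebraMap R R')
  haveI : IsScalarTower R R' X := IsScalarTower.of_algebraMap_smul fun _ _ => rfl
  haveI : IsScalarTower R R' Y := IsScalarTower.of_algebraMap_smul fun _ _ => rfl
  have h1 : Injective ((f.restrictScalars R).rTensor M) := by
    apply h X Y (f.restrictScalars R) _ _ hf
    · intro a ha x
      exact hX _ (Ideal.mem_map_of_mem _ ha) x
    · intro a ha y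
      exact hY _ (Ideal.mem_map_of_mem _ ha) y
  have h2 : Injective (f.rTensor (R' ⊗[R] M)) :=
    (TorBC.rTensor_restrictScalars_injective_iff R' f M).1 h1
  have hc : ∀ x, f.rTensor N (hg.equiv.toLinearMap.lTensor X x) =
      hg.equiv.toLinearMap.lTensor Y (f.rTensor (R' ⊗[R] M) x) := fun x => by
    rw [← LinearMap.comp_apply, ← LinearMap.comp_apply, LinearMap.rTensor_comp_lTensor,
      LinearMap.lTensor_comp_rTensor]
  have hs : ∀ x, hg.equiv.toLinearMap.lTensor X (hg.equiv.symm.toLinearMap.lTensor X x) = x :=
    fun x => by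
      rw [← LinearMap.comp_apply, ← LinearMap.lTensor_comp]
      simp
  have hinjY : Injective (hg.equiv.toLinearMap.lTensor Y) := by
    apply Function.LeftInverse.injective (g := hg.equiv.symm.toLinearMap.lTensor Y)
    intro x
    rw [← LinearMap.comp_apply, ← LinearMap.lTensor_comp]
    simp
  intro x y hxy
  rw [← hs x, ← hs y] at hxy ⊢
  rw [hc, hc] at hxy
  rw [h2 (hinjY hxy)]

end BaseChange

section Localization

variable {A : Type u} [CommRing A] (J : Ideal A) (B : Type*) [CommRing B] [Algebra A B]
  (W : Submonoid B)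
variable {N : Type*} [AddCommGroup N] [Module A N] [Module B N] [IsScalarTower A B N]
variable {N' : Type*} [AddCommGroup N'] [Module A N'] [Module B N'] [IsScalarTower A B N']
variable (ℓ : N →ₗ[B] N') [IsLocalizedModule W ℓ]

include W ℓ in
theorem qf_of_isLocalizedModule (h : QF J N) : QF J N' := by
  intro X Y _ _ _ _ f hX hY hf
  have h1 : Injective (f.lTensor N) :=
    (LinearMap.lTensor_inj_iff_rTensor_inj _ f).2 (h X Y f hX hY hf)
  rw [← LinearMap.lTensor_inj_iff_rTensor_inj]
  have h2 := IsLocalizedModule.map_injective W (AlgebraTensorModule.rTensor A X ℓ)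
    (AlgebraTensorModule.rTensor A Y ℓ) (AlgebraTensorModule.lTensor B N f) h1
  rw [IsLocalizedModule.map_lTensor] at h2
  exact h2

include W in
/-- If the kernel of `N ⊗ J → N` dies in `N' ⊗ J`, where `N'` is a localization of `N` with
respect to a multiplicative subset of an `A`-algebra acting on `N`, then `N' ⊗ J → N'` is
injective. -/
theorem lTensor_injective_of_forall_ker
    (h : ∀ x : N ⊗[A] J, J.subtype.lTensor N x = 0 → (ℓ.restrictScalars A).rTensor J x = 0) :
    Injective (J.subtype.lTensor N') := by
  rw [injective_iff_map_eq_zero]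
  intro x' hx'
  have hk := LinearMap.ker_localizedMap_eq_localized₀_ker W (AlgebraTensorModule.rTensor A J ℓ)
    (AlgebraTensorModule.rTensor A A ℓ) (AlgebraTensorModule.lTensor B N J.subtype)
  rw [IsLocalizedModule.map_lTensor] at hk
  have hx'' : x' ∈ LinearMap.ker (AlgebraTensorModule.lTensor B N' J.subtype) := hx'
  rw [hk, Submodule.mem_localized₀] at hx''
  obtain ⟨m, hm, s, rfl⟩ := hx''
  rw [IsLocalizedModule.mk'_eq_zero]
  exact h m hm

end Localization

end Groth.Agent.Lib.Helper54.QFlat
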