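/-
helper54: Nagata's openness criterion on the prime spectrum of a Noetherian ring; flatness over a
base ring is preserved by localization with respect to a multiplicative subset of an algebra acting
on the module; the kernel characterisation of flatness of such a localization.
-/
import Groth.Agent.Lib.Helper54.QFlat
import Mathlib.RingTheory.Spectrum.Prime.Topology
import Mathlib.RingTheory.Ideal.MinimalPrime.Noetherian

set_option autoImplicit false
set_option maxHeartbeats 400000

namespace Groth.Agent.Lib.Helper54.FlatOpenA

open TensorProduct Function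
open Groth.Agent.Lib.Helper54

universe u

section Nagata

/-- Nagata's criterion: a subset of the spectrum of a Noetherian ring which is stable under
generization and contains a nonempty open of the closure of each of its points is open. -/
theorem isOpen_of_nagata {A : Type*} [CommRing A] [IsNoetherianRing A]
    (U : Set (PrimeSpectrum A)) (hgen : StableUnderGeneralization U)
    (hloc : ∀ q ∈ U, ∃ g : A, g ∉ q.asIdeal ∧
      ∀ q' : PrimeSpectrum A, q.asIdeal ≤ q'.asIdeal → g ∉ q'.asIdeal → q' ∈ U) :
    IsOpen U := by
  classical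
  rw [← isClosed_compl_iff, ← closure_subset_iff_isClosed,
    ← PrimeSpectrum.zeroLocus_vanishingIdeal_eq_closure]
  intro q hq
  by_contra hqU
  have hqU' : q ∈ U := by
    by_contra h
    exact hqU h
  set J := PrimeSpectrum.vanishingIdeal Uᶜ with hJ
  have hJq : J ≤ q.asIdeal := by
    rw [PrimeSpectrum.mem_zeroLocus] at hq
    exact hq
  obtain ⟨p, hpmin, hpq⟩ := Ideal.exists_minimalPrimes_le hJq
  haveI hpprime : p.IsPrime := hpmin.1.1
  have hPU : (⟨p, hpprime⟩ : PrimeSpectrum A) ∈ U :=
    hgen ((PrimeSpectrum.le_iff_specializes ⟨p, hpprime⟩ q).mp hpq) hqU'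
  obtain ⟨g, hgp, hg⟩ := hloc _ hPU
  have hfin := Ideal.finite_minimalPrimes_of_isNoetherianRing A J
  set s := hfin.toFinset.erase p with hs
  have hsp : ¬ (s.inf id ≤ p) := by
    rw [Ideal.IsPrime.inf_le' hpprime]
    rintro ⟨p', hp's, hp'p⟩
    rw [hs, Finset.mem_erase, Set.Finite.mem_toFinset] at hp's
    exact hp's.1 (le_antisymm hp'p (hpmin.2 hp's.2.1 hp'p))
  obtain ⟨h', hh's, hh'p⟩ := SetLike.not_le_iff_exists.mp hsp
  have hmem : g * h' ∈ J := by
    rw [hJ, PrimeSpectrum.mem_vanishingIdeal]
    intro z hz
    have hJz : J ≤ z.asIdeal := by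
      intro x hx
      rw [hJ, PrimeSpectrum.mem_vanishingIdeal] at hx
      exact hx z hz
    obtain ⟨p', hp'min, hp'z⟩ := Ideal.exists_minimalPrimes_le hJz
    by_cases hpp : p' = p
    · subst hpp
      have hgz : g ∈ z.asIdeal := by
        by_contra hgz
        exact hz (hg z hp'z hgz)
      exact Ideal.mul_mem_right _ _ hgz
    · have hmem' : p' ∈ s := by
        rw [hs, Finset.mem_erase, Set.Finite.mem_toFinset]
        exact ⟨hpp, hp'min⟩
      have h1 : h' ∈ p' := (Finset.inf_le hmem' : s.inf id ≤ id p') hh's
      exact Ideal.mul_mem_left _ _ (hp'z h1)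
  have hgh : g * h' ∈ p := hpmin.1.2 hmem
  exact (hpprime.mem_or_mem hgh).elim hgp hh'p

end Nagata

section Loc

variable {A : Type u} [CommRing A] (B : Type*) [CommRing B] [Algebra A B] (W : Submonoid B)
variable {N : Type*} [AddCommGroup N] [Module A N] [Module B N] [IsScalarTower A B N]
variable {N' : Type*} [AddCommGroup N'] [Module A N'] [Module B N'] [IsScalarTower A B N']
variable (ℓ : N →ₗ[B] N') [IsLocalizedModule W ℓ]

include W ℓ in
/-- A localization (with respect to a multiplicative subset of an algebra) of a flat module over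
the base ring is flat over the base ring. -/
theorem flat_of_isLocalizedModule [Module.Flat A N] : Module.Flat A N' := by
  rw [Module.Flat.iff_rTensor_injective']
  intro I
  have hq : QFlat.QF (⊥ : Ideal A) N := fun X Y _ _ _ _ f _ _ hf =>
    Module.Flat.rTensor_preserves_injective_linearMap f hf
  have hq' := QFlat.qf_of_isLocalizedModule ⊥ B W ℓ hq
  exact hq' I A I.subtype (fun a ha x => by rw [Ideal.mem_bot.1 ha, zero_smul])
    (fun a ha x => by rw [Ideal.mem_bot.1 ha, zero_smul]) (Submodule.injective_subtype I)

include W ℓ in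
/-- If every element of the kernel of `N ⊗ J → N` is killed by an element of `W`, for every ideal
`J` of the base, then the localization of `N` at `W` is flat over the base. -/
theorem flat_localized_of_forall_ker
    (h : ∀ (J : Ideal A) (z : N ⊗[A] J), J.subtype.lTensor N z = 0 → ∃ w ∈ W, w • z = 0) :
    Module.Flat A N' := by
  rw [Module.Flat.iff_lTensor_injective']
  intro J
  apply QFlat.lTensor_injective_of_forall_ker J B W ℓ
  intro z hz
  obtain ⟨w, hw, hwz⟩ := h J z hz
  have h1 : (AlgebraTensorModule.rTensor A J ℓ) (w • z) = 0 := by rw [hwz, map_zero]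
  rw [map_smul] at h1
  have hu := IsLocalizedModule.map_units (AlgebraTensorModule.rTensor A J ℓ) ⟨w, hw⟩
  show AlgebraTensorModule.rTensor A J ℓ z = 0
  apply ((Module.End.isUnit_iff _).1 hu).1
  rw [Module.algebraMap_end_apply, Module.algebraMap_end_apply, smul_zero]
  exact h1

include W ℓ in
/-- Conversely, if the localization of `N` at `W` is flat over the base, the elements of the kernel
of `N ⊗ J → N` are killed by elements of `W`. -/
theorem forall_ker_of_flat_localized [Module.Flat A N'] (J : Ideal A) (z : N ⊗[A] J)
    (hz : J.subtype.lTensor N z = 0) : ∃ w ∈ W, w • z = 0 := by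
  have h1 : J.subtype.lTensor N' ((AlgebraTensorModule.rTensor A J ℓ) z) = 0 := by
    have h2 : (J.subtype.lTensor N') ∘ₗ ((ℓ.restrictScalars A).rTensor J) =
        ((ℓ.restrictScalars A).rTensor A) ∘ₗ (J.subtype.lTensor N) := by
      rw [LinearMap.lTensor_comp_rTensor, LinearMap.rTensor_comp_lTensor]
    have h3 := LinearMap.congr_fun h2 z
    simp only [LinearMap.comp_apply] at h3
    rw [hz, map_zero] at h3
    exact h3
  have h2 : (AlgebraTensorModule.rTensor A J ℓ) z = 0 :=
    (Module.Flat.lTensor_preserves_injective_linearMap (M := N') J.subtype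
      (Submodule.injective_subtype J)) (by rw [h1, map_zero])
  obtain ⟨s, hs⟩ := (IsLocalizedModule.eq_zero_iff W (AlgebraTensorModule.rTensor A J ℓ)).1 h2
  exact ⟨s.1, s.2, hs⟩

end Loc

section Generization

variable {A : Type u} [CommRing A] {B : Type*} [CommRing B] [Algebra A B]
variable {M : Type*} [AddCommGroup M] [Module A M] [Module B M] [IsScalarTower A B M]

/-- The flat locus is stable under generization. -/
theorem flat_localizedModule_of_le (q q' : Ideal B) [q.IsPrime] [q'.IsPrime] (h : q' ≤ q)
    (hq : Module.Flat A (LocalizedModule q.primeCompl M)) :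
    Module.Flat A (LocalizedModule q'.primeCompl M) := by
  have hle : q.primeCompl ≤ q'.primeCompl := fun x hx hx' => hx (h hx')
  exact flat_of_isLocalizedModule B q'.primeCompl
    (IsLocalizedModule.liftOfLE q.primeCompl q'.primeCompl hle
      (LocalizedModule.mkLinearMap q.primeCompl M) (LocalizedModule.mkLinearMap q'.primeCompl M))

end Generization

end Groth.Agent.Lib.Helper54.FlatOpenA
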