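/-
helper54: two transport tools for the openness of the flat locus.
* `flat_localized_of_semilinearEquiv`: flatness of a localization at a prime is invariant under a
  semilinear isomorphism of modules over isomorphic algebras.
* `isBaseChange_quotMap`: the quotient of a finite free module by finitely many vectors commutes
  with base change.
-/
import Groth.Agent.Lib.Helper54.FlatOpenA
import Mathlib.RingTheory.IsTensorProduct

set_option autoImplicit false
set_option maxHeartbeats 800000

namespace Groth.Agent.Lib.Helper54.FlatDescent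

open TensorProduct Function
open Groth.Agent.Lib.Helper54

universe u

section Transport

variable {R : Type u} [CommRing R] {B B' : Type*} [CommRing B] [CommRing B'] [Algebra R B]
  [Algebra R B']
variable {M M' : Type*} [AddCommGroup M] [Module R M] [Module B M] [IsScalarTower R B M]
  [AddCommGroup M'] [Module R M'] [Module B' M'] [IsScalarTower R B' M']

theorem flat_localized_of_semilinearEquiv (θ : B' ≃+* B)
    (hθ : ∀ r : R, θ (algebraMap R B' r) = algebraMap R B r)
    (Θ : M' ≃+ M) (hΘ : ∀ (b' : B') (m' : M'), Θ (b' • m') = θ b' • Θ m')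
    (q : Ideal B) [q.IsPrime] (q' : Ideal B') [q'.IsPrime] (hq : ∀ b', b' ∈ q' ↔ θ b' ∈ q)
    (h : Module.Flat R (LocalizedModule q'.primeCompl M')) :
    Module.Flat R (LocalizedModule q.primeCompl M) := by
  let ΘR : M' ≃ₗ[R] M :=
    { Θ with
      map_smul' := fun r m' => by
        show Θ (r • m') = r • Θ m'
        rw [← algebraMap_smul B' r m', hΘ, hθ, algebraMap_smul] }
  have hΘR : ∀ m', ΘR m' = Θ m' := fun _ => rfl
  apply FlatOpenA.flat_localized_of_forall_ker (N := M) (N' := LocalizedModule q.primeCompl M) B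
    q.primeCompl (LocalizedModule.mkLinearMap q.primeCompl M)
  intro J z hz
  have hz' : J.subtype.lTensor M' ((ΘR.symm.toLinearMap.rTensor J) z) = 0 := by
    have h2 : (J.subtype.lTensor M') ∘ₗ (ΘR.symm.toLinearMap.rTensor J) =
        (ΘR.symm.toLinearMap.rTensor R) ∘ₗ (J.subtype.lTensor M) := by
      rw [LinearMap.lTensor_comp_rTensor, LinearMap.rTensor_comp_lTensor]
    have h3 := LinearMap.congr_fun h2 z
    simp only [LinearMap.comp_apply] at h3
    rw [h3, hz, map_zero]
  obtain ⟨w', hw', hwz'⟩ := FlatOpenA.forall_ker_of_flat_localized (N := M')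
    (N' := LocalizedModule q'.primeCompl M') B' q'.primeCompl
    (LocalizedModule.mkLinearMap q'.primeCompl M') J _ hz'
  refine ⟨θ w', ?_, ?_⟩
  · show θ w' ∉ q
    rw [← hq]
    exact hw'
  · have hsemi : ∀ (b' : B') (x : M' ⊗[R] J), (ΘR.toLinearMap.rTensor J) (b' • x) =
        θ b' • (ΘR.toLinearMap.rTensor J) x := by
      intro b' x
      induction x with
      | zero => simp
      | add x y hx hy => rw [smul_add, map_add, hx, hy, map_add, smul_add]
      | tmul m' j =>
        rw [TensorProduct.smul_tmul', LinearMap.rTensor_tmul, LinearMap.rTensor_tmul,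
          TensorProduct.smul_tmul']
        congr 1
        exact hΘ b' m'
    have hzz : z = (ΘR.toLinearMap.rTensor J) ((ΘR.symm.toLinearMap.rTensor J) z) := by
      rw [← LinearMap.rTensor_comp_apply]
      simp
    rw [hzz, ← hsemi, hwz', map_zero]

end Transport

section BCQ

variable (B₀ B : Type*) [CommRing B₀] [CommRing B] [Algebra B₀ B] {n m : ℕ}
  (v' : Fin m → Fin n → B₀)

/-- The quotient of `B₀ ^ n` by the span of the vectors `v' j`. -/
abbrev Q₀ : Type _ := (Fin n → B₀) ⧸ Submodule.span B₀ (Set.range v')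

/-- The quotient of `B ^ n` by the span of the images of the vectors `v' j`. -/
abbrev Q₁ : Type _ :=
  (Fin n → B) ⧸ Submodule.span B (Set.range fun j => (fun i => algebraMap B₀ B (v' j i)))

theorem sum_single (x : Fin n → B₀) : x = ∑ i, x i • (Pi.single i (1 : B₀) : Fin n → B₀) := by
  ext k
  simp [Finset.sum_apply, Pi.single_apply]

theorem sum_single' (x : Fin n → B₀) :
    ((Algebra.linearMap B₀ B).compLeft (Fin n)) x =
      ∑ i, x i • (Pi.single i (1 : B) : Fin n → B) := by
  ext k
  simp [Finset.sum_apply, Pi.single_apply, Algebra.smul_def]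

/-- The natural map between the two quotients. -/
noncomputable def quotMap : Q₀ B₀ v' →ₗ[B₀] Q₁ B₀ B v' :=
  Submodule.liftQ _ ((Submodule.mkQ _).restrictScalars B₀ ∘ₗ
    ((Algebra.linearMap B₀ B).compLeft (Fin n))) (by
    rw [Submodule.span_le]
    rintro _ ⟨j, rfl⟩
    rw [SetLike.mem_coe, LinearMap.mem_ker, LinearMap.comp_apply]
    exact (Submodule.Quotient.mk_eq_zero _).2 (Submodule.subset_span ⟨j, rfl⟩))

theorem quotMap_mk (x : Fin n → B₀) :
    quotMap B₀ B v' (Submodule.Quotient.mk x) =
      Submodule.Quotient.mk (((Algebra.linearMap B₀ B).compLeft (Fin n)) x) := rfl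

theorem isBaseChange_quotMap : IsBaseChange B (quotMap B₀ B v') := by
  apply IsBaseChange.of_lift_unique
  intro Q _ _ _ _ g
  letI : AddCommGroup Q := Module.addCommMonoidToAddCommGroup B
  let G : (Fin n → B) →ₗ[B] Q :=
    Fintype.linearCombination B (fun i => g (Submodule.Quotient.mk (Pi.single i (1 : B₀))))
  have hGx : ∀ x : Fin n → B₀, G (((Algebra.linearMap B₀ B).compLeft (Fin n)) x) =
      g (Submodule.Quotient.mk x) := by
    intro x
    have h0 : g (Submodule.Quotient.mk x) = (g ∘ₗ Submodule.mkQ _) x := rfl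
    rw [h0]
    conv_rhs => rw [sum_single B₀ x]
    rw [Fintype.linearCombination_apply, map_sum]
    apply Finset.sum_congr rfl
    intro i _
    rw [map_smul]
    show algebraMap B₀ B (x i) • _ = _
    rw [algebraMap_smul]
    rfl
  have hG : Submodule.span B (Set.range fun j => (fun i => algebraMap B₀ B (v' j i))) ≤
      LinearMap.ker G := by
    rw [Submodule.span_le]
    rintro _ ⟨j, rfl⟩
    rw [SetLike.mem_coe, LinearMap.mem_ker]
    show G (((Algebra.linearMap B₀ B).compLeft (Fin n)) (v' j)) = 0
    rw [hGx]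
    have h2 : (Submodule.Quotient.mk (v' j) : Q₀ B₀ v') = 0 :=
      (Submodule.Quotient.mk_eq_zero _).2 (Submodule.subset_span ⟨j, rfl⟩)
    rw [h2, map_zero]
  refine ⟨Submodule.liftQ _ G hG, ?_, ?_⟩
  · apply LinearMap.ext
    intro y
    obtain ⟨x, rfl⟩ := Submodule.Quotient.mk_surjective _ y
    show (Submodule.liftQ _ G hG) (quotMap B₀ B v' (Submodule.Quotient.mk x)) = _
    rw [quotMap_mk, Submodule.liftQ_apply, hGx]
  · intro g'' hg''
    apply Submodule.linearMap_qext
    apply LinearMap.pi_ext'
    intro i
    apply LinearMap.ext_ring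
    rw [LinearMap.comp_apply, LinearMap.comp_apply, LinearMap.comp_apply, LinearMap.comp_apply,
      Submodule.mkQ_apply, Submodule.liftQ_apply]
    show g'' (Submodule.Quotient.mk (Pi.single i 1)) = G (Pi.single i 1)
    have h3 : (Pi.single i (1 : B) : Fin n → B) =
        ((Algebra.linearMap B₀ B).compLeft (Fin n)) (Pi.single i (1 : B₀)) := by
      ext k
      show (Pi.single i (1 : B) : Fin n → B) k =
        algebraMap B₀ B ((Pi.single i (1 : B₀) : Fin n → B₀) k)
      by_cases hk : k = i
      · subst hk
        simp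
      · simp [Pi.single_apply, hk]
    rw [h3, hGx, ← hg'']
    rfl

end BCQ

end Groth.Agent.Lib.Helper54.FlatDescent
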