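/-
helper54: openness of the flat locus in the Noetherian case: for a Noetherian ring `A`, a finite
type `A`-algebra `B` and a finite `B`-module `M`, the set of primes `q` of `B` with `M_q` flat over
`A` is open.  Ingredients: Nagata's criterion, generic freeness (helper8's S0389), finiteness of
the kernel of `M ⊗ p → M`, and the local criterion of flatness (helper2).
-/
import Groth.Agent.Lib.Helper54.FlatOpenA
import Groth.Agent.Lib.Helper2.LocalCriterion
import Groth.Agent.S0389

set_option autoImplicit false
set_option maxHeartbeats 800000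

namespace Groth.Agent.Lib.Helper54.FlatOpenB

open TensorProduct Function
open Groth.Agent.Lib.Helper54

attribute [local instance] Algebra.TensorProduct.rightAlgebra

universe u

section Finiteness

/-- Heterobasic finiteness of a tensor product. -/
theorem finite_tensor (A B M X : Type*) [CommRing A] [CommRing B] [Algebra A B]
    [AddCommGroup M] [Module A M] [Module B M] [IsScalarTower A B M]
    [AddCommGroup X] [Module A X] [Module.Finite B M] [Module.Finite A X] :
    Module.Finite B (M ⊗[A] X) := by
  obtain ⟨n, f, hf⟩ := Module.Finite.exists_fin' A X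
  haveI : Module.Finite B (M ⊗[A] (Fin n → A)) :=
    Module.Finite.equiv (TensorProduct.piScalarRight A B M (Fin n)).symm
  refine Module.Finite.of_surjective (AlgebraTensorModule.lTensor B M f) ?_
  intro x
  obtain ⟨y, hy⟩ := LinearMap.lTensor_surjective M hf x
  exact ⟨y, hy⟩

/-- A finitely generated submodule all of whose elements are killed by elements of a
multiplicative set is killed by a single element of it. -/
theorem exists_smul_eq_zero_of_fg {B X : Type*} [CommRing B] [AddCommGroup X] [Module B X]
    (W : Submonoid B) (K : Submodule B X) (hK : K.FG)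
    (h : ∀ z ∈ K, ∃ w ∈ W, w • z = 0) : ∃ w ∈ W, ∀ z ∈ K, w • z = 0 := by
  classical
  obtain ⟨s, hs⟩ := hK
  have h1 : ∀ x : s, ∃ w ∈ W, w • (x : X) = 0 := fun x =>
    h x (hs ▸ Submodule.subset_span x.2)
  choose w hwW hw using h1
  refine ⟨∏ x ∈ s.attach, w x, Submonoid.prod_mem W (fun x _ => hwW x), ?_⟩
  intro z hz
  rw [← hs] at hz
  refine Submodule.span_induction (p := fun z _ => (∏ x ∈ s.attach, w x) • z = 0) ?_ ?_ ?_ ?_ hz
  · intro x hx
    obtain ⟨c, hc⟩ := Finset.dvd_prod_of_mem w (Finset.mem_attach s ⟨x, hx⟩)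
    rw [hc, mul_comm, mul_smul]
    have := hw ⟨x, hx⟩
    simp only at this
    rw [this, smul_zero]
  · exact smul_zero _
  · intro x y _ _ hx hy
    rw [smul_add, hx, hy, add_zero]
  · intro b x _ hx
    rw [smul_comm, hx, smul_zero]

end Finiteness

section GenericFlatness

/-- The base change of a finite type algebra, with the base acting on the right factor. -/
theorem finiteType_right (A B k : Type*) [CommRing A] [CommRing B] [CommRing k] [Algebra A B]
    [Algebra A k] [Algebra.FiniteType A B] : Algebra.FiniteType k (B ⊗[A] k) := by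
  let e : k ⊗[A] B ≃ₐ[k] B ⊗[A] k :=
    AlgEquiv.ofRingEquiv (f := (Algebra.TensorProduct.comm A k B).toRingEquiv) (fun x => by
      simp [Algebra.TensorProduct.right_algebraMap_apply])
  exact Algebra.FiniteType.equiv inferInstance e

/-- Generic flatness along a prime: after inverting an element `a ∉ p` of the base, `M ⧸ p M`
becomes flat over `A ⧸ p`. -/
theorem exists_flat_quotient_localization (A B M : Type u) [CommRing A] [CommRing B] [Algebra A B]
    [Algebra.FiniteType A B] [AddCommGroup M] [Module B M] [Module A M] [IsScalarTower A B M]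
    [Module.Finite B M] (p : Ideal A) [p.IsPrime] :
    ∃ a : A, a ∉ p ∧ Module.Flat (A ⧸ p)
      ((A ⧸ p) ⊗[A] LocalizedModule (Submonoid.powers (algebraMap A B a)) M) := by
  haveI : Algebra.FiniteType (A ⧸ p) (B ⊗[A] (A ⧸ p)) := finiteType_right A B (A ⧸ p)
  obtain ⟨f, hf0, hfree, -⟩ := Groth.Agent.S0389.result (R := A ⧸ p) (S := B ⊗[A] (A ⧸ p))
    (M := (B ⊗[A] (A ⧸ p)) ⊗[B] M)
  obtain ⟨a, rfl⟩ := Ideal.Quotient.mk_surjective f
  refine ⟨a, fun ha => hf0 (Ideal.Quotient.eq_zero_iff_mem.2 ha), ?_⟩
  haveI : Module.Flat (A ⧸ p)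
      (Localization.Away (Ideal.Quotient.mk p a) ⊗[A ⧸ p] ((B ⊗[A] (A ⧸ p)) ⊗[B] M)) :=
    Module.Flat.trans (A ⧸ p) (Localization.Away (Ideal.Quotient.mk p a)) _
  let ℓ : M →ₗ[B] LocalizedModule (Submonoid.powers (algebraMap A B a)) M :=
    LocalizedModule.mkLinearMap _ M
  haveI h1 : IsLocalizedModule (Submonoid.powers a) (ℓ.restrictScalars A) :=
    IsLocalizedModule.restrictScalars_powers a ℓ
  haveI h3 : IsLocalizedModule (Submonoid.powers a) ((ℓ.restrictScalars A).lTensor (A ⧸ p)) := by
    have h4 : (ℓ.restrictScalars A).lTensor (A ⧸ p) =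
        (TensorProduct.comm A _ (A ⧸ p)).toLinearMap ∘ₗ
          ((AlgebraTensorModule.rTensor A (A ⧸ p) (ℓ.restrictScalars A)) ∘ₗ
            (TensorProduct.comm A (A ⧸ p) M).toLinearMap) := by
      ext x m
      simp
    rw [h4]
    infer_instance
  haveI h5 : IsLocalizedModule (Submonoid.powers (Ideal.Quotient.mk p a))
      ((ℓ.restrictScalars A).baseChange (A ⧸ p)) := by
    have h6 : IsLocalizedModule (Submonoid.powers a)
        (((ℓ.restrictScalars A).baseChange (A ⧸ p)).restrictScalars A) := h3
    have h7 := IsLocalizedModule.of_restrictScalars (Submonoid.powers a)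
      ((ℓ.restrictScalars A).baseChange (A ⧸ p))
    rw [Algebra.algebraMapSubmonoid_powers] at h7
    exact h7
  let e₁ : (B ⊗[A] (A ⧸ p)) ⊗[B] M ≃ₗ[A ⧸ p] (A ⧸ p) ⊗[A] M :=
    Algebra.IsPushout.cancelBaseChange A (A ⧸ p) B (B ⊗[A] (A ⧸ p)) M
  let e := IsLocalizedModule.linearEquiv (Submonoid.powers (Ideal.Quotient.mk p a))
    (TensorProduct.mk (A ⧸ p) (Localization.Away (Ideal.Quotient.mk p a))
      ((B ⊗[A] (A ⧸ p)) ⊗[B] M) 1)
    (((ℓ.restrictScalars A).baseChange (A ⧸ p)) ∘ₗ e₁.toLinearMap)
  exact Module.Flat.of_linearEquiv e.symm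

end GenericFlatness

section Main

/-- Openness of the flat locus, Noetherian case. -/
theorem isOpen_flatLocus (A B M : Type u) [CommRing A] [IsNoetherianRing A] [CommRing B]
    [Algebra A B] [Algebra.FiniteType A B] [AddCommGroup M] [Module B M] [Module A M]
    [IsScalarTower A B M] [Module.Finite B M] :
    IsOpen {q : PrimeSpectrum B | Module.Flat A (LocalizedModule q.asIdeal.primeCompl M)} := by
  haveI : IsNoetherianRing B := Algebra.FiniteType.isNoetherianRing A B
  apply FlatOpenA.isOpen_of_nagata
  · intro q q' hq'q hq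
    exact FlatOpenA.flat_localizedModule_of_le q.asIdeal q'.asIdeal
      ((PrimeSpectrum.le_iff_specializes q' q).2 hq'q) hq
  · intro q hq
    set p : Ideal A := q.asIdeal.comap (algebraMap A B) with hp
    haveI : p.IsPrime := Ideal.comap_isPrime _ _
    obtain ⟨a, hap, hflat⟩ := exists_flat_quotient_localization A B M p
    let K : Submodule B (M ⊗[A] p) := LinearMap.ker (AlgebraTensorModule.lTensor B M p.subtype)
    haveI : Module.Finite A p := Module.Finite.of_fg (IsNoetherian.noetherian p)
    haveI : Module.Finite B (M ⊗[A] p) := finite_tensor A B M p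
    haveI : IsNoetherian B (M ⊗[A] p) := isNoetherian_of_isNoetherianRing_of_finite B _
    have hKfg : K.FG := IsNoetherian.noetherian K
    have hKtors : ∀ z ∈ K, ∃ w ∈ q.asIdeal.primeCompl, w • z = 0 := by
      intro z hz
      haveI : Module.Flat A (LocalizedModule q.asIdeal.primeCompl M) := hq
      exact FlatOpenA.forall_ker_of_flat_localized B q.asIdeal.primeCompl
        (LocalizedModule.mkLinearMap q.asIdeal.primeCompl M) p z hz
    obtain ⟨g₁, hg₁, hg₁K⟩ := exists_smul_eq_zero_of_fg q.asIdeal.primeCompl K hKfg hKtors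
    refine ⟨algebraMap A B a * g₁, ?_, ?_⟩
    · intro h
      rcases q.isPrime.mem_or_mem h with h | h
      · exact hap h
      · exact hg₁ h
    · intro q' hqq' hgq'
      have haq' : algebraMap A B a ∉ q'.asIdeal := fun h => hgq' (Ideal.mul_mem_right _ _ h)
      have hg₁q' : g₁ ∉ q'.asIdeal := fun h => hgq' (Ideal.mul_mem_left _ _ h)
      show Module.Flat A (LocalizedModule q'.asIdeal.primeCompl M)
      let ℓ := LocalizedModule.mkLinearMap q'.asIdeal.primeCompl M
      haveI : IsNoetherianRing (Localization q'.asIdeal.primeCompl) :=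
        IsLocalization.isNoetherianRing q'.asIdeal.primeCompl _ inferInstance
      apply Groth.Agent.Lib.Helper2.flat_of_rTensor_injective_of_flat_quotient (R := A)
        (S := Localization q'.asIdeal.primeCompl)
        (M := LocalizedModule q'.asIdeal.primeCompl M) p
      · rw [IsLocalRing.jacobson_eq_maximalIdeal ⊥ bot_ne_top, Ideal.map_le_iff_le_comap]
        intro x hx
        rw [Ideal.mem_comap, IsScalarTower.algebraMap_apply A B (Localization q'.asIdeal.primeCompl),
          IsLocalization.AtPrime.to_map_mem_maximal_iff (Localization q'.asIdeal.primeCompl)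
            q'.asIdeal]
        exact hqq' hx
      · rw [← LinearMap.lTensor_inj_iff_rTensor_inj]
        apply QFlat.lTensor_injective_of_forall_ker p B q'.asIdeal.primeCompl ℓ
        intro z hz
        have hzK : z ∈ K := hz
        have h0 := hg₁K z hzK
        show AlgebraTensorModule.rTensor A p ℓ z = 0
        have hu := IsLocalizedModule.map_units (S := q'.asIdeal.primeCompl)
          (AlgebraTensorModule.rTensor A p ℓ) ⟨g₁, hg₁q'⟩
        apply ((Module.End.isUnit_iff _).1 hu).1
        rw [Module.algebraMap_end_apply, Module.algebraMap_end_apply, smul_zero, ← map_smul, h0,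
          map_zero]
      · apply QFlat.flat_of_qf
        have q1 : QFlat.QF p (LocalizedModule (Submonoid.powers (algebraMap A B a)) M) := by
          have := hflat
          exact QFlat.qf_of_flat p _
        have hle : Submonoid.powers (algebraMap A B a) ≤ q'.asIdeal.primeCompl :=
          (Submonoid.powers_le).2 haq'
        exact QFlat.qf_of_isLocalizedModule p B q'.asIdeal.primeCompl
          (IsLocalizedModule.liftOfLE _ q'.asIdeal.primeCompl hle
            (LocalizedModule.mkLinearMap (Submonoid.powers (algebraMap A B a)) M) ℓ) q1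

end Main

end Groth.Agent.Lib.Helper54.FlatOpenB
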