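/-
helper54: the "stage" dictionary for Noetherian approximation of flatness.  For a ring `R₀`, an
`R₀`-algebra `S₀`, an `S₀`-module `M₀`, an `R₀`-algebra `T` and a `T`-module `X`, the module
`((S₀ ⊗[R₀] T) ⊗[S₀] M₀) ⊗[T] X` is identified with `M₀ ⊗[R₀] X`, compatibly with the action of
`S₀ ⊗[R₀] T`.  Also a finite-stage vanishing lemma for tensor products.
-/
import Mathlib.RingTheory.TensorProduct.DirectLimitFG
import Mathlib.RingTheory.IsTensorProduct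
import Mathlib.RingTheory.TensorProduct.Finite
import Mathlib.LinearAlgebra.TensorProduct.Tower

set_option autoImplicit false
set_option maxHeartbeats 400000

namespace Groth.Agent.Lib.Helper54.FlatStage1

open TensorProduct Function

attribute [local instance] Algebra.TensorProduct.rightAlgebra

universe u

section Psi

variable (R₀ S₀ M₀ : Type*) [CommRing R₀] [CommRing S₀] [Algebra R₀ S₀]
  [AddCommGroup M₀] [Module R₀ M₀] [Module S₀ M₀] [IsScalarTower R₀ S₀ M₀]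
variable (T : Type*) [CommRing T] [Algebra R₀ T]
variable (X : Type*) [AddCommGroup X] [Module R₀ X] [Module T X] [IsScalarTower R₀ T X]

/-- The identification `M₀ ⊗[R₀] X ≃ ((S₀ ⊗[R₀] T) ⊗[S₀] M₀) ⊗[T] X`. -/
noncomputable def Psi :
    M₀ ⊗[R₀] X ≃ₗ[R₀] ((S₀ ⊗[R₀] T) ⊗[S₀] M₀) ⊗[T] X :=
  (TensorProduct.comm R₀ M₀ X) ≪≫ₗ
    (((AlgebraTensorModule.cancelBaseChange R₀ T T X M₀).symm ≪≫ₗ
      (TensorProduct.comm T X (T ⊗[R₀] M₀)) ≪≫ₗ
      (TensorProduct.congr (Algebra.IsPushout.cancelBaseChange R₀ T S₀ (S₀ ⊗[R₀] T) M₀).symm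
        (LinearEquiv.refl T X))).restrictScalars R₀)

@[simp]
theorem Psi_tmul (m : M₀) (x : X) :
    Psi R₀ S₀ M₀ T X (m ⊗ₜ x) = ((1 : S₀ ⊗[R₀] T) ⊗ₜ[S₀] m) ⊗ₜ[T] x := by
  simp [Psi]

/-- The action of `S₀ ⊗[R₀] T` on `M₀ ⊗[R₀] X`, as `S₀`-linear endomorphisms. -/
noncomputable def act :
    S₀ ⊗[R₀] T →ₗ[R₀] (M₀ ⊗[R₀] X →ₗ[S₀] M₀ ⊗[R₀] X) :=
  (AlgebraTensorModule.homTensorHomMap R₀ S₀ R₀ M₀ X M₀ X).restrictScalars R₀ ∘ₗ
    TensorProduct.map (Algebra.lsmul R₀ S₀ M₀).toLinearMap (Algebra.lsmul R₀ R₀ X).toLinearMap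

@[simp]
theorem act_tmul (σ : S₀) (t : T) (m : M₀) (x : X) :
    act R₀ S₀ M₀ T X (σ ⊗ₜ t) (m ⊗ₜ x) = (σ • m) ⊗ₜ (t • x) := by
  simp [act]

theorem one_tmul_smul (σ : S₀) (m : M₀) :
    ((1 : S₀ ⊗[R₀] T) ⊗ₜ[S₀] (σ • m)) = ((σ ⊗ₜ[R₀] (1 : T)) ⊗ₜ[S₀] m) := by
  rw [← TensorProduct.smul_tmul, Algebra.TensorProduct.one_def, TensorProduct.smul_tmul',
    smul_eq_mul, mul_one]

theorem right_smul (t : T) (y : (S₀ ⊗[R₀] T) ⊗[S₀] M₀) :
    t • y = ((1 : S₀) ⊗ₜ[R₀] t) • y := by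
  rw [← algebraMap_smul (S₀ ⊗[R₀] T) t y, Algebra.TensorProduct.right_algebraMap_apply]

/-- Compatibility of `Psi` with the actions. -/
theorem smul_Psi (w : S₀ ⊗[R₀] T) (z : M₀ ⊗[R₀] X) :
    w • Psi R₀ S₀ M₀ T X z = Psi R₀ S₀ M₀ T X (act R₀ S₀ M₀ T X w z) := by
  induction w with
  | zero => simp
  | add w₁ w₂ h₁ h₂ => rw [add_smul, h₁, h₂, map_add, LinearMap.add_apply, map_add]
  | tmul σ t =>
    induction z with
    | zero => simp
    | add z₁ z₂ h₁ h₂ => rw [map_add, smul_add, h₁, h₂, map_add, map_add]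
    | tmul m x =>
      rw [act_tmul, Psi_tmul, Psi_tmul, one_tmul_smul, ← TensorProduct.smul_tmul, right_smul,
        TensorProduct.smul_tmul', TensorProduct.smul_tmul', TensorProduct.smul_tmul',
        smul_eq_mul, smul_eq_mul, Algebra.TensorProduct.tmul_mul_tmul, one_mul, mul_one, mul_one]

variable {X} in
/-- Naturality of `Psi` in the `T`-module. -/
theorem Psi_lTensor {Y : Type*} [AddCommGroup Y] [Module R₀ Y] [Module T Y] [IsScalarTower R₀ T Y]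
    (f : X →ₗ[T] Y) (z : M₀ ⊗[R₀] X) :
    Psi R₀ S₀ M₀ T Y ((f.restrictScalars R₀).lTensor M₀ z) =
      f.lTensor ((S₀ ⊗[R₀] T) ⊗[S₀] M₀) (Psi R₀ S₀ M₀ T X z) := by
  induction z with
  | zero => simp
  | add z₁ z₂ h₁ h₂ => rw [map_add, map_add, h₁, h₂, map_add, map_add]
  | tmul m x => simp

variable {T X} in
/-- Naturality of the action along a ring map `φ : T → T'` and a `φ`-semilinear map. -/
theorem act_natural {T' : Type*} [CommRing T'] [Algebra R₀ T'] {X' : Type*} [AddCommGroup X']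
    [Module R₀ X'] [Module T' X'] [IsScalarTower R₀ T' X'] (φ : T →ₐ[R₀] T') (j : X →ₗ[R₀] X')
    (hj : ∀ (t : T) (x : X), j (t • x) = φ t • j x) (w : S₀ ⊗[R₀] T) (z : M₀ ⊗[R₀] X) :
    j.lTensor M₀ (act R₀ S₀ M₀ T X w z) =
      act R₀ S₀ M₀ T' X' (Algebra.TensorProduct.map (AlgHom.id S₀ S₀) φ w) (j.lTensor M₀ z) := by
  induction w with
  | zero => simp
  | add w₁ w₂ h₁ h₂ =>
    rw [map_add, LinearMap.add_apply, map_add, h₁, h₂, map_add, map_add, LinearMap.add_apply]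
  | tmul σ t =>
    induction z with
    | zero => simp
    | add z₁ z₂ h₁ h₂ => rw [map_add, map_add, h₁, h₂, map_add, map_add]
    | tmul m x => simp [hj]

end Psi

section Vanishing

variable {R₀ M₀ P N : Type*} [CommRing R₀] [AddCommGroup M₀] [Module R₀ M₀] [AddCommGroup P]
  [Module R₀ P] [AddCommGroup N] [Module R₀ N]

/-- Finite-stage vanishing: if `y ∈ P ⊗ M₀` dies in `N ⊗ M₀`, it already dies in `N' ⊗ M₀` for
every submodule `N'` of `N` containing the image of `P` and a suitable finitely generated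
submodule of `N`. -/
theorem exists_fg_of_rTensor_eq_zero (j : P →ₗ[R₀] N) (y : P ⊗[R₀] M₀)
    (hy : j.rTensor M₀ y = 0) :
    ∃ Q : Submodule R₀ N, Q.FG ∧ ∀ (N' : Submodule R₀ N) (h1 : ∀ x, j x ∈ N'), Q ≤ N' →
      (j.codRestrict N' h1).rTensor M₀ y = 0 := by
  obtain ⟨P₁, hfg₁, y₁, rfl⟩ := Submodule.exists_fg_le_eq_rTensor_subtype y
  have hP₂ : (P₁.map j).FG := hfg₁.map j
  have h : (P₁.map j).subtype.rTensor M₀ ((j.submoduleMap P₁).rTensor M₀ y₁) = 0 := by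
    rw [← LinearMap.rTensor_comp_apply]
    have : (P₁.map j).subtype ∘ₗ j.submoduleMap P₁ = j ∘ₗ P₁.subtype := by
      ext x
      rfl
    rw [this, LinearMap.rTensor_comp_apply]
    exact hy
  obtain ⟨Q, hPQ, hQfg, hQ⟩ := TensorProduct.eq_zero_of_fg_of_subtype_eq_zero hP₂ h
  refine ⟨Q, hQfg, fun N' h1 hQN' => ?_⟩
  have h2 : (j.codRestrict N' h1) ∘ₗ P₁.subtype =
      (Submodule.inclusion hQN') ∘ₗ (Submodule.inclusion hPQ) ∘ₗ j.submoduleMap P₁ := by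
    ext x
    rfl
  rw [← LinearMap.rTensor_comp_apply, h2, LinearMap.rTensor_comp_apply,
    LinearMap.rTensor_comp_apply, hQ, map_zero]

/-- The same statement with the fixed module on the left. -/
theorem exists_fg_of_lTensor_eq_zero (j : P →ₗ[R₀] N) (y : M₀ ⊗[R₀] P)
    (hy : j.lTensor M₀ y = 0) :
    ∃ Q : Submodule R₀ N, Q.FG ∧ ∀ (N' : Submodule R₀ N) (h1 : ∀ x, j x ∈ N'), Q ≤ N' →
      (j.codRestrict N' h1).lTensor M₀ y = 0 := by
  have hy' : j.rTensor M₀ (TensorProduct.comm R₀ M₀ P y) = 0 := by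
    rw [LinearMap.rTensor_comm, hy, map_zero]
  obtain ⟨Q, hQ, h⟩ := exists_fg_of_rTensor_eq_zero j _ hy'
  refine ⟨Q, hQ, fun N' h1 hQN' => ?_⟩
  have h2 := h N' h1 hQN'
  rw [LinearMap.rTensor_comm] at h2
  exact (LinearEquiv.map_eq_zero_iff _).1 h2

end Vanishing

end Groth.Agent.Lib.Helper54.FlatStage1
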