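/-
helper54: the flatness criterion at a Noetherian stage.  With the notation of `FlatStage1`, if
`M₀ ⧸ p₀ M₀` becomes flat over `R₀ ⧸ p₀` after inverting `a`, and the kernel of `M₀ ⊗ p₀ → M₀` is
killed, inside `(S₀ ⊗ T ⊗ M₀) ⊗[T] p₀T`, by elements outside a prime `Q` of `S₀ ⊗[R₀] T` (with
`a ∉ Q`, `p₀ ⊆ Q`, `T` Noetherian), then `(S₀ ⊗ T ⊗ M₀)_Q` is flat over `T`.
-/
import Groth.Agent.Lib.Helper54.FlatStage1
import Groth.Agent.Lib.Helper54.FlatOpenB

set_option autoImplicit false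
set_option maxHeartbeats 800000

namespace Groth.Agent.Lib.Helper54.FlatStage2

open TensorProduct Function
open Groth.Agent.Lib.Helper54
open Groth.Agent.Lib.Helper54.FlatStage1

attribute [local instance] Algebra.TensorProduct.rightAlgebra

universe u

section Core2

variable (R S R' : Type u) [CommRing R] [CommRing S] [CommRing R'] [Algebra R S] [Algebra R R']
variable (I : Ideal R) (M : Type u) [AddCommGroup M] [Module S M] [Module R M] [IsScalarTower R S M]

/-- The canonical map `M → (S ⊗[R] R') ⊗[S] M` is a base change along `R → R'`. -/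
theorem isBaseChange_mk :
    IsBaseChange R' ((TensorProduct.mk S (S ⊗[R] R') M 1).restrictScalars R) := by
  apply IsBaseChange.of_equiv (Algebra.IsPushout.cancelBaseChange R R' S (S ⊗[R] R') M).symm
  intro x
  simp

theorem comm_phi (x₀ : I ⊗[R] M) :
    TensorProduct.comm R' (I.map (algebraMap R R')) ((S ⊗[R] R') ⊗[S] M)
      (TorBC.phi R' I ((TensorProduct.mk S (S ⊗[R] R') M 1).restrictScalars R) x₀) =
    Psi R S M R' (I.map (algebraMap R R'))
      ((Algebra.idealMap R' I).lTensor M (TensorProduct.comm R I M x₀)) := by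
  induction x₀ with
  | zero => simp
  | add x y hx hy => simp only [map_add, hx, hy]
  | tmul a m => simp

/-- Torsion form of the core of Stacks 10.99.8: if `M ⧸ I M` is flat over `R ⧸ I` and the kernel of
`M ⊗ I → M` is `W`-torsion in `((S ⊗ R') ⊗[S] M) ⊗[R'] IR'`, so is the kernel of
`((S ⊗ R') ⊗[S] M) ⊗[R'] IR' → (S ⊗ R') ⊗[S] M`. -/
theorem core2 [Module.Flat (R ⧸ I) ((R ⧸ I) ⊗[R] M)] (W : Submonoid (S ⊗[R] R'))
    (h3 : ∀ x : M ⊗[R] I, I.subtype.lTensor M x = 0 →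
      ∃ w ∈ W, w • Psi R S M R' (I.map (algebraMap R R'))
        ((Algebra.idealMap R' I).lTensor M x) = 0)
    (z : ((S ⊗[R] R') ⊗[S] M) ⊗[R'] (I.map (algebraMap R R')))
    (hz : (I.map (algebraMap R R')).subtype.lTensor _ z = 0) : ∃ w ∈ W, w • z = 0 := by
  have hg := isBaseChange_mk R S R' M
  have hz' : TorBC.mu (I.map (algebraMap R R')) ((S ⊗[R] R') ⊗[S] M)
      (TensorProduct.comm R' _ _ z) = 0 := by
    rw [TorBC.mu_eq_zero_iff, LinearMap.rTensor_comm, hz, map_zero]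
  have hspan := TorBC.mem_span_of_isBaseChange R' I _ hg _ hz'
  let Tor : Submodule R' ((I.map (algebraMap R R')) ⊗[R'] ((S ⊗[R] R') ⊗[S] M)) :=
    { carrier := {y | ∃ w ∈ W, w • (TensorProduct.comm R' _ _ y) = 0}
      zero_mem' := ⟨1, W.one_mem, by simp⟩
      add_mem' := by
        rintro y₁ y₂ ⟨w₁, hw₁, h₁⟩ ⟨w₂, hw₂, h₂⟩
        refine ⟨w₁ * w₂, W.mul_mem hw₁ hw₂, ?_⟩
        have e1 : (w₁ * w₂) • (TensorProduct.comm R' _ _ y₁) = 0 := by
          rw [mul_comm, mul_smul, h₁, smul_zero]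
        have e2 : (w₁ * w₂) • (TensorProduct.comm R' _ _ y₂) = 0 := by
          rw [mul_smul, h₂, smul_zero]
        rw [map_add, smul_add, e1, e2, add_zero]
      smul_mem' := by
        rintro r y ⟨w, hw, h⟩
        refine ⟨w, hw, ?_⟩
        rw [map_smul, smul_comm, h, smul_zero] }
  have hsub : TorBC.phi R' I ((TensorProduct.mk S (S ⊗[R] R') M 1).restrictScalars R) ''
      {x | TorBC.mu I M x = 0} ⊆ (Tor : Set _) := by
    rintro _ ⟨x₀, hx₀, rfl⟩
    have hx₁ : I.subtype.lTensor M (TensorProduct.comm R I M x₀) = 0 := by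
      rw [LinearMap.lTensor_comm, (TorBC.mu_eq_zero_iff I M x₀).1 hx₀, map_zero]
    obtain ⟨w, hw, h⟩ := h3 _ hx₁
    refine ⟨w, hw, ?_⟩
    rw [comm_phi]
    exact h
  obtain ⟨w, hw, h⟩ := (Submodule.span_le.2 hsub) hspan
  rw [TensorProduct.comm_comm] at h
  exact ⟨w, hw, h⟩

end Core2

section PsiExtra

variable (R₀ S₀ M₀ : Type*) [CommRing R₀] [CommRing S₀] [Algebra R₀ S₀]
  [AddCommGroup M₀] [Module R₀ M₀] [Module S₀ M₀] [IsScalarTower R₀ S₀ M₀]
variable (T : Type*) [CommRing T] [Algebra R₀ T]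
variable (X : Type*) [AddCommGroup X] [Module R₀ X] [Module T X] [IsScalarTower R₀ T X]

/-- `Psi` is `S₀`-linear. -/
theorem Psi_smul (σ : S₀) (z : M₀ ⊗[R₀] X) :
    Psi R₀ S₀ M₀ T X (σ • z) = (algebraMap S₀ (S₀ ⊗[R₀] T) σ) • Psi R₀ S₀ M₀ T X z := by
  rw [smul_Psi, Algebra.TensorProduct.algebraMap_apply, Algebra.algebraMap_self, RingHom.id_apply]
  congr 1
  induction z with
  | zero => simp
  | add z₁ z₂ h₁ h₂ => rw [smul_add, h₁, h₂, map_add]
  | tmul m x => rw [act_tmul, one_smul, TensorProduct.smul_tmul']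

variable {M₀} in
/-- Naturality of `Psi` in the `S₀`-module. -/
theorem Psi_rTensor {N₀ : Type*} [AddCommGroup N₀] [Module R₀ N₀] [Module S₀ N₀]
    [IsScalarTower R₀ S₀ N₀] (ℓ₀ : M₀ →ₗ[S₀] N₀) (z : M₀ ⊗[R₀] X) :
    Psi R₀ S₀ N₀ T X ((ℓ₀.restrictScalars R₀).rTensor X z) =
      AlgebraTensorModule.rTensor T X (ℓ₀.baseChange (S₀ ⊗[R₀] T)) (Psi R₀ S₀ M₀ T X z) := by
  induction z with
  | zero => simp
  | add z₁ z₂ h₁ h₂ => rw [map_add, map_add, h₁, h₂, map_add, map_add]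
  | tmul m x => simp

end PsiExtra

end Groth.Agent.Lib.Helper54.FlatStage2
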