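/-
helper54: the flatness criterion at a Noetherian stage (see `FlatStage2` for the set-up).
-/
import Groth.Agent.Lib.Helper54.FlatStage2

set_option autoImplicit false
set_option maxHeartbeats 1600000

namespace Groth.Agent.Lib.Helper54.FlatStage3

open TensorProduct Function
open Groth.Agent.Lib.Helper54
open Groth.Agent.Lib.Helper54.FlatStage1
open Groth.Agent.Lib.Helper54.FlatStage2

attribute [local instance] Algebra.TensorProduct.rightAlgebra

universe u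

/-- The base change of a localization map (at the powers of an element) is a localization map. -/
theorem isLocalizedModule_baseChange {S₀ : Type*} [CommRing S₀] (B : Type*) [CommRing B]
    [Algebra S₀ B] {M₀ N₀ : Type*} [AddCommGroup M₀] [Module S₀ M₀] [AddCommGroup N₀]
    [Module S₀ N₀] (s : S₀) (ℓ₀ : M₀ →ₗ[S₀] N₀) [IsLocalizedModule (Submonoid.powers s) ℓ₀] :
    IsLocalizedModule (Submonoid.powers (algebraMap S₀ B s)) (ℓ₀.baseChange B) := by
  haveI h3 : IsLocalizedModule (Submonoid.powers s) (ℓ₀.lTensor B) := by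
    have h4 : ℓ₀.lTensor B = (TensorProduct.comm S₀ N₀ B).toLinearMap ∘ₗ
        ((AlgebraTensorModule.rTensor S₀ B ℓ₀) ∘ₗ (TensorProduct.comm S₀ B M₀).toLinearMap) := by
      ext x m
      simp
    rw [h4]
    infer_instance
  have h6 : IsLocalizedModule (Submonoid.powers s) ((ℓ₀.baseChange B).restrictScalars S₀) := h3
  have h7 := IsLocalizedModule.of_restrictScalars (Submonoid.powers s) (ℓ₀.baseChange B)
  rw [Algebra.algebraMapSubmonoid_powers] at h7
  exact h7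

section SF

variable (R₀ S₀ M₀ : Type u) [CommRing R₀] [CommRing S₀] [Algebra R₀ S₀] [Algebra.FiniteType R₀ S₀]
  [AddCommGroup M₀] [Module R₀ M₀] [Module S₀ M₀] [IsScalarTower R₀ S₀ M₀] [Module.Finite S₀ M₀]

theorem algebraMap_right_eq (T : Type*) [CommRing T] [Algebra R₀ T] (x : R₀) :
    algebraMap T (S₀ ⊗[R₀] T) (algebraMap R₀ T x) = algebraMap R₀ (S₀ ⊗[R₀] T) x := by
  rw [Algebra.TensorProduct.right_algebraMap_apply, Algebra.TensorProduct.algebraMap_apply,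
    Algebra.algebraMap_eq_smul_one, Algebra.algebraMap_eq_smul_one (A := S₀),
    TensorProduct.smul_tmul]

theorem stage_flat (p₀ : Ideal R₀) (a : R₀)
    (hflat : Module.Flat (R₀ ⧸ p₀)
      ((R₀ ⧸ p₀) ⊗[R₀] LocalizedModule (Submonoid.powers (algebraMap R₀ S₀ a)) M₀))
    (T : Type u) [CommRing T] [IsNoetherianRing T] [Algebra R₀ T]
    (Q : Ideal (S₀ ⊗[R₀] T)) [Q.IsPrime]
    (haQ : algebraMap R₀ (S₀ ⊗[R₀] T) a ∉ Q)
    (hpQ : ∀ x ∈ p₀, algebraMap R₀ (S₀ ⊗[R₀] T) x ∈ Q)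
    (H : ∀ k : M₀ ⊗[R₀] p₀, p₀.subtype.lTensor M₀ k = 0 → ∃ w ∈ Q.primeCompl,
        w • Psi R₀ S₀ M₀ T (p₀.map (algebraMap R₀ T))
          ((Algebra.idealMap T p₀).lTensor M₀ k) = 0) :
    Module.Flat T (LocalizedModule Q.primeCompl ((S₀ ⊗[R₀] T) ⊗[S₀] M₀)) := by
  set s : S₀ := algebraMap R₀ S₀ a with hs
  let N₀ := LocalizedModule (Submonoid.powers s) M₀
  let ℓ₀ : M₀ →ₗ[S₀] N₀ := LocalizedModule.mkLinearMap (Submonoid.powers s) M₀
  have hsW : algebraMap S₀ (S₀ ⊗[R₀] T) s ∈ Q.primeCompl := by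
    rw [hs, ← IsScalarTower.algebraMap_apply]
    exact haQ
  have hpowW : ∀ c ∈ Submonoid.powers s, algebraMap S₀ (S₀ ⊗[R₀] T) c ∈ Q.primeCompl := by
    rintro c ⟨n, rfl⟩
    rw [map_pow]
    exact Q.primeCompl.pow_mem hsW n
  have := hflat
  -- the hypothesis of `core2` for the localized module
  have H3 : ∀ x : N₀ ⊗[R₀] p₀, p₀.subtype.lTensor N₀ x = 0 → ∃ w ∈ Q.primeCompl,
      w • Psi R₀ S₀ N₀ T (p₀.map (algebraMap R₀ T))
        ((Algebra.idealMap T p₀).lTensor N₀ x) = 0 := by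
    intro x hx
    obtain ⟨⟨y, c⟩, hyc⟩ := IsLocalizedModule.surj (Submonoid.powers s)
      (AlgebraTensorModule.rTensor R₀ p₀ ℓ₀) x
    have hyc' : c.1 • x = (AlgebraTensorModule.rTensor R₀ p₀ ℓ₀) y := hyc
    have hv : (AlgebraTensorModule.rTensor R₀ R₀ ℓ₀)
        (AlgebraTensorModule.lTensor S₀ M₀ p₀.subtype y) = 0 := by
      have e : (AlgebraTensorModule.rTensor R₀ R₀ ℓ₀)
          (AlgebraTensorModule.lTensor S₀ M₀ p₀.subtype y) =
          AlgebraTensorModule.lTensor S₀ N₀ p₀.subtype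
            (AlgebraTensorModule.rTensor R₀ p₀ ℓ₀ y) := by
        have e1 := LinearMap.congr_fun ((LinearMap.rTensor_comp_lTensor
          (f := ℓ₀.restrictScalars R₀) (g := p₀.subtype)).trans (LinearMap.lTensor_comp_rTensor
          (f := ℓ₀.restrictScalars R₀) (g := p₀.subtype)).symm) y
        exact e1
      rw [e, ← hyc', map_smul]
      have hx' : (AlgebraTensorModule.lTensor S₀ N₀ p₀.subtype) x = 0 := hx
      rw [hx', smul_zero]
    obtain ⟨c', hc'⟩ := (IsLocalizedModule.eq_zero_iff (Submonoid.powers s)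
      (AlgebraTensorModule.rTensor R₀ R₀ ℓ₀)).1 hv
    have hc'' : c'.1 • (AlgebraTensorModule.lTensor S₀ M₀ p₀.subtype y) = 0 := hc'
    have hy' : p₀.subtype.lTensor M₀ (c'.1 • y) = 0 := by
      show AlgebraTensorModule.lTensor S₀ M₀ p₀.subtype (c'.1 • y) = 0
      rw [map_smul]
      exact hc''
    obtain ⟨w, hw, hwy⟩ := H _ hy'
    refine ⟨algebraMap S₀ _ (c'.1 * c.1) * w,
      Q.primeCompl.mul_mem (hpowW _ (mul_mem c'.2 c.2)) hw, ?_⟩
    have e2 : (c'.1 * c.1) • x = (ℓ₀.restrictScalars R₀).rTensor p₀ (c'.1 • y) := by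
      rw [mul_smul, hyc']
      show c'.1 • (AlgebraTensorModule.rTensor R₀ p₀ ℓ₀) y =
        (AlgebraTensorModule.rTensor R₀ p₀ ℓ₀) (c'.1 • y)
      rw [map_smul]
    have e3 : (Algebra.idealMap T p₀).lTensor N₀ ((c'.1 * c.1) • x) =
        (c'.1 * c.1) • (Algebra.idealMap T p₀).lTensor N₀ x := by
      show AlgebraTensorModule.lTensor S₀ N₀ (Algebra.idealMap T p₀) ((c'.1 * c.1) • x) = _
      rw [map_smul]
      rfl
    have e4 : (Algebra.idealMap T p₀).lTensor N₀ ((ℓ₀.restrictScalars R₀).rTensor p₀ (c'.1 • y)) =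
        (ℓ₀.restrictScalars R₀).rTensor (p₀.map (algebraMap R₀ T))
          ((Algebra.idealMap T p₀).lTensor M₀ (c'.1 • y)) :=
      LinearMap.congr_fun ((LinearMap.lTensor_comp_rTensor (f := ℓ₀.restrictScalars R₀)
        (g := Algebra.idealMap T p₀)).trans (LinearMap.rTensor_comp_lTensor
        (f := ℓ₀.restrictScalars R₀) (g := Algebra.idealMap T p₀)).symm) (c'.1 • y)
    rw [mul_comm, mul_smul, ← Psi_smul, ← e3, e2, e4, Psi_rTensor, ← map_smul, hwy, map_zero]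
  have hTK := core2 R₀ S₀ T p₀ N₀ Q.primeCompl H3
  -- the localization maps
  haveI : IsLocalizedModule (Submonoid.powers (algebraMap S₀ (S₀ ⊗[R₀] T) s))
      (ℓ₀.baseChange (S₀ ⊗[R₀] T)) := isLocalizedModule_baseChange _ s ℓ₀
  have hle : Submonoid.powers (algebraMap S₀ (S₀ ⊗[R₀] T) s) ≤ Q.primeCompl :=
    Submonoid.powers_le.2 hsW
  let ℓ' : (S₀ ⊗[R₀] T) ⊗[S₀] N₀ →ₗ[S₀ ⊗[R₀] T]
      LocalizedModule Q.primeCompl ((S₀ ⊗[R₀] T) ⊗[S₀] M₀) :=
    IsLocalizedModule.liftOfLE _ Q.primeCompl hle (ℓ₀.baseChange (S₀ ⊗[R₀] T))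
      (LocalizedModule.mkLinearMap Q.primeCompl ((S₀ ⊗[R₀] T) ⊗[S₀] M₀))
  haveI : Algebra.FiniteType T (S₀ ⊗[R₀] T) := FlatOpenB.finiteType_right R₀ S₀ T
  haveI : IsNoetherianRing (S₀ ⊗[R₀] T) := Algebra.FiniteType.isNoetherianRing T _
  haveI : IsNoetherianRing (Localization Q.primeCompl) :=
    IsLocalization.isNoetherianRing Q.primeCompl _ inferInstance
  apply Groth.Agent.Lib.Helper2.flat_of_rTensor_injective_of_flat_quotient (R := T)
    (S := Localization Q.primeCompl)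
    (M := LocalizedModule Q.primeCompl ((S₀ ⊗[R₀] T) ⊗[S₀] M₀)) (p₀.map (algebraMap R₀ T))
  · rw [IsLocalRing.jacobson_eq_maximalIdeal ⊥ bot_ne_top, Ideal.map_le_iff_le_comap,
      Ideal.map_le_iff_le_comap]
    intro x hx
    rw [Ideal.mem_comap, Ideal.mem_comap,
      IsScalarTower.algebraMap_apply T (S₀ ⊗[R₀] T) (Localization Q.primeCompl),
      IsLocalization.AtPrime.to_map_mem_maximal_iff (Localization Q.primeCompl) Q,
      algebraMap_right_eq]
    exact hpQ x hx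
  · rw [← LinearMap.lTensor_inj_iff_rTensor_inj]
    apply QFlat.lTensor_injective_of_forall_ker (N := (S₀ ⊗[R₀] T) ⊗[S₀] N₀)
      (N' := LocalizedModule Q.primeCompl ((S₀ ⊗[R₀] T) ⊗[S₀] M₀))
      (p₀.map (algebraMap R₀ T)) (S₀ ⊗[R₀] T) Q.primeCompl ℓ'
    intro z hz
    obtain ⟨w, hw, hwz⟩ := hTK z hz
    show AlgebraTensorModule.rTensor T _ ℓ' z = 0
    have hu := IsLocalizedModule.map_units (S := Q.primeCompl)
      (AlgebraTensorModule.rTensor T (p₀.map (algebraMap R₀ T)) ℓ') ⟨w, hw⟩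
    apply ((Module.End.isUnit_iff _).1 hu).1
    rw [Module.algebraMap_end_apply, Module.algebraMap_end_apply, smul_zero, ← map_smul, hwz,
      map_zero]
  · have q1 : QFlat.QF p₀ N₀ := QFlat.qf_of_flat p₀ N₀
    have q2 := QFlat.qf_of_isBaseChange p₀ _ (isBaseChange_mk R₀ S₀ T N₀) q1
    have q3 : QFlat.QF (p₀.map (algebraMap R₀ T))
        (LocalizedModule Q.primeCompl ((S₀ ⊗[R₀] T) ⊗[S₀] M₀)) :=
      QFlat.qf_of_isLocalizedModule (N := (S₀ ⊗[R₀] T) ⊗[S₀] N₀)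
        (N' := LocalizedModule Q.primeCompl ((S₀ ⊗[R₀] T) ⊗[S₀] M₀))
        (p₀.map (algebraMap R₀ T)) (S₀ ⊗[R₀] T) Q.primeCompl ℓ' q2
    exact QFlat.flat_of_qf _ (LocalizedModule Q.primeCompl ((S₀ ⊗[R₀] T) ⊗[S₀] M₀)) q3

end SF

end Groth.Agent.Lib.Helper54.FlatStage3
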