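/-
helper54: Noetherian approximation of flatness at a prime.  `R₀` Noetherian, `S₀` a finite type
`R₀`-algebra, `M₀` a finite `S₀`-module, `R` any `R₀`-algebra, `q` a prime of `S₀ ⊗[R₀] R` at which
the base change of `M₀` is flat over `R`.  Then for a suitable finitely generated subalgebra `T` of
`R`, the base change of `M₀` to `T` is flat over `T` at the contraction of `q`.
-/
import Groth.Agent.Lib.Helper54.FlatStage3

set_option autoImplicit false
set_option maxHeartbeats 1600000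

namespace Groth.Agent.Lib.Helper54.FlatStage4

open TensorProduct Function
open Groth.Agent.Lib.Helper54
open Groth.Agent.Lib.Helper54.FlatStage1
open Groth.Agent.Lib.Helper54.FlatStage2
open Groth.Agent.Lib.Helper54.FlatStage3

attribute [local instance] Algebra.TensorProduct.rightAlgebra

universe u

section Jmap

variable {R₀ : Type*} [CommRing R₀] (p₀ : Ideal R₀)
variable {T T' T'' : Type*} [CommRing T] [Algebra R₀ T] [CommRing T'] [Algebra R₀ T']
  [CommRing T''] [Algebra R₀ T'']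

theorem mem_map_of_algHom (φ : T →ₐ[R₀] T') {y : T} (hy : y ∈ p₀.map (algebraMap R₀ T)) :
    φ y ∈ p₀.map (algebraMap R₀ T') := by
  have h := Ideal.mem_map_of_mem φ.toRingHom hy
  have h2 : φ.toRingHom.comp (algebraMap R₀ T) = algebraMap R₀ T' := φ.comp_algebraMap
  rw [Ideal.map_map, h2] at h
  exact h

/-- The map induced by an algebra map between the extensions of an ideal. -/
noncomputable def jmap (φ : T →ₐ[R₀] T') :
    ↥(p₀.map (algebraMap R₀ T)) →ₗ[R₀] ↥(p₀.map (algebraMap R₀ T')) where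
  toFun y := ⟨φ y.1, mem_map_of_algHom p₀ φ y.2⟩
  map_add' y z := Subtype.ext (map_add φ _ _)
  map_smul' r y := Subtype.ext (by simp)

@[simp] theorem jmap_coe (φ : T →ₐ[R₀] T') (y : ↥(p₀.map (algebraMap R₀ T))) :
    ((jmap p₀ φ y : ↥(p₀.map (algebraMap R₀ T'))) : T') = φ y.1 := rfl

theorem jmap_smul (φ : T →ₐ[R₀] T') (t : T) (y : ↥(p₀.map (algebraMap R₀ T))) :
    jmap p₀ φ (t • y) = φ t • jmap p₀ φ y :=
  Subtype.ext (by simp)

theorem jmap_idealMap (φ : T →ₐ[R₀] T') (x : p₀) :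
    jmap p₀ φ (Algebra.idealMap T p₀ x) = Algebra.idealMap T' p₀ x :=
  Subtype.ext (by simp)

theorem jmap_comp (φ : T →ₐ[R₀] T') (ψ : T' →ₐ[R₀] T'') (y : ↥(p₀.map (algebraMap R₀ T))) :
    jmap p₀ (ψ.comp φ) y = jmap p₀ ψ (jmap p₀ φ y) := rfl

theorem jmap_injective (φ : T →ₐ[R₀] T') (hφ : Injective φ) : Injective (jmap p₀ φ) := by
  intro y z h
  apply Subtype.ext
  apply hφ
  exact congrArg Subtype.val h

end Jmap

section SM

variable {R₀ : Type*} [CommRing R₀] (S₀ : Type*) [CommRing S₀] [Algebra R₀ S₀]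
variable {T T' T'' : Type*} [CommRing T] [Algebra R₀ T] [CommRing T'] [Algebra R₀ T']
  [CommRing T''] [Algebra R₀ T'']

/-- Functoriality of `S₀ ⊗[R₀] -`. -/
noncomputable abbrev SM (φ : T →ₐ[R₀] T') : S₀ ⊗[R₀] T →ₐ[S₀] S₀ ⊗[R₀] T' :=
  Algebra.TensorProduct.map (AlgHom.id S₀ S₀) φ

theorem SM_comp (φ : T →ₐ[R₀] T') (ψ : T' →ₐ[R₀] T'') (w : S₀ ⊗[R₀] T) :
    SM S₀ ψ (SM S₀ φ w) = SM S₀ (ψ.comp φ) w := by
  induction w with
  | zero => simp
  | add x y hx hy => simp only [map_add, hx, hy]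
  | tmul σ t => simp

theorem SM_algebraMap (φ : T →ₐ[R₀] T') (x : R₀) :
    SM S₀ φ (algebraMap R₀ (S₀ ⊗[R₀] T) x) = algebraMap R₀ (S₀ ⊗[R₀] T') x := by
  rw [Algebra.TensorProduct.algebraMap_apply, Algebra.TensorProduct.algebraMap_apply]
  simp

end SM

section Lifting

variable {R₀ : Type u} [CommRing R₀] (S₀ : Type u) [CommRing S₀] [Algebra R₀ S₀]
variable {R : Type u} [CommRing R] [Algebra R₀ R]

/-- Every element of `S₀ ⊗[R₀] R` comes from a finitely generated subalgebra of `R`. -/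
theorem exists_fg_mem_range (w : S₀ ⊗[R₀] R) :
    ∃ T : Subalgebra R₀ R, T.FG ∧ ∃ w₁ : S₀ ⊗[R₀] T, SM S₀ T.val w₁ = w := by
  induction w with
  | zero => exact ⟨⊥, Subalgebra.fg_bot, 0, by simp⟩
  | tmul σ r =>
    refine ⟨Algebra.adjoin R₀ {r}, ?_, σ ⊗ₜ ⟨r, Algebra.subset_adjoin (Set.mem_singleton r)⟩, ?_⟩
    · have := Subalgebra.fg_adjoin_finset (R := R₀) ({r} : Finset R)
      simpa using this
    · simp
  | add x y hx hy =>
    obtain ⟨T₁, h₁, w₁, rfl⟩ := hx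
    obtain ⟨T₂, h₂, w₂, rfl⟩ := hy
    refine ⟨T₁ ⊔ T₂, h₁.sup h₂, SM S₀ (Subalgebra.inclusion le_sup_left) w₁ +
      SM S₀ (Subalgebra.inclusion le_sup_right) w₂, ?_⟩
    rw [map_add, SM_comp, SM_comp]
    rfl

variable (p₀ : Ideal R₀)

/-- Every element of `p₀ R` comes from `p₀ T` for a finitely generated subalgebra `T`. -/
theorem exists_fg_mem_map (x : R) (hx : x ∈ p₀.map (algebraMap R₀ R)) :
    ∃ T : Subalgebra R₀ R, T.FG ∧ ∃ y : ↥(p₀.map (algebraMap R₀ T)), ((y : T) : R) = x := by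
  refine Submodule.span_induction (p := fun x _ => ∃ T : Subalgebra R₀ R, T.FG ∧
    ∃ y : ↥(p₀.map (algebraMap R₀ T)), ((y : T) : R) = x) ?_ ?_ ?_ ?_ hx
  · rintro _ ⟨π, hπ, rfl⟩
    exact ⟨⊥, Subalgebra.fg_bot, ⟨algebraMap R₀ _ π, Ideal.mem_map_of_mem _ hπ⟩, rfl⟩
  · exact ⟨⊥, Subalgebra.fg_bot, 0, rfl⟩
  · rintro x y _ _ ⟨T₁, h₁, y₁, rfl⟩ ⟨T₂, h₂, y₂, rfl⟩
    refine ⟨T₁ ⊔ T₂, h₁.sup h₂, jmap p₀ (Subalgebra.inclusion le_sup_left) y₁ +
      jmap p₀ (Subalgebra.inclusion le_sup_right) y₂, ?_⟩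
    rfl
  · rintro r x _ ⟨T₁, h₁, y₁, rfl⟩
    have hr : r ∈ T₁ ⊔ Algebra.adjoin R₀ {r} :=
      (le_sup_right : Algebra.adjoin R₀ {r} ≤ _) (Algebra.subset_adjoin (Set.mem_singleton r))
    refine ⟨T₁ ⊔ Algebra.adjoin R₀ {r}, h₁.sup ?_,
      (⟨r, hr⟩ : ↥(T₁ ⊔ Algebra.adjoin R₀ {r})) • jmap p₀ (Subalgebra.inclusion le_sup_left) y₁, ?_⟩
    · have := Subalgebra.fg_adjoin_finset (R := R₀) ({r} : Finset R)
      simpa using this
    · rfl

/-- A finite subset of `p₀ R` comes from `p₀ T` for a finitely generated subalgebra `T` containing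
a given one. -/
theorem exists_fg_finset_le_range (T₁ : Subalgebra R₀ R) (h₁ : T₁.FG)
    (F : Finset ↥(p₀.map (algebraMap R₀ R))) :
    ∃ (T : Subalgebra R₀ R) (_ : T₁ ≤ T), T.FG ∧
      ∀ f ∈ F, f ∈ LinearMap.range (jmap p₀ T.val) := by
  classical
  induction F using Finset.induction_on with
  | empty => exact ⟨T₁, le_rfl, h₁, by simp⟩
  | insert f F _ ih =>
    obtain ⟨T, hT₁, hTfg, hT⟩ := ih
    obtain ⟨T₂, h₂, y, hy⟩ := exists_fg_mem_map p₀ f.1 f.2
    refine ⟨T ⊔ T₂, hT₁.trans le_sup_left, hTfg.sup h₂, ?_⟩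
    intro g hg
    rcases Finset.mem_insert.1 hg with rfl | hg
    · refine ⟨jmap p₀ (Subalgebra.inclusion le_sup_right) y, ?_⟩
      apply Subtype.ext
      exact hy
    · obtain ⟨y', hy'⟩ := hT g hg
      refine ⟨jmap p₀ (Subalgebra.inclusion le_sup_left) y', ?_⟩
      rw [← hy']
      rfl

end Lifting

end Groth.Agent.Lib.Helper54.FlatStage4
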