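/-
helper54: Noetherian approximation of flatness at a prime (continued): the main approximation
theorem `exists_stage_flat`, monotonicity `flat_of_stage_flat`, and openness of the flat locus for
the base change of Noetherian data to an arbitrary ring.
-/
import Groth.Agent.Lib.Helper54.FlatStage4

set_option autoImplicit false
set_option maxHeartbeats 1600000

namespace Groth.Agent.Lib.Helper54.FlatStage5

open TensorProduct Function
open Groth.Agent.Lib.Helper54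
open Groth.Agent.Lib.Helper54.FlatStage1
open Groth.Agent.Lib.Helper54.FlatStage2
open Groth.Agent.Lib.Helper54.FlatStage3
open Groth.Agent.Lib.Helper54.FlatStage4

attribute [local instance] Algebra.TensorProduct.rightAlgebra

universe u

section General

variable {A : Type u} [CommRing A] (B : Type*) [CommRing B] [Algebra A B] (W : Submonoid B)
variable {N : Type*} [AddCommGroup N] [Module A N] [Module B N] [IsScalarTower A B N]
variable {N' : Type*} [AddCommGroup N'] [Module A N'] [Module B N'] [IsScalarTower A B N']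
variable (ℓ : N →ₗ[B] N') [IsLocalizedModule W ℓ]

include W ℓ in
/-- If the localization of `N` at `W` is flat over the base, then for any injective map `f` of
modules over the base the elements of the kernel of `N ⊗ f` are killed by elements of `W`. -/
theorem forall_ker_of_flat_localized' [Module.Flat A N'] {X Y : Type*} [AddCommGroup X]
    [Module A X] [AddCommGroup Y] [Module A Y] (f : X →ₗ[A] Y) (hf : Injective f)
    (z : N ⊗[A] X) (hz : f.lTensor N z = 0) : ∃ w ∈ W, w • z = 0 := by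
  have h1 : f.lTensor N' ((AlgebraTensorModule.rTensor A X ℓ) z) = 0 := by
    have h2 : (f.lTensor N') ∘ₗ ((ℓ.restrictScalars A).rTensor X) =
        ((ℓ.restrictScalars A).rTensor Y) ∘ₗ (f.lTensor N) := by
      rw [LinearMap.lTensor_comp_rTensor, LinearMap.rTensor_comp_lTensor]
    have h3 := LinearMap.congr_fun h2 z
    simp only [LinearMap.comp_apply] at h3
    rw [hz, map_zero] at h3
    exact h3
  have h2 : (AlgebraTensorModule.rTensor A X ℓ) z = 0 :=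
    (Module.Flat.lTensor_preserves_injective_linearMap (M := N') f hf) (by rw [h1, map_zero])
  obtain ⟨s, hs⟩ := (IsLocalizedModule.eq_zero_iff W (AlgebraTensorModule.rTensor A X ℓ)).1 h2
  exact ⟨s.1, s.2, hs⟩

end General

section Main

variable (R₀ S₀ M₀ : Type u) [CommRing R₀] [CommRing S₀] [Algebra R₀ S₀]
  [AddCommGroup M₀] [Module R₀ M₀] [Module S₀ M₀] [IsScalarTower R₀ S₀ M₀]

theorem iota_natural (p₀ : Ideal R₀) {T T' : Type*} [CommRing T] [Algebra R₀ T] [CommRing T']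
    [Algebra R₀ T'] (φ : T →ₐ[R₀] T') (k : M₀ ⊗[R₀] p₀) :
    (jmap p₀ φ).lTensor M₀ ((Algebra.idealMap T p₀).lTensor M₀ k) =
      (Algebra.idealMap T' p₀).lTensor M₀ k := by
  rw [← LinearMap.lTensor_comp_apply]
  have h : (jmap p₀ φ) ∘ₗ (Algebra.idealMap T p₀) = Algebra.idealMap T' p₀ :=
    LinearMap.ext (fun x => jmap_idealMap p₀ φ x)
  rw [h]

theorem ker_R (p₀ : Ideal R₀) (R : Type u) [CommRing R] [Algebra R₀ R] (k : M₀ ⊗[R₀] p₀)
    (hk : p₀.subtype.lTensor M₀ k = 0) :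
    (p₀.map (algebraMap R₀ R)).subtype.lTensor ((S₀ ⊗[R₀] R) ⊗[S₀] M₀)
      (Psi R₀ S₀ M₀ R (p₀.map (algebraMap R₀ R)) ((Algebra.idealMap R p₀).lTensor M₀ k)) = 0 := by
  rw [← Psi_lTensor R₀ S₀ M₀ R (p₀.map (algebraMap R₀ R)).subtype, ← LinearMap.lTensor_comp_apply]
  have h : ((p₀.map (algebraMap R₀ R)).subtype.restrictScalars R₀) ∘ₗ (Algebra.idealMap R p₀) =
      (Algebra.linearMap R₀ R) ∘ₗ p₀.subtype := by
    ext x
    rfl
  rw [h, LinearMap.lTensor_comp_apply, hk, map_zero, map_zero]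

variable [IsNoetherianRing R₀] [Algebra.FiniteType R₀ S₀] [Module.Finite S₀ M₀]
variable (R : Type u) [CommRing R] [Algebra R₀ R]

/-- **Noetherian approximation of flatness at a prime.** -/
theorem exists_stage_flat (q : Ideal (S₀ ⊗[R₀] R)) [q.IsPrime]
    (hq : Module.Flat R (LocalizedModule q.primeCompl ((S₀ ⊗[R₀] R) ⊗[S₀] M₀))) :
    ∃ T : Subalgebra R₀ R, T.FG ∧
      Module.Flat T (LocalizedModule (q.comap (SM S₀ T.val)).primeCompl
        ((S₀ ⊗[R₀] T) ⊗[S₀] M₀)) := by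
  classical
  haveI : IsNoetherianRing S₀ := Algebra.FiniteType.isNoetherianRing R₀ S₀
  set p₀ : Ideal R₀ := q.comap (algebraMap R₀ (S₀ ⊗[R₀] R)) with hp₀
  haveI : p₀.IsPrime := Ideal.comap_isPrime _ _
  obtain ⟨a, hap, hflat⟩ := FlatOpenB.exists_flat_quotient_localization R₀ S₀ M₀ p₀
  let K : Submodule S₀ (M₀ ⊗[R₀] p₀) :=
    LinearMap.ker (AlgebraTensorModule.lTensor S₀ M₀ p₀.subtype)
  haveI : Module.Finite R₀ p₀ := Module.Finite.of_fg (IsNoetherian.noetherian p₀)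
  haveI : Module.Finite S₀ (M₀ ⊗[R₀] p₀) := FlatOpenB.finite_tensor R₀ S₀ M₀ p₀
  haveI : IsNoetherian S₀ (M₀ ⊗[R₀] p₀) := isNoetherian_of_isNoetherianRing_of_finite S₀ _
  obtain ⟨s, hs⟩ : K.FG := IsNoetherian.noetherian K
  -- the level of `R`
  let KR : Submodule (S₀ ⊗[R₀] R) (((S₀ ⊗[R₀] R) ⊗[S₀] M₀) ⊗[R] (p₀.map (algebraMap R₀ R))) :=
    LinearMap.ker (AlgebraTensorModule.lTensor (S₀ ⊗[R₀] R) ((S₀ ⊗[R₀] R) ⊗[S₀] M₀)
      (p₀.map (algebraMap R₀ R)).subtype)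
  have hKR : ∀ z ∈ KR, ∃ w ∈ q.primeCompl, w • z = 0 := fun z hz => by
    have := hq
    exact FlatOpenA.forall_ker_of_flat_localized (N := (S₀ ⊗[R₀] R) ⊗[S₀] M₀)
      (N' := LocalizedModule q.primeCompl ((S₀ ⊗[R₀] R) ⊗[S₀] M₀)) (S₀ ⊗[R₀] R) q.primeCompl
      (LocalizedModule.mkLinearMap q.primeCompl ((S₀ ⊗[R₀] R) ⊗[S₀] M₀))
      (p₀.map (algebraMap R₀ R)) z hz
  let gen : M₀ ⊗[R₀] p₀ → ((S₀ ⊗[R₀] R) ⊗[S₀] M₀) ⊗[R] (p₀.map (algebraMap R₀ R)) := fun k =>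
    Psi R₀ S₀ M₀ R (p₀.map (algebraMap R₀ R)) ((Algebra.idealMap R p₀).lTensor M₀ k)
  have hgen : ∀ k ∈ s, gen k ∈ KR := by
    intro k hk
    have hkK : k ∈ K := hs ▸ Submodule.subset_span hk
    exact ker_R R₀ S₀ M₀ p₀ R k hkK
  have hK''fg : (Submodule.span (S₀ ⊗[R₀] R) (gen '' (s : Set (M₀ ⊗[R₀] p₀)))).FG :=
    ⟨s.image gen, by rw [Finset.coe_image]⟩
  have hK''le : Submodule.span (S₀ ⊗[R₀] R) (gen '' (s : Set (M₀ ⊗[R₀] p₀))) ≤ KR :=
    Submodule.span_le.2 (by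
      rintro _ ⟨k, hk, rfl⟩
      exact hgen k hk)
  obtain ⟨w, hw, hwK⟩ := FlatOpenB.exists_smul_eq_zero_of_fg q.primeCompl _ hK''fg
    (fun z hz => hKR z (hK''le hz))
  have hact : ∀ k ∈ s, act R₀ S₀ M₀ R (p₀.map (algebraMap R₀ R)) w
      ((Algebra.idealMap R p₀).lTensor M₀ k) = 0 := by
    intro k hk
    have h1 : w • Psi R₀ S₀ M₀ R (p₀.map (algebraMap R₀ R))
        ((Algebra.idealMap R p₀).lTensor M₀ k) = 0 :=
      hwK (gen k) (Submodule.subset_span ⟨k, hk, rfl⟩)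
    rw [smul_Psi] at h1
    exact (LinearEquiv.map_eq_zero_iff _).1 h1
  -- lift `w` to a finitely generated subalgebra
  obtain ⟨T₁, hT₁, w₁, hw₁⟩ := exists_fg_mem_range S₀ w
  have hV : ∀ k : M₀ ⊗[R₀] p₀, k ∈ s → ∃ Qk : Submodule R₀ ↥(p₀.map (algebraMap R₀ R)), Qk.FG ∧
      ∀ (N' : Submodule R₀ ↥(p₀.map (algebraMap R₀ R))) (h1 : ∀ x, jmap p₀ T₁.val x ∈ N'),
        Qk ≤ N' → ((jmap p₀ T₁.val).codRestrict N' h1).lTensor M₀
          (act R₀ S₀ M₀ T₁ (p₀.map (algebraMap R₀ T₁)) w₁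
            ((Algebra.idealMap T₁ p₀).lTensor M₀ k)) = 0 := by
    intro k hk
    apply exists_fg_of_lTensor_eq_zero
    rw [act_natural R₀ S₀ M₀ T₁.val (jmap p₀ T₁.val) (jmap_smul p₀ T₁.val), hw₁, iota_natural]
    exact hact k hk
  choose! Qk hQkfg hQk using hV
  have hQfg : (⨆ k ∈ s, Qk k).FG := Submodule.fg_biSup s _ (fun k hk => hQkfg k hk)
  obtain ⟨F, hF⟩ := hQfg
  obtain ⟨T, hT₁T, hTfg, hTF⟩ := exists_fg_finset_le_range p₀ T₁ hT₁ F
  refine ⟨T, hTfg, ?_⟩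
  have hwTw : SM S₀ T.val (SM S₀ (Subalgebra.inclusion hT₁T) w₁) = w := by
    rw [SM_comp, ← hw₁]
    rfl
  have hactT : ∀ k ∈ s, act R₀ S₀ M₀ T (p₀.map (algebraMap R₀ T))
      (SM S₀ (Subalgebra.inclusion hT₁T) w₁) ((Algebra.idealMap T p₀).lTensor M₀ k) = 0 := by
    intro k hk
    have hQN' : Qk k ≤ LinearMap.range (jmap p₀ T.val) := by
      calc Qk k ≤ ⨆ k ∈ s, Qk k := le_biSup Qk hk
        _ = Submodule.span R₀ (F : Set _) := hF.symm
        _ ≤ LinearMap.range (jmap p₀ T.val) := Submodule.span_le.2 (fun f hf => hTF f hf)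
    have h1 : ∀ x, jmap p₀ T₁.val x ∈ LinearMap.range (jmap p₀ T.val) :=
      fun x => ⟨jmap p₀ (Subalgebra.inclusion hT₁T) x, rfl⟩
    have h2 := hQk k hk _ h1 hQN'
    let e := LinearEquiv.ofInjective (jmap p₀ T.val)
      (jmap_injective p₀ T.val Subtype.val_injective)
    have h3 : (jmap p₀ T₁.val).codRestrict (LinearMap.range (jmap p₀ T.val)) h1 =
        e.toLinearMap ∘ₗ jmap p₀ (Subalgebra.inclusion hT₁T) := by
      ext x
      rfl
    rw [h3, LinearMap.lTensor_comp_apply] at h2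
    have h4 : (jmap p₀ (Subalgebra.inclusion hT₁T)).lTensor M₀
        (act R₀ S₀ M₀ T₁ (p₀.map (algebraMap R₀ T₁)) w₁
          ((Algebra.idealMap T₁ p₀).lTensor M₀ k)) = 0 := by
      apply (LinearEquiv.lTensor M₀ e).injective
      rw [map_zero]
      exact h2
    rw [act_natural R₀ S₀ M₀ (Subalgebra.inclusion hT₁T)
      (jmap p₀ (Subalgebra.inclusion hT₁T)) (jmap_smul p₀ (Subalgebra.inclusion hT₁T)),
      iota_natural] at h4
    exact h4
  haveI : Algebra.FiniteType R₀ T := (Subalgebra.fg_iff_finiteType T).1 hTfg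
  haveI : IsNoetherianRing T := Algebra.FiniteType.isNoetherianRing R₀ T
  apply stage_flat R₀ S₀ M₀ p₀ a hflat T (q.comap (SM S₀ T.val))
  · rw [Ideal.mem_comap, SM_algebraMap]
    exact hap
  · intro x hx
    rw [Ideal.mem_comap, SM_algebraMap]
    exact hx
  · intro k hk
    refine ⟨SM S₀ (Subalgebra.inclusion hT₁T) w₁, ?_, ?_⟩
    · show SM S₀ (Subalgebra.inclusion hT₁T) w₁ ∉ q.comap (SM S₀ T.val)
      rw [Ideal.mem_comap, hwTw]
      exact hw
    · rw [smul_Psi]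
      have hkK : k ∈ K := hk
      let Φ : M₀ ⊗[R₀] p₀ →ₗ[S₀] M₀ ⊗[R₀] ↥(p₀.map (algebraMap R₀ T)) :=
        (act R₀ S₀ M₀ T (p₀.map (algebraMap R₀ T)) (SM S₀ (Subalgebra.inclusion hT₁T) w₁)) ∘ₗ
          (AlgebraTensorModule.lTensor S₀ M₀ (Algebra.idealMap T p₀))
      have hΦ : K ≤ LinearMap.ker Φ := by
        rw [← hs]
        exact Submodule.span_le.2 (fun k hk => hactT k hk)
      have h5 : Φ k = 0 := hΦ hkK
      show Psi R₀ S₀ M₀ T (p₀.map (algebraMap R₀ T)) (Φ k) = 0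
      rw [h5, map_zero]

omit [IsNoetherianRing R₀] [Algebra.FiniteType R₀ S₀] [Module.Finite S₀ M₀] in
/-- Monotonicity: flatness at a stage implies flatness at the level of `R`. -/
theorem flat_of_stage_flat (T : Type u) [CommRing T] [Algebra R₀ T] [Algebra T R]
    [IsScalarTower R₀ T R] (φ : T →ₐ[R₀] R) (hφ : ∀ t, φ t = algebraMap T R t)
    (q' : Ideal (S₀ ⊗[R₀] R)) [q'.IsPrime]
    (h : Module.Flat T (LocalizedModule (q'.comap (SM S₀ φ)).primeCompl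
      ((S₀ ⊗[R₀] T) ⊗[S₀] M₀))) :
    Module.Flat R (LocalizedModule q'.primeCompl ((S₀ ⊗[R₀] R) ⊗[S₀] M₀)) := by
  apply FlatOpenA.flat_localized_of_forall_ker (N := (S₀ ⊗[R₀] R) ⊗[S₀] M₀)
    (N' := LocalizedModule q'.primeCompl ((S₀ ⊗[R₀] R) ⊗[S₀] M₀)) (S₀ ⊗[R₀] R) q'.primeCompl
    (LocalizedModule.mkLinearMap q'.primeCompl ((S₀ ⊗[R₀] R) ⊗[S₀] M₀))
  intro J z hz
  obtain ⟨z₀, rfl⟩ := (Psi R₀ S₀ M₀ R J).surjective z
  have h0 : (J.subtype.restrictScalars R₀).lTensor M₀ z₀ = 0 := by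
    have h1 := Psi_lTensor R₀ S₀ M₀ R J.subtype z₀
    rw [hz] at h1
    exact (LinearEquiv.map_eq_zero_iff _).1 h1
  have hzT : (J.subtype.restrictScalars T).lTensor ((S₀ ⊗[R₀] T) ⊗[S₀] M₀)
      (Psi R₀ S₀ M₀ T J z₀) = 0 := by
    rw [← Psi_lTensor R₀ S₀ M₀ T (J.subtype.restrictScalars T) z₀]
    have h2 : ((J.subtype.restrictScalars T).restrictScalars R₀) =
        J.subtype.restrictScalars R₀ := rfl
    rw [h2, h0, map_zero]
  obtain ⟨wT, hwT, hwz⟩ := forall_ker_of_flat_localized' (N := (S₀ ⊗[R₀] T) ⊗[S₀] M₀)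
    (N' := LocalizedModule (q'.comap (SM S₀ φ)).primeCompl ((S₀ ⊗[R₀] T) ⊗[S₀] M₀))
    (S₀ ⊗[R₀] T) (q'.comap (SM S₀ φ)).primeCompl
    (LocalizedModule.mkLinearMap (q'.comap (SM S₀ φ)).primeCompl ((S₀ ⊗[R₀] T) ⊗[S₀] M₀))
    (J.subtype.restrictScalars T) (Submodule.injective_subtype J) _ hzT
  refine ⟨SM S₀ φ wT, hwT, ?_⟩
  rw [smul_Psi] at hwz ⊢
  have h1 := (LinearEquiv.map_eq_zero_iff _).1 hwz
  have h2 := act_natural R₀ S₀ M₀ φ (LinearMap.id : J →ₗ[R₀] J) (fun t x => by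
    rw [LinearMap.id_apply, LinearMap.id_apply, hφ, algebraMap_smul]) wT z₀
  rw [LinearMap.lTensor_id, LinearMap.id_apply, LinearMap.id_apply] at h2
  rw [← h2, h1, map_zero]

/-- Openness of the flat locus for the base change of Noetherian data to an arbitrary ring. -/
theorem isOpen_flatLocus_baseChange :
    IsOpen {q : PrimeSpectrum (S₀ ⊗[R₀] R) |
      Module.Flat R (LocalizedModule q.asIdeal.primeCompl ((S₀ ⊗[R₀] R) ⊗[S₀] M₀))} := by
  rw [isOpen_iff_forall_mem_open]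
  intro q hq
  obtain ⟨T, hTfg, hT⟩ := exists_stage_flat R₀ S₀ M₀ R q.asIdeal hq
  haveI : Algebra.FiniteType R₀ T := (Subalgebra.fg_iff_finiteType T).1 hTfg
  haveI : IsNoetherianRing T := Algebra.FiniteType.isNoetherianRing R₀ T
  haveI : Algebra.FiniteType T (S₀ ⊗[R₀] T) := FlatOpenB.finiteType_right R₀ S₀ T
  have hopen := FlatOpenB.isOpen_flatLocus T (S₀ ⊗[R₀] T) ((S₀ ⊗[R₀] T) ⊗[S₀] M₀)
  refine ⟨PrimeSpectrum.comap (SM S₀ T.val).toRingHom ⁻¹' _, ?_,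
    hopen.preimage (PrimeSpectrum.continuous_comap _), ?_⟩
  · intro q' hq'
    exact flat_of_stage_flat R₀ S₀ M₀ R T T.val (fun t => rfl) q'.asIdeal hq'
  · exact hT

end Main

end Groth.Agent.Lib.Helper54.FlatStage5
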