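/-
helper54: the local criterion of flatness, nilpotent layer: flatness can be tested after an
injective base change `R → R'` modulo a nilpotent ideal.
-/
import Groth.Agent.Lib.Helper54.LocalFlat2

set_option autoImplicit false
set_option maxHeartbeats 400000

namespace Groth.Agent.Lib.Helper54.LocalFlat

open TensorProduct Function

section BaseChange

variable {R : Type*} [CommRing R] (M : Type*) [AddCommGroup M] [Module R M]

/-- If `A ⊗[R] M` is flat over `A`, then `- ⊗[R] M` preserves injective `A`-linear maps. -/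
theorem rTensor_injective_of_flat_baseChange (A : Type*) [CommRing A] [Algebra R A]
    [Module.Flat A (A ⊗[R] M)]
    {N' N : Type*} [AddCommGroup N'] [Module R N'] [Module A N'] [IsScalarTower R A N']
    [AddCommGroup N] [Module R N] [Module A N] [IsScalarTower R A N]
    (f : N' →ₗ[A] N) (hf : Injective f) : Injective ((f.restrictScalars R).rTensor M) := by
  have key : Injective (f.rTensor (A ⊗[R] M)) :=
    Module.Flat.rTensor_preserves_injective_linearMap f hf
  intro x y hxy
  have h1 : AlgebraTensorModule.cancelBaseChange R A A N M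
        (f.rTensor (A ⊗[R] M) ((AlgebraTensorModule.cancelBaseChange R A A N' M).symm x)) =
      AlgebraTensorModule.cancelBaseChange R A A N M
        (f.rTensor (A ⊗[R] M) ((AlgebraTensorModule.cancelBaseChange R A A N' M).symm y)) := by
    rw [← cancel_comm', ← cancel_comm', LinearEquiv.apply_symm_apply, LinearEquiv.apply_symm_apply]
    exact hxy
  exact (AlgebraTensorModule.cancelBaseChange R A A N' M).symm.injective
    (key ((AlgebraTensorModule.cancelBaseChange R A A N M).injective h1))

/-- If `M ⧸ I M` is flat over `R ⧸ I`, then `- ⊗[R] M` preserves injective maps between modules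
killed by `I`. -/
theorem rTensor_injective_of_torsion (I : Ideal R) [Module.Flat (R ⧸ I) ((R ⧸ I) ⊗[R] M)]
    {N' N : Type*} [AddCommGroup N'] [Module R N'] [AddCommGroup N] [Module R N]
    (f : N' →ₗ[R] N) (hf : Injective f)
    (hN' : ∀ a ∈ I, ∀ x : N', a • x = 0) (hN : ∀ a ∈ I, ∀ x : N, a • x = 0) :
    Injective (f.rTensor M) := by
  have ht' : Module.IsTorsionBySet R N' (I : Set R) := fun x a => hN' a.1 a.2 x
  have ht : Module.IsTorsionBySet R N (I : Set R) := fun x a => hN a.1 a.2 x
  let _ : Module (R ⧸ I) N' := ht'.module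
  let _ : Module (R ⧸ I) N := ht.module
  have : IsScalarTower R (R ⧸ I) N' := ht'.isScalarTower
  have : IsScalarTower R (R ⧸ I) N := ht.isScalarTower
  let g : N' →ₗ[R ⧸ I] N :=
    { toFun := f
      map_add' := f.map_add
      map_smul' := by
        intro r x
        obtain ⟨s, rfl⟩ := Ideal.Quotient.mk_surjective r
        have e1 : (Ideal.Quotient.mk I s) • x = s • x :=
          algebraMap_smul (R := R) (R ⧸ I) s x
        have e2 : (Ideal.Quotient.mk I s) • f x = s • f x :=
          algebraMap_smul (R := R) (R ⧸ I) s (f x)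
        change f ((Ideal.Quotient.mk I s) • x) = (Ideal.Quotient.mk I s) • f x
        rw [e1, e2]
        exact f.map_smul s x }
  have hg : Injective g := hf
  have key := rTensor_injective_of_flat_baseChange (R := R) M (R ⧸ I) g hg
  have e : g.restrictScalars R = f := LinearMap.ext fun _ => rfl
  rw [e] at key
  exact key

end BaseChange

section Four

variable {R : Type*} [CommRing R] (M : Type*) [AddCommGroup M] [Module R M]
variable {A₁ A A₂ B₁ B B₂ : Type*} [AddCommGroup A₁] [AddCommGroup A] [AddCommGroup A₂]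
  [AddCommGroup B₁] [AddCommGroup B] [AddCommGroup B₂]
  [Module R A₁] [Module R A] [Module R A₂] [Module R B₁] [Module R B] [Module R B₂]

/-- A four-lemma for `- ⊗ M`. -/
theorem four_rTensor (a₁ : A₁ →ₗ[R] A) (a₂ : A →ₗ[R] A₂) (b₁ : B₁ →ₗ[R] B) (b₂ : B →ₗ[R] B₂)
    (φ₁ : A₁ →ₗ[R] B₁) (φ : A →ₗ[R] B) (φ₂ : A₂ →ₗ[R] B₂)
    (ha : Exact a₁ a₂) (ha₂ : Surjective a₂)
    (c₁ : φ ∘ₗ a₁ = b₁ ∘ₗ φ₁) (c₂ : φ₂ ∘ₗ a₂ = b₂ ∘ₗ φ)
    (h₁ : Injective (φ₁.rTensor M)) (h₂ : Injective (φ₂.rTensor M))
    (hb : Injective (b₁.rTensor M)) : Injective (φ.rTensor M) := by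
  rw [injective_iff_map_eq_zero]
  intro x hx
  have e1 : a₂.rTensor M x = 0 := by
    apply h₂
    rw [map_zero, ← LinearMap.comp_apply, ← LinearMap.rTensor_comp, c₂, LinearMap.rTensor_comp,
      LinearMap.comp_apply, hx, map_zero]
  obtain ⟨y, rfl⟩ := (rTensor_exact M ha ha₂ x).1 e1
  have e2 : φ₁.rTensor M y = 0 := by
    apply hb
    rw [map_zero, ← LinearMap.comp_apply, ← LinearMap.rTensor_comp, ← c₁, LinearMap.rTensor_comp,
      LinearMap.comp_apply, hx]
  rw [h₁ (e2.trans (map_zero _).symm), map_zero]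

end Four

section Algebra

variable {R : Type*} [CommRing R] (I : Ideal R) (M : Type*) [AddCommGroup M] [Module R M]
  (R' : Type*) [CommRing R'] [Algebra R R']

omit [AddCommGroup M] [Module R M] in
theorem map_pow_smul_eq_zero {N' : Type*} [AddCommGroup N'] [Module R N'] [Module R' N']
    [IsScalarTower R R' N'] (k : ℕ) (h : ∀ a ∈ I ^ k, ∀ x : N', a • x = 0) :
    ∀ c ∈ (I ^ k).map (algebraMap R R'), ∀ y : N', c • y = 0 := by
  intro c hc y
  refine Submodule.span_induction (p := fun c _ => c • y = 0) ?_ ?_ ?_ ?_ hc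
  · rintro _ ⟨a, ha, rfl⟩
    rw [algebraMap_smul]
    exact h a ha y
  · exact zero_smul _ _
  · intro c d _ _ hc hd
    rw [add_smul, hc, hd, add_zero]
  · intro r c _ hc
    rw [smul_eq_mul, mul_smul, hc, smul_zero]

/-- If `M ⧸ I M` is flat over `R ⧸ I` and `R' ⊗ M` is flat over `R'`, then `- ⊗[R] M` preserves
the injectivity of `R`-linear maps `N → N'` into `R'`-modules killed by a power of `I`. -/
theorem rTensor_injective_of_algebra [Module.Flat (R ⧸ I) ((R ⧸ I) ⊗[R] M)]
    [Module.Flat R' (R' ⊗[R] M)] (m : ℕ) :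
    ∀ (N' : Type*) [AddCommGroup N'] [Module R N'] [Module R' N'] [IsScalarTower R R' N']
      (N : Type*) [AddCommGroup N] [Module R N] (j : N →ₗ[R] N'), Injective j →
      (∀ a ∈ I ^ m, ∀ x : N', a • x = 0) → Injective (j.rTensor M) := by
  induction m with
  | zero =>
    intro N' _ _ _ _ N _ _ j hj hN'
    have h1 : Subsingleton N' := ⟨fun x y => by
      have hx := hN' 1 (by simp) x
      have hy := hN' 1 (by simp) y
      rw [one_smul] at hx hy
      rw [hx, hy]⟩
    have h2 : Subsingleton N := hj.subsingleton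
    have : Subsingleton (N ⊗[R] M) := inferInstance
    exact injective_of_subsingleton _
  | succ m ih =>
    intro N' _ _ _ _ N _ _ j hj hN'
    let N'₁ : Submodule R' N' := (I.map (algebraMap R R')) • (⊤ : Submodule R' N')
    let N₁ : Submodule R N := (N'₁.restrictScalars R).comap j
    let j₁ : N₁ →ₗ[R] N'₁ :=
      { toFun := fun x => ⟨j x.1, x.2⟩
        map_add' := fun x y => Subtype.ext (by simp)
        map_smul' := fun r x => Subtype.ext (by simp) }
    have hj₁ : Injective j₁ := by
      intro x y hxy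
      apply Subtype.ext
      apply hj
      exact congrArg Subtype.val hxy
    -- `N'₁` is killed by `I ^ m`
    have hk : ∀ a ∈ I ^ m, ∀ x : N'₁, a • x = 0 := by
      intro a ha x
      apply Subtype.ext
      rw [Submodule.coe_smul_of_tower, Submodule.coe_zero]
      have hx := x.2
      refine Submodule.smul_induction_on hx ?_ ?_
      · intro b hb y _
        rw [← algebraMap_smul R' a (b • y), smul_smul]
        apply map_pow_smul_eq_zero I R' (m + 1) hN'
        rw [pow_succ, Ideal.map_mul]
        exact Ideal.mul_mem_mul (Ideal.mem_map_of_mem _ ha) hb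
      · intro y z hy hz
        rw [smul_add, hy, hz, add_zero]
    have ih₁ := ih N'₁ N₁ j₁ hj₁ hk
    -- the quotients
    let q' : N' →ₗ[R] N' ⧸ N'₁ := N'₁.mkQ.restrictScalars R
    have hq' : ∀ x, q' x = 0 ↔ x ∈ N'₁ := fun x => Submodule.Quotient.mk_eq_zero N'₁
    have hle : N₁ ≤ LinearMap.ker (q' ∘ₗ j) := by
      intro x hx
      rw [LinearMap.mem_ker, LinearMap.comp_apply, hq']
      exact hx
    let j₂ : N ⧸ N₁ →ₗ[R] N' ⧸ N'₁ := N₁.liftQ (q' ∘ₗ j) hle
    have hj₂ : Injective j₂ := by
      rw [← LinearMap.ker_eq_bot]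
      apply Submodule.ker_liftQ_eq_bot
      intro x hx
      rw [LinearMap.mem_ker, LinearMap.comp_apply, hq'] at hx
      exact hx
    have hmem : ∀ a ∈ I, ∀ y : N', a • y ∈ N'₁ := by
      intro a ha y
      rw [← algebraMap_smul R' a y]
      exact Submodule.smul_mem_smul (Ideal.mem_map_of_mem _ ha) Submodule.mem_top
    have hkN : ∀ a ∈ I, ∀ x : N ⧸ N₁, a • x = 0 := by
      intro a ha x
      obtain ⟨n, rfl⟩ := Submodule.Quotient.mk_surjective _ x
      rw [← Submodule.Quotient.mk_smul, Submodule.Quotient.mk_eq_zero]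
      change j (a • n) ∈ N'₁
      rw [map_smul]
      exact hmem a ha _
    have hkN' : ∀ a ∈ I, ∀ x : N' ⧸ N'₁, a • x = 0 := by
      intro a ha x
      obtain ⟨n, rfl⟩ := Submodule.Quotient.mk_surjective _ x
      rw [← Submodule.Quotient.mk_smul, Submodule.Quotient.mk_eq_zero]
      exact hmem a ha _
    have h₂ := rTensor_injective_of_torsion (R := R) M I j₂ hj₂ hkN hkN'
    have hb := rTensor_injective_of_flat_baseChange (R := R) M R' N'₁.subtype
      (Submodule.injective_subtype _)
    have hex : Exact N₁.subtype N₁.mkQ := LinearMap.exact_subtype_mkQ _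
    have c₁ : j ∘ₗ N₁.subtype = (N'₁.subtype.restrictScalars R) ∘ₗ j₁ := LinearMap.ext fun _ => rfl
    have c₂ : j₂ ∘ₗ N₁.mkQ = q' ∘ₗ j := LinearMap.ext fun _ => rfl
    have f0 := four_rTensor (R := R) M (A₁ := N₁) (A := N) (A₂ := N ⧸ N₁) (B₁ := N'₁) (B := N')
      (B₂ := N' ⧸ N'₁) N₁.subtype N₁.mkQ (N'₁.subtype.restrictScalars R) q' j₁ j j₂
    have f1 := f0 hex (Submodule.mkQ_surjective _) c₁ c₂
    exact f1 ih₁ h₂ hb

/-- Let `R → R'` be an injective ring map, `I ⊆ R` a nilpotent ideal and `M` an `R`-module. Then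
flatness of `M` over `R` follows from flatness of `M ⧸ I M` over `R ⧸ I` together with flatness of
`R' ⊗ M` over `R'`. -/
theorem flat_of_injective_algebraMap (hinj : Injective (algebraMap R R')) (hI : IsNilpotent I)
    [Module.Flat (R ⧸ I) ((R ⧸ I) ⊗[R] M)] [Module.Flat R' (R' ⊗[R] M)] : Module.Flat R M := by
  obtain ⟨m, hm⟩ := hI
  rw [Module.Flat.iff_rTensor_injective']
  intro J
  -- `J ⊗ M → R' ⊗ M` is injective and factors through `J ⊗ M → R ⊗ M`
  have h0 : ∀ a ∈ I ^ m, ∀ x : R', a • x = 0 := by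
    intro a ha x
    rw [hm] at ha
    have : a = 0 := ha
    rw [this, zero_smul]
  have key := rTensor_injective_of_algebra I M R' m R' J
    ((Algebra.linearMap R R') ∘ₗ J.subtype)
    (hinj.comp (Submodule.injective_subtype _)) h0
  rw [LinearMap.rTensor_comp] at key
  exact Function.Injective.of_comp key

end Algebra

end Groth.Agent.Lib.Helper54.LocalFlat
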