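/-
helper54: flatness criterion for an element `f` regular on `A` and `M`:
`M_f` flat over `A_f` and `M ⧸ f M` flat over `A ⧸ f` imply `M` flat (Tor-free proof).
-/
import Groth.Agent.Lib.Helper54.LocalFlat3
import Mathlib.RingTheory.Localization.BaseChange
import Mathlib.RingTheory.TensorProduct.Finite
import Mathlib.RingTheory.Flat.Localization

set_option autoImplicit false
set_option maxHeartbeats 400000

namespace Groth.Agent.Lib.Helper54.LocalFlat

open TensorProduct Function

section General

variable {R : Type*} [CommRing R]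
variable {K F M : Type*} [AddCommGroup K] [AddCommGroup F] [AddCommGroup M]
  [Module R K] [Module R F] [Module R M]

/-- "`Tor₁(N, M) = 0`" for modules `N` over an `R`-algebra `L`, when `L ⊗ M` is flat over `L` and
"`Tor₁(L, M) = 0`". -/
theorem lTensor_injective_of_module_algebra (L : Type*) [CommRing L] [Algebra R L]
    (ι : K →ₗ[R] F) (π : F →ₗ[R] M) (hex : Exact ι π) (hπ : Surjective π)
    [Module.Flat L (L ⊗[R] M)] (h0 : Injective (ι.lTensor L))
    (N : Type*) [AddCommGroup N] [Module R N] [Module L N] [IsScalarTower R L N] :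
    Injective (ι.lTensor N) := by
  have hinj : Injective (ι.baseChange L) := h0
  have hexb : Exact (ι.baseChange L) (π.baseChange L) := lTensor_exact L hex hπ
  have hsurj : Surjective (π.baseChange L) := LinearMap.lTensor_surjective L hπ
  have key := LinearMap.lTensor_injective_of_exact_of_flat (π.baseChange L) hsurj
    (ι.baseChange L) hinj hexb N
  intro x y hxy
  have h1 : (AlgebraTensorModule.cancelBaseChange R L L N F)
      (((ι.baseChange L).lTensor N)
        ((AlgebraTensorModule.cancelBaseChange R L L N K).symm x)) =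
      (AlgebraTensorModule.cancelBaseChange R L L N F)
      (((ι.baseChange L).lTensor N)
        ((AlgebraTensorModule.cancelBaseChange R L L N K).symm y)) := by
    rw [← cancel_comm, ← cancel_comm, LinearEquiv.apply_symm_apply, LinearEquiv.apply_symm_apply]
    exact hxy
  exact (AlgebraTensorModule.cancelBaseChange R L L N K).symm.injective
    (key ((AlgebraTensorModule.cancelBaseChange R L L N F).injective h1))

/-- The kernel of a surjection of flat modules is flat, if it is "`Tor`-independent" (here: over
any ring, `0 → K → F → M → 0` exact with `F`, `M` flat implies `K` flat). -/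
theorem flat_of_exact_of_flat_of_flat (ι : K →ₗ[R] F) (π : F →ₗ[R] M)
    (hι : Injective ι) (hex : Exact ι π) (hπ : Surjective π) [Module.Flat R F] [Module.Flat R M] :
    Module.Flat R K := by
  rw [Module.Flat.iff_rTensor_preserves_injective_linearMap]
  intro N' N _ _ _ _ g hg
  rw [injective_iff_map_eq_zero]
  intro x hx
  have h1 : Injective (ι.lTensor N') :=
    LinearMap.lTensor_injective_of_exact_of_flat π hπ ι hι hex N'
  have h2 : Injective (g.rTensor F) := Module.Flat.rTensor_preserves_injective_linearMap g hg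
  apply h1
  apply h2
  rw [map_zero, map_zero, ← comm_sq, hx, map_zero]

/-- Base change of the syzygy: if `0 → K → F → M → 0` is exact with `F` flat, stays left exact
after `L ⊗ -`, and `L ⊗ M` is flat over `L`, then `L ⊗ K` is flat over `L`. -/
theorem flat_baseChange_syzygy (L : Type*) [CommRing L] [Algebra R L]
    (ι : K →ₗ[R] F) (π : F →ₗ[R] M) (hex : Exact ι π) (hπ : Surjective π)
    [Module.Flat R F] [Module.Flat L (L ⊗[R] M)] (h0 : Injective (ι.lTensor L)) :
    Module.Flat L (L ⊗[R] K) := by
  have hinj : Injective (ι.baseChange L) := h0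
  have hexb : Exact (ι.baseChange L) (π.baseChange L) := lTensor_exact L hex hπ
  have hsurj : Surjective (π.baseChange L) := LinearMap.lTensor_surjective L hπ
  exact flat_of_exact_of_flat_of_flat (ι.baseChange L) (π.baseChange L) hinj hexb hsurj

end General

section Regular

variable {A : Type*} [CommRing A] (f : A) (M : Type*) [AddCommGroup M] [Module A M]

/-- If `f` is regular on `A` and on `M`, then `(f) ⊗ M → M` is injective. -/
theorem rTensor_injective_span_singleton
    (hM : ∀ x : M, f • x = 0 → x = 0) :
    Injective ((Ideal.span {f}).subtype.rTensor M) := by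
  let g : A →ₗ[A] ↥(Ideal.span {f}) :=
    LinearMap.codRestrict (Ideal.span {f}) (LinearMap.mulRight A f)
      (fun x => Ideal.mem_span_singleton'.2 ⟨x, rfl⟩)
  have hg : Surjective g := by
    rintro ⟨y, hy⟩
    obtain ⟨a, rfl⟩ := Ideal.mem_span_singleton'.1 hy
    exact ⟨a, rfl⟩
  rw [injective_iff_map_eq_zero]
  intro y hy
  obtain ⟨z, rfl⟩ := LinearMap.rTensor_surjective M hg y
  rw [← LinearMap.comp_apply, ← LinearMap.rTensor_comp] at hy
  have e : (Ideal.span {f}).subtype ∘ₗ g = f • LinearMap.id := by
    ext
    simp [g]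
  rw [e, LinearMap.rTensor_smul, LinearMap.rTensor_id, LinearMap.smul_apply,
    LinearMap.id_apply] at hy
  have hz : z = 0 := by
    apply (TensorProduct.lid A M).injective
    rw [map_zero]
    apply hM
    rw [← map_smul, hy, map_zero]
  rw [hz, map_zero]

end Regular

section Main

universe u v

variable {A : Type u} [CommRing A] (f : A) (M : Type v) [AddCommGroup M] [Module A M]

/-- "`Tor₁(N, M) = 0`" for `N` killed by a power of `f`. -/
theorem tor_bounded (hM : ∀ x : M, f • x = 0 → x = 0)
    [Module.Flat (A ⧸ Ideal.span {f}) ((A ⧸ Ideal.span {f}) ⊗[A] M)] (n : ℕ)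
    (N : Type*) [AddCommGroup N] [Module A N] (hN : ∀ x : N, f ^ n • x = 0) :
    Injective ((presι (R := A) M).lTensor N) := by
  have h0 := tor_quotient_of_rTensor_injective (Ideal.span {f}) M
    (rTensor_injective_span_singleton f M hM)
  have hkill : ∀ a ∈ (Ideal.span {f}) ^ n, ∀ x : N, a • x = 0 := by
    intro a ha x
    rw [Ideal.span_singleton_pow] at ha
    obtain ⟨b, rfl⟩ := Ideal.mem_span_singleton'.1 ha
    rw [mul_smul, hN, smul_zero]
  have b0 := lTensor_injective_of_pow_smul_eq_zero (R := A)
      (K := ↥(LinearMap.ker (presπ (R := A) M))) (F := M →₀ A) (M := M) (Ideal.span {f})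
      (presι M) (presπ M)
  have b1 := b0 (pres_exact M) (presπ_surjective M)
  have b2 := b1 h0 n
  exact b2 N hkill

/-- "`Tor₁(N, M) = 0`" for `N` consisting of `f`-power torsion elements. -/
theorem tor_torsion (hM : ∀ x : M, f • x = 0 → x = 0)
    [Module.Flat (A ⧸ Ideal.span {f}) ((A ⧸ Ideal.span {f}) ⊗[A] M)]
    (N : Type*) [AddCommGroup N] [Module A N] (hN : ∀ x : N, ∃ n : ℕ, f ^ n • x = 0) :
    Injective ((presι (R := A) M).lTensor N) := by
  classical
  rw [injective_iff_map_eq_zero]
  intro x hx
  obtain ⟨J, hJ, y, rfl⟩ := Submodule.exists_fg_le_eq_rTensor_subtype x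
  -- `J` is killed by a power of `f`
  obtain ⟨S, hS⟩ := hJ
  choose e he using hN
  have hJn : ∀ z : J, f ^ (S.sup e) • z = 0 := by
    intro z
    apply Subtype.ext
    rw [Submodule.coe_smul, Submodule.coe_zero]
    have hz : z.1 ∈ Submodule.span A (S : Set N) := hS ▸ z.2
    refine Submodule.span_induction (p := fun z _ => f ^ (S.sup e) • z = 0) ?_ ?_ ?_ ?_ hz
    · intro s hs
      have hle : e s ≤ S.sup e := Finset.le_sup hs
      obtain ⟨k, hk⟩ := Nat.exists_eq_add_of_le hle
      rw [hk, pow_add, mul_comm, mul_smul, he, smul_zero]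
    · exact smul_zero _
    · intro a b _ _ ha hb
      rw [smul_add, ha, hb, add_zero]
    · intro a b _ hb
      rw [smul_comm, hb, smul_zero]
  have hTJ := tor_bounded f M hM (S.sup e) J hJn
  have hy : (presι (R := A) M).lTensor J y = 0 := by
    have hfl : Injective (J.subtype.rTensor (M →₀ A)) :=
      Module.Flat.rTensor_preserves_injective_linearMap _ (Submodule.injective_subtype _)
    apply hfl
    rw [map_zero, ← comm_sq]
    exact hx
  rw [hTJ (hy.trans (map_zero _).symm), map_zero]

/-- "`Tor₁(P, M) = 0`" for modules `P` over the localization `A_f`. -/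
theorem tor_localization
    [Module.Flat (Localization.Away f) (Localization.Away f ⊗[A] M)]
    (P : Type*) [AddCommGroup P] [Module A P] [Module (Localization.Away f) P]
    [IsScalarTower A (Localization.Away f) P] :
    Injective ((presι (R := A) M).lTensor P) := by
  have h0 : Injective ((presι (R := A) M).lTensor (Localization.Away f)) :=
    Module.Flat.lTensor_preserves_injective_linearMap _ (Submodule.injective_subtype _)
  have b0 := lTensor_injective_of_module_algebra (R := A)
      (K := ↥(LinearMap.ker (presπ (R := A) M))) (F := M →₀ A) (M := M) (Localization.Away f)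
      (presι M) (presπ M)
  have b1 := b0 (pres_exact M) (presπ_surjective M) h0
  exact b1 P

omit [AddCommGroup M] [Module A M] in
/-- The assocator sends `(1 ⊗ n) ⊗ k` to `1 ⊗ (n ⊗ k)`. -/
theorem assoc_mk_rTensor (L : Type*) [CommRing L] [Algebra A L]
    {N K : Type*} [AddCommMonoid N] [Module A N] [AddCommMonoid K] [Module A K] (x : N ⊗[A] K) :
    TensorProduct.assoc A L N K ((TensorProduct.mk A L N 1).rTensor K x) = (1 : L) ⊗ₜ[A] x := by
  induction x using TensorProduct.induction_on with
  | zero => simp
  | tmul n k => simp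
  | add x y hx hy => rw [map_add, map_add, hx, hy, tmul_add]

/-- The syzygy module of `M` inherits the hypotheses. -/
theorem flat_quotient_syzygy (hM : ∀ x : M, f • x = 0 → x = 0)
    [Module.Flat (A ⧸ Ideal.span {f}) ((A ⧸ Ideal.span {f}) ⊗[A] M)] :
    Module.Flat (A ⧸ Ideal.span {f})
      ((A ⧸ Ideal.span {f}) ⊗[A] ↥(LinearMap.ker (presπ (R := A) M))) := by
  have h0 := tor_quotient_of_rTensor_injective (Ideal.span {f}) M
    (rTensor_injective_span_singleton f M hM)
  have a0 := flat_baseChange_syzygy (R := A)
    (K := ↥(LinearMap.ker (presπ (R := A) M))) (F := M →₀ A) (M := M) (A ⧸ Ideal.span {f})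
    (presι M) (presπ M)
  have a1 := a0 (pres_exact M) (presπ_surjective M)
  exact a1 h0

/-- "`Tor₁(N, M) = 0`" for `f`-torsion-free `N`. -/
theorem tor_torsionFree (hA : f ∈ nonZeroDivisors A) (hM : ∀ x : M, f • x = 0 → x = 0)
    [Module.Flat (A ⧸ Ideal.span {f}) ((A ⧸ Ideal.span {f}) ⊗[A] M)]
    [Module.Flat (Localization.Away f) (Localization.Away f ⊗[A] M)]
    (N : Type*) [AddCommGroup N] [Module A N] (hN : ∀ x : N, f • x = 0 → x = 0) :
    Injective ((presι (R := A) M).lTensor N) := by
  rw [injective_iff_map_eq_zero]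
  intro x hx
  -- `x` dies in the localization
  have h1 : (TensorProduct.mk A (Localization.Away f) N 1).rTensor _ x = 0 := by
    apply tor_localization f M (Localization.Away f ⊗[A] N)
    rw [map_zero, comm_sq, hx, map_zero]
  have h2 : ((1 : Localization.Away f) ⊗ₜ[A] x :
      Localization.Away f ⊗[A] (N ⊗[A] ↥(LinearMap.ker (presπ (R := A) M)))) = 0 := by
    have h3 := assoc_mk_rTensor (A := A) (Localization.Away f) x
    rw [h1, map_zero] at h3
    exact h3.symm
  obtain ⟨⟨c, n, rfl⟩, hc⟩ := (IsLocalizedModule.eq_zero_iff (Submonoid.powers f)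
    (TensorProduct.mk A (Localization.Away f)
      (N ⊗[A] ↥(LinearMap.ker (presπ (R := A) M))) 1)).1 h2
  change f ^ n • x = 0 at hc
  -- multiplication by `f ^ n` is injective on `N ⊗ K`
  have hK : ∀ k : ↥(LinearMap.ker (presπ (R := A) M)), f • k = 0 → k = 0 := by
    intro k hk
    apply Subtype.ext
    ext m
    have h3 : f * (k : M →₀ A) m = 0 := by
      have := congrArg (fun t : ↥(LinearMap.ker (presπ (R := A) M)) => (t : M →₀ A) m) hk
      simpa using this
    exact (mem_nonZeroDivisors_iff_left.1 hA) _ h3
  haveI := flat_quotient_syzygy f M hM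
  have hμ : Injective ((f ^ n • LinearMap.id : N →ₗ[A] N)) := by
    intro a b hab
    have h4 : f ^ n • (a - b) = 0 := by
      have : f ^ n • a = f ^ n • b := hab
      rw [smul_sub, this, sub_self]
    have h5 : ∀ (k : ℕ) (z : N), f ^ k • z = 0 → z = 0 := by
      intro k
      induction k with
      | zero => intro z hz; simpa using hz
      | succ k ih =>
        intro z hz
        rw [pow_succ, mul_smul] at hz
        exact hN z (ih _ hz)
    exact sub_eq_zero.1 (h5 n _ h4)
  have key := rTensor_injective_of_cokernel_torsion (Ideal.span {f})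
    ↥(LinearMap.ker (presπ (R := A) M)) (rTensor_injective_span_singleton f _ hK) n
    (f ^ n • LinearMap.id : N →ₗ[A] N) hμ (by
      intro a ha z
      rw [Ideal.span_singleton_pow] at ha
      obtain ⟨b, rfl⟩ := Ideal.mem_span_singleton'.1 ha
      exact ⟨b • z, by rw [LinearMap.smul_apply, LinearMap.id_apply, smul_smul, mul_comm]⟩)
  apply key
  rw [map_zero, LinearMap.rTensor_smul, LinearMap.rTensor_id, LinearMap.smul_apply,
    LinearMap.id_apply]
  exact hc

/-- "`Tor₁(N, M) = 0`" for all `N`. -/
theorem tor_all (hA : f ∈ nonZeroDivisors A) (hM : ∀ x : M, f • x = 0 → x = 0)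
    [Module.Flat (A ⧸ Ideal.span {f}) ((A ⧸ Ideal.span {f}) ⊗[A] M)]
    [Module.Flat (Localization.Away f) (Localization.Away f ⊗[A] M)]
    (N : Type*) [AddCommGroup N] [Module A N] :
    Injective ((presι (R := A) M).lTensor N) := by
  let T : Submodule A N := Submodule.torsion' A N (Submonoid.powers f)
  have hT : Injective ((presι (R := A) M).lTensor T) := by
    apply tor_torsion f M hM
    rintro ⟨x, ⟨c, n, rfl⟩, hc⟩
    refine ⟨n, Subtype.ext ?_⟩
    exact hc
  have hQ : Injective ((presι (R := A) M).lTensor (N ⧸ T)) := by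
    apply tor_torsionFree f M hA hM
    intro x hx
    obtain ⟨z, rfl⟩ := Submodule.Quotient.mk_surjective _ x
    rw [← Submodule.Quotient.mk_smul, Submodule.Quotient.mk_eq_zero] at hx
    obtain ⟨⟨c, n, rfl⟩, hc⟩ := hx
    rw [Submodule.Quotient.mk_eq_zero]
    refine ⟨⟨f ^ (n + 1), n + 1, rfl⟩, ?_⟩
    change f ^ (n + 1) • z = 0
    rw [pow_succ, mul_smul]
    exact hc
  have hfF : Injective (T.subtype.rTensor (M →₀ A)) :=
    Module.Flat.rTensor_preserves_injective_linearMap _ (Submodule.injective_subtype _)
  have hex : Exact T.subtype T.mkQ := LinearMap.exact_subtype_mkQ _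
  have a0 := lTensor_injective_of_exact (R := A)
    (K := ↥(LinearMap.ker (presπ (R := A) M))) (F := M →₀ A)
    (N' := T) (N := N) (N'' := N ⧸ T) (presι M) T.subtype T.mkQ
  have a1 := a0 hfF hex (Submodule.mkQ_surjective _)
  exact a1 hT hQ

/-- Let `f` be regular on `A` and on `M`. If `M ⧸ f M` is flat over `A ⧸ f` and `M_f` is flat
over `A_f`, then `M` is flat over `A`. -/
theorem flat_of_regular (hA : f ∈ nonZeroDivisors A) (hM : ∀ x : M, f • x = 0 → x = 0)
    [Module.Flat (A ⧸ Ideal.span {f}) ((A ⧸ Ideal.span {f}) ⊗[A] M)]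
    [Module.Flat (Localization.Away f) (Localization.Away f ⊗[A] M)] : Module.Flat A M := by
  rw [Module.Flat.iff_rTensor_injective']
  intro J
  have h'' := tor_all f M hA hM (A ⧸ J)
  have hfF : Injective (J.subtype.rTensor (M →₀ A)) :=
    Module.Flat.rTensor_preserves_injective_linearMap _ (Submodule.injective_subtype _)
  have hex : Exact J.subtype J.mkQ := LinearMap.exact_subtype_mkQ _
  have a0 := rTensor_injective_of_lTensor_injective (R := A)
    (K := ↥(LinearMap.ker (presπ (R := A) M))) (F := M →₀ A) (M := M)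
    (N' := J) (N := A) (N'' := A ⧸ J) (presι M) (presπ M)
  have a1 := a0 (pres_exact M) (presπ_surjective M)
  have a2 := a1 J.subtype J.mkQ
  have a3 := a2 hfF hex (Submodule.mkQ_surjective _)
  exact a3 h''

end Main

end Groth.Agent.Lib.Helper54.LocalFlat
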