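/-
helper54: the local criterion of flatness, nilpotent layer: flatness can be tested after a finite
jointly injective family of base changes `R → R' i` modulo a nilpotent ideal.
-/
import Groth.Agent.Lib.Helper54.LocalFlat3

set_option autoImplicit false
set_option maxHeartbeats 400000

namespace Groth.Agent.Lib.Helper54.LocalFlat

open TensorProduct Function

section Family

variable {R : Type*} [CommRing R] (I : Ideal R) (M : Type*) [AddCommGroup M] [Module R M]

/-- One step: for a linear map `ψ : N → R'` into an algebra with `R' ⊗ M` flat, every element of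
`N ⊗ M` killed by `ψ ⊗ M` comes from `ker ψ ⊗ M`. -/
theorem mem_range_rTensor_ker (R' : Type*) [CommRing R'] [Algebra R R']
    [Module.Flat (R ⧸ I) ((R ⧸ I) ⊗[R] M)] [Module.Flat R' (R' ⊗[R] M)] (m : ℕ) (hm : I ^ m = ⊥)
    {N : Type*} [AddCommGroup N] [Module R N] (ψ : N →ₗ[R] R') (y : N ⊗[R] M)
    (hy : ψ.rTensor M y = 0) : y ∈ LinearMap.range ((LinearMap.ker ψ).subtype.rTensor M) := by
  have h0 : ∀ a ∈ I ^ m, ∀ x : R', a • x = 0 := by
    intro a ha x
    rw [hm] at ha
    have : a = 0 := ha
    rw [this, zero_smul]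
  let j : (N ⧸ LinearMap.ker ψ) →ₗ[R] R' := (LinearMap.ker ψ).liftQ ψ le_rfl
  have hj : Injective j := by
    rw [← LinearMap.ker_eq_bot]
    exact Submodule.ker_liftQ_eq_bot _ _ _ le_rfl
  have key := rTensor_injective_of_algebra I M R' m R' (N ⧸ LinearMap.ker ψ) j hj h0
  have e : j ∘ₗ (LinearMap.ker ψ).mkQ = ψ := LinearMap.ext fun _ => rfl
  have h1 : (LinearMap.ker ψ).mkQ.rTensor M y = 0 := by
    apply key
    rw [map_zero, ← LinearMap.comp_apply, ← LinearMap.rTensor_comp, e, hy]
  have hex : Exact (LinearMap.ker ψ).subtype (LinearMap.ker ψ).mkQ :=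
    LinearMap.exact_subtype_mkQ _
  obtain ⟨z, hz⟩ := (rTensor_exact M hex (Submodule.mkQ_surjective _) y).1 h1
  exact ⟨z, hz⟩

/-- Let `R → R' i` be a finite, jointly injective family of ring maps, `I ⊆ R` a nilpotent ideal
and `M` an `R`-module. Then flatness of `M` over `R` follows from flatness of `M ⧸ I M` over
`R ⧸ I` together with flatness of `R' i ⊗ M` over `R' i` for all `i`. -/
theorem flat_of_jointly_injective {ι : Type*} [Finite ι] (R' : ι → Type*)
    [∀ i, CommRing (R' i)] [∀ i, Algebra R (R' i)]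
    (hinj : ∀ a : R, (∀ i, algebraMap R (R' i) a = 0) → a = 0) (hI : IsNilpotent I)
    [Module.Flat (R ⧸ I) ((R ⧸ I) ⊗[R] M)] [∀ i, Module.Flat (R' i) (R' i ⊗[R] M)] :
    Module.Flat R M := by
  classical
  obtain ⟨m, hm⟩ := hI
  have : Fintype ι := Fintype.ofFinite ι
  rw [Module.Flat.iff_rTensor_injective']
  intro J
  -- the maps `J → R' i`
  let φ : ∀ i, J →ₗ[R] R' i := fun i => (Algebra.linearMap R (R' i)) ∘ₗ J.subtype
  have claim : ∀ s : Finset ι, ∀ y : J ⊗[R] M, J.subtype.rTensor M y = 0 →
      y ∈ LinearMap.range ((s.inf fun i => LinearMap.ker (φ i)).subtype.rTensor M) := by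
    intro s
    induction s using Finset.induction_on with
    | empty =>
      intro y _
      rw [Finset.inf_empty]
      have hs : Surjective ((⊤ : Submodule R J).subtype) := fun x => ⟨⟨x, Submodule.mem_top⟩, rfl⟩
      exact LinearMap.rTensor_surjective M hs y
    | insert i s hi ih =>
      intro y hy
      obtain ⟨y', rfl⟩ := ih y hy
      -- apply the one-step lemma to `ψ : Q_s → R' i`
      have h1 : ((φ i) ∘ₗ (s.inf fun i => LinearMap.ker (φ i)).subtype).rTensor M y' = 0 := by
        rw [LinearMap.rTensor_comp, LinearMap.comp_apply]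
        change ((Algebra.linearMap R (R' i)) ∘ₗ J.subtype).rTensor M _ = 0
        rw [LinearMap.rTensor_comp, LinearMap.comp_apply, hy, map_zero]
      obtain ⟨y'', rfl⟩ := mem_range_rTensor_ker I M (R' i) m hm _ y' h1
      -- factor through `Q_{insert i s}`
      let θ : LinearMap.ker ((φ i) ∘ₗ (s.inf fun i => LinearMap.ker (φ i)).subtype) →ₗ[R]
          ((insert i s).inf fun i => LinearMap.ker (φ i) : Submodule R J) :=
        LinearMap.codRestrict _ ((s.inf fun i => LinearMap.ker (φ i)).subtype ∘ₗ
          (LinearMap.ker ((φ i) ∘ₗ (s.inf fun i => LinearMap.ker (φ i)).subtype)).subtype) (by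
          intro x
          rw [Finset.inf_insert, Submodule.mem_inf]
          refine ⟨?_, x.1.2⟩
          have := x.2
          rw [LinearMap.mem_ker] at this ⊢
          exact this)
      refine ⟨θ.rTensor M y'', ?_⟩
      rw [← LinearMap.comp_apply, ← LinearMap.rTensor_comp, ← LinearMap.comp_apply,
        ← LinearMap.rTensor_comp]
      rfl
  rw [injective_iff_map_eq_zero]
  intro y hy
  obtain ⟨z, rfl⟩ := claim Finset.univ y hy
  have hbot : (Finset.univ.inf fun i => LinearMap.ker (φ i)) = ⊥ := by
    rw [eq_bot_iff]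
    intro x hx
    rw [Submodule.mem_bot]
    apply Subtype.ext
    rw [Submodule.coe_zero]
    apply hinj
    intro i
    have hle : (Finset.univ.inf fun i => LinearMap.ker (φ i)) ≤ LinearMap.ker (φ i) :=
      Finset.inf_le (Finset.mem_univ i)
    have hx' : x ∈ LinearMap.ker (φ i) := hle hx
    exact hx'
  have hsub : Subsingleton ↥(Finset.univ.inf fun i => LinearMap.ker (φ i)) := by
    rw [hbot]
    infer_instance
  have : Subsingleton (↥(Finset.univ.inf fun i => LinearMap.ker (φ i)) ⊗[R] M) := inferInstance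
  rw [Subsingleton.elim z 0, map_zero]

end Family

end Groth.Agent.Lib.Helper54.LocalFlat
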