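/-
helper54: the local criterion of flatness, nilpotent layer, relative version: flatness of the
base change `S ⊗ M` over an `R`-algebra `S` killed by a power of `I` can be tested on a finite
jointly injective family of `R`-linear maps from `S` to modules over `R`-algebras `R' i` with
`R' i ⊗ M` flat.
-/
import Groth.Agent.Lib.Helper54.LocalFlat4

set_option autoImplicit false
set_option maxHeartbeats 400000

namespace Groth.Agent.Lib.Helper54.LocalFlat

open TensorProduct Function

section Family2

variable {R : Type*} [CommRing R] (I : Ideal R) (M : Type*) [AddCommGroup M] [Module R M]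

/-- One step: for a linear map `ψ : N → N''` into a module over an algebra `R'` with `R' ⊗ M`
flat, killed by a power of `I`, every element of `N ⊗ M` killed by `ψ ⊗ M` comes from
`ker ψ ⊗ M`. -/
theorem mem_range_rTensor_ker' (R' : Type*) [CommRing R'] [Algebra R R']
    [Module.Flat (R ⧸ I) ((R ⧸ I) ⊗[R] M)] [Module.Flat R' (R' ⊗[R] M)] (m : ℕ)
    (N'' : Type*) [AddCommGroup N''] [Module R N''] [Module R' N''] [IsScalarTower R R' N'']
    (h0 : ∀ a ∈ I ^ m, ∀ x : N'', a • x = 0)
    {N : Type*} [AddCommGroup N] [Module R N] (ψ : N →ₗ[R] N'') (y : N ⊗[R] M)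
    (hy : ψ.rTensor M y = 0) : y ∈ LinearMap.range ((LinearMap.ker ψ).subtype.rTensor M) := by
  let j : (N ⧸ LinearMap.ker ψ) →ₗ[R] N'' := (LinearMap.ker ψ).liftQ ψ le_rfl
  have hj : Injective j := by
    rw [← LinearMap.ker_eq_bot]
    exact Submodule.ker_liftQ_eq_bot _ _ _ le_rfl
  have key := rTensor_injective_of_algebra I M R' m N'' (N ⧸ LinearMap.ker ψ) j hj h0
  have e : j ∘ₗ (LinearMap.ker ψ).mkQ = ψ := LinearMap.ext fun _ => rfl
  have h1 : (LinearMap.ker ψ).mkQ.rTensor M y = 0 := by
    apply key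
    rw [map_zero, ← LinearMap.comp_apply, ← LinearMap.rTensor_comp, e, hy]
  have hex : Exact (LinearMap.ker ψ).subtype (LinearMap.ker ψ).mkQ :=
    LinearMap.exact_subtype_mkQ _
  obtain ⟨z, hz⟩ := (rTensor_exact M hex (Submodule.mkQ_surjective _) y).1 h1
  exact ⟨z, hz⟩

/-- Let `R' i` be a finite family of `R`-algebras with `R' i ⊗ M` flat over `R' i`, and let
`M ⧸ I M` be flat over `R ⧸ I`. Let `f : N → P` be an `R`-linear map and `g i : P → N'' i`
linear maps into `R' i`-modules killed by `I ^ m` such that the `g i ∘ f` are jointly injective.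
Then `f ⊗ M` is injective. -/
theorem rTensor_injective_of_jointly_injective {ι : Type*} [Finite ι] (R' : ι → Type*)
    [∀ i, CommRing (R' i)] [∀ i, Algebra R (R' i)]
    [Module.Flat (R ⧸ I) ((R ⧸ I) ⊗[R] M)] [∀ i, Module.Flat (R' i) (R' i ⊗[R] M)]
    (m : ℕ) (N'' : ι → Type*) [∀ i, AddCommGroup (N'' i)] [∀ i, Module R (N'' i)]
    [∀ i, Module (R' i) (N'' i)] [∀ i, IsScalarTower R (R' i) (N'' i)]
    (h0 : ∀ i, ∀ a ∈ I ^ m, ∀ x : N'' i, a • x = 0)
    {N P : Type*} [AddCommGroup N] [Module R N] [AddCommGroup P] [Module R P]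
    (f : N →ₗ[R] P) (g : ∀ i, P →ₗ[R] N'' i)
    (hinj : ∀ x : N, (∀ i, g i (f x) = 0) → x = 0) : Injective (f.rTensor M) := by
  classical
  have : Fintype ι := Fintype.ofFinite ι
  let φ : ∀ i, N →ₗ[R] N'' i := fun i => (g i) ∘ₗ f
  have claim : ∀ s : Finset ι, ∀ y : N ⊗[R] M, f.rTensor M y = 0 →
      y ∈ LinearMap.range ((s.inf fun i => LinearMap.ker (φ i)).subtype.rTensor M) := by
    intro s
    induction s using Finset.induction_on with
    | empty =>
      intro y _
      rw [Finset.inf_empty]
      have hs : Surjective ((⊤ : Submodule R N).subtype) := fun x => ⟨⟨x, Submodule.mem_top⟩, rfl⟩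
      exact LinearMap.rTensor_surjective M hs y
    | insert i s hi ih =>
      intro y hy
      obtain ⟨y', rfl⟩ := ih y hy
      have h1 : ((φ i) ∘ₗ (s.inf fun i => LinearMap.ker (φ i)).subtype).rTensor M y' = 0 := by
        rw [LinearMap.rTensor_comp, LinearMap.comp_apply]
        change ((g i) ∘ₗ f).rTensor M _ = 0
        rw [LinearMap.rTensor_comp, LinearMap.comp_apply, hy, map_zero]
      obtain ⟨y'', rfl⟩ := mem_range_rTensor_ker' I M (R' i) m (N'' i) (h0 i) _ y' h1
      let θ : LinearMap.ker ((φ i) ∘ₗ (s.inf fun i => LinearMap.ker (φ i)).subtype) →ₗ[R]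
          ((insert i s).inf fun i => LinearMap.ker (φ i) : Submodule R N) :=
        LinearMap.codRestrict _ ((s.inf fun i => LinearMap.ker (φ i)).subtype ∘ₗ
          (LinearMap.ker ((φ i) ∘ₗ (s.inf fun i => LinearMap.ker (φ i)).subtype)).subtype) (by
          intro x
          rw [Finset.inf_insert, Submodule.mem_inf]
          refine ⟨?_, x.1.2⟩
          have := x.2
          rw [LinearMap.mem_ker] at this ⊢
          exact this)
      refine ⟨θ.rTensor M y'', ?_⟩
      rw [← LinearMap.comp_apply, ← LinearMap.rTensor_comp, ← LinearMap.comp_apply,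
        ← LinearMap.rTensor_comp]
      rfl
  rw [injective_iff_map_eq_zero]
  intro y hy
  obtain ⟨z, rfl⟩ := claim Finset.univ y hy
  have hbot : (Finset.univ.inf fun i => LinearMap.ker (φ i)) = ⊥ := by
    rw [eq_bot_iff]
    intro x hx
    rw [Submodule.mem_bot]
    apply hinj
    intro i
    have hle : (Finset.univ.inf fun i => LinearMap.ker (φ i)) ≤ LinearMap.ker (φ i) :=
      Finset.inf_le (Finset.mem_univ i)
    have hx' : x ∈ LinearMap.ker (φ i) := hle hx
    exact hx'
  have hsub : Subsingleton ↥(Finset.univ.inf fun i => LinearMap.ker (φ i)) := by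
    rw [hbot]
    infer_instance
  have : Subsingleton (↥(Finset.univ.inf fun i => LinearMap.ker (φ i)) ⊗[R] M) := inferInstance
  rw [Subsingleton.elim z 0, map_zero]

end Family2

section Conv

variable {R : Type*} [CommRing R] (M : Type*) [AddCommGroup M] [Module R M]

open AlgebraTensorModule in
/-- Flatness of a base change `S ⊗ M` over `S` can be tested on the maps `𝔟 ⊗[R] M → S ⊗[R] M`
for the ideals `𝔟` of `S`. -/
theorem flat_baseChange_of_ideal (S : Type*) [CommRing S] [Algebra R S]
    (h : ∀ 𝔟 : Ideal S, Injective ((𝔟.subtype.restrictScalars R).rTensor M)) :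
    Module.Flat S (S ⊗[R] M) := by
  rw [Module.Flat.iff_rTensor_injective']
  intro 𝔟
  rw [injective_iff_map_eq_zero]
  intro x hx
  have h1 := cancel_comm' (R := R) (M := M) S 𝔟.subtype x
  rw [hx, map_zero] at h1
  have h2 := (injective_iff_map_eq_zero _).1 (h 𝔟) _ h1
  exact (cancelBaseChange R S S 𝔟 M).injective (by rw [h2, map_zero])

open AlgebraTensorModule in
/-- Base change in towers: if `S ⊗[R] M` is flat over `S` then `T ⊗[R] M` is flat over `T` for
any `S`-algebra `T`. -/
theorem flat_baseChange_tower (S T : Type*) [CommRing S] [Algebra R S] [CommRing T] [Algebra R T]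
    [Algebra S T] [IsScalarTower R S T] [Module.Flat S (S ⊗[R] M)] :
    Module.Flat T (T ⊗[R] M) :=
  Module.Flat.of_linearEquiv (cancelBaseChange R S T T M).symm

end Conv

section Family3

variable {R : Type*} [CommRing R] (I : Ideal R) (M : Type*) [AddCommGroup M] [Module R M]

/-- Let `R' i` be a finite family of `R`-algebras with `R' i ⊗ M` flat over `R' i`, and let
`M ⧸ I M` be flat over `R ⧸ I`. Let `S` be an `R`-algebra with a jointly injective family of
`R`-linear maps `g i : S → N'' i` into `R' i`-modules killed by `I ^ m`. Then `S ⊗ M` is flat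
over `S`. -/
theorem flat_baseChange_of_jointly_injective {ι : Type*} [Finite ι] (R' : ι → Type*)
    [∀ i, CommRing (R' i)] [∀ i, Algebra R (R' i)]
    [Module.Flat (R ⧸ I) ((R ⧸ I) ⊗[R] M)] [∀ i, Module.Flat (R' i) (R' i ⊗[R] M)]
    (m : ℕ) (N'' : ι → Type*) [∀ i, AddCommGroup (N'' i)] [∀ i, Module R (N'' i)]
    [∀ i, Module (R' i) (N'' i)] [∀ i, IsScalarTower R (R' i) (N'' i)]
    (h0 : ∀ i, ∀ a ∈ I ^ m, ∀ x : N'' i, a • x = 0)
    (S : Type*) [CommRing S] [Algebra R S] (g : ∀ i, S →ₗ[R] N'' i)
    (hinj : ∀ x : S, (∀ i, g i x = 0) → x = 0) : Module.Flat S (S ⊗[R] M) := by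
  apply flat_baseChange_of_ideal
  intro 𝔟
  apply rTensor_injective_of_jointly_injective I M R' m N'' h0
    (𝔟.subtype.restrictScalars R) g
  intro x hx
  apply Subtype.ext
  exact hinj x.1 hx

end Family3

end Groth.Agent.Lib.Helper54.LocalFlat
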