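import Groth.Prelude.Def_Found
import Groth.Prelude.Def_CAlgX
import Mathlib.LinearAlgebra.TensorProduct.Pi
import Mathlib.LinearAlgebra.TensorProduct.RightExactness

/-!
# Basic lemmas on `TensorProduct.piRightHom` and the frozen `CAlg.IsMittagLeffler`
-/

set_option autoImplicit false
universe u

open TensorProduct

namespace Groth.Agent.Lib.Helper54

variable (R : Type u) [CommRing R]

/-- The `i`-th component of `piRightHom` is `lTensor` of the `i`-th projection. -/
theorem piRightHom_apply {M : Type u} [AddCommGroup M] [Module R M] {ι : Type u} (Q : ι → Type u)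
    [∀ i, AddCommGroup (Q i)] [∀ i, Module R (Q i)] (x : M ⊗[R] (∀ i, Q i)) (i : ι) :
    TensorProduct.piRightHom R R M Q x i = LinearMap.lTensor M (LinearMap.proj i) x := by
  induction x using TensorProduct.induction_on with
  | zero => simp
  | tmul m q => simp
  | add a b ha hb => simp only [map_add, Pi.add_apply, ha, hb]

/-- Naturality of `piRightHom` in the first variable. -/
theorem piRightHom_rTensor {M₁ M₂ : Type u} [AddCommGroup M₁] [Module R M₁] [AddCommGroup M₂]
    [Module R M₂] (f : M₁ →ₗ[R] M₂) {ι : Type u} (Q : ι → Type u)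
    [∀ i, AddCommGroup (Q i)] [∀ i, Module R (Q i)] (x : M₁ ⊗[R] (∀ i, Q i)) (i : ι) :
    TensorProduct.piRightHom R R M₂ Q (f.rTensor (∀ i, Q i) x) i =
      f.rTensor (Q i) (TensorProduct.piRightHom R R M₁ Q x i) := by
  induction x using TensorProduct.induction_on with
  | zero => simp
  | tmul m q => simp
  | add a b ha hb => simp only [map_add, Pi.add_apply, ha, hb]

end Groth.Agent.Lib.Helper54
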