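import Groth.Agent.Lib.Helper54.ML
import Groth.Agent.S6337
import Groth.Agent.S6338
import Groth.Agent.S6340
import Groth.Agent.S6342
import Mathlib.Algebra.Module.FinitePresentation

/-!
# Finitely presented modules commute with products; restriction of scalars for Mittag-Leffler modules
-/

set_option autoImplicit false
universe u

open TensorProduct

namespace Groth.Agent.Lib.Helper54

variable (R : Type u) [CommRing R]

/-- The Mittag-Leffler property transfers along linear equivalences. -/
theorem isMittagLeffler_of_linearEquiv {M₁ M₂ : Type u} [AddCommGroup M₁] [Module R M₁]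
    [AddCommGroup M₂] [Module R M₂] (e : M₁ ≃ₗ[R] M₂) (h : CAlg.IsMittagLeffler R M₂) :
    CAlg.IsMittagLeffler R M₁ := by
  refine Groth.Agent.S6338.result R e.toLinearMap ?_ h
  intro Q _ _
  apply Function.LeftInverse.injective (g := e.symm.toLinearMap.rTensor Q)
  intro x
  rw [← LinearMap.comp_apply, ← LinearMap.rTensor_comp]
  have : e.symm.toLinearMap ∘ₗ e.toLinearMap = LinearMap.id := by
    ext m
    simp
  rw [this, LinearMap.rTensor_id, LinearMap.id_apply]

/-- Naturality of `TensorProduct.lid`. -/
theorem lid_lTensor {N N' : Type u} [AddCommGroup N] [Module R N] [AddCommGroup N'] [Module R N']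
    (g : N →ₗ[R] N') (x : R ⊗[R] N) :
    TensorProduct.lid R N' (g.lTensor R x) = g (TensorProduct.lid R N x) := by
  induction x using TensorProduct.induction_on with
  | zero => simp
  | tmul r n => simp
  | add a b ha hb => simp only [map_add, ha, hb]

/-- The ring itself is Mittag-Leffler. -/
theorem isMittagLeffler_self : CAlg.IsMittagLeffler R R := by
  intro ι Q _ _
  rw [injective_iff_map_eq_zero]
  intro x hx
  apply (TensorProduct.lid R (∀ i, Q i)).injective
  rw [map_zero]
  funext i
  have h1 := lid_lTensor R (LinearMap.proj i : (∀ i, Q i) →ₗ[R] Q i) x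
  rw [← piRightHom_apply, hx] at h1
  simpa using h1.symm

/-- Finite free modules are Mittag-Leffler. -/
theorem isMittagLeffler_fin_fun (n : ℕ) : CAlg.IsMittagLeffler R (Fin n → R) := by
  classical
  refine isMittagLeffler_of_linearEquiv R
    ((LinearEquiv.funCongrLeft R R (Equiv.ulift.{u, 0} (α := Fin n))) ≪≫ₗ
      (DirectSum.linearEquivFunOnFintype R (ULift.{u, 0} (Fin n)) (fun _ => R)).symm) ?_
  exact (Groth.Agent.S6337.result R (fun _ : ULift.{u, 0} (Fin n) => R)).2
    fun _ => isMittagLeffler_self R

/-- Elements of `P ⊗ N` are combinations `∑ sⱼ ⊗ nⱼ` of a finite spanning family. -/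
theorem exists_sum_tmul_of_span_eq_top {P : Type u} [AddCommGroup P] [Module R P]
    {k : ℕ} (s : Fin k → P) (hs : Submodule.span R (Set.range s) = ⊤)
    (N : Type u) [AddCommGroup N] [Module R N] (z : P ⊗[R] N) :
    ∃ q : Fin k → N, z = ∑ j, s j ⊗ₜ[R] q j := by
  induction z using TensorProduct.induction_on with
  | zero => exact ⟨0, by simp⟩
  | tmul a q =>
    have ha : a ∈ Submodule.span R (Set.range s) := by rw [hs]; trivial
    obtain ⟨c, hc⟩ := (Submodule.mem_span_range_iff_exists_fun R).1 ha
    refine ⟨fun j => c j • q, ?_⟩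
    rw [← hc, TensorProduct.sum_tmul]
    refine Finset.sum_congr rfl fun j _ => ?_
    rw [TensorProduct.smul_tmul]
  | add a b ha hb =>
    obtain ⟨qa, hqa⟩ := ha
    obtain ⟨qb, hqb⟩ := hb
    refine ⟨qa + qb, ?_⟩
    rw [hqa, hqb, ← Finset.sum_add_distrib]
    refine Finset.sum_congr rfl fun j _ => ?_
    rw [Pi.add_apply, TensorProduct.tmul_add]

/-- For a finite module `P` the comparison map `P ⊗ ∏ Q → ∏ P ⊗ Q` is surjective. -/
theorem piRightHom_surjective_of_finite (P : Type u) [AddCommGroup P] [Module R P]
    [Module.Finite R P] {ι : Type u} (Q : ι → Type u) [∀ i, AddCommGroup (Q i)]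
    [∀ i, Module R (Q i)] : Function.Surjective (TensorProduct.piRightHom R R P Q) := by
  obtain ⟨k, s, hs⟩ := Module.Finite.exists_fin (R := R) (M := P)
  intro y
  choose q hq using fun i => exists_sum_tmul_of_span_eq_top R s hs (Q i) (y i)
  refine ⟨∑ j, s j ⊗ₜ[R] (fun i => q i j), ?_⟩
  funext i
  rw [hq i, map_sum, Finset.sum_apply]
  rfl

/-- Finitely presented modules are Mittag-Leffler. -/
theorem isMittagLeffler_of_finitePresentation (P : Type u) [AddCommGroup P] [Module R P]
    [Module.FinitePresentation R P] : CAlg.IsMittagLeffler R P := by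
  obtain ⟨n, K, e, hK⟩ := Module.FinitePresentation.exists_fin R P
  exact isMittagLeffler_of_linearEquiv R e
    (Groth.Agent.S6340.result R K hK (isMittagLeffler_fin_fun R n))

/-- For a finitely presented module `P` the comparison map `P ⊗ ∏ Q → ∏ P ⊗ Q` is bijective. -/
theorem piRightHom_bijective_of_finitePresentation (P : Type u) [AddCommGroup P] [Module R P]
    [Module.FinitePresentation R P] {ι : Type u} (Q : ι → Type u) [∀ i, AddCommGroup (Q i)]
    [∀ i, Module R (Q i)] : Function.Bijective (TensorProduct.piRightHom R R P Q) :=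
  ⟨isMittagLeffler_of_finitePresentation R P ι Q, piRightHom_surjective_of_finite R P Q⟩

/-- Restriction of scalars along `R → S` preserves Mittag-Leffler modules as soon as tensoring with
`S` over `R` commutes with products. -/
theorem isMittagLeffler_restrictScalars_of_bijective (S : Type u) [CommRing S] [Algebra R S]
    (M : Type u) [AddCommGroup M] [Module S M] [Module R M] [IsScalarTower R S M]
    (hS : ∀ (ι : Type u) (Q : ι → Type u) [∀ i, AddCommGroup (Q i)] [∀ i, Module R (Q i)],
      Function.Bijective (TensorProduct.piRightHom R R S Q))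
    (hM : CAlg.IsMittagLeffler S M) : CAlg.IsMittagLeffler R M := by
  intro ι Q _ _
  rw [injective_iff_map_eq_zero]
  intro x hx
  have hφ : Function.Bijective (TensorProduct.piRightHom R S S Q) := by
    have : ⇑(TensorProduct.piRightHom R S S Q) = ⇑(TensorProduct.piRightHom R R S Q) :=
      funext fun z => Groth.Agent.S6342.piRightHom_eq R S Q z
    rw [this]
    exact hS ι Q
  have hφM : Function.Injective ((TensorProduct.piRightHom R S S Q).lTensor M) :=
    (LinearEquiv.lTensor M (LinearEquiv.ofBijective _ hφ)).injective
  have h1 : (TensorProduct.piRightHom R S S Q).lTensor M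
      ((TensorProduct.AlgebraTensorModule.cancelBaseChange R S S M (∀ i, Q i)).symm x) = 0 := by
    apply hM ι (fun i => TensorProduct R S (Q i))
    rw [map_zero]
    funext i
    apply (TensorProduct.AlgebraTensorModule.cancelBaseChange R S S M (Q i)).injective
    rw [Groth.Agent.S6342.key, hx]
    simp
  have h2 : (TensorProduct.AlgebraTensorModule.cancelBaseChange R S S M (∀ i, Q i)).symm x = 0 := by
    apply hφM
    rw [h1, map_zero]
  simpa using h2

end Groth.Agent.Lib.Helper54
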