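/-
helper54: Mittag-Leffler modules (product-injectivity definition) and domination of maps from
finitely presented modules (Stacks 059C, 059E, 059M).
-/
import Groth.Agent.Lib.Helper54.MLFP
import Mathlib.Algebra.Module.FinitePresentation
import Mathlib.Algebra.Colimit.TensorProduct
import Mathlib.RingTheory.TensorProduct.Finite

set_option autoImplicit false
set_option maxHeartbeats 400000
universe u

namespace Groth.Agent.Lib.Helper54

open TensorProduct Function

section LemmaA

variable {R : Type u} [CommRing R]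

/-- Abstract core of `exists_factor_of_rTensor_eq_zero`. -/
theorem factor_aux {P M Q G G' : Type u} [AddCommGroup P] [Module R P]
    [AddCommGroup M] [Module R M] [AddCommGroup Q] [Module R Q]
    [AddCommGroup G] [Module R G] [AddCommGroup G'] [Module R G'] [Module.FinitePresentation R G']
    (f : P →ₗ[R] M) (πt : G →ₗ[R] M) (ισ : G' →ₗ[R] G) (ρ : G →ₗ[R] G')
    (hρ : ρ ∘ₗ ισ = LinearMap.id) (inl' : P →ₗ[R] G') (hinl' : (πt ∘ₗ ισ) ∘ₗ inl' = f)
    (n : ℕ) (κ' : Fin n → G') (q : Fin n → Q) (hκ' : ∀ k, πt (ισ (κ' k)) = 0) (x : P ⊗[R] Q)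
    (hz : (ισ ∘ₗ inl').rTensor Q x = ∑ k, ισ (κ' k) ⊗ₜ[R] q k) :
    ∃ (P' : Type u) (_ : AddCommGroup P') (_ : Module R P') (_ : Module.FinitePresentation R P')
      (f' : P →ₗ[R] P') (h : P' →ₗ[R] M), f = h ∘ₗ f' ∧ f'.rTensor Q x = 0 := by
  let K₀ : Submodule R G' := Submodule.span R (Set.range κ')
  haveI : Module.FinitePresentation R (G' ⧸ K₀) :=
    Module.finitePresentation_of_surjective K₀.mkQ (Submodule.mkQ_surjective _) (by
      rw [Submodule.ker_mkQ]
      exact Submodule.fg_span (Set.finite_range κ'))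
  have hK₀ : K₀ ≤ LinearMap.ker (πt ∘ₗ ισ) := by
    rw [Submodule.span_le]
    rintro _ ⟨k, rfl⟩
    exact hκ' k
  refine ⟨G' ⧸ K₀, inferInstance, inferInstance, inferInstance,
    K₀.mkQ ∘ₗ inl', K₀.liftQ (πt ∘ₗ ισ) hK₀, ?_, ?_⟩
  · rw [← hinl']
    apply LinearMap.ext
    intro p
    rfl
  · have hinj : Injective (ισ.rTensor Q) := by
      apply Function.LeftInverse.injective (g := ρ.rTensor Q)
      intro w
      rw [← LinearMap.comp_apply, ← LinearMap.rTensor_comp, hρ, LinearMap.rTensor_id,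
        LinearMap.id_apply]
    have key : inl'.rTensor Q x = ∑ k, κ' k ⊗ₜ[R] q k := by
      apply hinj
      rw [← LinearMap.comp_apply, ← LinearMap.rTensor_comp, hz, map_sum]
      rfl
    rw [LinearMap.rTensor_comp, LinearMap.comp_apply, key, map_sum]
    apply Finset.sum_eq_zero
    intro k _
    rw [LinearMap.rTensor_tmul]
    have : K₀.mkQ (κ' k) = 0 := by
      rw [Submodule.mkQ_apply, Submodule.Quotient.mk_eq_zero]
      exact Submodule.subset_span ⟨k, rfl⟩
    rw [this, zero_tmul]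

/-- kernel elements of a surjection tensored with `Q` -/
theorem mem_range_ker_rTensor {G M Q : Type u} [AddCommGroup G] [Module R G]
    [AddCommGroup M] [Module R M] [AddCommGroup Q] [Module R Q]
    (πt : G →ₗ[R] M) (hπt : Surjective πt) (y : G ⊗[R] Q) (hy : πt.rTensor Q y = 0) :
    ∃ (n : ℕ) (κ : Fin n → G) (q : Fin n → Q), (∀ k, πt (κ k) = 0) ∧ y = ∑ k, κ k ⊗ₜ[R] q k := by
  have hex : Exact (LinearMap.ker πt).subtype πt := LinearMap.exact_subtype_ker_map πt
  obtain ⟨z, hz⟩ := (rTensor_exact Q hex hπt y).1 hy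
  obtain ⟨n, κ, q, rfl⟩ := TensorProduct.exists_sum_tmul_eq z
  refine ⟨n, fun k => (κ k : G), q, fun k => (κ k).2, ?_⟩
  rw [← hz, map_sum]
  rfl

/-- Stacks 059C, element form: if `f : P → M` with `P` finitely presented and `x ∈ P ⊗ Q` is
killed by `f ⊗ Q`, then `f` factors through a finitely presented module `P'` such that `x` is
already killed in `P' ⊗ Q`. -/
theorem exists_factor_of_rTensor_eq_zero {P M Q : Type u} [AddCommGroup P] [Module R P]
    [Module.FinitePresentation R P] [AddCommGroup M] [Module R M] [AddCommGroup Q] [Module R Q]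
    (f : P →ₗ[R] M) (x : P ⊗[R] Q) (hx : f.rTensor Q x = 0) :
    ∃ (P' : Type u) (_ : AddCommGroup P') (_ : Module R P') (_ : Module.FinitePresentation R P')
      (f' : P →ₗ[R] P') (h : P' →ₗ[R] M), f = h ∘ₗ f' ∧ f'.rTensor Q x = 0 := by
  classical
  let π : (M →₀ R) →ₗ[R] M := Finsupp.linearCombination R id
  let πt : (P × (M →₀ R)) →ₗ[R] M := f.coprod π
  have hπt : Surjective πt := fun m => ⟨(0, Finsupp.single m 1), by simp [πt, π]⟩
  have hinl : πt ∘ₗ LinearMap.inl R P (M →₀ R) = f := LinearMap.coprod_inl f π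
  have hy : πt.rTensor Q ((LinearMap.inl R P (M →₀ R)).rTensor Q x) = 0 := by
    rw [← LinearMap.comp_apply, ← LinearMap.rTensor_comp, hinl, hx]
  obtain ⟨n, κ, q, hκ0, hκ⟩ := @mem_range_ker_rTensor R _ (P × (M →₀ R)) M Q _ _ _ _ _ _
    πt hπt _ hy
  let σ : Finset M := Finset.univ.biUnion fun k => ((κ k).2).support
  have hκσ : ∀ k, (κ k).2 ∈ Finsupp.supported R R (σ : Set M) := by
    intro k
    rw [Finsupp.mem_supported]
    intro m hm
    exact Finset.mem_coe.2 (Finset.mem_biUnion.2 ⟨k, Finset.mem_univ k, hm⟩)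
  haveI : Finite ↥(σ : Set M) := σ.finite_toSet.to_subtype
  haveI : Module.FinitePresentation R ↥(Finsupp.supported R R (σ : Set M)) :=
    Module.FinitePresentation.of_equiv (R := R) (M := ↥(σ : Set M) →₀ R)
      (N := ↥(Finsupp.supported R R (σ : Set M)))
      (Finsupp.supportedEquivFinsupp (M := R) (R := R) (σ : Set M)).symm
  have hρ : (LinearMap.prodMap (LinearMap.id : P →ₗ[R] P)
        (Finsupp.restrictDom R R (σ : Set M))) ∘ₗ
      (LinearMap.prodMap (LinearMap.id : P →ₗ[R] P)
        (Finsupp.supported R R (σ : Set M)).subtype) = LinearMap.id := by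
    apply LinearMap.ext
    rintro ⟨p, φ⟩
    apply Prod.ext
    · rfl
    · exact LinearMap.congr_fun (Finsupp.restrictDom_comp_subtype (M := R) (R := R)
        (s := (σ : Set M))) φ
  refine @factor_aux R _ P M Q (P × (M →₀ R)) (P × ↥(Finsupp.supported R R (σ : Set M)))
    _ _ _ _ _ _ _ _ _ _ _ f πt
    (LinearMap.prodMap (LinearMap.id : P →ₗ[R] P) (Finsupp.supported R R (σ : Set M)).subtype)
    (LinearMap.prodMap (LinearMap.id : P →ₗ[R] P) (Finsupp.restrictDom R R (σ : Set M)))
    hρ (LinearMap.inl R P ↥(Finsupp.supported R R (σ : Set M))) ?_ n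
    (fun k => ((κ k).1, ⟨(κ k).2, hκσ k⟩)) q ?_ x ?_
  · rw [← hinl]
    apply LinearMap.ext
    intro p
    rfl
  · intro k
    exact hκ0 k
  · exact hκ

end LemmaA

end Groth.Agent.Lib.Helper54
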