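/-
helper54: Mittag-Leffler modules (product-injectivity definition) versus domination of maps from
finitely presented modules (Stacks 059E, 059M).
-/
import Groth.Agent.Lib.Helper54.MLDom
import Mathlib.RingTheory.Finiteness.Cardinality

set_option autoImplicit false
set_option maxHeartbeats 400000
universe u

namespace Groth.Agent.Lib.Helper54

open TensorProduct Function

section Dom

variable {R : Type u} [CommRing R]

/-- `rTensor` and `lTensor` commute. -/
theorem rTensor_lTensor_comm {M₁ M₂ N₁ N₂ : Type u} [AddCommGroup M₁] [Module R M₁]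
    [AddCommGroup M₂] [Module R M₂] [AddCommGroup N₁] [Module R N₁] [AddCommGroup N₂]
    [Module R N₂] (f : M₁ →ₗ[R] M₂) (g : N₁ →ₗ[R] N₂) (x : M₁ ⊗[R] N₁) :
    f.rTensor N₂ (g.lTensor M₁ x) = g.lTensor M₂ (f.rTensor N₁ x) := by
  rw [← LinearMap.comp_apply, ← LinearMap.comp_apply, LinearMap.rTensor_comp_lTensor,
    LinearMap.lTensor_comp_rTensor]

/-- naturality of `comm` -/
theorem comm_lTensor' {M N N' : Type u} [AddCommGroup M] [Module R M]
    [AddCommGroup N] [Module R N] [AddCommGroup N'] [Module R N'] (g : N →ₗ[R] N')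
    (x : M ⊗[R] N) :
    g.rTensor M (TensorProduct.comm R M N x) = TensorProduct.comm R M N' (g.lTensor M x) := by
  induction x using TensorProduct.induction_on with
  | zero => simp
  | tmul f q => simp
  | add x y hx hy => simp only [map_add, hx, hy]

/-- If an element of `M ⊗ N₀`, `N₀ ≤ N'` finitely generated, dies in `M ⊗ N'`, then it already dies
in `M ⊗ N₁` for a finitely generated `N₀ ≤ N₁ ≤ N'`. -/
theorem exists_fg_lTensor_inclusion_eq_zero {M N' : Type u} [AddCommGroup M] [Module R M]
    [AddCommGroup N'] [Module R N'] (N₀ : Submodule R N') (hN₀ : N₀.FG) (y : M ⊗[R] N₀)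
    (hy : N₀.subtype.lTensor M y = 0) :
    ∃ N₁ : Submodule R N', N₁.FG ∧ ∃ h : N₀ ≤ N₁, (N₀.inclusion h).lTensor M y = 0 := by
  have h1 : N₀.subtype.rTensor M (TensorProduct.comm R M N₀ y) = N₀.subtype.rTensor M 0 := by
    rw [comm_lTensor', hy, map_zero, map_zero]
  obtain ⟨N₁, hN₁, hle, h2⟩ := Submodule.FG.exists_rTensor_fg_inclusion_eq hN₀ h1
  refine ⟨N₁, hN₁, hle, ?_⟩
  rw [comm_lTensor', map_zero] at h2
  exact (LinearEquiv.map_eq_zero_iff _).1 h2

/-- For a Mittag-Leffler module `M` and `f : P → M` with `P` finitely presented, any family of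
elements `x i ∈ ker (f ⊗ N i)` is killed by a single factorization of `f` through a finitely
presented module. -/
theorem exists_factor_family {M : Type u} [AddCommGroup M] [Module R M]
    (hML : CAlg.IsMittagLeffler R M) (P : Type u) [AddCommGroup P] [Module R P]
    [Module.FinitePresentation R P] (f : P →ₗ[R] M)
    (ι : Type u) (N : ι → Type u) [∀ i, AddCommGroup (N i)] [∀ i, Module R (N i)]
    (x : ∀ i, P ⊗[R] N i) (hx : ∀ i, f.rTensor (N i) (x i) = 0) :
    ∃ (P' : Type u) (_ : AddCommGroup P') (_ : Module R P') (_ : Module.FinitePresentation R P')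
      (f' : P →ₗ[R] P') (h : P' →ₗ[R] M), f = h ∘ₗ f' ∧ ∀ i, f'.rTensor (N i) (x i) = 0 := by
  obtain ⟨xinf, hxinf⟩ := (piRightHom_bijective_of_finitePresentation R P N).2 x
  have h0 : f.rTensor (∀ t, N t) xinf = 0 := by
    apply hML ι N
    rw [map_zero]
    funext t
    rw [piRightHom_rTensor, hxinf]
    exact hx t
  obtain ⟨P', _, _, _, f', h, hfac, hkill⟩ := exists_factor_of_rTensor_eq_zero f xinf h0
  refine ⟨P', inferInstance, inferInstance, inferInstance, f', h, hfac, ?_⟩
  intro t
  have h1 := piRightHom_rTensor R f' N xinf t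
  rw [hkill, map_zero, hxinf] at h1
  exact h1.symm

/-- Stacks 059M, (2) ⇒ (1): for a Mittag-Leffler module `M`, every map `f : P → M` from a finitely
presented module factors through a map `g : P → Q` to a finitely presented module which has the
same universal kernels as `f`. -/
theorem exists_dominating {M : Type u} [AddCommGroup M] [Module R M]
    (hML : CAlg.IsMittagLeffler R M) (P : Type u) [AddCommGroup P] [Module R P]
    [Module.FinitePresentation R P] (f : P →ₗ[R] M) :
    ∃ (Q : Type u) (_ : AddCommGroup Q) (_ : Module R Q) (_ : Module.FinitePresentation R Q)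
      (g : P →ₗ[R] Q), (∃ h : Q →ₗ[R] M, f = h ∘ₗ g) ∧
        ∀ (N : Type u) [AddCommGroup N] [Module R N],
          LinearMap.ker (f.rTensor N) = LinearMap.ker (g.rTensor N) := by
  classical
  obtain ⟨P', _, _, _, f', h, hfac, hkill'⟩ := exists_factor_family hML P f
    (Σ (a : ℕ) (L : Submodule R (Fin a → R)),
      {x : P ⊗[R] ((Fin a → R) ⧸ L) // f.rTensor ((Fin a → R) ⧸ L) x = 0})
    (fun t => (Fin t.1 → R) ⧸ t.2.1) (fun t => t.2.2.1) (fun t => t.2.2.2)
  refine ⟨P', inferInstance, inferInstance, inferInstance, f', ⟨h, hfac⟩, ?_⟩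
  intro N' _ _
  apply le_antisymm
  · intro x hx
    rw [LinearMap.mem_ker] at hx ⊢
    obtain ⟨N₀, hfin, hN₀⟩ :=
      TensorProduct.exists_finite_submodule_right_of_setFinite ({x} : Set (P ⊗[R] N'))
        (Set.finite_singleton x)
    obtain ⟨x₀, hx₀⟩ := hN₀ (Set.mem_singleton x)
    have hN₀fg : N₀.FG := Module.Finite.iff_fg.1 hfin
    have h1 : N₀.subtype.lTensor M (f.rTensor N₀ x₀) = 0 := by
      rw [← rTensor_lTensor_comm, hx₀, hx]
    obtain ⟨N₁, hN₁, hle, h2⟩ := exists_fg_lTensor_inclusion_eq_zero N₀ hN₀fg _ h1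
    haveI : Module.Finite R N₁ := Module.Finite.iff_fg.2 hN₁
    obtain ⟨a, π, hπ⟩ := Module.Finite.exists_fin' R N₁
    let e : ((Fin a → R) ⧸ LinearMap.ker π) ≃ₗ[R] N₁ := π.quotKerEquivOfSurjective hπ
    let x₁ : P ⊗[R] N₁ := (N₀.inclusion hle).lTensor P x₀
    have hx₁ : f.rTensor N₁ x₁ = 0 := by
      rw [rTensor_lTensor_comm, h2]
    let xt : P ⊗[R] ((Fin a → R) ⧸ LinearMap.ker π) := e.symm.toLinearMap.lTensor P x₁
    have hxt : f.rTensor _ xt = 0 := by
      rw [rTensor_lTensor_comm, hx₁, map_zero]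
    have h3 := hkill' ⟨a, LinearMap.ker π, xt, hxt⟩
    have h4 : x = (N₁.subtype ∘ₗ e.toLinearMap).lTensor P xt := by
      rw [LinearMap.lTensor_comp, LinearMap.comp_apply, ← LinearMap.comp_apply (e.toLinearMap.lTensor P),
        ← LinearMap.lTensor_comp]
      have : e.toLinearMap ∘ₗ e.symm.toLinearMap = LinearMap.id := by
        apply LinearMap.ext
        intro v
        simp
      rw [this, LinearMap.lTensor_id, LinearMap.id_apply, ← LinearMap.comp_apply,
        ← LinearMap.lTensor_comp]
      exact hx₀.symm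
    rw [h4, rTensor_lTensor_comm]
    change (LinearMap.lTensor P' (N₁.subtype ∘ₗ e.toLinearMap)) (f'.rTensor _ xt) = 0
    rw [h3, map_zero]
  · intro x hx
    rw [LinearMap.mem_ker] at hx ⊢
    rw [hfac, LinearMap.rTensor_comp, LinearMap.comp_apply, hx, map_zero]

/-- Stacks 059M, (1) ⇒ (2): if every map from a finite free module to `M` has the same universal
kernels as a map to a finitely presented module, then `M` is Mittag-Leffler. -/
theorem isMittagLeffler_of_dominate {M : Type u} [AddCommGroup M] [Module R M]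
    (h : ∀ (n : ℕ) (f : (Fin n → R) →ₗ[R] M),
      ∃ (Q : Type u) (_ : AddCommGroup Q) (_ : Module R Q) (_ : Module.FinitePresentation R Q)
        (g : (Fin n → R) →ₗ[R] Q),
        ∀ (N : Type u) [AddCommGroup N] [Module R N],
          LinearMap.ker (f.rTensor N) = LinearMap.ker (g.rTensor N)) :
    CAlg.IsMittagLeffler R M := by
  classical
  intro ι Q _ _
  rw [injective_iff_map_eq_zero]
  intro x hx
  obtain ⟨n, m, q, rfl⟩ := TensorProduct.exists_sum_tmul_eq x
  let f : (Fin n → R) →ₗ[R] M := Fintype.linearCombination R m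
  let y : (Fin n → R) ⊗[R] (∀ i, Q i) := ∑ k, (Pi.single k (1 : R) : Fin n → R) ⊗ₜ[R] q k
  have hy : f.rTensor (∀ i, Q i) y = ∑ k, m k ⊗ₜ[R] q k := by
    rw [map_sum]
    apply Finset.sum_congr rfl
    intro k _
    rw [LinearMap.rTensor_tmul]
    congr 1
    simp [f, Fintype.linearCombination_apply]
  obtain ⟨Qg, _, _, _, g, hg⟩ := h n f
  have h1 : ∀ i, TensorProduct.piRightHom R R (Fin n → R) Q y i ∈
      LinearMap.ker (g.rTensor (Q i)) := by
    intro i
    rw [← hg (Q i), LinearMap.mem_ker, ← piRightHom_rTensor, hy, hx]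
    rfl
  have h2 : g.rTensor (∀ i, Q i) y = 0 := by
    apply (piRightHom_bijective_of_finitePresentation R Qg Q).1
    rw [map_zero]
    funext i
    rw [piRightHom_rTensor]
    exact LinearMap.mem_ker.1 (h1 i)
  have h3 : y ∈ LinearMap.ker (f.rTensor (∀ i, Q i)) := by
    rw [hg]
    exact LinearMap.mem_ker.2 h2
  rw [← hy]
  exact LinearMap.mem_ker.1 h3

end Dom

end Groth.Agent.Lib.Helper54
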