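/-
helper54: the tensor product of two Mittag-Leffler modules is Mittag-Leffler
(product-injectivity definition), via the domination characterization.
-/
import Groth.Agent.Lib.Helper54.MLDom2
import Mathlib.LinearAlgebra.TensorProduct.Associator
import Mathlib.RingTheory.TensorProduct.Free

set_option autoImplicit false
set_option maxHeartbeats 400000
universe u

namespace Groth.Agent.Lib.Helper54

open TensorProduct Function

section Tensor

variable {R : Type u} [CommRing R]

/-- The tensor product of two finitely presented modules is finitely presented. -/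
theorem finitePresentation_tensorProduct (A B : Type u) [AddCommGroup A] [Module R A]
    [AddCommGroup B] [Module R B] [Module.FinitePresentation R A]
    [Module.FinitePresentation R B] : Module.FinitePresentation R (A ⊗[R] B) := by
  obtain ⟨a, a', fA, gA, hfA, hexA⟩ := Module.FinitePresentation.exists_fin' R A
  obtain ⟨b, b', fB, gB, hfB, hexB⟩ := Module.FinitePresentation.exists_fin' R B
  haveI : Module.FinitePresentation R ((Fin a → R) ⊗[R] (Fin b → R)) :=
    Module.finitePresentation_of_projective _ _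
  apply Module.finitePresentation_of_surjective (TensorProduct.map fA fB)
    (TensorProduct.map_surjective hfA hfB)
  rw [TensorProduct.map_ker hexA hfA hexB hfB]
  apply Submodule.FG.sup
  · rw [LinearMap.range_eq_map]
    exact (Module.Finite.fg_top).map _
  · rw [LinearMap.range_eq_map]
    exact (Module.Finite.fg_top).map _

/-- Two maps out of the same module have the same universal kernels. -/
def SameKer {X Y Y' : Type u} [AddCommGroup X] [Module R X] [AddCommGroup Y] [Module R Y]
    [AddCommGroup Y'] [Module R Y'] (a : X →ₗ[R] Y) (b : X →ₗ[R] Y') : Prop :=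
  ∀ (T : Type u) [AddCommGroup T] [Module R T],
    LinearMap.ker (a.rTensor T) = LinearMap.ker (b.rTensor T)

theorem SameKer.comp {X₀ X Y Y' : Type u} [AddCommGroup X₀] [Module R X₀] [AddCommGroup X]
    [Module R X] [AddCommGroup Y] [Module R Y]
    [AddCommGroup Y'] [Module R Y'] {a : X →ₗ[R] Y} {b : X →ₗ[R] Y'} (h : SameKer a b)
    (c : X₀ →ₗ[R] X) : SameKer (a ∘ₗ c) (b ∘ₗ c) := by
  intro T _ _
  ext x
  rw [LinearMap.mem_ker, LinearMap.mem_ker, LinearMap.rTensor_comp, LinearMap.rTensor_comp,
    LinearMap.comp_apply, LinearMap.comp_apply, ← LinearMap.mem_ker, ← LinearMap.mem_ker, h T]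

theorem SameKer.trans {X Y Y' Y'' : Type u} [AddCommGroup X]
    [Module R X] [AddCommGroup Y] [Module R Y] [AddCommGroup Y'] [Module R Y']
    [AddCommGroup Y''] [Module R Y''] {a : X →ₗ[R] Y} {b : X →ₗ[R] Y'} {c : X →ₗ[R] Y''}
    (h : SameKer a b) (h' : SameKer b c) : SameKer a c := by
  intro T _ _
  rw [h T, h' T]

/-- Tensoring on the right with a fixed module preserves `SameKer`. -/
theorem SameKer.rTensor {X Y Y' : Type u} [AddCommGroup X]
    [Module R X] [AddCommGroup Y] [Module R Y] [AddCommGroup Y'] [Module R Y']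
    {a : X →ₗ[R] Y} {b : X →ₗ[R] Y'} (h : SameKer a b) (P : Type u) [AddCommGroup P]
    [Module R P] : SameKer (a.rTensor P) (b.rTensor P) := by
  intro T _ _
  ext x
  have ha : (TensorProduct.assoc R Y P T) ((a.rTensor P).rTensor T x) =
      a.rTensor (P ⊗[R] T) (TensorProduct.assoc R X P T x) := by
    rw [LinearMap.rTensor_tensor]
    simp
  have hb : (TensorProduct.assoc R Y' P T) ((b.rTensor P).rTensor T x) =
      b.rTensor (P ⊗[R] T) (TensorProduct.assoc R X P T x) := by
    rw [LinearMap.rTensor_tensor]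
    simp
  rw [LinearMap.mem_ker, LinearMap.mem_ker, ← LinearEquiv.map_eq_zero_iff
    (TensorProduct.assoc R Y P T), ha, ← LinearEquiv.map_eq_zero_iff
    (TensorProduct.assoc R Y' P T), hb, ← LinearMap.mem_ker, ← LinearMap.mem_ker, h (P ⊗[R] T)]

/-- Tensoring on the left with a fixed module preserves `SameKer`. -/
theorem SameKer.lTensor {X Y Y' : Type u} [AddCommGroup X]
    [Module R X] [AddCommGroup Y] [Module R Y] [AddCommGroup Y'] [Module R Y']
    {a : X →ₗ[R] Y} {b : X →ₗ[R] Y'} (h : SameKer a b) (P : Type u) [AddCommGroup P]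
    [Module R P] : SameKer (a.lTensor P) (b.lTensor P) := by
  have e1 : a.lTensor P = (TensorProduct.comm R Y P).toLinearMap ∘ₗ a.rTensor P ∘ₗ
      (TensorProduct.comm R P X).toLinearMap := by
    apply TensorProduct.ext'
    intro p x
    simp
  have e2 : b.lTensor P = (TensorProduct.comm R Y' P).toLinearMap ∘ₗ b.rTensor P ∘ₗ
      (TensorProduct.comm R P X).toLinearMap := by
    apply TensorProduct.ext'
    intro p x
    simp
  intro T _ _
  have key := (h.rTensor P).comp (TensorProduct.comm R P X).toLinearMap T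
  have i1 : Injective ((TensorProduct.comm R Y P).toLinearMap.rTensor T) :=
    (LinearEquiv.rTensor T (TensorProduct.comm R Y P)).injective
  have i2 : Injective ((TensorProduct.comm R Y' P).toLinearMap.rTensor T) :=
    (LinearEquiv.rTensor T (TensorProduct.comm R Y' P)).injective
  ext x
  have ka : (a.lTensor P).rTensor T x = (TensorProduct.comm R Y P).toLinearMap.rTensor T
      ((a.rTensor P ∘ₗ (TensorProduct.comm R P X).toLinearMap).rTensor T x) := by
    rw [e1, LinearMap.rTensor_comp, LinearMap.comp_apply]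
  have kb : (b.lTensor P).rTensor T x = (TensorProduct.comm R Y' P).toLinearMap.rTensor T
      ((b.rTensor P ∘ₗ (TensorProduct.comm R P X).toLinearMap).rTensor T x) := by
    rw [e2, LinearMap.rTensor_comp, LinearMap.comp_apply]
  rw [LinearMap.mem_ker, LinearMap.mem_ker, ka, kb]
  constructor
  · intro hx
    have h1 : (a.rTensor P ∘ₗ (TensorProduct.comm R P X).toLinearMap).rTensor T x = 0 :=
      i1 (hx.trans (map_zero _).symm)
    have h2 : x ∈ LinearMap.ker
        ((b.rTensor P ∘ₗ (TensorProduct.comm R P X).toLinearMap).rTensor T) := by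
      rw [← key]
      exact LinearMap.mem_ker.2 h1
    rw [LinearMap.mem_ker.1 h2, map_zero]
  · intro hx
    have h1 : (b.rTensor P ∘ₗ (TensorProduct.comm R P X).toLinearMap).rTensor T x = 0 :=
      i2 (hx.trans (map_zero _).symm)
    have h2 : x ∈ LinearMap.ker
        ((a.rTensor P ∘ₗ (TensorProduct.comm R P X).toLinearMap).rTensor T) := by
      rw [key]
      exact LinearMap.mem_ker.2 h1
    rw [LinearMap.mem_ker.1 h2, map_zero]

/-- `SameKer` is compatible with tensor products of maps. -/
theorem SameKer.map {X₁ Y₁ Y₁' X₂ Y₂ Y₂' : Type u} [AddCommGroup X₁] [Module R X₁]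
    [AddCommGroup Y₁] [Module R Y₁] [AddCommGroup Y₁'] [Module R Y₁']
    [AddCommGroup X₂] [Module R X₂]
    [AddCommGroup Y₂] [Module R Y₂] [AddCommGroup Y₂'] [Module R Y₂']
    {a₁ : X₁ →ₗ[R] Y₁} {b₁ : X₁ →ₗ[R] Y₁'} (h₁ : SameKer a₁ b₁)
    {a₂ : X₂ →ₗ[R] Y₂} {b₂ : X₂ →ₗ[R] Y₂'} (h₂ : SameKer a₂ b₂) :
    SameKer (TensorProduct.map a₁ a₂) (TensorProduct.map b₁ b₂) := by
  have s1 : SameKer (TensorProduct.map a₁ a₂) (TensorProduct.map b₁ a₂) := by
    rw [← LinearMap.rTensor_comp_lTensor (f := a₁) (g := a₂),
      ← LinearMap.rTensor_comp_lTensor (f := b₁) (g := a₂)]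
    exact (h₁.rTensor Y₂).comp _
  have s2 : SameKer (TensorProduct.map b₁ a₂) (TensorProduct.map b₁ b₂) := by
    rw [← LinearMap.lTensor_comp_rTensor (f := b₁) (g := a₂),
      ← LinearMap.lTensor_comp_rTensor (f := b₁) (g := b₂)]
    exact (h₂.lTensor Y₁').comp _
  exact s1.trans s2

end Tensor

end Groth.Agent.Lib.Helper54
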