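/-
helper54: the tensor product of two Mittag-Leffler modules is Mittag-Leffler.
-/
import Groth.Agent.Lib.Helper54.MLTensor
import Mathlib.LinearAlgebra.TensorProduct.Finiteness

set_option autoImplicit false
set_option maxHeartbeats 400000
universe u

namespace Groth.Agent.Lib.Helper54

open TensorProduct Function

section Tensor2

variable {R : Type u} [CommRing R]

/-- Stacks 059F-style statement: the tensor product of two Mittag-Leffler modules is
Mittag-Leffler. -/
theorem isMittagLeffler_tensorProduct {M N : Type u} [AddCommGroup M] [Module R M]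
    [AddCommGroup N] [Module R N] (hM : CAlg.IsMittagLeffler R M)
    (hN : CAlg.IsMittagLeffler R N) : CAlg.IsMittagLeffler R (M ⊗[R] N) := by
  classical
  apply isMittagLeffler_of_dominate
  intro n φ
  obtain ⟨M₀, N₀, hM₀, hN₀, hsub⟩ := TensorProduct.exists_finite_submodule_of_setFinite
    (Set.range fun k : Fin n => φ (Pi.single k (1 : R))) (Set.finite_range _)
  obtain ⟨n1, u₀, hu₀⟩ := Module.Finite.exists_fin' R M₀
  obtain ⟨n2, v₀, hv₀⟩ := Module.Finite.exists_fin' R N₀
  have hk : ∀ k : Fin n, ∃ z : (Fin n1 → R) ⊗[R] (Fin n2 → R),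
      TensorProduct.map (M₀.subtype ∘ₗ u₀) (N₀.subtype ∘ₗ v₀) z = φ (Pi.single k (1 : R)) := by
    intro k
    obtain ⟨w, hw⟩ := hsub ⟨k, rfl⟩
    obtain ⟨z, rfl⟩ := TensorProduct.map_surjective hu₀ hv₀ w
    refine ⟨z, ?_⟩
    rw [TensorProduct.map_comp, LinearMap.comp_apply]
    exact hw
  choose z hz using hk
  let α : (Fin n → R) →ₗ[R] (Fin n1 → R) ⊗[R] (Fin n2 → R) := Fintype.linearCombination R z
  have hα : TensorProduct.map (M₀.subtype ∘ₗ u₀) (N₀.subtype ∘ₗ v₀) ∘ₗ α = φ := by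
    apply LinearMap.pi_ext'
    intro k
    apply LinearMap.ext_ring
    simp only [LinearMap.comp_apply, LinearMap.single_apply]
    rw [← hz k]
    congr 1
    simp [α, Fintype.linearCombination_apply]
  obtain ⟨Qu, _, _, _, gu, -, hgu⟩ := exists_dominating hM (Fin n1 → R) (M₀.subtype ∘ₗ u₀)
  obtain ⟨Qv, _, _, _, gv, -, hgv⟩ := exists_dominating hN (Fin n2 → R) (N₀.subtype ∘ₗ v₀)
  refine ⟨Qu ⊗[R] Qv, inferInstance, inferInstance, finitePresentation_tensorProduct Qu Qv,
    TensorProduct.map gu gv ∘ₗ α, ?_⟩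
  have key := (SameKer.map (R := R) (a₁ := M₀.subtype ∘ₗ u₀) (b₁ := gu) hgu
    (a₂ := N₀.subtype ∘ₗ v₀) (b₂ := gv) hgv).comp α
  rw [← hα]
  exact key

end Tensor2

end Groth.Agent.Lib.Helper54
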