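/-
helper54: maps from finitely generated / finitely presented modules into a direct limit of
modules, and the Mittag-Leffler property of a direct limit of finitely presented modules
(Stacks 059E).
-/
import Groth.Agent.Lib.Helper54.MLTensor2
import Groth.Agent.S6359
import Mathlib.LinearAlgebra.TensorProduct.DirectLimit

set_option autoImplicit false
set_option maxHeartbeats 400000
universe u

namespace Groth.Agent.Lib.Helper54

open TensorProduct Function

section DirLim

variable {R : Type u} [CommRing R] {ι : Type u} [Preorder ι] [IsDirected ι (· ≤ ·)]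
  [DecidableEq ι] (G : ι → Type u) [∀ i, AddCommGroup (G i)] [∀ i, Module R (G i)]
  (f : ∀ i j, i ≤ j → G i →ₗ[R] G j) [DirectedSystem G fun i j h => f i j h]

/-- Two maps from a finitely generated module into a stage of a directed system which agree in the
direct limit already agree at a later stage. -/
theorem exists_comp_eq_of_of_comp_eq {P : Type u} [AddCommGroup P] [Module R P]
    [Module.Finite R P] (i : ι) (a b : P →ₗ[R] G i)
    (h : Module.DirectLimit.of R ι G f i ∘ₗ a = Module.DirectLimit.of R ι G f i ∘ₗ b) :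
    ∃ j, ∃ hij : i ≤ j, f i j hij ∘ₗ a = f i j hij ∘ₗ b := by
  classical
  haveI : Nonempty ι := ⟨i⟩
  obtain ⟨s, hs⟩ := (Module.Finite.fg_top : (⊤ : Submodule R P).FG)
  have h1 : ∀ p : P, ∃ j, ∃ hij : i ≤ j, f i j hij (a p) = f i j hij (b p) := by
    intro p
    exact Module.DirectLimit.exists_eq_of_of_eq (LinearMap.congr_fun h p)
  choose jp hjp hjeq using h1
  obtain ⟨J, hJ⟩ := Finset.exists_le (insert i (s.image jp))
  have hiJ : i ≤ J := hJ i (Finset.mem_insert_self _ _)
  refine ⟨J, hiJ, ?_⟩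
  apply LinearMap.ext_on hs
  intro p hp
  have hpJ : jp p ≤ J := hJ _ (Finset.mem_insert_of_mem (Finset.mem_image_of_mem jp hp))
  have e1 : ∀ x : G i, f i J hiJ x = f (jp p) J hpJ (f i (jp p) (hjp p) x) := by
    intro x
    exact (DirectedSystem.map_map' (f := f) (hjp p) hpJ x).symm
  simp only [LinearMap.comp_apply]
  rw [e1, e1, hjeq]

/-- A map from a finite free module into a direct limit lifts to some stage. -/
theorem exists_lift_finite_free [Nonempty ι] (n : ℕ)
    (h : (Fin n → R) →ₗ[R] Module.DirectLimit G f) :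
    ∃ (j : ι) (h' : (Fin n → R) →ₗ[R] G j), h = Module.DirectLimit.of R ι G f j ∘ₗ h' := by
  classical
  have h1 : ∀ k : Fin n, ∃ j, ∃ y : G j, Module.DirectLimit.of R ι G f j y =
      h (Pi.single k 1) := fun k => Module.DirectLimit.exists_of _
  choose jk y hy using h1
  obtain ⟨J, hJ⟩ := Finset.exists_le (Finset.univ.image jk)
  have hkJ : ∀ k, jk k ≤ J := fun k => hJ _ (Finset.mem_image_of_mem jk (Finset.mem_univ k))
  refine ⟨J, Fintype.linearCombination R (fun k => f (jk k) J (hkJ k) (y k)), ?_⟩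
  apply LinearMap.pi_ext'
  intro k
  apply LinearMap.ext_ring
  simp only [LinearMap.comp_apply, LinearMap.single_apply]
  rw [← hy k]
  have : Fintype.linearCombination R (fun k => f (jk k) J (hkJ k) (y k))
      (Pi.single k (1 : R)) = f (jk k) J (hkJ k) (y k) := by
    simp [Fintype.linearCombination_apply]
  rw [this, Module.DirectLimit.of_f]

/-- A map from a finitely presented module into a direct limit lifts to some stage. -/
theorem exists_lift_finitePresentation [Nonempty ι] {Q : Type u} [AddCommGroup Q] [Module R Q]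
    [Module.FinitePresentation R Q] (h : Q →ₗ[R] Module.DirectLimit G f) :
    ∃ (j : ι) (h' : Q →ₗ[R] G j), h = Module.DirectLimit.of R ι G f j ∘ₗ h' := by
  classical
  obtain ⟨n, π, hπ, hker⟩ : ∃ (n : ℕ) (π : (Fin n → R) →ₗ[R] Q), Surjective π ∧
      (LinearMap.ker π).FG := by
    obtain ⟨n, π, hπ⟩ := Module.Finite.exists_fin' R Q
    exact ⟨n, π, hπ, Module.FinitePresentation.fg_ker π hπ⟩
  obtain ⟨j₀, φ₀, hφ₀⟩ := exists_lift_finite_free G f n (h ∘ₗ π)
  haveI : Module.Finite R ↥(LinearMap.ker π) := Module.Finite.iff_fg.2 hker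
  have h0 : Module.DirectLimit.of R ι G f j₀ ∘ₗ (φ₀ ∘ₗ (LinearMap.ker π).subtype) =
      Module.DirectLimit.of R ι G f j₀ ∘ₗ (0 : ↥(LinearMap.ker π) →ₗ[R] G j₀) := by
    rw [← LinearMap.comp_assoc, ← hφ₀]
    apply LinearMap.ext
    intro x
    simp only [LinearMap.comp_apply, Submodule.subtype_apply, LinearMap.zero_apply, map_zero]
    rw [LinearMap.mem_ker.1 x.2, map_zero]
  obtain ⟨j, hj₀j, hj⟩ := exists_comp_eq_of_of_comp_eq G f j₀ _ _ h0
  have hle : LinearMap.ker π ≤ LinearMap.ker (f j₀ j hj₀j ∘ₗ φ₀) := by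
    intro x hx
    have := LinearMap.congr_fun hj ⟨x, hx⟩
    simpa using this
  let e : ((Fin n → R) ⧸ LinearMap.ker π) ≃ₗ[R] Q := π.quotKerEquivOfSurjective hπ
  refine ⟨j, (LinearMap.ker π).liftQ (f j₀ j hj₀j ∘ₗ φ₀) hle ∘ₗ e.symm.toLinearMap, ?_⟩
  apply LinearMap.ext
  intro q
  obtain ⟨v, rfl⟩ := hπ q
  have he : e.symm (π v) = (LinearMap.ker π).mkQ v := by
    rw [LinearEquiv.symm_apply_eq]
    rfl
  simp only [LinearMap.comp_apply, LinearEquiv.coe_coe]
  rw [he, Submodule.mkQ_apply, Submodule.liftQ_apply, LinearMap.comp_apply,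
    Module.DirectLimit.of_f]
  exact LinearMap.congr_fun hφ₀ v

/-- An element of `G i ⊗ T` which dies in `(lim G) ⊗ T` already dies at a later stage. -/
theorem exists_rTensor_eq_zero_of_of_rTensor_eq_zero (T : Type u) [AddCommGroup T] [Module R T]
    (i : ι) (w : G i ⊗[R] T)
    (hw : (Module.DirectLimit.of R ι G f i).rTensor T w = 0) :
    ∃ j, ∃ hij : i ≤ j, (f i j hij).rTensor T w = 0 := by
  have h1 := TensorProduct.directLimitLeft_rTensor_of f T w
  rw [hw, map_zero] at h1
  exact Module.DirectLimit.of.zero_exact h1.symm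

theorem of_comp_f (i j : ι) (hij : i ≤ j) :
    Module.DirectLimit.of R ι G f j ∘ₗ f i j hij = Module.DirectLimit.of R ι G f i := by
  apply LinearMap.ext
  intro x
  exact Module.DirectLimit.of_f

/-- Stacks 059E: a direct limit of finitely presented modules is Mittag-Leffler if and only if
the system is "eventually factoring". -/
theorem isMittagLeffler_directLimit_iff [Nonempty ι] [∀ i, Module.FinitePresentation R (G i)] :
    CAlg.IsMittagLeffler R (Module.DirectLimit G f) ↔
      ∀ i, ∃ (j : ι) (hij : i ≤ j), ∀ (k : ι) (hik : i ≤ k),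
        ∃ h : G k →ₗ[R] G j, f i j hij = h ∘ₗ f i k hik := by
  classical
  constructor
  · intro hML i
    obtain ⟨Q, _, _, _, g, ⟨h, hfac⟩, hker⟩ :=
      exists_dominating hML (G i) (Module.DirectLimit.of R ι G f i)
    obtain ⟨j₀, h', hh'⟩ := exists_lift_finitePresentation G f h
    obtain ⟨j₁, hij₁, hj₀j₁⟩ := exists_ge_ge i j₀
    have hab : Module.DirectLimit.of R ι G f j₁ ∘ₗ (f j₀ j₁ hj₀j₁ ∘ₗ h' ∘ₗ g) =
        Module.DirectLimit.of R ι G f j₁ ∘ₗ f i j₁ hij₁ := by
      rw [of_comp_f, ← LinearMap.comp_assoc, of_comp_f, ← LinearMap.comp_assoc, ← hh', ← hfac]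
    obtain ⟨j, hj₁j, hj⟩ := exists_comp_eq_of_of_comp_eq G f j₁ _ _ hab
    have hij : i ≤ j := hij₁.trans hj₁j
    have hfij : f i j hij = (f j₁ j hj₁j ∘ₗ f j₀ j₁ hj₀j₁ ∘ₗ h') ∘ₗ g := by
      have e1 : f i j hij = f j₁ j hj₁j ∘ₗ f i j₁ hij₁ := by
        apply LinearMap.ext
        intro x
        exact (DirectedSystem.map_map' (f := f) hij₁ hj₁j x).symm
      rw [e1, ← hj]
      rfl
    refine ⟨j, hij, ?_⟩
    intro k hik
    haveI : Module.FinitePresentation R (G k ⧸ LinearMap.range (f i k hik)) :=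
      Module.finitePresentation_of_surjective (LinearMap.range (f i k hik)).mkQ
        (Submodule.mkQ_surjective _) (by
          rw [Submodule.ker_mkQ, LinearMap.range_eq_map]
          exact (Module.Finite.fg_top).map _)
    have hdom : ∀ (Q' : Type u) [AddCommGroup Q'] [Module R Q'],
        LinearMap.ker ((f i k hik).rTensor Q') ≤ LinearMap.ker (g.rTensor Q') := by
      intro Q' _ _ x hx
      rw [← hker Q', LinearMap.mem_ker, ← of_comp_f G f i k hik, LinearMap.rTensor_comp,
        LinearMap.comp_apply, LinearMap.mem_ker.1 hx, map_zero]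
    obtain ⟨t, ht⟩ := (Groth.Agent.S6359.result R (f i k hik) g).1 hdom
    refine ⟨(f j₁ j hj₁j ∘ₗ f j₀ j₁ hj₀j₁ ∘ₗ h') ∘ₗ t, ?_⟩
    rw [hfij, ht]
    rfl
  · intro hfac κ Q _ _
    rw [injective_iff_map_eq_zero]
    intro x hx
    obtain ⟨i, y, hy⟩ := Module.DirectLimit.exists_of
      (TensorProduct.directLimitLeft f (∀ k, Q k) x)
    have hxy : x = (Module.DirectLimit.of R ι G f i).rTensor (∀ k, Q k) y := by
      apply (TensorProduct.directLimitLeft f (∀ k, Q k)).injective
      rw [TensorProduct.directLimitLeft_rTensor_of, hy]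
    obtain ⟨j, hij, hj⟩ := hfac i
    have hy0 : (f i j hij).rTensor (∀ k, Q k) y = 0 := by
      apply (piRightHom_bijective_of_finitePresentation R (G j) Q).1
      rw [map_zero]
      funext α
      rw [piRightHom_rTensor]
      have h0 : (Module.DirectLimit.of R ι G f i).rTensor (Q α)
          (TensorProduct.piRightHom R R (G i) Q y α) = 0 := by
        rw [← piRightHom_rTensor, ← hxy, hx]
        rfl
      obtain ⟨k, hik, hk⟩ := exists_rTensor_eq_zero_of_of_rTensor_eq_zero G f (Q α) i _ h0
      obtain ⟨t, ht⟩ := hj k hik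
      rw [ht, LinearMap.rTensor_comp, LinearMap.comp_apply, hk, map_zero]
      rfl
    rw [hxy, ← of_comp_f G f i j hij, LinearMap.rTensor_comp, LinearMap.comp_apply, hy0, map_zero]

end DirLim

end Groth.Agent.Lib.Helper54
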