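/-
helper54: towers `P 0 → P 1 → P 2 → …` of modules with compatible maps to a module `M`
(a concrete model of countable colimits), and the key construction for countably generated
Mittag-Leffler modules (Stacks 059W-059Z style arguments).
-/
import Groth.Agent.Lib.Helper54.MLDirLim
import Mathlib.Algebra.DirectSum.Module

set_option autoImplicit false
set_option maxHeartbeats 400000
universe u

namespace Groth.Agent.Lib.Helper54

open TensorProduct Function

section Tower

variable {R : Type u} [CommRing R] {P : ℕ → Type u} [∀ n, AddCommGroup (P n)]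
  [∀ n, Module R (P n)] (ι : ∀ n, P n →ₗ[R] P (n + 1))

/-- Pushing an element of a tower to a later stage, keeping its images under two compatible
families of maps. -/
theorem tower_exists_push {X Y : Type u} [AddCommGroup X] [Module R X] [AddCommGroup Y]
    [Module R Y] (u : ∀ n, P n →ₗ[R] X) (hu : ∀ n, u (n + 1) ∘ₗ ι n = u n)
    (B : ∀ n, P n →ₗ[R] Y) (hB : ∀ n, B (n + 1) ∘ₗ ι n = B n) (n N : ℕ) (h : n ≤ N)
    (y : P n) : ∃ y' : P N, u N y' = u n y ∧ B N y' = B n y := by
  induction N, h using Nat.le_induction with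
  | base => exact ⟨y, rfl, rfl⟩
  | succ N hN ih =>
    obtain ⟨y', h1, h2⟩ := ih
    refine ⟨ι N y', ?_, ?_⟩
    · rw [← h1, ← hu N]; rfl
    · rw [← h2, ← hB N]; rfl

/-- Universal property of a tower covering `M`: a compatible family of maps `B n : P n → X` which
kills the kernels of the structure maps `u n : P n → M` descends to `M`. -/
theorem tower_exists_factor {M X : Type u} [AddCommGroup M] [Module R M] [AddCommGroup X]
    [Module R X] (u : ∀ n, P n →ₗ[R] M) (hu : ∀ n, u (n + 1) ∘ₗ ι n = u n)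
    (hcover : ∀ m : M, ∃ n, ∃ y : P n, u n y = m)
    (B : ∀ n, P n →ₗ[R] X) (hB : ∀ n, B (n + 1) ∘ₗ ι n = B n)
    (hker : ∀ n, LinearMap.ker (u n) ≤ LinearMap.ker (B n)) :
    ∃ b : M →ₗ[R] X, ∀ n, b ∘ₗ u n = B n := by
  classical
  let ε : (DirectSum ℕ P) →ₗ[R] M := DirectSum.toModule R ℕ M u
  let Bt : (DirectSum ℕ P) →ₗ[R] X := DirectSum.toModule R ℕ X B
  have hC : ∀ x : DirectSum ℕ P, ∃ N, ∃ y : P N, u N y = ε x ∧ B N y = Bt x := by
    intro x
    induction x using DirectSum.induction_on with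
    | zero => exact ⟨0, 0, by simp, by simp⟩
    | of n p =>
      refine ⟨n, p, ?_, ?_⟩
      · exact (DirectSum.toModule_lof R n p).symm
      · exact (DirectSum.toModule_lof R n p).symm
    | add x₁ x₂ h₁ h₂ =>
      obtain ⟨N₁, y₁, h11, h12⟩ := h₁
      obtain ⟨N₂, y₂, h21, h22⟩ := h₂
      obtain ⟨z₁, hz11, hz12⟩ := tower_exists_push ι u hu B hB N₁ (max N₁ N₂)
        (le_max_left _ _) y₁
      obtain ⟨z₂, hz21, hz22⟩ := tower_exists_push ι u hu B hB N₂ (max N₁ N₂)
        (le_max_right _ _) y₂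
      refine ⟨max N₁ N₂, z₁ + z₂, ?_, ?_⟩
      · rw [map_add, map_add, hz11, hz21, h11, h21]
      · rw [map_add, map_add, hz12, hz22, h12, h22]
  have hε : Surjective ε := by
    intro m
    obtain ⟨n, y, rfl⟩ := hcover m
    exact ⟨DirectSum.lof R ℕ P n y, DirectSum.toModule_lof R n y⟩
  have hle : LinearMap.ker ε ≤ LinearMap.ker Bt := by
    intro x hx
    obtain ⟨N, y, h1, h2⟩ := hC x
    rw [LinearMap.mem_ker] at hx ⊢
    rw [hx] at h1
    rw [← h2]
    exact LinearMap.mem_ker.1 (hker N (LinearMap.mem_ker.2 h1))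
  let e : ((DirectSum ℕ P) ⧸ LinearMap.ker ε) ≃ₗ[R] M := ε.quotKerEquivOfSurjective hε
  refine ⟨(LinearMap.ker ε).liftQ Bt hle ∘ₗ e.symm.toLinearMap, ?_⟩
  intro n
  apply LinearMap.ext
  intro y
  have he : e.symm (u n y) = (LinearMap.ker ε).mkQ (DirectSum.lof R ℕ P n y) := by
    rw [LinearEquiv.symm_apply_eq]
    exact (DirectSum.toModule_lof R n y).symm
  simp only [LinearMap.comp_apply, LinearEquiv.coe_coe]
  rw [he, Submodule.mkQ_apply, Submodule.liftQ_apply]
  exact DirectSum.toModule_lof R n y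

/-- Two maps out of `M` that agree on all stages of a covering tower are equal. -/
theorem tower_hom_ext {M X : Type u} [AddCommGroup M] [Module R M] [AddCommGroup X]
    [Module R X] (u : ∀ n, P n →ₗ[R] M)
    (hcover : ∀ m : M, ∃ n, ∃ y : P n, u n y = m) (b b' : M →ₗ[R] X)
    (h : ∀ n, b ∘ₗ u n = b' ∘ₗ u n) : b = b' := by
  apply LinearMap.ext
  intro m
  obtain ⟨n, y, rfl⟩ := hcover m
  exact LinearMap.congr_fun (h n) y

end Tower

section MLTower

variable {R : Type u} [CommRing R]

/-- Maps with the same universal kernels have the same kernel. -/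
theorem ker_eq_of_forall_ker_rTensor_eq {X Y Y' : Type u} [AddCommGroup X] [Module R X]
    [AddCommGroup Y] [Module R Y] [AddCommGroup Y'] [Module R Y'] (a : X →ₗ[R] Y)
    (b : X →ₗ[R] Y')
    (h : ∀ (T : Type u) [AddCommGroup T] [Module R T],
      LinearMap.ker (a.rTensor T) = LinearMap.ker (b.rTensor T)) :
    LinearMap.ker a = LinearMap.ker b := by
  have key : ∀ {Z : Type u} [AddCommGroup Z] [Module R Z] (c : X →ₗ[R] Z) (x : X),
      x ∈ LinearMap.ker c ↔ x ⊗ₜ[R] (1 : R) ∈ LinearMap.ker (c.rTensor R) := by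
    intro Z _ _ c x
    rw [LinearMap.mem_ker, LinearMap.mem_ker, LinearMap.rTensor_tmul,
      ← LinearEquiv.map_eq_zero_iff (TensorProduct.rid R Z), TensorProduct.rid_tmul, one_smul]
  ext x
  rw [key a x, key b x, h R]

variable {P : ℕ → Type u} [∀ n, AddCommGroup (P n)]
  [∀ n, Module R (P n)] (ι : ∀ n, P n →ₗ[R] P (n + 1))

/-- Key construction for countably generated Mittag-Leffler modules: if `M` is Mittag-Leffler and
is covered by a tower of finitely presented modules `P n`, then the map `u 0 : P 0 → M` factors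
through a finitely presented module `Q` via a map `g` which extends to all of `M`. -/
theorem ml_tower_exists_retraction {M : Type u} [AddCommGroup M] [Module R M]
    (hML : CAlg.IsMittagLeffler R M) [∀ n, Module.FinitePresentation R (P n)]
    (u : ∀ n, P n →ₗ[R] M) (hu : ∀ n, u (n + 1) ∘ₗ ι n = u n)
    (hcover : ∀ m : M, ∃ n, ∃ y : P n, u n y = m) :
    ∃ (Q : Type u) (_ : AddCommGroup Q) (_ : Module R Q) (_ : Module.FinitePresentation R Q)
      (g : P 0 →ₗ[R] Q) (c : Q →ₗ[R] M) (b : M →ₗ[R] Q), u 0 = c ∘ₗ g ∧ b ∘ₗ u 0 = g := by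
  classical
  choose Q iA iM iF g hfac hker using fun n => exists_dominating hML (P n) (u n)
  letI : ∀ n, AddCommGroup (Q n) := iA
  letI : ∀ n, Module R (Q n) := iM
  haveI : ∀ n, Module.FinitePresentation R (Q n) := iF
  choose hh hhfac using hfac
  have hker' : ∀ n, LinearMap.ker (u n) = LinearMap.ker (g n) := fun n =>
    ker_eq_of_forall_ker_rTensor_eq (u n) (g n) (hker n)
  have ht : ∀ n, ∃ t : Q (n + 1) →ₗ[R] Q n, g n = t ∘ₗ (g (n + 1) ∘ₗ ι n) := by
    intro n
    haveI : Module.FinitePresentation R (Q (n + 1) ⧸ LinearMap.range (g (n + 1) ∘ₗ ι n)) :=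
      Module.finitePresentation_of_surjective (LinearMap.range (g (n + 1) ∘ₗ ι n)).mkQ
        (Submodule.mkQ_surjective _) (by
          rw [Submodule.ker_mkQ, LinearMap.range_eq_map]
          exact (Module.Finite.fg_top).map _)
    apply (Groth.Agent.S6359.result R (g (n + 1) ∘ₗ ι n) (g n)).1
    intro T _ _ x hx
    rw [← hker n T, LinearMap.mem_ker, ← hu n, hhfac (n + 1), LinearMap.comp_assoc,
      LinearMap.rTensor_comp, LinearMap.comp_apply, LinearMap.mem_ker.1 hx, map_zero]
  choose t ht' using ht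
  let s : ∀ n, Q n →ₗ[R] Q 0 := fun n => Nat.rec (motive := fun n => Q n →ₗ[R] Q 0)
    LinearMap.id (fun k sk => sk ∘ₗ t k) n
  have hs : ∀ n, s (n + 1) = s n ∘ₗ t n := fun n => rfl
  have hB : ∀ n, (s (n + 1) ∘ₗ g (n + 1)) ∘ₗ ι n = s n ∘ₗ g n := by
    intro n
    rw [hs n, LinearMap.comp_assoc, LinearMap.comp_assoc, ← ht' n]
  have hkerB : ∀ n, LinearMap.ker (u n) ≤ LinearMap.ker (s n ∘ₗ g n) := by
    intro n x hx
    rw [hker' n] at hx
    rw [LinearMap.mem_ker, LinearMap.comp_apply, LinearMap.mem_ker.1 hx, map_zero]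
  obtain ⟨b, hb⟩ := tower_exists_factor ι u hu hcover (fun n => s n ∘ₗ g n) hB hkerB
  refine ⟨Q 0, inferInstance, inferInstance, inferInstance, g 0, hh 0, b, hhfac 0, ?_⟩
  rw [hb 0]
  rfl

end MLTower

end Groth.Agent.Lib.Helper54
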