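/-
helper54: countably generated Mittag-Leffler modules: any map from a finitely presented module
extends to an endomorphism-like retraction through a finitely presented module (Stacks 059Y-ish).
-/
import Groth.Agent.Lib.Helper54.MLTower

set_option autoImplicit false
set_option maxHeartbeats 400000
universe u

namespace Groth.Agent.Lib.Helper54

open TensorProduct Function

section Count

variable {R : Type u} [CommRing R]

/-- A countably generated module is spanned by a sequence. -/
theorem exists_seq_span_eq_top {M : Type u} [AddCommGroup M] [Module R M]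
    (hc : CAlg.IsCountablyGenerated R M) :
    ∃ x : ℕ → M, Submodule.span R (Set.range x) = ⊤ := by
  obtain ⟨s, hs, hspan⟩ := hc
  have hs' : (insert (0 : M) s).Countable := hs.insert 0
  obtain ⟨x, hx⟩ := hs'.exists_eq_range (Set.insert_nonempty 0 s)
  refine ⟨x, ?_⟩
  rw [← hx, eq_top_iff, ← hspan]
  exact Submodule.span_mono (Set.subset_insert 0 s)

/-- If `M` is Mittag-Leffler and generated by a sequence, then any map `f₀ : P₀ → M` from a
finitely presented module factors as `c ∘ g` through a finitely presented module `Q` such that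
`g` extends along `f₀` to a map `b : M → Q`. -/
theorem exists_retraction_of_ml_seq {M : Type u} [AddCommGroup M] [Module R M]
    (hML : CAlg.IsMittagLeffler R M) (x : ℕ → M) (hx : Submodule.span R (Set.range x) = ⊤)
    {P₀ : Type u} [AddCommGroup P₀] [Module R P₀] [Module.FinitePresentation R P₀]
    (f₀ : P₀ →ₗ[R] M) :
    ∃ (Q : Type u) (_ : AddCommGroup Q) (_ : Module R Q) (_ : Module.FinitePresentation R Q)
      (g : P₀ →ₗ[R] Q) (c : Q →ₗ[R] M) (b : M →ₗ[R] Q), f₀ = c ∘ₗ g ∧ b ∘ₗ f₀ = g := by
  classical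
  let Pn : ℕ → Type u := fun n => P₀ × (Fin n →₀ R)
  let ι : ∀ n, Pn n →ₗ[R] Pn (n + 1) := fun n =>
    LinearMap.prodMap LinearMap.id (Finsupp.lmapDomain R R Fin.castSucc)
  let u : ∀ n, Pn n →ₗ[R] M := fun n =>
    f₀.coprod (Finsupp.linearCombination R (fun k : Fin n => x k))
  haveI : ∀ n, Module.FinitePresentation R (Pn n) := by
    intro n
    haveI : Module.FinitePresentation R (Fin n →₀ R) :=
      Module.finitePresentation_of_projective _ _
    exact Module.finitePresentation_of_surjective
      (LinearMap.id : (P₀ × (Fin n →₀ R)) →ₗ[R] (P₀ × (Fin n →₀ R)))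
      surjective_id (by rw [LinearMap.ker_id]; exact Submodule.fg_bot)
  have hu : ∀ n, u (n + 1) ∘ₗ ι n = u n := by
    intro n
    apply LinearMap.ext
    rintro ⟨v, w⟩
    show f₀ v + Finsupp.linearCombination R (fun k : Fin (n + 1) => x k)
        (Finsupp.mapDomain Fin.castSucc w) =
      f₀ v + Finsupp.linearCombination R (fun k : Fin n => x k) w
    rw [Finsupp.linearCombination_mapDomain]
    rfl
  have hcover : ∀ m : M, ∃ n, ∃ y : Pn n, u n y = m := by
    intro m
    have hm : m ∈ Submodule.span R (Set.range x) := by rw [hx]; trivial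
    induction hm using Submodule.span_induction with
    | mem m hm =>
      obtain ⟨k, rfl⟩ := hm
      refine ⟨k + 1, ((0 : P₀), Finsupp.single (Fin.last k) (1 : R)), ?_⟩
      show f₀ 0 + Finsupp.linearCombination R (fun j : Fin (k + 1) => x j)
        (Finsupp.single (Fin.last k) (1 : R)) = x k
      rw [map_zero, zero_add, Finsupp.linearCombination_single, one_smul]
      rfl
    | zero => exact ⟨0, 0, map_zero _⟩
    | add m₁ m₂ _ _ h₁ h₂ =>
      obtain ⟨n₁, y₁, rfl⟩ := h₁
      obtain ⟨n₂, y₂, rfl⟩ := h₂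
      obtain ⟨z₁, hz₁, -⟩ := tower_exists_push ι u hu u hu n₁ (max n₁ n₂) (le_max_left _ _) y₁
      obtain ⟨z₂, hz₂, -⟩ := tower_exists_push ι u hu u hu n₂ (max n₁ n₂) (le_max_right _ _) y₂
      exact ⟨max n₁ n₂, z₁ + z₂, by rw [map_add, hz₁, hz₂]⟩
    | smul r m _ h =>
      obtain ⟨n, y, rfl⟩ := h
      exact ⟨n, r • y, map_smul _ _ _⟩
  obtain ⟨Q, _, _, _, g, c, b, h1, h2⟩ := ml_tower_exists_retraction ι hML u hu hcover
  have hinl : u 0 ∘ₗ LinearMap.inl R P₀ (Fin 0 →₀ R) = f₀ := LinearMap.coprod_inl _ _
  refine ⟨Q, inferInstance, inferInstance, inferInstance,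
    g ∘ₗ LinearMap.inl R P₀ (Fin 0 →₀ R), c, b, ?_, ?_⟩
  · rw [← LinearMap.comp_assoc, ← h1, hinl]
  · rw [← hinl, ← LinearMap.comp_assoc, h2]

/-- Stacks 059Y-type statement: for a countably generated Mittag-Leffler module `M` and a map
`f : P → M` from a finitely generated module, there is an endomorphism of `M` factoring through a
finitely presented module which is the identity on the image of `f`. -/
theorem exists_endo_of_ml_countablyGenerated {M : Type u} [AddCommGroup M] [Module R M]
    (hML : CAlg.IsMittagLeffler R M) (hc : CAlg.IsCountablyGenerated R M)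
    {P : Type u} [AddCommGroup P] [Module R P] [Module.Finite R P] (f : P →ₗ[R] M) :
    ∃ (Q : Type u) (_ : AddCommGroup Q) (_ : Module R Q) (_ : Module.FinitePresentation R Q)
      (b : M →ₗ[R] Q) (c : Q →ₗ[R] M), (c ∘ₗ b) ∘ₗ f = f := by
  obtain ⟨x, hx⟩ := exists_seq_span_eq_top hc
  obtain ⟨a, π, hπ⟩ := Module.Finite.exists_fin' R P
  haveI : Module.FinitePresentation R (Fin a → R) := Module.finitePresentation_of_projective _ _
  obtain ⟨Q, _, _, _, g, c, b, h1, h2⟩ := exists_retraction_of_ml_seq hML x hx (f ∘ₗ π)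
  refine ⟨Q, inferInstance, inferInstance, inferInstance, b, c, ?_⟩
  apply LinearMap.ext
  intro p
  obtain ⟨v, rfl⟩ := hπ p
  have e1 : b (f (π v)) = g v := LinearMap.congr_fun h2 v
  have e2 : f (π v) = c (g v) := LinearMap.congr_fun h1 v
  simp only [LinearMap.comp_apply]
  rw [e1, ← e2]

end Count

end Groth.Agent.Lib.Helper54
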