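/-
helper54: finiteness / finite presentation of a module detected by the comparison maps
`M ⊗ ∏ Q → ∏ M ⊗ Q` (Stacks 059J, 059K).
-/
import Groth.Agent.Lib.Helper54.MLFP
import Mathlib.RingTheory.Flat.Basic
import Mathlib.LinearAlgebra.TensorProduct.RightExactness

set_option autoImplicit false
set_option maxHeartbeats 400000
universe u

namespace Groth.Agent.Lib.Helper54

open TensorProduct Function

section Fin

variable (R : Type u) [CommRing R]

/-- If `M ⊗ R^M → M^M`-type comparison map is surjective then `M` is finitely generated. -/
theorem finite_of_piRightHom_surjective (M : Type u) [AddCommGroup M] [Module R M]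
    (h : Surjective (TensorProduct.piRightHom R R M (fun _ : M => R))) : Module.Finite R M := by
  classical
  obtain ⟨x, hx⟩ := h (fun m => m ⊗ₜ[R] (1 : R))
  obtain ⟨n, a, q, rfl⟩ := TensorProduct.exists_sum_tmul_eq x
  refine ⟨⟨Finset.univ.image a, ?_⟩⟩
  rw [eq_top_iff]
  intro m _
  have h1 := congrFun hx m
  rw [map_sum, Finset.sum_apply] at h1
  have h2 := congrArg (TensorProduct.rid R M) h1
  rw [map_sum] at h2
  simp only [TensorProduct.piRightHom_tmul, TensorProduct.rid_tmul, one_smul] at h2
  rw [← h2]
  apply Submodule.sum_mem
  intro k _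
  apply Submodule.smul_mem
  apply Submodule.subset_span
  simp

/-- If all comparison maps `M ⊗ ∏ Q → ∏ M ⊗ Q` are bijective then `M` is finitely presented. -/
theorem finitePresentation_of_piRightHom_bijective (M : Type u) [AddCommGroup M] [Module R M]
    (h : ∀ (ι : Type u) (Q : ι → Type u) [∀ i, AddCommGroup (Q i)] [∀ i, Module R (Q i)],
      Bijective (TensorProduct.piRightHom R R M Q)) : Module.FinitePresentation R M := by
  classical
  haveI : Module.Finite R M := finite_of_piRightHom_surjective R M (h M (fun _ => R)).2
  obtain ⟨n, π, hπ⟩ := Module.Finite.exists_fin' R M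
  have hex : Exact (LinearMap.ker π).subtype π := LinearMap.exact_subtype_ker_map π
  have hinj : Injective ((LinearMap.ker π).subtype.rTensor R) :=
    Module.Flat.rTensor_preserves_injective_linearMap _ (Submodule.injective_subtype _)
  haveI : Module.Finite R ↥(LinearMap.ker π) := by
    apply finite_of_piRightHom_surjective
    intro y
    obtain ⟨z, hz⟩ := piRightHom_surjective_of_finite R (Fin n → R)
      (fun _ : ↥(LinearMap.ker π) => R) (fun k => (LinearMap.ker π).subtype.rTensor R (y k))
    have hz0 : π.rTensor (↥(LinearMap.ker π) → R) z = 0 := by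
      apply (h ↥(LinearMap.ker π) (fun _ => R)).1
      rw [map_zero]
      funext k
      rw [piRightHom_rTensor, hz, ← LinearMap.comp_apply, ← LinearMap.rTensor_comp]
      have : π ∘ₗ (LinearMap.ker π).subtype = 0 := by
        apply LinearMap.ext
        intro v
        exact v.2
      rw [this, LinearMap.rTensor_zero]
      rfl
    obtain ⟨w, hw⟩ := (rTensor_exact (↥(LinearMap.ker π) → R) hex hπ z).1 hz0
    refine ⟨w, ?_⟩
    funext k
    apply hinj
    have h3 := piRightHom_rTensor R (LinearMap.ker π).subtype
      (fun _ : ↥(LinearMap.ker π) => R) w k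
    rw [hw, hz] at h3
    exact h3.symm
  exact Module.finitePresentation_of_surjective π hπ (Module.Finite.iff_fg.1 inferInstance)

end Fin

end Groth.Agent.Lib.Helper54
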