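/-
helper54: Kaplansky's theorem: a direct summand of a direct sum of countably generated modules
is a direct sum of countably generated modules (Stacks 058X-058Y), via Zorn's lemma.
-/
import Groth.Prelude
import Mathlib.Algebra.DirectSum.Module
import Mathlib.Order.CompactlyGenerated.Basic
import Mathlib.Order.Zorn
import Mathlib.LinearAlgebra.Finsupp.Span
import Mathlib.LinearAlgebra.Projection
import Mathlib.Data.Set.Countable

set_option autoImplicit false
set_option maxHeartbeats 400000
universe u

namespace Groth.Agent.Lib.Helper54.Kap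

open Function

section Basic

variable {R : Type u} [CommRing R] {M : Type u} [AddCommGroup M] [Module R M] {ι : Type u}

/-- A submodule generated by countably many elements. -/
def CG (L : Submodule R M) : Prop := ∃ s : Set M, s.Countable ∧ Submodule.span R s = L

theorem CG.map {M' : Type u} [AddCommGroup M'] [Module R M'] {L : Submodule R M} (h : CG L)
    (f : M →ₗ[R] M') : CG (L.map f) := by
  obtain ⟨s, hs, rfl⟩ := h
  exact ⟨f '' s, hs.image f, (Submodule.map_span f s).symm⟩

theorem CG.biSup {C : Set ι} (hC : C.Countable) (N : ι → Submodule R M)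
    (h : ∀ i ∈ C, CG (N i)) : CG (⨆ i ∈ C, N i) := by
  classical
  choose g hgc hgs using h
  refine ⟨⋃ i : C, g i.1 i.2, ?_, ?_⟩
  · haveI : Countable C := hC.to_subtype
    exact Set.countable_iUnion fun i => hgc i.1 i.2
  · rw [Submodule.span_iUnion]
    apply le_antisymm
    · apply iSup_le
      intro i
      rw [hgs i.1 i.2]
      exact le_biSup N i.2
    · apply iSup₂_le
      intro i hi
      rw [← hgs i hi]
      exact le_iSup (fun j : C => Submodule.span R (g j.1 j.2)) ⟨i, hi⟩

theorem CG_of_isCountablyGenerated (L : Submodule R M)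
    (h : CAlg.IsCountablyGenerated R ↥L) : CG L := by
  obtain ⟨s, hs, hspan⟩ := h
  refine ⟨L.subtype '' s, hs.image _, ?_⟩
  rw [← Submodule.map_span, hspan, Submodule.map_top, Submodule.range_subtype]

theorem isCountablyGenerated_of_CG (L : Submodule R M) (h : CG L) :
    CAlg.IsCountablyGenerated R ↥L := by
  obtain ⟨s, hs, rfl⟩ := h
  refine ⟨((↑) : Submodule.span R s → M) ⁻¹' s, ?_, Submodule.span_span_coe_preimage⟩
  exact hs.preimage_of_injOn Subtype.val_injective.injOn

theorem isCountablyGenerated_of_surjective {A B : Type u} [AddCommGroup A] [Module R A]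
    [AddCommGroup B] [Module R B] (f : A →ₗ[R] B) (hf : Surjective f)
    (h : CAlg.IsCountablyGenerated R A) : CAlg.IsCountablyGenerated R B := by
  obtain ⟨s, hs, hspan⟩ := h
  refine ⟨f '' s, hs.image f, ?_⟩
  rw [← Submodule.map_span, hspan, Submodule.map_top, LinearMap.range_eq_top.2 hf]

/-- The sum of the members of the family indexed by a subset. -/
def MJ (N : ι → Submodule R M) (J : Set ι) : Submodule R M := ⨆ i ∈ J, N i

theorem MJ_mono (N : ι → Submodule R M) {J J' : Set ι} (h : J ⊆ J') : MJ N J ≤ MJ N J' :=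
  biSup_mono h

theorem le_MJ (N : ι → Submodule R M) {J : Set ι} {i : ι} (hi : i ∈ J) : N i ≤ MJ N J :=
  le_biSup N hi

theorem MJ_union (N : ι → Submodule R M) (J J' : Set ι) :
    MJ N (J ∪ J') = MJ N J ⊔ MJ N J' := iSup_union

/-- Countable closure: every countable set of indices is contained in a countable set of indices
`C'` such that `π` maps `MJ N C'` into itself. -/
theorem exists_countable_closed (N : ι → Submodule R M) (hsup : ⨆ i, N i = ⊤)
    (hN : ∀ i, CG (N i)) (π : M →ₗ[R] M) (C : Set ι) (hC : C.Countable) :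
    ∃ C' : Set ι, C ⊆ C' ∧ C'.Countable ∧ ∀ i ∈ C', N i ≤ (MJ N C').comap π := by
  classical
  choose g hgc hgs using hN
  have hmem : ∀ m : M, m ∈ ⨆ i, N i := fun m => by rw [hsup]; trivial
  choose supp hsupp using fun m => Submodule.exists_finset_of_mem_iSup N (hmem m)
  let step : Set ι → Set ι := fun C => C ∪ ⋃ i ∈ C, ⋃ m ∈ g i, (supp (π m) : Set ι)
  have hstep : ∀ C : Set ι, C.Countable → (step C).Countable := by
    intro C hC
    apply hC.union
    apply hC.biUnion
    intro i _
    apply (hgc i).biUnion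
    intro m _
    exact (supp (π m)).countable_toSet
  let Cn : ℕ → Set ι := fun n => step^[n] C
  have hCn : ∀ n, (Cn n).Countable := by
    intro n
    induction n with
    | zero => exact hC
    | succ n ih =>
      show (step^[n + 1] C).Countable
      rw [Function.iterate_succ_apply']
      exact hstep _ ih
  refine ⟨⋃ n, Cn n, Set.subset_iUnion Cn 0, Set.countable_iUnion hCn, ?_⟩
  intro i hi
  obtain ⟨n, hn⟩ := Set.mem_iUnion.1 hi
  rw [← hgs i, Submodule.span_le]
  intro m hm
  show π m ∈ MJ N (⋃ n, Cn n)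
  have h1 : (supp (π m) : Set ι) ⊆ ⋃ n, Cn n := by
    intro j hj
    apply Set.mem_iUnion.2
    refine ⟨n + 1, ?_⟩
    show j ∈ step^[n + 1] C
    rw [Function.iterate_succ_apply']
    apply Set.mem_union_right
    exact Set.mem_biUnion hn (Set.mem_biUnion hm hj)
  have h2 : (⨆ j ∈ supp (π m), N j) ≤ MJ N (⋃ n, Cn n) :=
    biSup_mono (fun j hj => h1 (Finset.mem_coe.2 hj))
  exact h2 (hsupp (π m))

end Basic

section Zorn

variable {R : Type u} [CommRing R] {M : Type u} [AddCommGroup M] [Module R M] {ι : Type u}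

/-- Inserting an element disjoint from the supremum keeps a set independent. -/
theorem sSupIndep_insert {α : Type u} [CompleteLattice α] [IsModularLattice α] {s : Set α}
    (hs : sSupIndep s) {c : α} (hc : Disjoint c (sSup s)) : sSupIndep (insert c s) := by
  intro a ha
  by_cases hac : a = c
  · subst hac
    apply hc.mono_right
    apply sSup_le_sSup
    intro b hb
    rcases hb.1 with h | h
    · exact absurd h hb.2
    · exact h
  · have has : a ∈ s := by
      rcases ha with h | h
      · exact absurd h hac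
      · exact h
    have hset : insert c s \ {a} = insert c (s \ {a}) := by
      apply Set.insert_diff_of_notMem
      intro h
      exact hac (Set.mem_singleton_iff.1 h).symm
    rw [hset, sSup_insert, sup_comm]
    apply Disjoint.disjoint_sup_right_of_disjoint_sup_left (hs has)
    apply hc.symm.mono_left
    exact sup_le (le_sSup has) (sSup_le_sSup Set.sdiff_subset)

variable (N : ι → Submodule R M) (π : M →ₗ[R] M)

/-- `J` is split: `π` maps `MJ N J` into itself. -/
def Split (J : Set ι) : Prop := ∀ i ∈ J, N i ≤ (MJ N J).comap π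

theorem Split.map_le {J : Set ι} (h : Split N π J) : (MJ N J).map π ≤ MJ N J := by
  rw [Submodule.map_le_iff_le_comap]
  exact iSup₂_le h

theorem Split.union {J J' : Set ι} (h : Split N π J) (h' : Split N π J') :
    Split N π (J ∪ J') := by
  intro i hi
  rcases hi with hi | hi
  · exact (h i hi).trans (Submodule.comap_mono (MJ_mono N Set.subset_union_left))
  · exact (h' i hi).trans (Submodule.comap_mono (MJ_mono N Set.subset_union_right))

/-- The set to which Zorn's lemma is applied. -/
def Good (z : Set ι × Set (Submodule R M)) : Prop :=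
  Split N π z.1 ∧ sSupIndep z.2 ∧ sSup z.2 = (MJ N z.1).map π ∧ ∀ L ∈ z.2, CG L

theorem isCompl_MJ (hind : iSupIndep N) (hsup : ⨆ i, N i = ⊤) (J : Set ι) :
    IsCompl (MJ N J) (MJ N Jᶜ) := by
  constructor
  · exact hind.disjoint_biSup_biSup disjoint_compl_right
  · rw [codisjoint_iff, ← MJ_union, Set.union_compl_self]
    show ⨆ i ∈ (Set.univ : Set ι), N i = ⊤
    rw [iSup_univ, hsup]

/-- The extension step. -/
theorem exists_extension (hind : iSupIndep N) (hsup : ⨆ i, N i = ⊤) (hN : ∀ i, CG (N i))
    (hπ : ∀ m, π (π m) = π m) (z : Set ι × Set (Submodule R M)) (hz : Good N π z) (i₀ : ι) :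
    ∃ z', Good N π z' ∧ z ≤ z' ∧ i₀ ∈ z'.1 := by
  classical
  obtain ⟨hsplit, hindep, hsSup, hCG⟩ := hz
  obtain ⟨C', hC'sub, hC'c, hC'cl⟩ :=
    exists_countable_closed N hsup hN π {i₀} (Set.countable_singleton i₀)
  have hsplit' : Split N π (z.1 ∪ C') := hsplit.union N π hC'cl
  have hcompl := isCompl_MJ N hind hsup z.1
  let q : M →ₗ[R] M := (MJ N z.1).projection (MJ N z.1ᶜ) hcompl
  have hq1 : ∀ m ∈ MJ N z.1, q m = m := fun m hm =>
    (Submodule.projection_eq_self_iff hcompl m).2 hm
  have hq2 : ∀ m, q m ∈ MJ N z.1 := fun m => Submodule.projection_apply_mem hcompl m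
  let ψ : M →ₗ[R] M := π ∘ₗ q
  have hψ1 : ∀ m, ψ m ∈ (MJ N z.1).map π := fun m => Submodule.mem_map_of_mem (hq2 m)
  have hψ2 : ∀ x ∈ (MJ N z.1).map π, ψ x = x := by
    intro x hx
    have hx' : x ∈ MJ N z.1 := hsplit.map_le N π hx
    obtain ⟨w, -, rfl⟩ := hx
    show π (q (π w)) = π w
    rw [hq1 _ hx', hπ]
  let D : Submodule R M := MJ N (C' \ z.1)
  have hD : CG D := CG.biSup (hC'c.mono Set.sdiff_subset) N (fun i _ => hN i)
  let Cnew : Submodule R M := D.map ((LinearMap.id - ψ) ∘ₗ π)
  have hCnew : CG Cnew := hD.map _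
  have hMJ' : MJ N (z.1 ∪ C') = MJ N z.1 ⊔ D := by
    rw [← MJ_union, Set.union_sdiff_self]
  have hdisj : Disjoint Cnew (sSup z.2) := by
    rw [hsSup, Submodule.disjoint_def]
    intro x hx1 hx2
    obtain ⟨d, -, rfl⟩ := hx1
    have e1 : ψ (((LinearMap.id - ψ) ∘ₗ π) d) = 0 := by
      show ψ (π d - ψ (π d)) = 0
      rw [map_sub, hψ2 _ (hψ1 (π d)), sub_self]
    rw [← hψ2 _ hx2, e1]
  refine ⟨(z.1 ∪ C', insert Cnew z.2), ⟨hsplit', sSupIndep_insert hindep hdisj, ?_, ?_⟩,
    ⟨Set.subset_union_left, Set.subset_insert _ _⟩,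
    Set.mem_union_right _ (hC'sub (Set.mem_singleton i₀))⟩
  · show sSup (insert Cnew z.2) = (MJ N (z.1 ∪ C')).map π
    rw [sSup_insert, hsSup, hMJ', Submodule.map_sup]
    apply le_antisymm
    · apply sup_le _ le_sup_left
      rintro _ ⟨d, hd, rfl⟩
      show π d - ψ (π d) ∈ _
      exact Submodule.sub_mem _
        (Submodule.mem_sup_right (Submodule.mem_map_of_mem hd))
        (Submodule.mem_sup_left (hψ1 (π d)))
    · apply sup_le le_sup_right
      rintro _ ⟨d, hd, rfl⟩
      have : π d = ((LinearMap.id - ψ) ∘ₗ π) d + ψ (π d) := by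
        show π d = (π d - ψ (π d)) + ψ (π d)
        abel
      rw [this]
      exact Submodule.add_mem _
        (Submodule.mem_sup_left (Submodule.mem_map_of_mem hd))
        (Submodule.mem_sup_right (hψ1 (π d)))
  · intro L hL
    rcases hL with rfl | hL
    · exact hCnew
    · exact hCG L hL

/-- Kaplansky's theorem, lattice form: if `M` is the internal direct sum of countably generated
submodules `N i` and `π` is an idempotent endomorphism of `M`, then the range of `π` is the
supremum of an independent set of countably generated submodules. -/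
theorem exists_indep_cg_range (hind : iSupIndep N) (hsup : ⨆ i, N i = ⊤) (hN : ∀ i, CG (N i))
    (hπ : ∀ m, π (π m) = π m) :
    ∃ 𝓛 : Set (Submodule R M), sSupIndep 𝓛 ∧ sSup 𝓛 = LinearMap.range π ∧ ∀ L ∈ 𝓛, CG L := by
  classical
  obtain ⟨z, hzmax⟩ := zorn_le₀ {z : Set ι × Set (Submodule R M) | Good N π z} (by
    intro c hcS hchain
    refine ⟨(⋃ z ∈ c, z.1, ⋃ z ∈ c, z.2), ⟨?_, ?_, ?_, ?_⟩, ?_⟩
    · intro i hi
      obtain ⟨z, hz, hiz⟩ := Set.mem_iUnion₂.1 hi
      exact ((hcS hz).1 i hiz).trans
        (Submodule.comap_mono (MJ_mono N (Set.subset_biUnion_of_mem hz)))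
    · have : (⋃ z ∈ c, z.2) = ⋃₀ (Prod.snd '' c) := by
        rw [Set.sUnion_image]
      show sSupIndep (⋃ z ∈ c, z.2)
      rw [this]
      apply iSupIndep_sUnion_of_directed
      · rintro _ ⟨z₁, hz₁, rfl⟩ _ ⟨z₂, hz₂, rfl⟩
        rcases hchain.total hz₁ hz₂ with h | h
        · exact ⟨z₂.2, ⟨z₂, hz₂, rfl⟩, h.2, le_rfl⟩
        · exact ⟨z₁.2, ⟨z₁, hz₁, rfl⟩, le_rfl, h.2⟩
      · rintro _ ⟨z, hz, rfl⟩
        exact (hcS hz).2.1
    · show sSup (⋃ z ∈ c, z.2) = (MJ N (⋃ z ∈ c, z.1)).map π
      apply le_antisymm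
      · apply sSup_le
        intro L hL
        obtain ⟨z, hz, hLz⟩ := Set.mem_iUnion₂.1 hL
        calc L ≤ sSup z.2 := le_sSup hLz
          _ = (MJ N z.1).map π := (hcS hz).2.2.1
          _ ≤ _ := Submodule.map_mono (MJ_mono N (Set.subset_biUnion_of_mem hz))
      · rw [Submodule.map_le_iff_le_comap]
        apply iSup₂_le
        intro i hi
        obtain ⟨z, hz, hiz⟩ := Set.mem_iUnion₂.1 hi
        calc N i ≤ MJ N z.1 := le_MJ N hiz
          _ ≤ ((MJ N z.1).map π).comap π := Submodule.le_comap_map _ _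
          _ = (sSup z.2).comap π := by rw [(hcS hz).2.2.1]
          _ ≤ _ := Submodule.comap_mono (sSup_le_sSup (Set.subset_biUnion_of_mem hz))
    · intro L hL
      obtain ⟨z, hz, hLz⟩ := Set.mem_iUnion₂.1 hL
      exact (hcS hz).2.2.2 L hLz
    · intro z hz
      exact ⟨Set.subset_biUnion_of_mem (u := fun z : Set ι × Set (Submodule R M) => z.1) hz,
        Set.subset_biUnion_of_mem (u := fun z : Set ι × Set (Submodule R M) => z.2) hz⟩)
  have hzgood : Good N π z := hzmax.prop
  have huniv : z.1 = Set.univ := by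
    rw [Set.eq_univ_iff_forall]
    intro i₀
    obtain ⟨z', hz', hle, hi₀⟩ := exists_extension N π hind hsup hN hπ z hzgood i₀
    exact (hzmax.le_of_ge hz' hle).1 hi₀
  refine ⟨z.2, hzgood.2.1, ?_, hzgood.2.2.2⟩
  rw [hzgood.2.2.1, huniv]
  have : MJ N Set.univ = ⊤ := by
    show ⨆ i ∈ (Set.univ : Set ι), N i = ⊤
    rw [iSup_univ, hsup]
  rw [this, Submodule.map_top]

end Zorn

section Final

open scoped Classical

variable {R : Type u} [CommRing R] {M : Type u} [AddCommGroup M] [Module R M] {ι : Type u}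

/-- An independent set of submodules with supremum `P` gives an internal direct sum decomposition
of `P`. -/
theorem isInternal_comap_subtype (P : Submodule R M) (𝓛 : Set (Submodule R M))
    [dec : DecidableEq ↥𝓛] (hind : sSupIndep 𝓛) (hsup : sSup 𝓛 = P) :
    DirectSum.IsInternal (fun k : 𝓛 => (k.1).comap P.subtype) := by
  have hle : ∀ k : 𝓛, k.1 ≤ P := fun k => hsup ▸ le_sSup k.2
  have hmap : ∀ k : 𝓛, ((k.1).comap P.subtype).map P.subtype = k.1 := by
    intro k
    rw [Submodule.map_comap_subtype, inf_eq_right.2 (hle k)]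
  rw [DirectSum.isInternal_submodule_iff_iSupIndep_and_iSup_eq_top]
  constructor
  · rw [← iSupIndep_map_orderIso_iff (f := P.mapIic)]
    apply iSupIndep.of_coe_Iic_comp
    have : ((↑) : Set.Iic P → Submodule R M) ∘ (⇑P.mapIic ∘
        fun k : 𝓛 => (k.1).comap P.subtype) = ((↑) : 𝓛 → Submodule R M) := by
      funext k
      exact hmap k
    rw [this]
    exact (sSupIndep_iff 𝓛).1 hind
  · apply Submodule.map_injective_of_injective P.injective_subtype
    rw [Submodule.map_iSup, Submodule.map_top, Submodule.range_subtype]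
    simp_rw [hmap]
    rw [← sSup_eq_iSup', hsup]

/-- Kaplansky's theorem (Stacks 058Y): a direct summand of an internal direct sum of countably
generated submodules is an internal direct sum of countably generated submodules. -/
theorem kaplansky (N : ι → Submodule R M) (hN : DirectSum.IsInternal N)
    (hc : ∀ i, CAlg.IsCountablyGenerated R (N i)) (P Q : Submodule R M) (hPQ : IsCompl P Q) :
    ∃ (κ : Type u) (L : κ → Submodule R P), DirectSum.IsInternal L ∧
      ∀ k, CAlg.IsCountablyGenerated R (L k) := by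
  classical
  obtain ⟨hind, hsup⟩ := (DirectSum.isInternal_submodule_iff_iSupIndep_and_iSup_eq_top N).1 hN
  have hπ : ∀ m, P.projection Q hPQ (P.projection Q hPQ m) = P.projection Q hPQ m := fun m =>
    (Submodule.projection_eq_self_iff hPQ _).2 (Submodule.projection_apply_mem hPQ m)
  obtain ⟨𝓛, h𝓛ind, h𝓛sup, h𝓛cg⟩ := exists_indep_cg_range N (P.projection Q hPQ) hind hsup
    (fun i => CG_of_isCountablyGenerated (N i) (hc i)) hπ
  rw [Submodule.range_projection] at h𝓛sup
  refine ⟨𝓛, fun k => (k.1).comap P.subtype, isInternal_comap_subtype P 𝓛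
    (dec := fun a b => Classical.propDecidable (a = b)) h𝓛ind h𝓛sup, ?_⟩
  intro k
  have hle : k.1 ≤ P := h𝓛sup ▸ le_sSup k.2
  exact isCountablyGenerated_of_surjective
    (Submodule.comapSubtypeEquivOfLe hle).symm.toLinearMap
    (Submodule.comapSubtypeEquivOfLe hle).symm.surjective
    (isCountablyGenerated_of_CG k.1 (h𝓛cg k.1 k.2))

end Final

end Groth.Agent.Lib.Helper54.Kap
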