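/-
helper54: a flat, Mittag-Leffler, countably generated module is projective (Stacks 059Z).
-/
import Groth.Agent.Lib.Helper54.MLCount
import Mathlib.RingTheory.Flat.EquationalCriterion

set_option autoImplicit false
set_option maxHeartbeats 400000
universe u

namespace Groth.Agent.Lib.Helper54

open TensorProduct Function

section Proj

variable {R : Type u} [CommRing R] {M : Type u} [AddCommGroup M] [Module R M]

/-- One step of the construction: given a map `c₀` from a finite free module to a flat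
Mittag-Leffler module `M` generated by a sequence, and an element `m₀`, there is an endomorphism
`c ∘ b` of `M` through a finite free module which fixes the image of `c₀` and `m₀`. -/
theorem exists_free_retraction_step [Module.Flat R M] (hML : CAlg.IsMittagLeffler R M)
    (x : ℕ → M) (hx : Submodule.span R (Set.range x) = ⊤) (k : ℕ)
    (c₀ : (Fin k →₀ R) →ₗ[R] M) (m₀ : M) :
    ∃ (k' : ℕ) (b : M →ₗ[R] (Fin k' →₀ R)) (c : (Fin k' →₀ R) →ₗ[R] M),
      (c ∘ₗ b) ∘ₗ c₀ = c₀ ∧ c (b m₀) = m₀ := by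
  classical
  haveI : Module.FinitePresentation R ((Fin k →₀ R) × R) := by
    haveI : Module.FinitePresentation R (Fin k →₀ R) :=
      Module.finitePresentation_of_projective _ _
    exact Module.finitePresentation_of_surjective
      (LinearMap.id : ((Fin k →₀ R) × R) →ₗ[R] ((Fin k →₀ R) × R))
      surjective_id (by rw [LinearMap.ker_id]; exact Submodule.fg_bot)
  obtain ⟨Q, _, _, _, g, c', b', h1, h2⟩ := exists_retraction_of_ml_seq hML x hx
    (c₀.coprod (LinearMap.toSpanSingleton R M m₀))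
  obtain ⟨k', h₂, h₃, hfac⟩ := Module.Flat.exists_factorization_of_finitePresentation c'
  refine ⟨k', h₂ ∘ₗ b', h₃, ?_, ?_⟩
  · apply LinearMap.ext
    intro v
    have e1 : b' (c₀ v) = g (v, 0) := by
      have := LinearMap.congr_fun h2 (v, (0 : R))
      simpa using this
    have e2 : c₀ v = c' (g (v, 0)) := by
      have := LinearMap.congr_fun h1 (v, (0 : R))
      simpa using this
    simp only [LinearMap.comp_apply]
    rw [e1, ← LinearMap.comp_apply h₃, ← hfac, ← e2]
  · have e1 : b' m₀ = g (0, 1) := by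
      have := LinearMap.congr_fun h2 ((0 : Fin k →₀ R), (1 : R))
      simpa using this
    have e2 : m₀ = c' (g (0, 1)) := by
      have := LinearMap.congr_fun h1 ((0 : Fin k →₀ R), (1 : R))
      simpa using this
    rw [LinearMap.comp_apply, e1, ← LinearMap.comp_apply h₃, ← hfac, ← e2]

/-- Stacks 059Z: a flat Mittag-Leffler module generated by a sequence is projective. -/
theorem projective_of_flat_ml_seq [Module.Flat R M] (hML : CAlg.IsMittagLeffler R M)
    (x : ℕ → M) (hx : Submodule.span R (Set.range x) = ⊤) : Module.Projective R M := by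
  classical
  choose K' Bf Cf hs1 hs2 using exists_free_retraction_step hML x hx
  let seq : ℕ → Σ k : ℕ, ((Fin k →₀ R) →ₗ[R] M) × (M →ₗ[R] (Fin k →₀ R)) := fun n =>
    Nat.rec ⟨0, 0, 0⟩
      (fun n s => ⟨K' s.1 s.2.1 (x n), Cf s.1 s.2.1 (x n), Bf s.1 s.2.1 (x n)⟩) n
  let c : ∀ n, (Fin (seq n).1 →₀ R) →ₗ[R] M := fun n => (seq n).2.1
  let b : ∀ n, M →ₗ[R] (Fin (seq n).1 →₀ R) := fun n => (seq n).2.2
  have hP1 : ∀ n, (c (n + 1) ∘ₗ b (n + 1)) ∘ₗ c n = c n := fun n =>
    hs1 (seq n).1 (seq n).2.1 (x n)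
  have hP2 : ∀ n, c (n + 1) (b (n + 1) (x n)) = x n := fun n =>
    hs2 (seq n).1 (seq n).2.1 (x n)
  have hb0 : b 0 = 0 := rfl
  let φ : ∀ n, (Fin (seq n).1 →₀ R) →ₗ[R] (Fin (seq (n + 1)).1 →₀ R) := fun n =>
    b (n + 1) ∘ₗ c n
  have hu : ∀ n, c (n + 1) ∘ₗ φ n = c n := by
    intro n
    rw [← hP1 n]
    rfl
  have hcover : ∀ m : M, ∃ n, ∃ y : (Fin (seq n).1 →₀ R), c n y = m := by
    intro m
    have hm : m ∈ Submodule.span R (Set.range x) := by rw [hx]; trivial
    induction hm using Submodule.span_induction with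
    | mem m hm =>
      obtain ⟨k, rfl⟩ := hm
      exact ⟨k + 1, b (k + 1) (x k), hP2 k⟩
    | zero => exact ⟨0, 0, map_zero _⟩
    | add m₁ m₂ _ _ h₁ h₂ =>
      obtain ⟨n₁, y₁, rfl⟩ := h₁
      obtain ⟨n₂, y₂, rfl⟩ := h₂
      obtain ⟨z₁, hz₁, -⟩ := tower_exists_push φ c hu c hu n₁ (max n₁ n₂) (le_max_left _ _) y₁
      obtain ⟨z₂, hz₂, -⟩ := tower_exists_push φ c hu c hu n₂ (max n₁ n₂) (le_max_right _ _) y₂
      exact ⟨max n₁ n₂, z₁ + z₂, by rw [map_add, hz₁, hz₂]⟩
    | smul r m _ h =>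
      obtain ⟨n, y, rfl⟩ := h
      exact ⟨n, r • y, map_smul _ _ _⟩
  apply Module.Projective.of_lifting_property''
  intro p hp
  have hlift : ∀ n, ∃ l : (Fin (seq n).1 →₀ R) →ₗ[R] (M →₀ R), p ∘ₗ l = c n := fun n =>
    Module.projective_lifting_property p (c n) hp
  choose lam hlam using hlift
  let τ : ℕ → (M →ₗ[R] (M →₀ R)) := fun n => lam (n + 1) ∘ₗ (b (n + 1) - φ n ∘ₗ b n)
  let β : ℕ → (M →ₗ[R] (M →₀ R)) := fun N => ∑ n ∈ Finset.range N, τ n
  have hβsucc : ∀ N, β (N + 1) = β N + τ N := fun N => Finset.sum_range_succ _ _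
  have hτc : ∀ k, τ (k + 1) ∘ₗ c k = 0 := by
    intro k
    apply LinearMap.ext
    intro y
    have e1 : c k y = c (k + 1) (φ k y) := (LinearMap.congr_fun (hu k) y).symm
    show lam (k + 2) (b (k + 2) (c k y) - φ (k + 1) (b (k + 1) (c k y))) = 0
    have e2 : b (k + 2) (c k y) = φ (k + 1) (φ k y) := by
      rw [e1]
      rfl
    have e3 : b (k + 1) (c k y) = φ k y := rfl
    rw [e2, e3, sub_self, map_zero]
  have hB : ∀ k, (β (k + 1 + 1) ∘ₗ c (k + 1)) ∘ₗ φ k = β (k + 1) ∘ₗ c k := by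
    intro k
    rw [LinearMap.comp_assoc, hu k, hβsucc (k + 1), LinearMap.add_comp, hτc k, add_zero]
  have hker : ∀ k, LinearMap.ker (c k) ≤ LinearMap.ker (β (k + 1) ∘ₗ c k) := by
    intro k y hy
    rw [LinearMap.mem_ker, LinearMap.comp_apply, LinearMap.mem_ker.1 hy, map_zero]
  obtain ⟨βinf, hβ⟩ := tower_exists_factor φ c hu hcover (fun k => β (k + 1) ∘ₗ c k) hB hker
  refine ⟨βinf, ?_⟩
  apply tower_hom_ext c hcover
  intro k
  rw [LinearMap.comp_assoc, hβ k, LinearMap.id_comp]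
  have hpτ : ∀ n, p ∘ₗ τ n = c (n + 1) ∘ₗ b (n + 1) - c n ∘ₗ b n := by
    intro n
    show p ∘ₗ (lam (n + 1) ∘ₗ (b (n + 1) - φ n ∘ₗ b n)) = _
    rw [← LinearMap.comp_assoc, hlam (n + 1), LinearMap.comp_sub, ← LinearMap.comp_assoc,
      hu n]
  have hpβ : ∀ N, p ∘ₗ β N = c N ∘ₗ b N := by
    intro N
    induction N with
    | zero =>
      show p ∘ₗ (∑ n ∈ Finset.range 0, τ n) = _
      rw [Finset.range_zero, Finset.sum_empty, LinearMap.comp_zero, hb0, LinearMap.comp_zero]
    | succ N ih =>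
      rw [hβsucc N, LinearMap.comp_add, ih, hpτ N]
      abel
  rw [← LinearMap.comp_assoc, hpβ (k + 1), hP1 k]

/-- Stacks 059Z: a flat, Mittag-Leffler, countably generated module is projective. -/
theorem projective_of_flat_ml_countablyGenerated [Module.Flat R M]
    (hML : CAlg.IsMittagLeffler R M) (hc : CAlg.IsCountablyGenerated R M) :
    Module.Projective R M := by
  obtain ⟨x, hx⟩ := exists_seq_span_eq_top hc
  exact projective_of_flat_ml_seq hML x hx

end Proj

end Groth.Agent.Lib.Helper54
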