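/-
helper54: projective modules are exactly the flat Mittag-Leffler modules which are direct sums of
countably generated modules (Stacks 059Z / 058Y / Raynaud-Gruson).
-/
import Groth.Agent.Lib.Helper54.MLProj
import Groth.Agent.Lib.Helper54.Kaplansky
import Groth.Agent.S6338
import Mathlib.Algebra.DirectSum.Finsupp
import Mathlib.RingTheory.Flat.Basic

set_option autoImplicit false
set_option maxHeartbeats 400000
universe u

namespace Groth.Agent.Lib.Helper54

open TensorProduct Function

section MLKap

open scoped Classical

variable {R : Type u} [CommRing R]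

/-- A retract of a Mittag-Leffler module is Mittag-Leffler. -/
theorem isMittagLeffler_of_retract {A B : Type u} [AddCommGroup A] [Module R A]
    [AddCommGroup B] [Module R B] (i : A →ₗ[R] B) (r : B →ₗ[R] A) (h : r ∘ₗ i = LinearMap.id)
    (hB : CAlg.IsMittagLeffler R B) : CAlg.IsMittagLeffler R A := by
  apply Groth.Agent.S6338.result R i _ hB
  intro Q _ _
  apply Function.LeftInverse.injective (g := r.rTensor Q)
  intro w
  rw [← LinearMap.comp_apply, ← LinearMap.rTensor_comp, h, LinearMap.rTensor_id,
    LinearMap.id_apply]

/-- Free modules `X →₀ R` are Mittag-Leffler. -/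
theorem isMittagLeffler_finsupp (X : Type u) : CAlg.IsMittagLeffler R (X →₀ R) := by
  apply isMittagLeffler_of_linearEquiv R (finsuppLEquivDirectSum R R X)
  exact (Groth.Agent.S6337.result R (fun _ : X => R)).2 fun _ => isMittagLeffler_self R

/-- Projective modules are Mittag-Leffler. -/
theorem isMittagLeffler_of_projective (M : Type u) [AddCommGroup M] [Module R M]
    [Module.Projective R M] : CAlg.IsMittagLeffler R M := by
  obtain ⟨s, hs⟩ := (Module.projective_def' (R := R) (P := M)).1 inferInstance
  exact isMittagLeffler_of_retract s (Finsupp.linearCombination R id) hs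
    (isMittagLeffler_finsupp M)

/-- The ring itself is countably generated. -/
theorem isCountablyGenerated_self : CAlg.IsCountablyGenerated R R :=
  ⟨{1}, Set.countable_singleton 1, Ideal.span_singleton_one⟩

/-- The standard decomposition of a free module `X →₀ R`. -/
theorem isInternal_range_lsingle (X : Type u) :
    DirectSum.IsInternal
      (fun x : X => LinearMap.range (Finsupp.lsingle x : R →ₗ[R] X →₀ R)) := by
  rw [DirectSum.isInternal_submodule_iff_iSupIndep_and_iSup_eq_top]
  refine ⟨?_, Finsupp.iSup_lsingle_range⟩
  intro x
  have h := Finsupp.disjoint_lsingle_lsingle (R := R) (M := R) ({x} : Set X) {y | y ≠ x}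
    (by
      rw [Set.disjoint_left]
      intro a ha ha'
      exact ha' (Set.mem_singleton_iff.1 ha))
  rw [iSup_singleton] at h
  exact h

/-- Transport of a decomposition into countably generated summands along a linear equivalence. -/
theorem exists_internal_cg_of_equiv {A B : Type u} [AddCommGroup A] [Module R A]
    [AddCommGroup B] [Module R B] (e : A ≃ₗ[R] B)
    (h : ∃ (κ : Type u) (L : κ → Submodule R A), DirectSum.IsInternal L ∧
      ∀ k, CAlg.IsCountablyGenerated R (L k)) :
    ∃ (κ : Type u) (L : κ → Submodule R B), DirectSum.IsInternal L ∧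
      ∀ k, CAlg.IsCountablyGenerated R (L k) := by
  obtain ⟨κ, L, hL, hLc⟩ := h
  obtain ⟨hind, hsup⟩ := (DirectSum.isInternal_submodule_iff_iSupIndep_and_iSup_eq_top L).1 hL
  refine ⟨κ, fun k => (L k).map e.toLinearMap, ?_, ?_⟩
  · rw [DirectSum.isInternal_submodule_iff_iSupIndep_and_iSup_eq_top]
    constructor
    · exact hind.map_orderIso (Submodule.orderIsoMapComap e)
    · rw [← Submodule.map_iSup, hsup, Submodule.map_top]
      exact LinearMap.range_eq_top.2 e.surjective
  · intro k
    exact Kap.isCountablyGenerated_of_surjective (e.submoduleMap (L k)).toLinearMap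
      (e.submoduleMap (L k)).surjective (hLc k)

/-- Kaplansky: a projective module is a direct sum of countably generated modules. -/
theorem exists_internal_cg_of_projective (M : Type u) [AddCommGroup M] [Module R M]
    [Module.Projective R M] :
    ∃ (κ : Type u) (L : κ → Submodule R M), DirectSum.IsInternal L ∧
      ∀ k, CAlg.IsCountablyGenerated R (L k) := by
  obtain ⟨s, hs⟩ := (Module.projective_def' (R := R) (P := M)).1 inferInstance
  have hs' : ∀ m, Finsupp.linearCombination R id (s m) = m := fun m => LinearMap.congr_fun hs m
  have hinj : Injective s := Function.LeftInverse.injective hs'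
  have hcompl : IsCompl (LinearMap.range s) (LinearMap.ker (Finsupp.linearCombination R id)) := by
    constructor
    · rw [Submodule.disjoint_def]
      rintro _ ⟨m, rfl⟩ hm
      rw [LinearMap.mem_ker, hs'] at hm
      rw [hm, map_zero]
    · rw [codisjoint_iff, eq_top_iff]
      intro y _
      have : y = s (Finsupp.linearCombination R id y) +
          (y - s (Finsupp.linearCombination R id y)) := by abel
      rw [this]
      apply Submodule.add_mem_sup (LinearMap.mem_range_self s _)
      rw [LinearMap.mem_ker, map_sub, hs', sub_self]
  have hcg : ∀ x : M, CAlg.IsCountablyGenerated R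
      ↥(LinearMap.range (Finsupp.lsingle x : R →ₗ[R] M →₀ R)) := fun x =>
    Kap.isCountablyGenerated_of_surjective (Finsupp.lsingle x : R →ₗ[R] M →₀ R).rangeRestrict
      (LinearMap.surjective_rangeRestrict _) isCountablyGenerated_self
  obtain ⟨κ, L, hL, hLc⟩ := Kap.kaplansky _ (isInternal_range_lsingle (R := R) M) hcg _ _ hcompl
  exact exists_internal_cg_of_equiv (A := ↥(LinearMap.range s))
    (LinearEquiv.ofInjective s hinj).symm ⟨κ, L, hL, hLc⟩

/-- A flat Mittag-Leffler module which is a direct sum of countably generated submodules is
projective. -/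
theorem projective_of_flat_ml_internal_cg (M : Type u) [AddCommGroup M] [Module R M]
    [Module.Flat R M] (hML : CAlg.IsMittagLeffler R M) {ι : Type u} (N : ι → Submodule R M)
    (hN : DirectSum.IsInternal N) (hc : ∀ i, CAlg.IsCountablyGenerated R (N i)) :
    Module.Projective R M := by
  let e : (DirectSum ι fun i => ↥(N i)) ≃ₗ[R] M :=
    LinearEquiv.ofBijective (DirectSum.coeLinearMap N) hN
  have hret : ∀ i, (DirectSum.component R ι (fun i => ↥(N i)) i ∘ₗ e.symm.toLinearMap) ∘ₗ
      (N i).subtype = LinearMap.id := by
    intro i
    apply LinearMap.ext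
    intro y
    have : e.symm ((N i).subtype y) = DirectSum.lof R ι (fun i => ↥(N i)) i y := by
      rw [LinearEquiv.symm_apply_eq]
      exact (DirectSum.coeLinearMap_of N i y).symm
    simp only [LinearMap.comp_apply, LinearEquiv.coe_coe, LinearMap.id_apply]
    rw [this]
    exact DirectSum.component.lof_self R (M := fun i => ↥(N i)) i y
  haveI : ∀ i, Module.Projective R ↥(N i) := by
    intro i
    haveI : Module.Flat R ↥(N i) := Module.Flat.of_retract (N i).subtype _ (hret i)
    exact projective_of_flat_ml_countablyGenerated
      (isMittagLeffler_of_retract (N i).subtype _ (hret i) hML) (hc i)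
  exact Module.Projective.of_equiv' e

/-- Stacks 059Z + 058Y: a module is projective iff it is flat, Mittag-Leffler and a direct sum
of countably generated modules. -/
theorem projective_iff_flat_ml_internal_cg (M : Type u) [AddCommGroup M] [Module R M] :
    Module.Projective R M ↔ (Module.Flat R M ∧ CAlg.IsMittagLeffler R M ∧
      ∃ (ι : Type u) (N : ι → Submodule R M), DirectSum.IsInternal N ∧
        ∀ i, CAlg.IsCountablyGenerated R (N i)) := by
  constructor
  · intro h
    exact ⟨inferInstance, isMittagLeffler_of_projective M, exists_internal_cg_of_projective M⟩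
  · rintro ⟨hflat, hML, ι, N, hN, hc⟩
    exact projective_of_flat_ml_internal_cg M hML N hN hc

end MLKap

end Groth.Agent.Lib.Helper54
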