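import Groth.Agent.Lib.Helper54.ML
import Mathlib.LinearAlgebra.TensorProduct.Tower

/-!
# Base change identifications for `TensorProduct.piRightHom`
-/

set_option autoImplicit false
universe u

open TensorProduct

namespace Groth.Agent.Lib.Helper54

variable (R S : Type u) [CommRing R] [CommRing S] [Algebra R S]
variable (M : Type u) [AddCommGroup M] [Module R M]

/-- `(S ⊗[R] M) ⊗[S] N ≃ M ⊗[R] N` as additive groups. -/
noncomputable def bcEquiv (N : Type u) [AddCommGroup N] [Module S N] [Module R N]
    [IsScalarTower R S N] : (S ⊗[R] M) ⊗[S] N ≃+ M ⊗[R] N :=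
  ((TensorProduct.comm S (S ⊗[R] M) N).toAddEquiv).trans
    (((TensorProduct.AlgebraTensorModule.cancelBaseChange R S S N M).toAddEquiv).trans
      (TensorProduct.comm R N M).toAddEquiv)

theorem bcEquiv_tmul (N : Type u) [AddCommGroup N] [Module S N] [Module R N]
    [IsScalarTower R S N] (s : S) (m : M) (n : N) :
    bcEquiv R S M N ((s ⊗ₜ[R] m) ⊗ₜ[S] n) = m ⊗ₜ[R] (s • n) := by
  simp [bcEquiv]

/-- Compatibility of `bcEquiv` with `piRightHom`. -/
theorem bcEquiv_piRightHom {ι : Type u} (Q : ι → Type u) [∀ i, AddCommGroup (Q i)]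
    [∀ i, Module S (Q i)] [∀ i, Module R (Q i)] [∀ i, IsScalarTower R S (Q i)]
    (x : (S ⊗[R] M) ⊗[S] (∀ i, Q i)) (i : ι) :
    TensorProduct.piRightHom R R M Q (bcEquiv R S M (∀ i, Q i) x) i =
      bcEquiv R S M (Q i) (TensorProduct.piRightHom S S (S ⊗[R] M) Q x i) := by
  induction x using TensorProduct.induction_on with
  | zero => simp
  | tmul t q =>
    induction t using TensorProduct.induction_on with
    | zero => simp
    | tmul s m =>
      rw [bcEquiv_tmul, piRightHom_tmul, piRightHom_tmul, bcEquiv_tmul]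
      rfl
    | add a b ha hb =>
      rw [TensorProduct.add_tmul, map_add, map_add, Pi.add_apply, ha, hb, map_add, Pi.add_apply,
        map_add]
  | add a b ha hb =>
    rw [map_add, map_add, Pi.add_apply, ha, hb, map_add, Pi.add_apply, map_add]

end Groth.Agent.Lib.Helper54
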