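/-
helper54: faithfully flat descent of projectivity (Raynaud-Gruson, Stacks 05A9), part 1:
countable closure producing adapted submodules (Stacks 05A4).
-/
import Groth.Agent.Lib.Helper54.Kaplansky
import Mathlib.LinearAlgebra.TensorProduct.Tower

set_option autoImplicit false
set_option maxHeartbeats 400000
universe u

namespace Groth.Agent.Lib.Helper54.RG

open TensorProduct Function

section Closure

variable (R S : Type u) [CommRing R] [CommRing S] [Algebra R S]
  (M : Type u) [AddCommGroup M] [Module R M]

/-- Every element of `S ⊗ M` lies in the `S`-span of the image of a finite subset of `M`. -/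
theorem exists_finset_mem_span (t : S ⊗[R] M) :
    ∃ F : Finset M, t ∈ Submodule.span S ((TensorProduct.mk R S M 1) '' (F : Set M)) := by
  classical
  induction t using TensorProduct.induction_on with
  | zero => exact ⟨∅, Submodule.zero_mem _⟩
  | tmul s m =>
    refine ⟨{m}, ?_⟩
    have : s ⊗ₜ[R] m = s • (TensorProduct.mk R S M 1 m) := by
      rw [TensorProduct.mk_apply, TensorProduct.smul_tmul', smul_eq_mul, mul_one]
    rw [this]
    apply Submodule.smul_mem
    apply Submodule.subset_span
    exact ⟨m, by simp, rfl⟩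
  | add x y hx hy =>
    obtain ⟨F₁, h₁⟩ := hx
    obtain ⟨F₂, h₂⟩ := hy
    refine ⟨F₁ ∪ F₂, ?_⟩
    apply Submodule.add_mem
    · refine Submodule.span_mono (Set.image_mono ?_) h₁
      exact Finset.coe_subset.2 Finset.subset_union_left
    · refine Submodule.span_mono (Set.image_mono ?_) h₂
      exact Finset.coe_subset.2 Finset.subset_union_right

variable {I : Type u} (Q : I → Submodule S (S ⊗[R] M))

/-- Stacks 05A4: countable closure. Given a decomposition of `S ⊗ M` as a sum of countably generated
submodules `Q i`, every countable subset of `M` is contained in a countable subset `A` such that the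
`S`-span of `1 ⊗ A` is the sum of the `Q i` over a (countable) set of indices. -/
theorem exists_adapted_closure (hsup : ⨆ i, Q i = ⊤)
    (hQc : ∀ i, ∃ t : Set (S ⊗[R] M), t.Countable ∧ Submodule.span S t = Q i)
    (A₀ : Set M) (hA₀ : A₀.Countable) :
    ∃ (A : Set M) (C : Set I), A₀ ⊆ A ∧ A.Countable ∧ C.Countable ∧
      Submodule.span S ((TensorProduct.mk R S M 1) '' A) = ⨆ i ∈ C, Q i := by
  classical
  choose g hgc hgs using hQc
  choose msupp hmsupp using exists_finset_mem_span R S M
  have hmem : ∀ t : S ⊗[R] M, t ∈ ⨆ i, Q i := fun t => by rw [hsup]; trivial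
  choose isupp hisupp using fun t => Submodule.exists_finset_of_mem_iSup Q (hmem t)
  let step : Set M × Set I → Set M × Set I := fun z =>
    (z.1 ∪ ⋃ i ∈ z.2, ⋃ t ∈ g i, (msupp t : Set M),
      z.2 ∪ ⋃ a ∈ z.1, (isupp (TensorProduct.mk R S M 1 a) : Set I))
  have hstep : ∀ z : Set M × Set I, z.1.Countable → z.2.Countable →
      (step z).1.Countable ∧ (step z).2.Countable := by
    intro z h1 h2
    constructor
    · apply h1.union
      apply h2.biUnion
      intro i _
      apply (hgc i).biUnion
      intro t _
      exact (msupp t).countable_toSet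
    · apply h2.union
      apply h1.biUnion
      intro a _
      exact (isupp _).countable_toSet
  let Z : ℕ → Set M × Set I := fun n => step^[n] (A₀, ∅)
  have hZsucc : ∀ n, Z (n + 1) = step (Z n) := fun n => Function.iterate_succ_apply' step n _
  have hZc : ∀ n, (Z n).1.Countable ∧ (Z n).2.Countable := by
    intro n
    induction n with
    | zero => exact ⟨hA₀, Set.countable_empty⟩
    | succ n ih =>
      rw [hZsucc]
      exact hstep _ ih.1 ih.2
  refine ⟨⋃ n, (Z n).1, ⋃ n, (Z n).2, Set.subset_iUnion (fun n => (Z n).1) 0,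
    Set.countable_iUnion fun n => (hZc n).1, Set.countable_iUnion fun n => (hZc n).2, ?_⟩
  apply le_antisymm
  · rw [Submodule.span_le]
    rintro _ ⟨a, ha, rfl⟩
    obtain ⟨n, hn⟩ := Set.mem_iUnion.1 ha
    have h1 : (isupp (TensorProduct.mk R S M 1 a) : Set I) ⊆ ⋃ n, (Z n).2 := by
      intro j hj
      apply Set.mem_iUnion.2
      refine ⟨n + 1, ?_⟩
      rw [hZsucc]
      apply Set.mem_union_right
      exact Set.mem_biUnion hn hj
    have h2 : (⨆ j ∈ isupp (TensorProduct.mk R S M 1 a), Q j) ≤ ⨆ i ∈ ⋃ n, (Z n).2, Q i :=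
      biSup_mono (fun j hj => h1 (Finset.mem_coe.2 hj))
    exact h2 (hisupp _)
  · apply iSup₂_le
    intro i hi
    obtain ⟨n, hn⟩ := Set.mem_iUnion.1 hi
    rw [← hgs i, Submodule.span_le]
    intro t ht
    have h1 : (msupp t : Set M) ⊆ ⋃ n, (Z n).1 := by
      intro m hm
      apply Set.mem_iUnion.2
      refine ⟨n + 1, ?_⟩
      rw [hZsucc]
      apply Set.mem_union_right
      exact Set.mem_biUnion hn (Set.mem_biUnion ht hm)
    exact Submodule.span_mono (Set.image_mono h1) (hmsupp t)

end Closure

end Groth.Agent.Lib.Helper54.RG
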