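/-
helper54: faithfully flat descent of the Mittag-Leffler property (product-injectivity definition),
via purity of `∏ Q i → ∏ S ⊗ Q i`.
-/
import Groth.Agent.Lib.Helper54.MLDom2
import Groth.Agent.Lib.Helper54.MLBase
import Mathlib.RingTheory.Flat.FaithfullyFlat.Algebra

set_option autoImplicit false
set_option maxHeartbeats 400000
universe u

namespace Groth.Agent.Lib.Helper54

open TensorProduct Function

section Desc

variable {R : Type u} [CommRing R]

/-- Every element of `M ⊗ N` comes from `(Fin n → R) ⊗ N` for a map `(Fin n → R) → M`. -/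
theorem exists_finite_free_lift {M N : Type u} [AddCommGroup M] [Module R M] [AddCommGroup N]
    [Module R N] (x : M ⊗[R] N) :
    ∃ (n : ℕ) (f : (Fin n → R) →ₗ[R] M) (y : (Fin n → R) ⊗[R] N), f.rTensor N y = x := by
  classical
  obtain ⟨n, m, q, rfl⟩ := TensorProduct.exists_sum_tmul_eq x
  refine ⟨n, Fintype.linearCombination R m,
    ∑ k, (Pi.single k (1 : R) : Fin n → R) ⊗ₜ[R] q k, ?_⟩
  rw [map_sum]
  apply Finset.sum_congr rfl
  intro k _
  rw [LinearMap.rTensor_tmul]
  congr 1
  simp [Fintype.linearCombination_apply]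

/-- Naturality of `piRightHom` in the family. -/
theorem piRightHom_lTensor_pi {P : Type u} [AddCommGroup P] [Module R P] {ι : Type u}
    (Q Q' : ι → Type u) [∀ i, AddCommGroup (Q i)] [∀ i, Module R (Q i)]
    [∀ i, AddCommGroup (Q' i)] [∀ i, Module R (Q' i)] (j : ∀ i, Q i →ₗ[R] Q' i)
    (z : P ⊗[R] (∀ i, Q i)) (i : ι) :
    TensorProduct.piRightHom R R P Q'
      ((LinearMap.pi fun i => j i ∘ₗ LinearMap.proj i : (∀ i, Q i) →ₗ[R] ∀ i, Q' i).lTensor P z) i
      = (j i).lTensor P (TensorProduct.piRightHom R R P Q z i) := by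
  rw [piRightHom_apply, piRightHom_apply, ← LinearMap.comp_apply, ← LinearMap.comp_apply,
    ← LinearMap.lTensor_comp, ← LinearMap.lTensor_comp]
  rfl

/-- A product of maps which are universally injective (tested on finitely presented modules) is
universally injective. -/
theorem lTensor_pi_injective {ι : Type u} (Q Q' : ι → Type u) [∀ i, AddCommGroup (Q i)]
    [∀ i, Module R (Q i)] [∀ i, AddCommGroup (Q' i)] [∀ i, Module R (Q' i)]
    (j : ∀ i, Q i →ₗ[R] Q' i)
    (hj : ∀ (i : ι) (P : Type u) [AddCommGroup P] [Module R P] [Module.FinitePresentation R P],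
      Injective ((j i).lTensor P))
    (M : Type u) [AddCommGroup M] [Module R M] :
    Injective ((LinearMap.pi fun i => j i ∘ₗ LinearMap.proj i :
      (∀ i, Q i) →ₗ[R] ∀ i, Q' i).lTensor M) := by
  rw [injective_iff_map_eq_zero]
  intro x hx
  obtain ⟨n, f, y, rfl⟩ := exists_finite_free_lift x
  have h0 : f.rTensor (∀ i, Q' i) ((LinearMap.pi fun i => j i ∘ₗ LinearMap.proj i :
      (∀ i, Q i) →ₗ[R] ∀ i, Q' i).lTensor (Fin n → R) y) = 0 := by
    rw [rTensor_lTensor_comm, hx]
  obtain ⟨P', _, _, _, f', h, hfac, hkill⟩ := exists_factor_of_rTensor_eq_zero f _ h0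
  rw [rTensor_lTensor_comm] at hkill
  have h2 : f'.rTensor (∀ i, Q i) y = 0 := by
    apply (piRightHom_bijective_of_finitePresentation R P' Q).1
    rw [map_zero]
    funext i
    apply hj i P'
    rw [← piRightHom_lTensor_pi, hkill]
    simp
  rw [hfac, LinearMap.rTensor_comp, LinearMap.comp_apply, h2, map_zero]

/-- For a faithfully flat algebra `S`, the map `Q → S ⊗ Q` is universally injective. -/
theorem lTensor_mk_injective (S : Type u) [CommRing S] [Algebra R S] [Module.FaithfullyFlat R S]
    (P Q : Type u) [AddCommGroup P] [Module R P] [AddCommGroup Q] [Module R Q] :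
    Injective ((TensorProduct.mk R S Q 1).lTensor P) := by
  have h : (TensorProduct.leftComm R P S Q).toLinearMap ∘ₗ (TensorProduct.mk R S Q 1).lTensor P =
      TensorProduct.mk R S (P ⊗[R] Q) 1 := by
    apply TensorProduct.ext'
    intro p q
    simp
  intro x y hxy
  apply Module.FaithfullyFlat.tensorProduct_mk_injective (A := R) (B := S) (P ⊗[R] Q)
  rw [← h, LinearMap.comp_apply, LinearMap.comp_apply, hxy]

/-- Faithfully flat descent of the Mittag-Leffler property. -/
theorem isMittagLeffler_of_faithfullyFlat (S : Type u) [CommRing S] [Algebra R S]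
    [Module.FaithfullyFlat R S] (M : Type u) [AddCommGroup M] [Module R M]
    (h : CAlg.IsMittagLeffler S (S ⊗[R] M)) : CAlg.IsMittagLeffler R M := by
  intro ι Q _ _
  rw [injective_iff_map_eq_zero]
  intro x hx
  have hJ := lTensor_pi_injective Q (fun i => S ⊗[R] Q i)
    (fun i => TensorProduct.mk R S (Q i) 1)
    (fun i P _ _ _ => lTensor_mk_injective S P (Q i)) M
  apply hJ
  rw [map_zero]
  have hinj' : Injective (TensorProduct.piRightHom R R M (fun i => S ⊗[R] Q i)) := by
    intro a b hab
    obtain ⟨a', rfl⟩ := (bcEquiv R S M (∀ i, S ⊗[R] Q i)).surjective a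
    obtain ⟨b', rfl⟩ := (bcEquiv R S M (∀ i, S ⊗[R] Q i)).surjective b
    congr 1
    apply h ι (fun i => S ⊗[R] Q i)
    funext i
    apply (bcEquiv R S M (S ⊗[R] Q i)).injective
    have e1 := bcEquiv_piRightHom R S M (fun i => S ⊗[R] Q i) a' i
    have e2 := bcEquiv_piRightHom R S M (fun i => S ⊗[R] Q i) b' i
    exact e1.symm.trans ((congrFun hab i).trans e2)
  apply hinj'
  rw [map_zero]
  funext i
  rw [piRightHom_lTensor_pi, hx]
  simp

end Desc

end Groth.Agent.Lib.Helper54
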