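/-
helper54: faithfully flat descent of projectivity (Raynaud-Gruson, Stacks 05A9), part 2:
quotients by adapted submodules are flat Mittag-Leffler, and the splitting step.
-/
import Groth.Agent.Lib.Helper54.RGDescent
import Groth.Agent.Lib.Helper54.MLKap
import Groth.Agent.Lib.Helper54.LocalFlat5
import Groth.Agent.S0586
import Mathlib.RingTheory.Flat.FaithfullyFlat.Basic
import Mathlib.RingTheory.Flat.Equalizer

set_option autoImplicit false
set_option maxHeartbeats 400000
universe u

namespace Groth.Agent.Lib.Helper54.RG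

open TensorProduct Function

section Adapted

variable (R S : Type u) [CommRing R] [CommRing S] [Algebra R S]
  (M : Type u) [AddCommGroup M] [Module R M]

theorem baseChange_sup (N N' : Submodule R M) :
    (N ⊔ N').baseChange S = N.baseChange S ⊔ N'.baseChange S := by
  apply le_antisymm
  · rw [Submodule.baseChange_eq_span, Submodule.span_le]
    rintro _ ⟨m, hm, rfl⟩
    obtain ⟨a, ha, b, hb, rfl⟩ := Submodule.mem_sup.1 hm
    rw [map_add]
    exact Submodule.add_mem _
      (Submodule.mem_sup_left (Submodule.tmul_mem_baseChange_of_mem 1 ha))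
      (Submodule.mem_sup_right (Submodule.tmul_mem_baseChange_of_mem 1 hb))
  · exact sup_le (Submodule.baseChange_mono S le_sup_left)
      (Submodule.baseChange_mono S le_sup_right)

variable {I : Type u} (Q : I → Submodule S (S ⊗[R] M))

/-- If `N` is adapted to `I'`, then `S ⊗ (M ⧸ N)` is a projective `S`-module. -/
theorem projective_baseChange_quotient [Module.Projective S (S ⊗[R] M)]
    (hind : iSupIndep Q) (hsup : ⨆ i, Q i = ⊤) (N : Submodule R M) (I' : Set I)
    (hNI : N.baseChange S = Kap.MJ Q I') : Module.Projective S (S ⊗[R] (M ⧸ N)) := by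
  have hβsurj : Surjective (N.mkQ.baseChange S) := by
    rw [LinearMap.baseChange_eq_ltensor]
    exact LinearMap.lTensor_surjective S (Submodule.mkQ_surjective N)
  have hker : LinearMap.ker (N.mkQ.baseChange S) = N.baseChange S := by
    ext t
    have hex := lTensor_exact S (LinearMap.exact_subtype_mkQ N) (Submodule.mkQ_surjective N)
    rw [LinearMap.mem_ker]
    have h1 : (N.mkQ.baseChange S) t = (N.mkQ.lTensor S) t := by
      rw [← LinearMap.baseChange_eq_ltensor]
    rw [h1, hex t]
    constructor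
    · rintro ⟨y, rfl⟩
      exact ⟨y, by rw [← LinearMap.baseChange_eq_ltensor]⟩
    · rintro ⟨y, rfl⟩
      exact ⟨y, by rw [← LinearMap.baseChange_eq_ltensor]⟩
  have hcompl := Kap.isCompl_MJ Q hind hsup I'
  haveI : Module.Projective S ↥(Kap.MJ Q I'ᶜ) :=
    Module.Projective.of_split (Kap.MJ Q I'ᶜ).subtype
      ((Kap.MJ Q I'ᶜ).projectionOnto (Kap.MJ Q I') hcompl.symm)
      (Submodule.projectionOnto_comp_subtype hcompl.symm)
  exact Module.Projective.of_equiv'
    ((Submodule.quotientEquivOfIsCompl _ _ hcompl).symm ≪≫ₗ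
      (Submodule.quotEquivOfEq _ _ (hker.trans hNI)).symm ≪≫ₗ
      (N.mkQ.baseChange S).quotKerEquivOfSurjective hβsurj)

/-- If `N` is adapted, `M ⧸ N` is flat and Mittag-Leffler. -/
theorem flat_and_ml_quotient [Module.FaithfullyFlat R S] [Module.Projective S (S ⊗[R] M)]
    (hind : iSupIndep Q) (hsup : ⨆ i, Q i = ⊤) (N : Submodule R M) (I' : Set I)
    (hNI : N.baseChange S = Kap.MJ Q I') :
    Module.Flat R (M ⧸ N) ∧ CAlg.IsMittagLeffler R (M ⧸ N) := by
  haveI := projective_baseChange_quotient R S M Q hind hsup N I' hNI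
  exact ⟨Module.Flat.of_flat_tensorProduct R (M ⧸ N) S,
    Groth.Agent.S0586.result R S (M ⧸ N) (isMittagLeffler_of_projective (S ⊗[R] (M ⧸ N)))⟩

end Adapted

section Split

variable {R : Type u} [CommRing R] {M : Type u} [AddCommGroup M] [Module R M]

/-- The splitting step: if `N ≤ N'`, `M ⧸ N` is flat and Mittag-Leffler, `M ⧸ N'` is flat and
`N' = N ⊔ N₁` with `N₁` countably generated, then `N` has a countably generated complement in
`N'`. -/
theorem exists_cg_complement (N N₁ : Submodule R M) (hN₁ : Kap.CG N₁)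
    [Module.Flat R (M ⧸ N)] (hML : CAlg.IsMittagLeffler R (M ⧸ N))
    [Module.Flat R (M ⧸ (N ⊔ N₁))] :
    ∃ C : Submodule R M, Disjoint N C ∧ N ⊔ C = N ⊔ N₁ ∧ Kap.CG C := by
  classical
  let K : Submodule R (M ⧸ N) := (N ⊔ N₁).map N.mkQ
  let ρ : (M ⧸ N) →ₗ[R] (M ⧸ (N ⊔ N₁)) := N.mapQ (N ⊔ N₁) LinearMap.id (by
    intro x hx
    exact Submodule.mem_sup_left hx)
  have hρsurj : Surjective ρ := by
    intro y
    obtain ⟨m, rfl⟩ := Submodule.mkQ_surjective _ y
    exact ⟨N.mkQ m, rfl⟩
  have hkerρ : LinearMap.ker ρ = K := by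
    rw [Submodule.ker_mapQ, Submodule.comap_id]
  have hex : Exact K.subtype ρ := by
    intro y
    rw [← LinearMap.mem_ker, hkerρ]
    constructor
    · intro hy
      exact ⟨⟨y, hy⟩, rfl⟩
    · rintro ⟨k, rfl⟩
      exact k.2
  haveI : Module.Flat R ↥K :=
    LocalFlat.flat_of_exact_of_flat_of_flat K.subtype ρ K.injective_subtype hex hρsurj
  have huniv : CAlgX.UniversallyInjective R K.subtype := by
    intro T _ _
    have h1 := LinearMap.lTensor_injective_of_exact_of_flat ρ hρsurj K.subtype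
      K.injective_subtype hex T
    have h2 : K.subtype.rTensor T = (TensorProduct.comm R T (M ⧸ N)).toLinearMap ∘ₗ
        K.subtype.lTensor T ∘ₗ (TensorProduct.comm R ↥K T).toLinearMap := by
      apply TensorProduct.ext'
      intro k t
      simp
    rw [h2]
    exact (TensorProduct.comm R T (M ⧸ N)).injective.comp
      (h1.comp (TensorProduct.comm R ↥K T).injective)
  have hKML : CAlg.IsMittagLeffler R ↥K := Groth.Agent.S6338.result R K.subtype huniv hML
  have hKcg : Kap.CG K := by
    have : K = N₁.map N.mkQ := by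
      show (N ⊔ N₁).map N.mkQ = N₁.map N.mkQ
      rw [Submodule.map_sup, Submodule.mkQ_map_self, bot_sup_eq]
    rw [this]
    exact hN₁.map _
  haveI : Module.Projective R ↥K :=
    projective_of_flat_ml_countablyGenerated hKML (Kap.isCountablyGenerated_of_CG K hKcg)
  obtain ⟨σ, hσ⟩ := Module.projective_lifting_property (N.mkQ.submoduleMap (N ⊔ N₁))
    (LinearMap.id : ↥K →ₗ[R] ↥K) (LinearMap.submoduleMap_surjective _ _)
  have hσ' : ∀ k : ↥K, N.mkQ ((σ k : M)) = (k : M ⧸ N) := by
    intro k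
    have := LinearMap.congr_fun hσ k
    exact congrArg Subtype.val this
  refine ⟨LinearMap.range ((N ⊔ N₁).subtype ∘ₗ σ), ?_, ?_, ?_⟩
  · rw [Submodule.disjoint_def]
    rintro x hxN ⟨k, rfl⟩
    have h1 : N.mkQ ((σ k : M)) = 0 := by
      rw [Submodule.mkQ_apply, Submodule.Quotient.mk_eq_zero]
      exact hxN
    have h2 : k = 0 := by
      apply Subtype.ext
      rw [← hσ' k]
      exact h1
    show ((σ k : ↥(N ⊔ N₁)) : M) = 0
    rw [h2, map_zero]
    rfl
  · apply le_antisymm
    · apply sup_le le_sup_left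
      rintro _ ⟨k, rfl⟩
      exact (σ k).2
    · intro n' hn'
      let k : ↥K := N.mkQ.submoduleMap (N ⊔ N₁) ⟨n', hn'⟩
      have hk : (k : M ⧸ N) = N.mkQ n' := rfl
      have h1 : n' - (σ k : M) ∈ N := by
        have h0 : N.mkQ (n' - (σ k : M)) = 0 := by
          rw [map_sub, hσ' k, hk, sub_self]
        rw [Submodule.mkQ_apply, Submodule.Quotient.mk_eq_zero] at h0
        exact h0
      have : n' = (n' - (σ k : M)) + (σ k : M) := by abel
      rw [this]
      exact Submodule.add_mem_sup h1 ⟨k, rfl⟩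
  · rw [LinearMap.range_eq_map]
    exact Kap.CG.map (Kap.isCountablyGenerated_of_CG K hKcg) _

end Split

section Main

open scoped Classical in
/-- Variant of `projective_of_flat_ml_internal_cg` with the internal direct sum condition
unfolded. -/
theorem projective_of_flat_ml_indep_cg {R : Type u} [CommRing R] (M : Type u) [AddCommGroup M]
    [Module R M] [Module.Flat R M] (hML : CAlg.IsMittagLeffler R M) {ι : Type u}
    (N : ι → Submodule R M) (hind : iSupIndep N) (hsup : ⨆ i, N i = ⊤)
    (hc : ∀ i, CAlg.IsCountablyGenerated R (N i)) : Module.Projective R M :=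
  projective_of_flat_ml_internal_cg M hML N
    ((DirectSum.isInternal_submodule_iff_iSupIndep_and_iSup_eq_top N).2 ⟨hind, hsup⟩) hc

open scoped Classical in
/-- Variant of `exists_internal_cg_of_projective` with the internal direct sum condition
unfolded. -/
theorem exists_indep_cg_of_projective {R : Type u} [CommRing R] (M : Type u) [AddCommGroup M]
    [Module R M] [Module.Projective R M] :
    ∃ (κ : Type u) (L : κ → Submodule R M), iSupIndep L ∧ (⨆ k, L k = ⊤) ∧
      ∀ k, CAlg.IsCountablyGenerated R (L k) := by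
  obtain ⟨κ, L, hL, hc⟩ := exists_internal_cg_of_projective (R := R) M
  exact ⟨κ, L, ((DirectSum.isInternal_submodule_iff_iSupIndep_and_iSup_eq_top L).1 hL).1,
    ((DirectSum.isInternal_submodule_iff_iSupIndep_and_iSup_eq_top L).1 hL).2, hc⟩

variable (R S : Type u) [CommRing R] [CommRing S] [Algebra R S]
  (M : Type u) [AddCommGroup M] [Module R M]

/-- Raynaud-Gruson (Stacks 05A9): projectivity descends along faithfully flat ring maps. -/
theorem projective_of_faithfullyFlat_baseChange [Module.FaithfullyFlat R S]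
    [Module.Projective S (S ⊗[R] M)] : Module.Projective R M := by
  classical
  obtain ⟨I, Q, hind, hsup, hQcg⟩ := exists_indep_cg_of_projective (R := S) (S ⊗[R] M)
  have hQc : ∀ i, ∃ t : Set (S ⊗[R] M), t.Countable ∧ Submodule.span S t = Q i := fun i =>
    Kap.CG_of_isCountablyGenerated (Q i) (hQcg i)
  haveI : Module.Flat R M := Module.Flat.of_flat_tensorProduct R M S
  have hML : CAlg.IsMittagLeffler R M :=
    Groth.Agent.S0586.result R S M (isMittagLeffler_of_projective (S ⊗[R] M))
  -- the extension step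
  have hext : ∀ z : Submodule R M × Set I × Set (Submodule R M),
      (z.1.baseChange S = Kap.MJ Q z.2.1 ∧ sSupIndep z.2.2 ∧ sSup z.2.2 = z.1 ∧
        ∀ L ∈ z.2.2, Kap.CG L) → ∀ x : M,
      ∃ z' : Submodule R M × Set I × Set (Submodule R M),
        (z'.1.baseChange S = Kap.MJ Q z'.2.1 ∧ sSupIndep z'.2.2 ∧ sSup z'.2.2 = z'.1 ∧
          ∀ L ∈ z'.2.2, Kap.CG L) ∧ z ≤ z' ∧ x ∈ z'.1 := by
    rintro ⟨N, I', 𝓛⟩ ⟨hNI, h𝓛ind, h𝓛sup, h𝓛cg⟩ x
    dsimp only at hNI h𝓛ind h𝓛sup h𝓛cg
    obtain ⟨A, C, hxA, hA, -, hAC⟩ :=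
      exists_adapted_closure R S M Q hsup hQc {x} (Set.countable_singleton x)
    have hN₁ : (Submodule.span R A).baseChange S = Kap.MJ Q C := by
      rw [Submodule.baseChange_span, hAC]
      rfl
    have hN' : (N ⊔ Submodule.span R A).baseChange S = Kap.MJ Q (I' ∪ C) := by
      rw [baseChange_sup, hNI, hN₁, Kap.MJ_union]
    obtain ⟨hflat, hMLq⟩ := flat_and_ml_quotient R S M Q hind hsup N I' hNI
    obtain ⟨hflat', -⟩ := flat_and_ml_quotient R S M Q hind hsup _ _ hN'
    obtain ⟨C', hdisj, hsupC, hC'cg⟩ :=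
      exists_cg_complement N (Submodule.span R A) ⟨A, hA, rfl⟩ hMLq
    refine ⟨(N ⊔ Submodule.span R A, I' ∪ C, insert C' 𝓛), ⟨hN', ?_, ?_, ?_⟩,
      ⟨le_sup_left, Set.subset_union_left, Set.subset_insert _ _⟩,
      Submodule.mem_sup_right (Submodule.subset_span (hxA (Set.mem_singleton x)))⟩
    · apply Kap.sSupIndep_insert h𝓛ind
      rw [h𝓛sup]
      exact hdisj.symm
    · show sSup (insert C' 𝓛) = N ⊔ Submodule.span R A
      rw [sSup_insert, h𝓛sup, sup_comm, hsupC]
    · intro L hL
      rcases hL with rfl | hL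
      · exact hC'cg
      · exact h𝓛cg L hL
  -- Zorn's lemma
  obtain ⟨z, hzmax⟩ := zorn_le₀ {z : Submodule R M × Set I × Set (Submodule R M) |
      z.1.baseChange S = Kap.MJ Q z.2.1 ∧ sSupIndep z.2.2 ∧ sSup z.2.2 = z.1 ∧
        ∀ L ∈ z.2.2, Kap.CG L} (by
    intro c hcS hchain
    refine ⟨(⨆ z ∈ c, z.1, ⋃ z ∈ c, z.2.1, ⋃ z ∈ c, z.2.2), ⟨?_, ?_, ?_, ?_⟩, ?_⟩
    · show (⨆ z ∈ c, z.1).baseChange S = Kap.MJ Q (⋃ z ∈ c, z.2.1)
      apply le_antisymm
      · rw [Submodule.baseChange_eq_span, Submodule.span_le]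
        rintro _ ⟨m, hm, rfl⟩
        have hle : (⨆ z ∈ c, z.1) ≤ ((Kap.MJ Q (⋃ z ∈ c, z.2.1)).restrictScalars R).comap
            (TensorProduct.mk R S M 1) := by
          apply iSup₂_le
          intro z hz m hm
          have h1 : (1 : S) ⊗ₜ[R] m ∈ z.1.baseChange S :=
            Submodule.tmul_mem_baseChange_of_mem 1 hm
          rw [(hcS hz).1] at h1
          exact Kap.MJ_mono Q (Set.subset_biUnion_of_mem
            (u := fun z : Submodule R M × Set I × Set (Submodule R M) => z.2.1) hz) h1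
        exact hle hm
      · apply iSup₂_le
        intro i hi
        obtain ⟨z, hz, hiz⟩ := Set.mem_iUnion₂.1 hi
        calc Q i ≤ Kap.MJ Q z.2.1 := Kap.le_MJ Q hiz
          _ = z.1.baseChange S := (hcS hz).1.symm
          _ ≤ _ := Submodule.baseChange_mono S
            (le_biSup (fun z : Submodule R M × Set I × Set (Submodule R M) => z.1) hz)
    · have : (⋃ z ∈ c, z.2.2) = ⋃₀ ((fun z : Submodule R M × Set I × Set (Submodule R M) =>
          z.2.2) '' c) := by
        rw [Set.sUnion_image]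
      show sSupIndep (⋃ z ∈ c, z.2.2)
      rw [this]
      apply iSupIndep_sUnion_of_directed
      · rintro _ ⟨z₁, hz₁, rfl⟩ _ ⟨z₂, hz₂, rfl⟩
        rcases hchain.total hz₁ hz₂ with h | h
        · exact ⟨z₂.2.2, ⟨z₂, hz₂, rfl⟩, h.2.2, le_rfl⟩
        · exact ⟨z₁.2.2, ⟨z₁, hz₁, rfl⟩, le_rfl, h.2.2⟩
      · rintro _ ⟨z, hz, rfl⟩
        exact (hcS hz).2.1
    · show sSup (⋃ z ∈ c, z.2.2) = ⨆ z ∈ c, z.1
      apply le_antisymm
      · apply sSup_le
        intro L hL
        obtain ⟨z, hz, hLz⟩ := Set.mem_iUnion₂.1 hL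
        calc L ≤ sSup z.2.2 := le_sSup hLz
          _ = z.1 := (hcS hz).2.2.1
          _ ≤ _ := le_biSup (fun z : Submodule R M × Set I × Set (Submodule R M) => z.1) hz
      · apply iSup₂_le
        intro z hz
        rw [← (hcS hz).2.2.1]
        exact sSup_le_sSup (Set.subset_biUnion_of_mem
          (u := fun z : Submodule R M × Set I × Set (Submodule R M) => z.2.2) hz)
    · intro L hL
      obtain ⟨z, hz, hLz⟩ := Set.mem_iUnion₂.1 hL
      exact (hcS hz).2.2.2 L hLz
    · intro z hz
      exact ⟨le_biSup (fun z : Submodule R M × Set I × Set (Submodule R M) => z.1) hz,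
        Set.subset_biUnion_of_mem
          (u := fun z : Submodule R M × Set I × Set (Submodule R M) => z.2.1) hz,
        Set.subset_biUnion_of_mem
          (u := fun z : Submodule R M × Set I × Set (Submodule R M) => z.2.2) hz⟩)
  have hzgood := hzmax.prop
  have htop : z.1 = ⊤ := by
    rw [eq_top_iff]
    intro x _
    obtain ⟨z', hz', hle, hx⟩ := hext z hzgood x
    exact (hzmax.le_of_ge hz' hle).1 hx
  apply projective_of_flat_ml_indep_cg M hML (fun k : ↥z.2.2 => k.1)
  · exact (sSupIndep_iff z.2.2).1 hzgood.2.1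
  · rw [← sSup_eq_iSup', hzgood.2.2.1, htop]
  · intro k
    exact Kap.isCountablyGenerated_of_CG k.1 (hzgood.2.2.2 k.1 k.2)

end Main

end Groth.Agent.Lib.Helper54.RG
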