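/-
helper54: global Noetherian approximation of flatness.  `R₀` Noetherian, `S₀` a finite type
`R₀`-algebra, `M₀` a finite `S₀`-module, `R` any `R₀`-algebra such that the base change of `M₀` to
`S₀ ⊗[R₀] R` is flat over `R`.  Then there is a finitely generated subalgebra `T` of `R` such that
for every subalgebra `T'` containing `T` the base change of `M₀` to `S₀ ⊗[R₀] T'` is flat over `T'`.
-/
import Groth.Agent.Lib.Helper54.FlatStage5

set_option autoImplicit false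
set_option maxHeartbeats 1600000

namespace Groth.Agent.Lib.Helper54.FlatStage6

open TensorProduct Function
open Groth.Agent.Lib.Helper54
open Groth.Agent.Lib.Helper54.FlatStage1
open Groth.Agent.Lib.Helper54.FlatStage2
open Groth.Agent.Lib.Helper54.FlatStage3
open Groth.Agent.Lib.Helper54.FlatStage4
open Groth.Agent.Lib.Helper54.FlatStage5

attribute [local instance] Algebra.TensorProduct.rightAlgebra

universe u

section LocalGlobal

variable {A : Type u} [CommRing A] (B : Type*) [CommRing B] [Algebra A B]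
variable (N : Type*) [AddCommGroup N] [Module A N] [Module B N] [IsScalarTower A B N]

/-- Flatness over the base can be checked after localizing at the maximal ideals of an algebra
acting on the module. -/
theorem flat_of_forall_maximal
    (h : ∀ (P : Ideal B) [P.IsMaximal], Module.Flat A (LocalizedModule P.primeCompl N)) :
    Module.Flat A N := by
  rw [Module.Flat.iff_lTensor_injective']
  intro J
  rw [injective_iff_map_eq_zero]
  intro z hz
  by_contra hne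
  have hann : (Submodule.span B {z}).annihilator ≠ ⊤ := by
    intro htop
    apply hne
    have h1 : (1 : B) ∈ (Submodule.span B {z}).annihilator := by
      rw [htop]
      trivial
    rw [Submodule.mem_annihilator_span_singleton, one_smul] at h1
    exact h1
  obtain ⟨P, hP, hle⟩ := Ideal.exists_le_maximal _ hann
  haveI := hP
  haveI := h P
  obtain ⟨w, hw, hwz⟩ := FlatOpenA.forall_ker_of_flat_localized (N := N)
    (N' := LocalizedModule P.primeCompl N) B P.primeCompl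
    (LocalizedModule.mkLinearMap P.primeCompl N) J z hz
  exact hw (hle ((Submodule.mem_annihilator_span_singleton _ _).2 hwz))

end LocalGlobal

section Lift

variable {R₀ : Type u} [CommRing R₀] (S₀ : Type u) [CommRing S₀] [Algebra R₀ S₀]
variable {R : Type u} [CommRing R] [Algebra R₀ R]

theorem SM_eq_lTensor {T T' : Type*} [CommRing T] [Algebra R₀ T] [CommRing T'] [Algebra R₀ T']
    (φ : T →ₐ[R₀] T') (x : S₀ ⊗[R₀] T) : SM S₀ φ x = φ.toLinearMap.lTensor S₀ x := by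
  induction x with
  | zero => simp
  | add x y hx hy => simp only [map_add, hx, hy]
  | tmul σ t => simp

theorem mem_map_SM_comp {T T' T'' : Type*} [CommRing T] [Algebra R₀ T] [CommRing T']
    [Algebra R₀ T'] [CommRing T''] [Algebra R₀ T''] (φ : T →ₐ[R₀] T') (ψ : T' →ₐ[R₀] T'')
    (J : Ideal (S₀ ⊗[R₀] T)) {x : S₀ ⊗[R₀] T'} (hx : x ∈ Ideal.map (SM S₀ φ) J) :
    SM S₀ ψ x ∈ Ideal.map (SM S₀ (ψ.comp φ)) J := by
  refine Submodule.span_induction
    (p := fun x _ => SM S₀ ψ x ∈ Ideal.map (SM S₀ (ψ.comp φ)) J) ?_ ?_ ?_ ?_ hx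
  · rintro _ ⟨j, hj, rfl⟩
    rw [SM_comp]
    exact Ideal.mem_map_of_mem _ hj
  · rw [map_zero]
    exact Ideal.zero_mem _
  · intro x y _ _ hx hy
    rw [map_add]
    exact Ideal.add_mem _ hx hy
  · intro r x _ hx
    rw [smul_eq_mul, map_mul]
    exact Ideal.mul_mem_left _ _ hx

/-- An element of `S₀ ⊗[R₀] T'` dying in `S₀ ⊗[R₀] R` dies at a finite stage. -/
theorem exists_fg_SM_eq_zero (T' : Subalgebra R₀ R) (hT' : T'.FG) (e : S₀ ⊗[R₀] T')
    (he : SM S₀ T'.val e = 0) :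
    ∃ (T₂ : Subalgebra R₀ R) (h : T' ≤ T₂), T₂.FG ∧ SM S₀ (Subalgebra.inclusion h) e = 0 := by
  classical
  have he' : T'.val.toLinearMap.lTensor S₀ e = 0 := by
    rw [← SM_eq_lTensor]
    exact he
  obtain ⟨Q, ⟨F, hF⟩, hQ⟩ := exists_fg_of_lTensor_eq_zero (M₀ := S₀) T'.val.toLinearMap e he'
  have hle : T' ≤ T' ⊔ Algebra.adjoin R₀ (F : Set R) := le_sup_left
  refine ⟨T' ⊔ Algebra.adjoin R₀ (F : Set R), hle, hT'.sup (Subalgebra.fg_adjoin_finset F), ?_⟩
  have h1 : ∀ x, T'.val.toLinearMap x ∈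
      Subalgebra.toSubmodule (T' ⊔ Algebra.adjoin R₀ (F : Set R)) := fun x => hle x.2
  have hQN : Q ≤ Subalgebra.toSubmodule (T' ⊔ Algebra.adjoin R₀ (F : Set R)) := by
    rw [← hF]
    apply Submodule.span_le.2
    intro f hf
    exact (le_sup_right : Algebra.adjoin R₀ (F : Set R) ≤ T' ⊔ Algebra.adjoin R₀ (F : Set R))
      (Algebra.subset_adjoin hf)
  have h2 := hQ (Subalgebra.toSubmodule (T' ⊔ Algebra.adjoin R₀ (F : Set R))) h1 hQN
  let l : ↥(Subalgebra.toSubmodule (T' ⊔ Algebra.adjoin R₀ (F : Set R))) →ₗ[R₀]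
      ↥(T' ⊔ Algebra.adjoin R₀ (F : Set R)) :=
    { toFun := fun x => ⟨x.1, x.2⟩
      map_add' := fun _ _ => rfl
      map_smul' := fun _ _ => rfl }
  have h3 : (Subalgebra.inclusion hle).toLinearMap = l ∘ₗ (T'.val.toLinearMap.codRestrict
      (Subalgebra.toSubmodule (T' ⊔ Algebra.adjoin R₀ (F : Set R))) h1) := by
    ext x
    rfl
  rw [SM_eq_lTensor, h3, LinearMap.lTensor_comp_apply, h2, map_zero]

end Lift

section Main

variable (R₀ S₀ M₀ : Type u) [CommRing R₀] [CommRing S₀] [Algebra R₀ S₀]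
  [AddCommGroup M₀] [Module R₀ M₀] [Module S₀ M₀] [IsScalarTower R₀ S₀ M₀]

theorem flat_prime_congr {T : Type u} [CommRing T] [Algebra R₀ T] (I J : Ideal (S₀ ⊗[R₀] T))
    [I.IsPrime] [J.IsPrime] (hIJ : I = J)
    (h : Module.Flat T (LocalizedModule I.primeCompl ((S₀ ⊗[R₀] T) ⊗[S₀] M₀))) :
    Module.Flat T (LocalizedModule J.primeCompl ((S₀ ⊗[R₀] T) ⊗[S₀] M₀)) := by
  subst hIJ
  exact h

/-- Monotonicity of flatness at a prime along an arbitrary algebra map. -/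
theorem flat_of_stage_flat' (T T' : Type u) [CommRing T] [Algebra R₀ T] [CommRing T']
    [Algebra R₀ T'] (φ : T →ₐ[R₀] T') (q' : Ideal (S₀ ⊗[R₀] T')) [q'.IsPrime]
    (h : Module.Flat T (LocalizedModule (q'.comap (SM S₀ φ)).primeCompl
      ((S₀ ⊗[R₀] T) ⊗[S₀] M₀))) :
    Module.Flat T' (LocalizedModule q'.primeCompl ((S₀ ⊗[R₀] T') ⊗[S₀] M₀)) := by
  letI : Algebra T T' := φ.toRingHom.toAlgebra
  haveI : IsScalarTower R₀ T T' := IsScalarTower.of_algebraMap_eq (fun x => (φ.commutes x).symm)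
  exact flat_of_stage_flat R₀ S₀ M₀ T' T φ (fun t => rfl) q' h

variable (R : Type u) [CommRing R] [Algebra R₀ R]

theorem stage_mono (T T' : Subalgebra R₀ R) (hle : T ≤ T') (q : Ideal (S₀ ⊗[R₀] R)) [q.IsPrime]
    (h : Module.Flat T (LocalizedModule (q.comap (SM S₀ T.val)).primeCompl
      ((S₀ ⊗[R₀] T) ⊗[S₀] M₀))) :
    Module.Flat T' (LocalizedModule (q.comap (SM S₀ T'.val)).primeCompl
      ((S₀ ⊗[R₀] T') ⊗[S₀] M₀)) := by
  apply flat_of_stage_flat' R₀ S₀ M₀ T T' (Subalgebra.inclusion hle) (q.comap (SM S₀ T'.val))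
  refine flat_prime_congr R₀ S₀ M₀ _ _ ?_ h
  ext w
  rw [Ideal.mem_comap, Ideal.mem_comap, Ideal.mem_comap, SM_comp]
  rfl

variable [IsNoetherianRing R₀] [Algebra.FiniteType R₀ S₀] [Module.Finite S₀ M₀]

/-- A single finitely generated subalgebra works for all primes of `S₀ ⊗[R₀] R`. -/
theorem exists_stage_flat_all (hflat : Module.Flat R ((S₀ ⊗[R₀] R) ⊗[S₀] M₀)) :
    ∃ T : Subalgebra R₀ R, T.FG ∧ ∀ (q : Ideal (S₀ ⊗[R₀] R)) [q.IsPrime],
      Module.Flat T (LocalizedModule (q.comap (SM S₀ T.val)).primeCompl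
        ((S₀ ⊗[R₀] T) ⊗[S₀] M₀)) := by
  classical
  haveI : Nonempty {T : Subalgebra R₀ R // T.FG} := ⟨⟨⊥, Subalgebra.fg_bot⟩⟩
  let U : {T : Subalgebra R₀ R // T.FG} → Set (PrimeSpectrum (S₀ ⊗[R₀] R)) := fun i =>
    PrimeSpectrum.comap (SM S₀ i.1.val).toRingHom ⁻¹'
      {q₁ : PrimeSpectrum (S₀ ⊗[R₀] i.1) | Module.Flat i.1
        (LocalizedModule q₁.asIdeal.primeCompl ((S₀ ⊗[R₀] i.1) ⊗[S₀] M₀))}
  have hUo : ∀ i, IsOpen (U i) := by
    rintro ⟨T, hTfg⟩
    haveI : Algebra.FiniteType R₀ T := (Subalgebra.fg_iff_finiteType T).1 hTfg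
    haveI : IsNoetherianRing T := Algebra.FiniteType.isNoetherianRing R₀ T
    haveI : Algebra.FiniteType T (S₀ ⊗[R₀] T) := FlatOpenB.finiteType_right R₀ S₀ T
    have hopen := FlatOpenB.isOpen_flatLocus T (S₀ ⊗[R₀] T) ((S₀ ⊗[R₀] T) ⊗[S₀] M₀)
    exact hopen.preimage (PrimeSpectrum.continuous_comap (SM S₀ T.val).toRingHom)
  have hcov : (Set.univ : Set (PrimeSpectrum (S₀ ⊗[R₀] R))) ⊆ ⋃ i, U i := by
    intro q _
    have hq : Module.Flat R (LocalizedModule q.asIdeal.primeCompl ((S₀ ⊗[R₀] R) ⊗[S₀] M₀)) :=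
      FlatOpenA.flat_of_isLocalizedModule (N := (S₀ ⊗[R₀] R) ⊗[S₀] M₀)
        (N' := LocalizedModule q.asIdeal.primeCompl ((S₀ ⊗[R₀] R) ⊗[S₀] M₀)) (S₀ ⊗[R₀] R)
        q.asIdeal.primeCompl
        (LocalizedModule.mkLinearMap q.asIdeal.primeCompl ((S₀ ⊗[R₀] R) ⊗[S₀] M₀))
    obtain ⟨T, hTfg, hT⟩ := exists_stage_flat R₀ S₀ M₀ R q.asIdeal hq
    exact Set.mem_iUnion.2 ⟨⟨T, hTfg⟩, hT⟩
  have hdir : Directed (· ⊆ ·) U := by
    rintro ⟨T, hT⟩ ⟨T', hT'⟩
    refine ⟨⟨T ⊔ T', hT.sup hT'⟩, ?_, ?_⟩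
    · intro q hq
      exact stage_mono R₀ S₀ M₀ R T (T ⊔ T') le_sup_left q.asIdeal hq
    · intro q hq
      exact stage_mono R₀ S₀ M₀ R T' (T ⊔ T') le_sup_right q.asIdeal hq
  obtain ⟨⟨T, hTfg⟩, hT⟩ := isCompact_univ.elim_directed_cover U hUo hcov hdir
  exact ⟨T, hTfg, fun q _ => hT (Set.mem_univ (⟨q, inferInstance⟩ : PrimeSpectrum _))⟩

end Main

end Groth.Agent.Lib.Helper54.FlatStage6
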