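/-
helper54: global Noetherian approximation of flatness (main theorem `exists_fg_flat`).
-/
import Groth.Agent.Lib.Helper54.FlatStage6

set_option autoImplicit false
set_option maxHeartbeats 1600000

namespace Groth.Agent.Lib.Helper54.FlatStage7

open TensorProduct Function
open Groth.Agent.Lib.Helper54
open Groth.Agent.Lib.Helper54.FlatStage1
open Groth.Agent.Lib.Helper54.FlatStage2
open Groth.Agent.Lib.Helper54.FlatStage3
open Groth.Agent.Lib.Helper54.FlatStage4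
open Groth.Agent.Lib.Helper54.FlatStage5
open Groth.Agent.Lib.Helper54.FlatStage6

attribute [local instance] Algebra.TensorProduct.rightAlgebra

universe u

section Lift

variable {R₀ : Type u} [CommRing R₀] (S₀ : Type u) [CommRing S₀] [Algebra R₀ S₀]
variable {R : Type u} [CommRing R] [Algebra R₀ R]

/-- If an ideal of `S₀ ⊗[R₀] T₁` generates the unit ideal in `S₀ ⊗[R₀] R`, it already does so at a
finite stage. -/
theorem exists_fg_map_eq_top (T₁ : Subalgebra R₀ R) (hT₁ : T₁.FG) (J : Ideal (S₀ ⊗[R₀] T₁))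
    (htop : Ideal.map (SM S₀ T₁.val) J = ⊤) :
    ∃ (T₂ : Subalgebra R₀ R) (h : T₁ ≤ T₂), T₂.FG ∧
      Ideal.map (SM S₀ (Subalgebra.inclusion h)) J = ⊤ := by
  have key : ∀ x ∈ Ideal.map (SM S₀ T₁.val) J, ∃ (T : Subalgebra R₀ R) (h : T₁ ≤ T), T.FG ∧
      ∃ x' ∈ Ideal.map (SM S₀ (Subalgebra.inclusion h)) J, SM S₀ T.val x' = x := by
    intro x hx
    refine Submodule.span_induction (p := fun x _ => ∃ (T : Subalgebra R₀ R) (h : T₁ ≤ T), T.FG ∧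
      ∃ x' ∈ Ideal.map (SM S₀ (Subalgebra.inclusion h)) J, SM S₀ T.val x' = x) ?_ ?_ ?_ ?_ hx
    · rintro _ ⟨j, hj, rfl⟩
      have hmem : SM S₀ (Subalgebra.inclusion (le_refl T₁)) j ∈
          Ideal.map (SM S₀ (Subalgebra.inclusion (le_refl T₁))) J :=
        Ideal.mem_map_of_mem (SM S₀ (Subalgebra.inclusion (le_refl T₁))) hj
      have heq : SM S₀ T₁.val (SM S₀ (Subalgebra.inclusion (le_refl T₁)) j) = SM S₀ T₁.val j := by
        rw [SM_comp]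
        rfl
      exact ⟨T₁, le_refl T₁, hT₁, _, hmem, heq⟩
    · exact ⟨T₁, le_rfl, hT₁, 0, Ideal.zero_mem _, map_zero _⟩
    · rintro x y _ _ ⟨Ta, ha, hafg, xa, hxa, rfl⟩ ⟨Tb, hb, hbfg, xb, hxb, rfl⟩
      refine ⟨Ta ⊔ Tb, ha.trans le_sup_left, hafg.sup hbfg,
        SM S₀ (Subalgebra.inclusion le_sup_left) xa + SM S₀ (Subalgebra.inclusion le_sup_right) xb,
        Ideal.add_mem _ ?_ ?_, ?_⟩
      · exact mem_map_SM_comp S₀ (Subalgebra.inclusion ha) (Subalgebra.inclusion le_sup_left) J hxa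
      · exact mem_map_SM_comp S₀ (Subalgebra.inclusion hb) (Subalgebra.inclusion le_sup_right) J hxb
      · rw [map_add, SM_comp, SM_comp]
        rfl
    · rintro r x _ ⟨Ta, ha, hafg, xa, hxa, rfl⟩
      obtain ⟨Tr, hrfg, r', rfl⟩ := exists_fg_mem_range S₀ r
      refine ⟨Ta ⊔ Tr, ha.trans le_sup_left, hafg.sup hrfg,
        SM S₀ (Subalgebra.inclusion le_sup_right) r' * SM S₀ (Subalgebra.inclusion le_sup_left) xa,
        Ideal.mul_mem_left _ _ ?_, ?_⟩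
      · exact mem_map_SM_comp S₀ (Subalgebra.inclusion ha) (Subalgebra.inclusion le_sup_left) J hxa
      · rw [map_mul, SM_comp, SM_comp, smul_eq_mul]
        rfl
  obtain ⟨T, h, hTfg, x', hx', hx1⟩ := key 1 (by rw [htop]; trivial)
  have he : SM S₀ T.val (x' - 1) = 0 := by rw [map_sub, hx1, map_one, sub_self]
  obtain ⟨T₂, h₂, hT₂fg, he₂⟩ := exists_fg_SM_eq_zero S₀ T hTfg (x' - 1) he
  refine ⟨T₂, h.trans h₂, hT₂fg, ?_⟩
  rw [Ideal.eq_top_iff_one]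
  have h3 : SM S₀ (Subalgebra.inclusion h₂) x' = 1 := by
    rw [map_sub, map_one, sub_eq_zero] at he₂
    exact he₂
  rw [← h3]
  exact mem_map_SM_comp S₀ (Subalgebra.inclusion h) (Subalgebra.inclusion h₂) J hx'

end Lift

section Main

variable (R₀ S₀ M₀ : Type u) [CommRing R₀] [CommRing S₀] [Algebra R₀ S₀]
  [AddCommGroup M₀] [Module R₀ M₀] [Module S₀ M₀] [IsScalarTower R₀ S₀ M₀]
variable (R : Type u) [CommRing R] [Algebra R₀ R]
variable [IsNoetherianRing R₀] [Algebra.FiniteType R₀ S₀] [Module.Finite S₀ M₀]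

/-- **Global Noetherian approximation of flatness.** -/
theorem exists_fg_flat (hflat : Module.Flat R ((S₀ ⊗[R₀] R) ⊗[S₀] M₀)) :
    ∃ T : Subalgebra R₀ R, T.FG ∧ ∀ T' : Subalgebra R₀ R, T ≤ T' →
      Module.Flat T' ((S₀ ⊗[R₀] T') ⊗[S₀] M₀) := by
  classical
  obtain ⟨T₁, hT₁fg, hT₁⟩ := exists_stage_flat_all R₀ S₀ M₀ R hflat
  haveI : Algebra.FiniteType R₀ T₁ := (Subalgebra.fg_iff_finiteType T₁).1 hT₁fg
  haveI : IsNoetherianRing T₁ := Algebra.FiniteType.isNoetherianRing R₀ T₁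
  haveI : Algebra.FiniteType T₁ (S₀ ⊗[R₀] T₁) := FlatOpenB.finiteType_right R₀ S₀ T₁
  have hopen := FlatOpenB.isOpen_flatLocus T₁ (S₀ ⊗[R₀] T₁) ((S₀ ⊗[R₀] T₁) ⊗[S₀] M₀)
  obtain ⟨U₁, hU₁⟩ : ∃ U₁ : Set (PrimeSpectrum (S₀ ⊗[R₀] T₁)), U₁ =
      {q₁ | Module.Flat T₁ (LocalizedModule q₁.asIdeal.primeCompl
        ((S₀ ⊗[R₀] T₁) ⊗[S₀] M₀))} := ⟨_, rfl⟩
  rw [← hU₁] at hopen
  have hJ : ∀ q₁ : PrimeSpectrum (S₀ ⊗[R₀] T₁),
      PrimeSpectrum.vanishingIdeal U₁ᶜ ≤ q₁.asIdeal → q₁ ∉ U₁ := by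
    intro q₁ hle hmem
    have h1 : q₁ ∈ PrimeSpectrum.zeroLocus
        ((PrimeSpectrum.vanishingIdeal U₁ᶜ : Ideal (S₀ ⊗[R₀] T₁)) : Set (S₀ ⊗[R₀] T₁)) :=
      (PrimeSpectrum.mem_zeroLocus _ _).2 hle
    rw [PrimeSpectrum.zeroLocus_vanishingIdeal_eq_closure, (hopen.isClosed_compl).closure_eq] at h1
    exact h1 hmem
  have htop : Ideal.map (SM S₀ T₁.val) (PrimeSpectrum.vanishingIdeal U₁ᶜ) = ⊤ := by
    by_contra hne
    obtain ⟨m, hm, hle⟩ := Ideal.exists_le_maximal _ hne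
    haveI := hm.isPrime
    have h2 : PrimeSpectrum.vanishingIdeal U₁ᶜ ≤ m.comap (SM S₀ T₁.val) :=
      Ideal.map_le_iff_le_comap.1 hle
    refine hJ ⟨m.comap (SM S₀ T₁.val), inferInstance⟩ h2 ?_
    rw [hU₁]
    exact hT₁ m
  obtain ⟨T₂, h₁₂, hT₂fg, htop₂⟩ := exists_fg_map_eq_top S₀ T₁ hT₁fg _ htop
  refine ⟨T₂, hT₂fg, fun T' hT' => ?_⟩
  apply flat_of_forall_maximal (S₀ ⊗[R₀] T') ((S₀ ⊗[R₀] T') ⊗[S₀] M₀)
  intro P hP
  haveI := hP.isPrime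
  have hle' : T₁ ≤ T' := h₁₂.trans hT'
  apply flat_of_stage_flat' R₀ S₀ M₀ T₁ T' (Subalgebra.inclusion hle') P
  by_contra hnf
  have hJle : PrimeSpectrum.vanishingIdeal U₁ᶜ ≤ P.comap (SM S₀ (Subalgebra.inclusion hle')) := by
    intro x hx
    refine (PrimeSpectrum.mem_vanishingIdeal _ _).1 hx
      ⟨P.comap (SM S₀ (Subalgebra.inclusion hle')), inferInstance⟩ ?_
    rw [hU₁]
    exact hnf
  have h4 : Ideal.map (SM S₀ (Subalgebra.inclusion hle')) (PrimeSpectrum.vanishingIdeal U₁ᶜ) ≤ P :=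
    Ideal.map_le_iff_le_comap.2 hJle
  have h5 : (1 : S₀ ⊗[R₀] T') ∈
      Ideal.map (SM S₀ (Subalgebra.inclusion hle')) (PrimeSpectrum.vanishingIdeal U₁ᶜ) := by
    have h6 : (1 : S₀ ⊗[R₀] T₂) ∈
        Ideal.map (SM S₀ (Subalgebra.inclusion h₁₂)) (PrimeSpectrum.vanishingIdeal U₁ᶜ) := by
      rw [htop₂]
      trivial
    have h7 := mem_map_SM_comp S₀ (Subalgebra.inclusion h₁₂) (Subalgebra.inclusion hT') _ h6
    rw [map_one] at h7
    exact h7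
  exact hP.ne_top ((Ideal.eq_top_iff_one _).2 (h4 h5))

end Main

end Groth.Agent.Lib.Helper54.FlatStage7
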