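/-
helper54: regular elements on localized modules, elementwise, and the Noetherian stage of the
fibrewise criterion for regular elements (EGA IV 11.3.7), deduced from Stacks 00ME (S0393).
-/
import Mathlib
import Groth.Agent.S0393

set_option autoImplicit false
set_option maxHeartbeats 800000

namespace Groth.Agent.Lib.Helper54.RegFibre1

open TensorProduct Function

universe u

section Elementwise

variable {B : Type*} [CommRing B] (W : Submonoid B) {N N' : Type*} [AddCommGroup N]
  [AddCommGroup N'] [Module B N] [Module B N'] (ℓ : N →ₗ[B] N') [IsLocalizedModule W ℓ]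

include ℓ in
/-- Regularity of `b` on a localized module, elementwise on the original module. -/
theorem regular_localized_iff (b : B) :
    (∀ y' : N', b • y' = 0 → y' = 0) ↔
      ∀ y : N, (∃ s ∈ W, s • b • y = 0) → ∃ s' ∈ W, s' • y = 0 := by
  constructor
  · rintro h y ⟨s, hs, hy⟩
    have h1 : b • ℓ y = 0 := by
      apply IsLocalizedModule.smul_injective ℓ (⟨s, hs⟩ : W)
      show (⟨s, hs⟩ : W) • (b • ℓ y) = (⟨s, hs⟩ : W) • (0 : N')
      rw [smul_zero, Submonoid.mk_smul, ← map_smul, ← map_smul, hy, map_zero]
    obtain ⟨s', hs'⟩ := (IsLocalizedModule.eq_zero_iff W ℓ).1 (h _ h1)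
    exact ⟨s'.1, s'.2, hs'⟩
  · intro h y' hy'
    obtain ⟨⟨y, s⟩, hys⟩ := IsLocalizedModule.surj W ℓ y'
    have hys' : (s : B) • y' = ℓ y := hys
    have h1 : ℓ (b • y) = 0 := by
      rw [map_smul, ← hys', smul_comm, hy', smul_zero]
    obtain ⟨t, ht⟩ := (IsLocalizedModule.eq_zero_iff W ℓ).1 h1
    obtain ⟨s', hs'W, hs'⟩ := h y ⟨t.1, t.2, ht⟩
    have h2 : ℓ y = 0 := (IsLocalizedModule.eq_zero_iff W ℓ).2 ⟨⟨s', hs'W⟩, hs'⟩
    rw [h2] at hys'
    apply IsLocalizedModule.smul_injective ℓ s
    show s • y' = s • (0 : N')
    rw [smul_zero]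
    exact hys'

end Elementwise

section Stage

variable {T B : Type u} [CommRing T] [CommRing B] [Algebra T B] [IsNoetherianRing B]
  {M : Type u} [AddCommGroup M] [Module B M] [Module T M] [IsScalarTower T B M]
  [Module.Finite B M] (q : Ideal B) [q.IsPrime] (b : B)

/-- **Noetherian stage.** If `M_q` is flat over `T` and `b` is regular on the localization at `q`
of the fibre `M ⊗ κ(p)`, then `b` is injective on `M_q` with `T`-flat cokernel. -/
theorem stage_core
    (hflat : Module.Flat T (LocalizedModule q.primeCompl M))
    (hfib : ∀ y : M ⊗[T] (q.comap (algebraMap T B)).ResidueField,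
      (∃ s ∈ q.primeCompl, s • b • y = 0) → ∃ s' ∈ q.primeCompl, s' • y = 0) :
    Injective ((LinearMap.lsmul B (LocalizedModule q.primeCompl M) b).restrictScalars T) ∧
      Module.Flat T (LocalizedModule q.primeCompl M ⧸
        LinearMap.range ((LinearMap.lsmul B (LocalizedModule q.primeCompl M) b).restrictScalars T)) := by
  set p : Ideal T := q.comap (algebraMap T B) with hp
  set L := LocalizedModule q.primeCompl M with hL
  let R' := Localization.AtPrime p
  let S := Localization.AtPrime q
  letI algR'S : Algebra R' S := (Localization.localRingHom p q (algebraMap T B) rfl).toAlgebra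
  haveI : IsLocalHom (algebraMap R' S) := Localization.isLocalHom_localRingHom p q (algebraMap T B) rfl
  letI modR'L : Module R' L := Module.compHom L (algebraMap R' S)
  haveI towR'SL : IsScalarTower R' S L := ⟨fun r s y => by
    show (r • s) • y = (algebraMap R' S r) • (s • y)
    rw [Algebra.smul_def, mul_smul]⟩
  have hTL : ∀ (t : T) (z : L), (algebraMap R' S (algebraMap T R' t)) • z = t • z := by
    intro t z
    have h1 : algebraMap R' S (algebraMap T R' t) = algebraMap B S (algebraMap T B t) :=
      Localization.localRingHom_to_map p q (algebraMap T B) rfl t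
    rw [h1, algebraMap_smul, algebraMap_smul]
  haveI towTR'L : IsScalarTower T R' L := ⟨fun t r y => by
    show (algebraMap R' S (t • r)) • y = t • ((algebraMap R' S r) • y)
    rw [Algebra.smul_def, map_mul, mul_smul, hTL]⟩
  haveI flatR'L : Module.Flat R' L :=
    (Module.flat_iff_of_isLocalization (R := T) (M := L) R' p.primeCompl).2 hflat
  haveI : IsNoetherianRing S := IsLocalization.isNoetherianRing q.primeCompl S inferInstance
  haveI : Module.Finite S L := inferInstance
  let u : L →ₗ[R'] L := (LinearMap.lsmul S L (algebraMap B S b)).restrictScalars R'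
  have hu : ∀ y, u y = b • y := fun y => by
    show algebraMap B S b • y = b • y
    rw [algebraMap_smul]
  have hkey : ∀ y' : L ⊗[T] p.ResidueField, b • y' = 0 → y' = 0 :=
    (regular_localized_iff q.primeCompl
      (AlgebraTensorModule.rTensor T p.ResidueField
        (LocalizedModule.mkLinearMap q.primeCompl M)) b).2 hfib
  have h : Injective (u.lTensor (IsLocalRing.ResidueField R')) := by
    let e₁ : p.ResidueField ⊗[R'] L ≃ₗ[R'] p.ResidueField ⊗[T] L :=
      IsLocalization.moduleTensorEquiv p.primeCompl R' p.ResidueField L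
    let e₂ := TensorProduct.comm T p.ResidueField L
    have hΦ : ∀ x : p.ResidueField ⊗[R'] L,
        e₂ (e₁ (u.lTensor p.ResidueField x)) = b • e₂ (e₁ x) := by
      intro x
      induction x with
      | zero => simp
      | add x y hx hy => simp only [map_add, hx, hy, smul_add]
      | tmul c y =>
        rw [LinearMap.lTensor_tmul, hu]
        show e₂ (c ⊗ₜ[T] (b • y)) = b • e₂ (c ⊗ₜ[T] y)
        rw [TensorProduct.comm_tmul, TensorProduct.comm_tmul, TensorProduct.smul_tmul']
    rw [injective_iff_map_eq_zero]
    intro x hx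
    have h1 := hkey (e₂ (e₁ x)) (by rw [← hΦ, hx, map_zero, map_zero])
    have h2 : e₁ x = 0 := (LinearEquiv.map_eq_zero_iff e₂).1 h1
    exact (LinearEquiv.map_eq_zero_iff e₁).1 h2
  obtain ⟨hinj, hfl⟩ := Groth.Agent.S0393.result (R := R') (S := S) (M := L) (N := L) u h
  refine ⟨fun x y hxy => hinj (by rw [hu, hu]; exact hxy), ?_⟩
  have hrange : (LinearMap.range u).restrictScalars T =
      LinearMap.range ((LinearMap.lsmul B L b).restrictScalars T) := by
    ext y
    simp only [Submodule.restrictScalars_mem, LinearMap.mem_range]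
    constructor
    · rintro ⟨x, rfl⟩
      exact ⟨x, (hu x).symm⟩
    · rintro ⟨x, rfl⟩
      exact ⟨x, hu x⟩
  haveI : Module.Flat T R' := IsLocalization.flat R' p.primeCompl
  haveI h1 : Module.Flat T (L ⧸ LinearMap.range u) := Module.Flat.trans T R' _
  have h2 : Module.Flat T (L ⧸ (LinearMap.range u).restrictScalars T) :=
    Module.Flat.of_linearEquiv (Submodule.Quotient.restrictScalarsEquiv T (LinearMap.range u))
  exact Module.Flat.of_linearEquiv (Submodule.quotEquivOfEq _ _ hrange).symm

end Stage

section Consequences

variable {T B : Type*} [CommRing T] [CommRing B] [Algebra T B]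
  {M : Type*} [AddCommGroup M] [Module B M] [Module T M] [IsScalarTower T B M]
  (W : Submonoid B) (b : B)

/-- Universal regularity: if `b` is injective on `W⁻¹M` with `T`-flat cokernel, then `b` is
regular on `W⁻¹(M ⊗[T] X)` for every `T`-module `X`, in elementwise form. -/
theorem univ_regular
    (hinj : Injective ((LinearMap.lsmul B (LocalizedModule W M) b).restrictScalars T))
    (hfl : Module.Flat T (LocalizedModule W M ⧸
      LinearMap.range ((LinearMap.lsmul B (LocalizedModule W M) b).restrictScalars T)))
    (X : Type*) [AddCommGroup X] [Module T X] (y : M ⊗[T] X)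
    (hy : ∃ s ∈ W, s • b • y = 0) : ∃ s' ∈ W, s' • y = 0 := by
  set L := LocalizedModule W M with hL
  set uT : L →ₗ[T] L := (LinearMap.lsmul B L b).restrictScalars T with huT
  have h1 : Injective (uT.lTensor X) :=
    LinearMap.lTensor_injective_of_exact_of_flat (LinearMap.range uT).mkQ
      (Submodule.mkQ_surjective _) uT hinj (LinearMap.exact_map_mkQ_range uT) X
  have hcomm : ∀ y' : L ⊗[T] X,
      uT.lTensor X (TensorProduct.comm T L X y') = TensorProduct.comm T L X (b • y') := by
    intro y'
    induction y' with
    | zero => simp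
    | add x y hx hy => simp only [map_add, smul_add, hx, hy]
    | tmul l x =>
      rw [TensorProduct.comm_tmul, LinearMap.lTensor_tmul, TensorProduct.smul_tmul',
        TensorProduct.comm_tmul]
      rfl
  have hkey : ∀ y' : L ⊗[T] X, b • y' = 0 → y' = 0 := by
    intro y' hy'
    have h2 := hcomm y'
    rw [hy', map_zero] at h2
    have h3 := h1 (h2.trans (map_zero _).symm)
    exact (LinearEquiv.map_eq_zero_iff _).1 h3
  exact (regular_localized_iff W
    (AlgebraTensorModule.rTensor T X (LocalizedModule.mkLinearMap W M)) b).1 hkey y hy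

/-- Flatness of the localization of a cokernel of `b`. -/
theorem flat_localized_coker
    (hfl : Module.Flat T (LocalizedModule W M ⧸
      LinearMap.range ((LinearMap.lsmul B (LocalizedModule W M) b).restrictScalars T)))
    {Q : Type*} [AddCommGroup Q] [Module B Q] [Module T Q] [IsScalarTower T B Q]
    (π : M →ₗ[B] Q) (hπ : Surjective π) (hex : Function.Exact (LinearMap.lsmul B M b) π) :
    Module.Flat T (LocalizedModule W Q) := by
  set L := LocalizedModule W M with hL
  let ℓ := LocalizedModule.mkLinearMap W M
  let ℓQ := LocalizedModule.mkLinearMap W Q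
  let f : L →ₗ[B] LocalizedModule W Q := IsLocalizedModule.map W ℓ ℓQ π
  have hf : Surjective f := IsLocalizedModule.map_surjective W ℓ ℓQ π hπ
  have hmap : IsLocalizedModule.map W ℓ ℓ (LinearMap.lsmul B M b) = LinearMap.lsmul B L b := by
    apply IsLocalizedModule.ext W ℓ (IsLocalizedModule.map_units ℓ)
    ext m
    simp only [LinearMap.coe_comp, Function.comp_apply, IsLocalizedModule.map_apply,
      LinearMap.lsmul_apply, map_smul]
    rfl
  have hexL : Function.Exact (LinearMap.lsmul B L b) f := by
    have := IsLocalizedModule.map_exact W ℓ ℓ ℓQ (LinearMap.lsmul B M b) π hex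
    rwa [hmap] at this
  have hker : LinearMap.ker (f.restrictScalars T) =
      LinearMap.range ((LinearMap.lsmul B L b).restrictScalars T) := by
    ext y
    simp only [LinearMap.mem_ker, LinearMap.mem_range, LinearMap.coe_restrictScalars]
    exact hexL y
  have e1 : (L ⧸ LinearMap.ker (f.restrictScalars T)) ≃ₗ[T] LocalizedModule W Q :=
    LinearMap.quotKerEquivOfSurjective (f.restrictScalars T) hf
  have e2 := Submodule.quotEquivOfEq _ _ hker
  exact Module.Flat.of_linearEquiv (e1.symm.trans e2)

end Consequences

end Groth.Agent.Lib.Helper54.RegFibre1
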