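/-
helper54: the stage dictionary for fibres: multiplicativity of the action `act`, and the uniform
annihilator of the kernel of a multiplication on a fibre over a field.
-/
import Groth.Agent.Lib.Helper54.FlatStage6
import Groth.Agent.Lib.Helper54.FlatOpenB
import Groth.Agent.Lib.Helper54.RegFibre1

set_option autoImplicit false
set_option maxHeartbeats 800000

namespace Groth.Agent.Lib.Helper54.RegFibre2

open TensorProduct Function
open Groth.Agent.Lib.Helper54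
open Groth.Agent.Lib.Helper54.FlatStage1
open Groth.Agent.Lib.Helper54.FlatStage4

attribute [local instance] Algebra.TensorProduct.rightAlgebra

universe u

section Act

variable (R₀ S₀ M₀ : Type*) [CommRing R₀] [CommRing S₀] [Algebra R₀ S₀]
  [AddCommGroup M₀] [Module R₀ M₀] [Module S₀ M₀] [IsScalarTower R₀ S₀ M₀]
variable (T : Type*) [CommRing T] [Algebra R₀ T]
variable (X : Type*) [AddCommGroup X] [Module R₀ X] [Module T X] [IsScalarTower R₀ T X]

theorem act_algebraMap (σ : S₀) (z : M₀ ⊗[R₀] X) :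
    act R₀ S₀ M₀ T X (σ ⊗ₜ 1) z = σ • z := by
  induction z with
  | zero => simp
  | add x y hx hy => rw [map_add, hx, hy, smul_add]
  | tmul m x => rw [act_tmul, one_smul, TensorProduct.smul_tmul']

theorem act_one (z : M₀ ⊗[R₀] X) : act R₀ S₀ M₀ T X 1 z = z := by
  rw [Algebra.TensorProduct.one_def, act_algebraMap, one_smul]

theorem act_mul (w w' : S₀ ⊗[R₀] T) (z : M₀ ⊗[R₀] X) :
    act R₀ S₀ M₀ T X (w * w') z = act R₀ S₀ M₀ T X w (act R₀ S₀ M₀ T X w' z) := by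
  apply (Psi R₀ S₀ M₀ T X).injective
  rw [← smul_Psi, ← smul_Psi, ← smul_Psi, mul_smul]

theorem act_comm (w w' : S₀ ⊗[R₀] T) (z : M₀ ⊗[R₀] X) :
    act R₀ S₀ M₀ T X w (act R₀ S₀ M₀ T X w' z) = act R₀ S₀ M₀ T X w' (act R₀ S₀ M₀ T X w z) := by
  rw [← act_mul, ← act_mul, mul_comm]

variable {X} in
theorem lTensor_smul {X' : Type*} [AddCommGroup X'] [Module R₀ X'] (j : X →ₗ[R₀] X') (σ : S₀)
    (z : M₀ ⊗[R₀] X) : j.lTensor M₀ (σ • z) = σ • j.lTensor M₀ z := by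
  induction z with
  | zero => simp
  | add x y hx hy => rw [smul_add, map_add, hx, hy, map_add, smul_add]
  | tmul m x => rw [TensorProduct.smul_tmul', LinearMap.lTensor_tmul, LinearMap.lTensor_tmul,
      TensorProduct.smul_tmul']

/-- `b • Psi z` for `b` coming from `S₀`. -/
theorem algebraMap_smul_Psi (σ : S₀) (z : M₀ ⊗[R₀] X) :
    (algebraMap S₀ (S₀ ⊗[R₀] T) σ) • Psi R₀ S₀ M₀ T X z = Psi R₀ S₀ M₀ T X (σ • z) := by
  rw [smul_Psi, Algebra.TensorProduct.algebraMap_apply, Algebra.algebraMap_self, RingHom.id_apply,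
    act_algebraMap]

end Act

section Uniform

variable (R₀ S₀ M₀ : Type u) [CommRing R₀] [CommRing S₀] [Algebra R₀ S₀]
  [AddCommGroup M₀] [Module R₀ M₀] [Module S₀ M₀] [IsScalarTower R₀ S₀ M₀]
  [Algebra.FiniteType R₀ S₀] [Module.Finite S₀ M₀]
variable (R : Type u) [CommRing R] [Algebra R₀ R]
variable (K : Type u) [Field K] [Algebra R K] [Algebra R₀ K] [IsScalarTower R₀ R K]

/-- The action of `S₀ ⊗ R` on `M₀ ⊗ K` factors through `S₀ ⊗ K`. -/
theorem act_eq_act_field (w : S₀ ⊗[R₀] R) (z : M₀ ⊗[R₀] K) :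
    act R₀ S₀ M₀ R K w z =
      act R₀ S₀ M₀ K K (SM S₀ (IsScalarTower.toAlgHom R₀ R K) w) z := by
  have h := act_natural R₀ S₀ M₀ (IsScalarTower.toAlgHom R₀ R K) (LinearMap.id : K →ₗ[R₀] K)
    (fun r x => by
      rw [LinearMap.id_apply, LinearMap.id_apply, IsScalarTower.coe_toAlgHom', Algebra.smul_def,
        smul_eq_mul]) w z
  rwa [LinearMap.lTensor_id, LinearMap.id_apply, LinearMap.id_apply] at h

/-- **Uniform annihilator.** If every element of the kernel of `g₀` on the fibre `M₀ ⊗ K` is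
killed by some element outside the prime `q`, a single element outside `q` kills the kernel. -/
theorem exists_uniform (q : Ideal (S₀ ⊗[R₀] R)) [q.IsPrime] (g₀ : S₀)
    (hfib : ∀ z : M₀ ⊗[R₀] K, g₀ • z = 0 → ∃ w, w ∉ q ∧ act R₀ S₀ M₀ R K w z = 0) :
    ∃ w, w ∉ q ∧ ∀ z : M₀ ⊗[R₀] K, g₀ • z = 0 → act R₀ S₀ M₀ R K w z = 0 := by
  classical
  haveI : Algebra.FiniteType K (S₀ ⊗[R₀] K) := FlatOpenB.finiteType_right R₀ S₀ K
  haveI : IsNoetherianRing (S₀ ⊗[R₀] K) := Algebra.FiniteType.isNoetherianRing K _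
  haveI : IsNoetherian (S₀ ⊗[R₀] K) ((S₀ ⊗[R₀] K) ⊗[S₀] M₀) :=
    isNoetherian_of_isNoetherianRing_of_finite _ _
  let e : M₀ ⊗[R₀] K ≃ₗ[R₀] (S₀ ⊗[R₀] K) ⊗[S₀] M₀ :=
    (Psi R₀ S₀ M₀ K K).trans
      ((AlgebraTensorModule.rid K (S₀ ⊗[R₀] K) ((S₀ ⊗[R₀] K) ⊗[S₀] M₀)).restrictScalars R₀)
  have he : ∀ (c : S₀ ⊗[R₀] K) (z : M₀ ⊗[R₀] K), e (act R₀ S₀ M₀ K K c z) = c • e z := by
    intro c z
    show (AlgebraTensorModule.rid K (S₀ ⊗[R₀] K) ((S₀ ⊗[R₀] K) ⊗[S₀] M₀))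
      (Psi R₀ S₀ M₀ K K (act R₀ S₀ M₀ K K c z)) = c •
      (AlgebraTensorModule.rid K (S₀ ⊗[R₀] K) ((S₀ ⊗[R₀] K) ⊗[S₀] M₀)) (Psi R₀ S₀ M₀ K K z)
    rw [← smul_Psi, map_smul]
  have heσ : ∀ (σ : S₀) (z : M₀ ⊗[R₀] K), e (σ • z) = algebraMap S₀ (S₀ ⊗[R₀] K) σ • e z := by
    intro σ z
    rw [← he, Algebra.TensorProduct.algebraMap_apply, Algebra.algebraMap_self, RingHom.id_apply,
      act_algebraMap]
  let N : Submodule (S₀ ⊗[R₀] K) ((S₀ ⊗[R₀] K) ⊗[S₀] M₀) :=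
    LinearMap.ker (LinearMap.lsmul (S₀ ⊗[R₀] K) ((S₀ ⊗[R₀] K) ⊗[S₀] M₀)
      (algebraMap S₀ (S₀ ⊗[R₀] K) g₀))
  obtain ⟨s, hs⟩ : N.FG := IsNoetherian.noetherian N
  have hmemN : ∀ z : M₀ ⊗[R₀] K, g₀ • z = 0 → e z ∈ N := by
    intro z hz
    show algebraMap S₀ (S₀ ⊗[R₀] K) g₀ • e z = 0
    rw [← heσ, hz, map_zero]
  have h1 : ∀ y ∈ s, ∃ w, w ∉ q ∧ act R₀ S₀ M₀ R K w (e.symm y) = 0 := by
    intro y hy
    apply hfib
    apply e.injective
    have hyN : y ∈ N := hs ▸ Submodule.subset_span hy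
    rw [heσ, LinearEquiv.apply_symm_apply, map_zero]
    exact hyN
  choose! w hw using h1
  refine ⟨∏ y ∈ s, w y, ?_, ?_⟩
  · rw [Ideal.IsPrime.prod_mem_iff]
    rintro ⟨y, hy, hyq⟩
    exact (hw y hy).1 hyq
  · intro z hz
    let φK := IsScalarTower.toAlgHom R₀ R K
    have hact : ∀ (w' : S₀ ⊗[R₀] R) (z' : M₀ ⊗[R₀] K),
        e (act R₀ S₀ M₀ R K w' z') = SM S₀ φK w' • e z' := by
      intro w' z'
      rw [act_eq_act_field, he]
    have hle : N ≤ LinearMap.ker (LinearMap.lsmul (S₀ ⊗[R₀] K) ((S₀ ⊗[R₀] K) ⊗[S₀] M₀)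
        (SM S₀ φK (∏ y ∈ s, w y))) := by
      rw [← hs, Submodule.span_le]
      intro y hy
      show SM S₀ φK (∏ y ∈ s, w y) • y = 0
      have h2 : SM S₀ φK (∏ y ∈ s, w y) • y =
          e (act R₀ S₀ M₀ R K (∏ y ∈ s, w y) (e.symm y)) := by
        rw [hact, LinearEquiv.apply_symm_apply]
      rw [h2, ← Finset.prod_erase_mul s w hy, act_mul, (hw y hy).2, map_zero, map_zero]
    have h3 := hle (hmemN z hz)
    apply e.injective
    rw [hact, map_zero]
    exact h3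

end Uniform

section StageFibre

variable (R₀ S₀ M₀ : Type u) [CommRing R₀] [CommRing S₀] [Algebra R₀ S₀]
  [AddCommGroup M₀] [Module R₀ M₀] [Module S₀ M₀] [IsScalarTower R₀ S₀ M₀]
variable (R : Type u) [CommRing R] [Algebra R₀ R]
variable (K : Type u) [Field K] [Algebra R K] [Algebra R₀ K] [IsScalarTower R₀ R K]

theorem SM_val_algebraMap (T : Subalgebra R₀ R) (t : T) :
    SM S₀ T.val (algebraMap T (S₀ ⊗[R₀] T) t) = algebraMap R (S₀ ⊗[R₀] R) (t : R) := by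
  rw [Algebra.TensorProduct.right_algebraMap_apply, Algebra.TensorProduct.right_algebraMap_apply,
    Algebra.TensorProduct.map_tmul, map_one]
  rfl

/-- **Descent of regularity on the fibre to a stage.** -/
theorem stage_hfib (q : Ideal (S₀ ⊗[R₀] R)) [q.IsPrime] (g₀ : S₀)
    (hK : ∀ r : R, algebraMap R K r = 0 ↔ algebraMap R (S₀ ⊗[R₀] R) r ∈ q)
    (T : Subalgebra R₀ R) (wT : S₀ ⊗[R₀] T) (hwq : SM S₀ T.val wT ∉ q)
    (hw : ∀ z : M₀ ⊗[R₀] K, g₀ • z = 0 → act R₀ S₀ M₀ R K (SM S₀ T.val wT) z = 0)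
    (y : ((S₀ ⊗[R₀] T) ⊗[S₀] M₀) ⊗[T]
      ((q.comap (SM S₀ T.val)).comap (algebraMap T (S₀ ⊗[R₀] T))).ResidueField)
    (hy : ∃ s ∈ (q.comap (SM S₀ T.val)).primeCompl,
      s • (algebraMap S₀ (S₀ ⊗[R₀] T) g₀) • y = 0) :
    ∃ s' ∈ (q.comap (SM S₀ T.val)).primeCompl, s' • y = 0 := by
  set qT : Ideal (S₀ ⊗[R₀] T) := q.comap (SM S₀ T.val) with hqT
  set pT : Ideal T := qT.comap (algebraMap T (S₀ ⊗[R₀] T)) with hpT
  -- the map of residue fields
  have hmem : ∀ t : T, t ∈ pT ↔ algebraMap R K (t : R) = 0 := by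
    intro t
    rw [hK, ← SM_val_algebraMap]
    rfl
  let f : T →+* K := (algebraMap R K).comp (algebraMap T R)
  have hf₁ : pT ≤ RingHom.ker f := fun t ht => (hmem t).1 ht
  have hf₂ : pT.primeCompl ≤ (IsUnit.submonoid K).comap f := by
    intro t ht
    show IsUnit (f t)
    rw [isUnit_iff_ne_zero]
    exact fun h0 => ht ((hmem t).2 h0)
  let ι : pT.ResidueField →+* K := Ideal.ResidueField.lift pT f hf₁ hf₂
  have hι : ∀ t : T, ι (algebraMap T pT.ResidueField t) = algebraMap R K (t : R) :=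
    fun t => Ideal.ResidueField.lift_algebraMap pT f hf₁ hf₂ t
  have hιR₀ : ∀ r : R₀, ι (algebraMap R₀ pT.ResidueField r) = algebraMap R₀ K r := by
    intro r
    rw [IsScalarTower.algebraMap_apply R₀ T pT.ResidueField, hι,
      IsScalarTower.algebraMap_apply R₀ R K]
    rfl
  let j : pT.ResidueField →ₗ[R₀] K :=
    { toFun := ι
      map_add' := map_add ι
      map_smul' := fun r x => by
        rw [RingHom.id_apply, Algebra.smul_def, map_mul, hιR₀, Algebra.smul_def] }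
  have hj : ∀ (t : T) (x : pT.ResidueField), j (t • x) = T.val t • j x := by
    intro t x
    show ι (t • x) = (t : R) • ι x
    rw [Algebra.smul_def, map_mul, hι, Algebra.smul_def]
  -- injectivity of `j ⊗ M₀`
  have hjinj : Injective (j.lTensor M₀) := by
    letI algκK : Algebra pT.ResidueField K := ι.toAlgebra
    haveI : IsScalarTower R₀ pT.ResidueField K := IsScalarTower.of_algebraMap_eq
      (fun r => (hιR₀ r).symm)
    obtain ⟨ρ, hρ⟩ := LinearMap.exists_leftInverse_of_injective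
      (Algebra.linearMap pT.ResidueField K)
      (LinearMap.ker_eq_bot.2 (algebraMap pT.ResidueField K).injective)
    have hρj : (ρ.restrictScalars R₀) ∘ₗ j = LinearMap.id := by
      ext x
      exact LinearMap.congr_fun hρ x
    have h1 : (ρ.restrictScalars R₀).lTensor M₀ ∘ₗ j.lTensor M₀ = LinearMap.id := by
      rw [← LinearMap.lTensor_comp, hρj, LinearMap.lTensor_id]
    exact Function.LeftInverse.injective (g := (ρ.restrictScalars R₀).lTensor M₀)
      (fun x => LinearMap.congr_fun h1 x)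
  -- translate along `Psi`
  obtain ⟨z, rfl⟩ := (Psi R₀ S₀ M₀ T pT.ResidueField).surjective y
  obtain ⟨s, hs, hsz⟩ := hy
  rw [algebraMap_smul_Psi, smul_Psi] at hsz
  have h1 : act R₀ S₀ M₀ T pT.ResidueField s (g₀ • z) = 0 :=
    (LinearEquiv.map_eq_zero_iff _).1 hsz
  have h2 : g₀ • act R₀ S₀ M₀ T pT.ResidueField s z = 0 := by
    rw [← map_smul]; exact h1
  have h3 : g₀ • j.lTensor M₀ (act R₀ S₀ M₀ T pT.ResidueField s z) = 0 := by
    rw [← lTensor_smul, h2, map_zero]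
  have h4 := hw _ h3
  rw [← act_natural R₀ S₀ M₀ T.val j hj wT] at h4
  have h5 : act R₀ S₀ M₀ T pT.ResidueField wT (act R₀ S₀ M₀ T pT.ResidueField s z) = 0 :=
    hjinj (h4.trans (map_zero _).symm)
  rw [← act_mul] at h5
  refine ⟨wT * s, ?_, ?_⟩
  · exact Submonoid.mul_mem _ (show wT ∈ qT.primeCompl from hwq) hs
  · rw [smul_Psi, h5, map_zero]

end StageFibre

end Groth.Agent.Lib.Helper54.RegFibre2
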