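/-
helper54: the fibrewise criterion for regular elements (EGA IV 11.3.7, multiplication by an
element) for the base change of Noetherian data to an arbitrary ring.
-/
import Groth.Agent.Lib.Helper54.RegFibre2
import Groth.Agent.Lib.Helper54.FlatStage7

set_option autoImplicit false
set_option maxHeartbeats 1600000

namespace Groth.Agent.Lib.Helper54.RegFibre3

open TensorProduct Function
open scoped Pointwise
open Groth.Agent.Lib.Helper54
open Groth.Agent.Lib.Helper54.FlatStage1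
open Groth.Agent.Lib.Helper54.FlatStage4
open Groth.Agent.Lib.Helper54.RegFibre1
open Groth.Agent.Lib.Helper54.RegFibre2

attribute [local instance] Algebra.TensorProduct.rightAlgebra

universe u

section Exactness

variable {S₀ : Type*} [CommRing S₀] (B : Type*) [CommRing B] [Algebra S₀ B]
  (M₀ : Type*) [AddCommGroup M₀] [Module S₀ M₀] (g₀ : S₀)

theorem exact_smul_mkQ :
    Function.Exact (LinearMap.lsmul S₀ M₀ g₀) (Submodule.mkQ (g₀ • (⊤ : Submodule S₀ M₀))) := by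
  intro y
  rw [Submodule.mkQ_apply, Submodule.Quotient.mk_eq_zero, Submodule.mem_smul_pointwise_iff_exists]
  constructor
  · rintro ⟨x, -, rfl⟩
    exact ⟨x, rfl⟩
  · rintro ⟨x, rfl⟩
    exact ⟨x, Submodule.mem_top, rfl⟩

theorem exact_baseChange :
    Function.Exact (LinearMap.lsmul B (B ⊗[S₀] M₀) (algebraMap S₀ B g₀))
      ((Submodule.mkQ (g₀ • (⊤ : Submodule S₀ M₀))).baseChange B) := by
  have h1 := lTensor_exact B (exact_smul_mkQ M₀ g₀) (Submodule.mkQ_surjective _)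
  have h2 : ⇑(LinearMap.lsmul B (B ⊗[S₀] M₀) (algebraMap S₀ B g₀)) =
      ⇑((LinearMap.lsmul S₀ M₀ g₀).lTensor B) := by
    funext y
    induction y with
    | zero => simp
    | add x y hx hy => rw [map_add, map_add, hx, hy]
    | tmul c m =>
      rw [LinearMap.lsmul_apply, LinearMap.lTensor_tmul, LinearMap.lsmul_apply,
        TensorProduct.smul_tmul', smul_eq_mul, ← Algebra.smul_def, TensorProduct.smul_tmul]
  rw [h2]
  exact h1

end Exactness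

section Model

variable (R₀ S₀ M₀ : Type u) [CommRing R₀] [CommRing S₀] [Algebra R₀ S₀]
  [AddCommGroup M₀] [Module R₀ M₀] [Module S₀ M₀] [IsScalarTower R₀ S₀ M₀]
  [IsNoetherianRing R₀] [Algebra.FiniteType R₀ S₀] [Module.Finite S₀ M₀]
variable (R : Type u) [CommRing R] [Algebra R₀ R]
variable (K : Type u) [Field K] [Algebra R K] [Algebra R₀ K] [IsScalarTower R₀ R K]

/-- **Fibrewise criterion for a regular element**, model form. -/
theorem model_core (q : Ideal (S₀ ⊗[R₀] R)) [q.IsPrime] (g₀ : S₀)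
    (hK : ∀ r : R, algebraMap R K r = 0 ↔ algebraMap R (S₀ ⊗[R₀] R) r ∈ q)
    (hflat : Module.Flat R (LocalizedModule q.primeCompl ((S₀ ⊗[R₀] R) ⊗[S₀] M₀)))
    (hfib : ∀ z : M₀ ⊗[R₀] K, g₀ • z = 0 → ∃ w, w ∉ q ∧ act R₀ S₀ M₀ R K w z = 0) :
    (∀ z : M₀ ⊗[R₀] R, g₀ • z = 0 → ∃ w, w ∉ q ∧ act R₀ S₀ M₀ R R w z = 0) ∧
      Module.Flat R (LocalizedModule q.primeCompl
        ((S₀ ⊗[R₀] R) ⊗[S₀] (QuotSMulTop g₀ M₀))) := by
  classical
  obtain ⟨w, hwq, hw⟩ := exists_uniform R₀ S₀ M₀ R K q g₀ hfib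
  obtain ⟨T₁, hT₁fg, hT₁⟩ := FlatStage5.exists_stage_flat R₀ S₀ M₀ R q hflat
  obtain ⟨T₂, hT₂fg, w₂, hw₂⟩ := exists_fg_mem_range S₀ w
  obtain ⟨T, hT⟩ : ∃ T : Subalgebra R₀ R, T = T₁ ⊔ T₂ := ⟨_, rfl⟩
  have hT₁le : T₁ ≤ T := hT ▸ le_sup_left
  have hT₂le : T₂ ≤ T := hT ▸ le_sup_right
  have hTfg : T.FG := hT ▸ hT₁fg.sup hT₂fg
  have hflatT := FlatStage6.stage_mono R₀ S₀ M₀ R T₁ T hT₁le q hT₁
  obtain ⟨wT, hwT⟩ : ∃ wT : S₀ ⊗[R₀] T, SM S₀ T.val wT = w := by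
    refine ⟨SM S₀ (Subalgebra.inclusion hT₂le) w₂, ?_⟩
    rw [SM_comp, ← hw₂]
    rfl
  haveI : Algebra.FiniteType R₀ T := (Subalgebra.fg_iff_finiteType T).1 hTfg
  haveI : IsNoetherianRing T := Algebra.FiniteType.isNoetherianRing R₀ T
  haveI : Algebra.FiniteType T (S₀ ⊗[R₀] T) := FlatOpenB.finiteType_right R₀ S₀ T
  haveI : IsNoetherianRing (S₀ ⊗[R₀] T) := Algebra.FiniteType.isNoetherianRing T _
  have hwq' : SM S₀ T.val wT ∉ q := by rw [hwT]; exact hwq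
  have hw' : ∀ z : M₀ ⊗[R₀] K, g₀ • z = 0 → act R₀ S₀ M₀ R K (SM S₀ T.val wT) z = 0 := by
    rw [hwT]; exact hw
  have hfibT : ∀ y : ((S₀ ⊗[R₀] T) ⊗[S₀] M₀) ⊗[T]
      ((q.comap (SM S₀ T.val)).comap (algebraMap T (S₀ ⊗[R₀] T))).ResidueField,
      (∃ s ∈ (q.comap (SM S₀ T.val)).primeCompl,
        s • (algebraMap S₀ (S₀ ⊗[R₀] T) g₀) • y = 0) →
      ∃ s' ∈ (q.comap (SM S₀ T.val)).primeCompl, s' • y = 0 :=
    fun y hy => stage_hfib R₀ S₀ M₀ R K q g₀ hK T wT hwq' hw' y hy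
  have hsc := stage_core (T := T) (B := S₀ ⊗[R₀] T) (M := (S₀ ⊗[R₀] T) ⊗[S₀] M₀)
    (q.comap (SM S₀ T.val)) (algebraMap S₀ (S₀ ⊗[R₀] T) g₀) hflatT hfibT
  obtain ⟨hinj, hfl⟩ := hsc
  constructor
  · intro z hz
    obtain ⟨s', hs', hs'y⟩ := univ_regular (T := T) (B := S₀ ⊗[R₀] T)
      (M := (S₀ ⊗[R₀] T) ⊗[S₀] M₀) (q.comap (SM S₀ T.val)).primeCompl
      (algebraMap S₀ (S₀ ⊗[R₀] T) g₀) hinj hfl R (Psi R₀ S₀ M₀ T R z)
      ⟨1, Submonoid.one_mem _, by rw [one_smul, algebraMap_smul_Psi, hz, map_zero]⟩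
    rw [smul_Psi] at hs'y
    have h1 : act R₀ S₀ M₀ T R s' z = 0 := (LinearEquiv.map_eq_zero_iff _).1 hs'y
    have h2 := act_natural R₀ S₀ M₀ T.val (LinearMap.id : R →ₗ[R₀] R)
      (fun t x => by rw [LinearMap.id_apply, LinearMap.id_apply]; rfl) s' z
    rw [LinearMap.lTensor_id, LinearMap.id_apply, LinearMap.id_apply, h1] at h2
    exact ⟨SM S₀ T.val s', hs', h2.symm⟩
  · have h1 := flat_localized_coker (T := T) (B := S₀ ⊗[R₀] T)
      (M := (S₀ ⊗[R₀] T) ⊗[S₀] M₀) (q.comap (SM S₀ T.val)).primeCompl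
      (algebraMap S₀ (S₀ ⊗[R₀] T) g₀) hfl
      (Q := (S₀ ⊗[R₀] T) ⊗[S₀] (QuotSMulTop g₀ M₀))
      ((Submodule.mkQ (g₀ • (⊤ : Submodule S₀ M₀))).baseChange (S₀ ⊗[R₀] T))
      (LinearMap.lTensor_surjective _ (Submodule.mkQ_surjective _))
      (exact_baseChange (S₀ ⊗[R₀] T) M₀ g₀)
    exact FlatStage5.flat_of_stage_flat R₀ S₀ (QuotSMulTop g₀ M₀) R T T.val (fun t => rfl) q h1

end Model

end Groth.Agent.Lib.Helper54.RegFibre3
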