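/-
helper54: descent of a finitely presented algebra together with a finitely presented module to a
finite type `ℤ`-algebra, in a form adapted to the Noetherian approximation of flatness
(`FlatStage7.exists_fg_flat`).
-/
import Groth.Agent.Lib.Helper54.FlatStage7
import Groth.Agent.Lib.Helper54.FlatDescent
import Mathlib.RingTheory.Extension.Presentation.Core

set_option autoImplicit false
set_option maxHeartbeats 1600000

namespace Groth.Agent.Lib.Helper54.FlatPkg

open TensorProduct Function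
open Groth.Agent.Lib.Helper54
open Groth.Agent.Lib.Helper54.FlatStage4
open Groth.Agent.Lib.Helper54.FlatDescent

attribute [local instance] Algebra.TensorProduct.rightAlgebra

universe u

section Theta

variable {R S M : Type u} [CommRing R] [CommRing S] [Algebra R S] [AddCommGroup M]
  [Module S M]

/-- From a presentation of `M` as the quotient of `S ^ n` by vectors coming from `S₀`, a
semilinear isomorphism from the base change of the model quotient. -/
theorem exists_Theta (R₀ : Type u) [CommRing R₀] [Algebra R₀ R] (S₀ : Type u) [CommRing S₀]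
    [Algebra R₀ S₀] (θ : S₀ ⊗[R₀] R ≃+* S)
    {n m : ℕ} (v₀ : Fin m → Fin n → S₀) (K : Submodule S (Fin n → S))
    (eM : M ≃ₗ[S] (Fin n → S) ⧸ K)
    (hK : K = Submodule.span S (Set.range fun j => (fun i => θ (v₀ j i ⊗ₜ 1)))) :
    ∃ Θ : (S₀ ⊗[R₀] R) ⊗[S₀] (Q₀ S₀ v₀) ≃+ M,
      ∀ (b' : S₀ ⊗[R₀] R) (x : (S₀ ⊗[R₀] R) ⊗[S₀] (Q₀ S₀ v₀)), Θ (b' • x) = θ b' • Θ x := by
  letI algS : Algebra S₀ S := (θ.toRingHom.comp (algebraMap S₀ (S₀ ⊗[R₀] R))).toAlgebra
  have halg : ∀ σ : S₀, algebraMap S₀ S σ = θ (σ ⊗ₜ 1) := fun σ => by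
    show θ (algebraMap S₀ (S₀ ⊗[R₀] R) σ) = _
    rw [Algebra.TensorProduct.algebraMap_apply, Algebra.algebraMap_self, RingHom.id_apply]
  have hK' : Submodule.span S (Set.range fun j => (fun i => algebraMap S₀ S (v₀ j i))) = K := by
    have h1 : (fun j => (fun i => algebraMap S₀ S (v₀ j i))) =
        fun j => (fun i => θ (v₀ j i ⊗ₜ 1)) := by
      funext j i
      exact halg _
    rw [hK, h1]
  let θL : (S₀ ⊗[R₀] R) ≃ₗ[S₀] S :=
    { θ.toAddEquiv with
      map_smul' := fun σ x => by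
        show θ (σ • x) = σ • θ x
        rw [Algebra.smul_def, Algebra.smul_def, map_mul]
        rfl }
  let Θ₁ : (S₀ ⊗[R₀] R) ⊗[S₀] (Q₀ S₀ v₀) ≃ₗ[S₀] S ⊗[S₀] (Q₀ S₀ v₀) :=
    TensorProduct.congr θL (LinearEquiv.refl S₀ _)
  have hΘ₁ : ∀ (b' : S₀ ⊗[R₀] R) (x : (S₀ ⊗[R₀] R) ⊗[S₀] (Q₀ S₀ v₀)),
      Θ₁ (b' • x) = θ b' • Θ₁ x := by
    intro b' x
    induction x with
    | zero => simp
    | add x y hx hy => rw [smul_add, map_add, hx, hy, map_add, smul_add]
    | tmul c y =>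
      rw [TensorProduct.smul_tmul', TensorProduct.congr_tmul, TensorProduct.congr_tmul,
        TensorProduct.smul_tmul', smul_eq_mul, smul_eq_mul]
      congr 1
      exact map_mul θ b' c
  let Θ₂ := (isBaseChange_quotMap S₀ S v₀).equiv
  let Θ₃ := Submodule.quotEquivOfEq _ K hK'
  refine ⟨Θ₁.toAddEquiv.trans (Θ₂.toAddEquiv.trans (Θ₃.toAddEquiv.trans eM.symm.toAddEquiv)), ?_⟩
  intro b' x
  show eM.symm (Θ₃ (Θ₂ (Θ₁ (b' • x)))) = θ b' • eM.symm (Θ₃ (Θ₂ (Θ₁ x)))
  rw [hΘ₁, map_smul, map_smul, map_smul]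

end Theta

section Descent

/-- Descent for a presentation with coefficients in `R₀`. -/
theorem exists_descent_aux {R S M : Type u} [CommRing R] [CommRing S] [Algebra R S]
    [AddCommGroup M] [Module S M] {ι σ : Type} [Finite ι] [Finite σ]
    (P : Algebra.Presentation R S ι σ) (R₀ : Type u) [CommRing R₀]
    [Algebra R₀ R] [Algebra R₀ S] [IsScalarTower R₀ R S] [P.HasCoeffs R₀] {n m : ℕ}
    (pol : Fin m → Fin n → MvPolynomial ι R₀)
    (K : Submodule S (Fin n → S)) (eM : M ≃ₗ[S] (Fin n → S) ⧸ K)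
    (hK : K = Submodule.span S (Set.range fun j => (fun i =>
      MvPolynomial.aeval P.val (pol j i)))) :
    ∃ (S₀ : Type u) (_ : CommRing S₀) (_ : Algebra R₀ S₀) (M₀ : Type u) (_ : AddCommGroup M₀)
      (_ : Module R₀ M₀) (_ : Module S₀ M₀) (_ : IsScalarTower R₀ S₀ M₀)
      (θ : S₀ ⊗[R₀] R ≃+* S) (Θ : (S₀ ⊗[R₀] R) ⊗[S₀] M₀ ≃+ M),
      Algebra.FinitePresentation R₀ S₀ ∧ Module.Finite S₀ M₀ ∧
      (∀ r : R, θ (algebraMap R (S₀ ⊗[R₀] R) r) = algebraMap R S r) ∧
      (∀ (b' : S₀ ⊗[R₀] R) (x : (S₀ ⊗[R₀] R) ⊗[S₀] M₀), Θ (b' • x) = θ b' • Θ x) := by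
  let e := P.tensorModelOfHasCoeffsEquiv R₀
  let θ : (P.ModelOfHasCoeffs R₀) ⊗[R₀] R ≃+* S :=
    (Algebra.TensorProduct.comm R₀ (P.ModelOfHasCoeffs R₀) R).toRingEquiv.trans e.toRingEquiv
  have hθapp : ∀ x, θ x = e (Algebra.TensorProduct.comm R₀ (P.ModelOfHasCoeffs R₀) R x) :=
    fun x => rfl
  have hK2 : K = Submodule.span S (Set.range fun j => (fun i =>
      θ ((Ideal.Quotient.mk _ (pol j i) : P.ModelOfHasCoeffs R₀) ⊗ₜ 1))) := by
    have h1 : (fun j => (fun i => MvPolynomial.aeval P.val (pol j i))) =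
        fun j => (fun i => θ ((Ideal.Quotient.mk _ (pol j i) : P.ModelOfHasCoeffs R₀) ⊗ₜ 1)) := by
      funext j i
      rw [hθapp, Algebra.TensorProduct.comm_tmul]
      show _ = algebraMap R S 1 * MvPolynomial.aeval P.val (pol j i)
      rw [map_one, one_mul]
    rw [hK, h1]
  obtain ⟨Θ, hΘ⟩ := exists_Theta R₀ (P.ModelOfHasCoeffs R₀) θ
    (fun j i => (Ideal.Quotient.mk _ (pol j i) : P.ModelOfHasCoeffs R₀)) K eM hK2
  refine ⟨P.ModelOfHasCoeffs R₀, inferInstance, inferInstance,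
    Q₀ (P.ModelOfHasCoeffs R₀) (fun j i => (Ideal.Quotient.mk _ (pol j i) :
      P.ModelOfHasCoeffs R₀)), inferInstance, inferInstance, inferInstance, inferInstance,
    θ, Θ, inferInstance, inferInstance, ?_, hΘ⟩
  intro r
  rw [hθapp, Algebra.TensorProduct.right_algebraMap_apply, Algebra.TensorProduct.comm_tmul]
  have h1 := e.commutes r
  rw [Algebra.TensorProduct.algebraMap_apply, Algebra.algebraMap_self, RingHom.id_apply] at h1
  exact h1

/-- **Descent to a finite type `ℤ`-algebra** of a finitely presented algebra together with a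
finitely presented module; the ring `R₀` can be chosen to contain any given finite subset. -/
theorem exists_descent (R S M : Type u) [CommRing R] [CommRing S] [Algebra R S]
    [Algebra.FinitePresentation R S] [AddCommGroup M] [Module S M]
    [Module.FinitePresentation S M] (c : Set R) (hc : c.Finite) :
    ∃ (R₀ : Type u) (_ : CommRing R₀) (_ : Algebra R₀ R) (S₀ : Type u) (_ : CommRing S₀)
      (_ : Algebra R₀ S₀) (M₀ : Type u) (_ : AddCommGroup M₀)
      (_ : Module R₀ M₀) (_ : Module S₀ M₀) (_ : IsScalarTower R₀ S₀ M₀)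
      (θ : S₀ ⊗[R₀] R ≃+* S) (Θ : (S₀ ⊗[R₀] R) ⊗[S₀] M₀ ≃+ M),
      Algebra.FiniteType ℤ R₀ ∧ c ⊆ Set.range (algebraMap R₀ R) ∧
      Algebra.FinitePresentation R₀ S₀ ∧ Module.Finite S₀ M₀ ∧
      (∀ r : R, θ (algebraMap R (S₀ ⊗[R₀] R) r) = algebraMap R S r) ∧
      (∀ (b' : S₀ ⊗[R₀] R) (x : (S₀ ⊗[R₀] R) ⊗[S₀] M₀), Θ (b' • x) = θ b' • Θ x) := by
  classical
  obtain ⟨P, -⟩ : ∃ P : Algebra.Presentation R S
      (Fin (Algebra.Presentation.ofFinitePresentationVars R S))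
      (Fin (Algebra.Presentation.ofFinitePresentationRels R S)), True :=
    ⟨Algebra.Presentation.ofFinitePresentation R S, trivial⟩
  obtain ⟨n, K, eM, hK⟩ := Module.FinitePresentation.exists_fin S M
  obtain ⟨m, v, hv⟩ := Submodule.fg_iff_exists_fin_generating_family.1 hK
  have hsurj : Function.Surjective (MvPolynomial.aeval (R := R) P.val) := P.aeval_val_surjective
  choose lift hlift using hsurj
  obtain ⟨cs, hcs⟩ : ∃ cs : Set R, cs =
      c ∪ ⋃ j : Fin m, ⋃ i : Fin n, ((lift (v j i)).coeffs : Set R) := ⟨_, rfl⟩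
  have hfin : cs.Finite := by
    rw [hcs]
    exact hc.union
      (Set.finite_iUnion fun j => Set.finite_iUnion fun i => Finset.finite_toSet _)
  have hmem : ∀ j i, lift (v j i) ∈
      Set.range (MvPolynomial.map (algebraMap (Algebra.adjoin P.Core cs) R)) := by
    intro j i
    rw [MvPolynomial.mem_range_map_iff_coeffs_subset]
    intro c' hc'
    have hc'' : c' ∈ cs := by
      rw [hcs]
      exact Or.inr (Set.mem_iUnion.2 ⟨j, Set.mem_iUnion.2 ⟨i, hc'⟩⟩)
    exact ⟨⟨c', Algebra.subset_adjoin hc''⟩, rfl⟩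
  choose pol hpol using hmem
  haveI : Algebra.FiniteType P.Core (Algebra.adjoin P.Core cs) :=
    Algebra.FiniteType.adjoin_of_finite hfin
  have hft : Algebra.FiniteType ℤ (Algebra.adjoin P.Core cs) :=
    Algebra.FiniteType.trans (inferInstance : Algebra.FiniteType ℤ P.Core) inferInstance
  have hK3 : K = Submodule.span S (Set.range fun j => (fun i =>
      MvPolynomial.aeval P.val (pol j i))) := by
    have h1 : (fun j => (fun i => MvPolynomial.aeval P.val (pol j i))) = v := by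
      funext j i
      rw [← MvPolynomial.aeval_map_algebraMap R, hpol, hlift]
    rw [h1, ← hv]
  obtain ⟨S₀, i1, i2, M₀, i3, i4, i5, i6, θ, Θ, h1, h2, h3, h4⟩ :=
    exists_descent_aux P (Algebra.adjoin P.Core cs) pol K eM hK3
  refine ⟨Algebra.adjoin P.Core cs, inferInstance, inferInstance, S₀, i1, i2, M₀, i3, i4, i5, i6,
    θ, Θ, hft, ?_, h1, h2, h3, h4⟩
  intro x hx
  have hx' : x ∈ cs := by
    rw [hcs]
    exact Or.inl hx
  exact ⟨⟨x, Algebra.subset_adjoin hx'⟩, rfl⟩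

end Descent

section Transport

variable {R S M : Type u} [CommRing R] [CommRing S] [Algebra R S] [AddCommGroup M]
  [Module S M] [Module R M] [IsScalarTower R S M]

/-- Transport of flatness along a semilinear isomorphism. -/
theorem flat_of_semilinear (R₀ : Type u) [CommRing R₀] [Algebra R₀ R] (S₀ : Type u) [CommRing S₀]
    [Algebra R₀ S₀] (M₀ : Type u) [AddCommGroup M₀] [Module R₀ M₀] [Module S₀ M₀]
    [IsScalarTower R₀ S₀ M₀] (θ : S₀ ⊗[R₀] R ≃+* S)
    (hθ : ∀ r : R, θ (algebraMap R (S₀ ⊗[R₀] R) r) = algebraMap R S r)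
    (Θ : (S₀ ⊗[R₀] R) ⊗[S₀] M₀ ≃+ M)
    (hΘ : ∀ (b' : S₀ ⊗[R₀] R) (x : (S₀ ⊗[R₀] R) ⊗[S₀] M₀), Θ (b' • x) = θ b' • Θ x)
    [Module.Flat R M] : Module.Flat R ((S₀ ⊗[R₀] R) ⊗[S₀] M₀) := by
  let ΘR : (S₀ ⊗[R₀] R) ⊗[S₀] M₀ ≃ₗ[R] M :=
    { Θ with
      map_smul' := fun r x => by
        show Θ (r • x) = r • Θ x
        rw [← algebraMap_smul (S₀ ⊗[R₀] R) r x, hΘ, hθ, algebraMap_smul] }
  exact Module.Flat.of_linearEquiv ΘR

end Transport

end Groth.Agent.Lib.Helper54.FlatPkg
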