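/-
helper54: descent of a finitely presented algebra, a finitely presented module and an element of
the algebra to a finite type `ℤ`-algebra (variant of `FlatPkg.exists_descent`).
-/
import Groth.Agent.Lib.Helper54.FlatPkg

set_option autoImplicit false
set_option maxHeartbeats 1600000

namespace Groth.Agent.Lib.Helper54.RegFibre4

open TensorProduct Function
open Groth.Agent.Lib.Helper54
open Groth.Agent.Lib.Helper54.FlatStage4
open Groth.Agent.Lib.Helper54.FlatDescent
open Groth.Agent.Lib.Helper54.FlatPkg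

attribute [local instance] Algebra.TensorProduct.rightAlgebra

universe u

/-- Descent for a presentation with coefficients in `R₀`, with an extra element. -/
theorem exists_descent_aux' {R S M : Type u} [CommRing R] [CommRing S] [Algebra R S]
    [AddCommGroup M] [Module S M] {ι σ : Type} [Finite ι] [Finite σ]
    (P : Algebra.Presentation R S ι σ) (R₀ : Type u) [CommRing R₀]
    [Algebra R₀ R] [Algebra R₀ S] [IsScalarTower R₀ R S] [P.HasCoeffs R₀] {n m : ℕ}
    (pol : Fin m → Fin n → MvPolynomial ι R₀)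
    (K : Submodule S (Fin n → S)) (eM : M ≃ₗ[S] (Fin n → S) ⧸ K)
    (hK : K = Submodule.span S (Set.range fun j => (fun i =>
      MvPolynomial.aeval P.val (pol j i))))
    (G₀ : MvPolynomial ι R₀) :
    ∃ (S₀ : Type u) (_ : CommRing S₀) (_ : Algebra R₀ S₀) (M₀ : Type u) (_ : AddCommGroup M₀)
      (_ : Module R₀ M₀) (_ : Module S₀ M₀) (_ : IsScalarTower R₀ S₀ M₀)
      (θ : S₀ ⊗[R₀] R ≃+* S) (Θ : (S₀ ⊗[R₀] R) ⊗[S₀] M₀ ≃+ M) (g₀ : S₀),
      Algebra.FinitePresentation R₀ S₀ ∧ Module.Finite S₀ M₀ ∧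
      (∀ r : R, θ (algebraMap R (S₀ ⊗[R₀] R) r) = algebraMap R S r) ∧
      (∀ (b' : S₀ ⊗[R₀] R) (x : (S₀ ⊗[R₀] R) ⊗[S₀] M₀), Θ (b' • x) = θ b' • Θ x) ∧
      θ (g₀ ⊗ₜ 1) = MvPolynomial.aeval P.val G₀ := by
  let e := P.tensorModelOfHasCoeffsEquiv R₀
  let θ : (P.ModelOfHasCoeffs R₀) ⊗[R₀] R ≃+* S :=
    (Algebra.TensorProduct.comm R₀ (P.ModelOfHasCoeffs R₀) R).toRingEquiv.trans e.toRingEquiv
  have hθapp : ∀ x, θ x = e (Algebra.TensorProduct.comm R₀ (P.ModelOfHasCoeffs R₀) R x) :=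
    fun x => rfl
  have hpoly : ∀ G : MvPolynomial ι R₀, MvPolynomial.aeval P.val G =
      θ ((Ideal.Quotient.mk _ G : P.ModelOfHasCoeffs R₀) ⊗ₜ 1) := by
    intro G
    rw [hθapp, Algebra.TensorProduct.comm_tmul]
    show _ = algebraMap R S 1 * MvPolynomial.aeval P.val G
    rw [map_one, one_mul]
  have hK2 : K = Submodule.span S (Set.range fun j => (fun i =>
      θ ((Ideal.Quotient.mk _ (pol j i) : P.ModelOfHasCoeffs R₀) ⊗ₜ 1))) := by
    have h1 : (fun j => (fun i => MvPolynomial.aeval P.val (pol j i))) =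
        fun j => (fun i => θ ((Ideal.Quotient.mk _ (pol j i) : P.ModelOfHasCoeffs R₀) ⊗ₜ 1)) := by
      funext j i
      exact hpoly _
    rw [hK, h1]
  obtain ⟨Θ, hΘ⟩ := exists_Theta R₀ (P.ModelOfHasCoeffs R₀) θ
    (fun j i => (Ideal.Quotient.mk _ (pol j i) : P.ModelOfHasCoeffs R₀)) K eM hK2
  refine ⟨P.ModelOfHasCoeffs R₀, inferInstance, inferInstance,
    Q₀ (P.ModelOfHasCoeffs R₀) (fun j i => (Ideal.Quotient.mk _ (pol j i) :
      P.ModelOfHasCoeffs R₀)), inferInstance, inferInstance, inferInstance, inferInstance,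
    θ, Θ, (Ideal.Quotient.mk _ G₀ : P.ModelOfHasCoeffs R₀), inferInstance, inferInstance, ?_, hΘ,
    (hpoly G₀).symm⟩
  intro r
  rw [hθapp, Algebra.TensorProduct.right_algebraMap_apply, Algebra.TensorProduct.comm_tmul]
  have h1 := e.commutes r
  rw [Algebra.TensorProduct.algebraMap_apply, Algebra.algebraMap_self, RingHom.id_apply] at h1
  exact h1

/-- **Descent to a finite type `ℤ`-algebra** of a finitely presented algebra, a finitely
presented module and an element of the algebra. -/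
theorem exists_descent_elt (R S M : Type u) [CommRing R] [CommRing S] [Algebra R S]
    [Algebra.FinitePresentation R S] [AddCommGroup M] [Module S M]
    [Module.FinitePresentation S M] (g : S) :
    ∃ (R₀ : Type u) (_ : CommRing R₀) (_ : Algebra R₀ R) (S₀ : Type u) (_ : CommRing S₀)
      (_ : Algebra R₀ S₀) (M₀ : Type u) (_ : AddCommGroup M₀)
      (_ : Module R₀ M₀) (_ : Module S₀ M₀) (_ : IsScalarTower R₀ S₀ M₀)
      (θ : S₀ ⊗[R₀] R ≃+* S) (Θ : (S₀ ⊗[R₀] R) ⊗[S₀] M₀ ≃+ M) (g₀ : S₀),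
      Algebra.FiniteType ℤ R₀ ∧
      Algebra.FinitePresentation R₀ S₀ ∧ Module.Finite S₀ M₀ ∧
      (∀ r : R, θ (algebraMap R (S₀ ⊗[R₀] R) r) = algebraMap R S r) ∧
      (∀ (b' : S₀ ⊗[R₀] R) (x : (S₀ ⊗[R₀] R) ⊗[S₀] M₀), Θ (b' • x) = θ b' • Θ x) ∧
      θ (g₀ ⊗ₜ 1) = g := by
  classical
  obtain ⟨P, -⟩ : ∃ P : Algebra.Presentation R S
      (Fin (Algebra.Presentation.ofFinitePresentationVars R S))
      (Fin (Algebra.Presentation.ofFinitePresentationRels R S)), True :=
    ⟨Algebra.Presentation.ofFinitePresentation R S, trivial⟩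
  obtain ⟨n, K, eM, hK⟩ := Module.FinitePresentation.exists_fin S M
  obtain ⟨m, v, hv⟩ := Submodule.fg_iff_exists_fin_generating_family.1 hK
  have hsurj : Function.Surjective (MvPolynomial.aeval (R := R) P.val) := P.aeval_val_surjective
  choose lift hlift using hsurj
  obtain ⟨cs, hcs⟩ : ∃ cs : Set R, cs =
      ((lift g).coeffs : Set R) ∪ ⋃ j : Fin m, ⋃ i : Fin n, ((lift (v j i)).coeffs : Set R) :=
    ⟨_, rfl⟩
  have hfin : cs.Finite := by
    rw [hcs]
    exact (Finset.finite_toSet _).union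
      (Set.finite_iUnion fun j => Set.finite_iUnion fun i => Finset.finite_toSet _)
  have hmem : ∀ j i, lift (v j i) ∈
      Set.range (MvPolynomial.map (algebraMap (Algebra.adjoin P.Core cs) R)) := by
    intro j i
    rw [MvPolynomial.mem_range_map_iff_coeffs_subset]
    intro c' hc'
    have hc'' : c' ∈ cs := by
      rw [hcs]
      exact Or.inr (Set.mem_iUnion.2 ⟨j, Set.mem_iUnion.2 ⟨i, hc'⟩⟩)
    exact ⟨⟨c', Algebra.subset_adjoin hc''⟩, rfl⟩
  have hmemg : lift g ∈
      Set.range (MvPolynomial.map (algebraMap (Algebra.adjoin P.Core cs) R)) := by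
    rw [MvPolynomial.mem_range_map_iff_coeffs_subset]
    intro c' hc'
    have hc'' : c' ∈ cs := by
      rw [hcs]
      exact Or.inl hc'
    exact ⟨⟨c', Algebra.subset_adjoin hc''⟩, rfl⟩
  choose pol hpol using hmem
  obtain ⟨G₀, hG₀⟩ := hmemg
  haveI : Algebra.FiniteType P.Core (Algebra.adjoin P.Core cs) :=
    Algebra.FiniteType.adjoin_of_finite hfin
  have hft : Algebra.FiniteType ℤ (Algebra.adjoin P.Core cs) :=
    Algebra.FiniteType.trans (inferInstance : Algebra.FiniteType ℤ P.Core) inferInstance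
  have hK3 : K = Submodule.span S (Set.range fun j => (fun i =>
      MvPolynomial.aeval P.val (pol j i))) := by
    have h1 : (fun j => (fun i => MvPolynomial.aeval P.val (pol j i))) = v := by
      funext j i
      rw [← MvPolynomial.aeval_map_algebraMap R, hpol, hlift]
    rw [h1, ← hv]
  obtain ⟨S₀, i1, i2, M₀, i3, i4, i5, i6, θ, Θ, g₀, h1, h2, h3, h4, h5⟩ :=
    exists_descent_aux' P (Algebra.adjoin P.Core cs) pol K eM hK3 G₀
  refine ⟨Algebra.adjoin P.Core cs, inferInstance, inferInstance, S₀, i1, i2, M₀, i3, i4, i5, i6,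
    θ, Θ, g₀, hft, h1, h2, h3, h4, ?_⟩
  rw [h5, ← MvPolynomial.aeval_map_algebraMap R, hG₀, hlift]

end Groth.Agent.Lib.Helper54.RegFibre4
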