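/-
helper54: the fibrewise criterion for a regular element (EGA IV 11.3.7 for a multiplication map),
for a finitely presented module over a finitely presented algebra over an arbitrary ring.
-/
import Groth.Agent.Lib.Helper54.RegFibre3
import Groth.Agent.Lib.Helper54.RegFibre4

set_option autoImplicit false
set_option maxHeartbeats 1600000

namespace Groth.Agent.Lib.Helper54.RegFibre5

open TensorProduct Function
open scoped Pointwise
open Groth.Agent.Lib.Helper54
open Groth.Agent.Lib.Helper54.FlatStage1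
open Groth.Agent.Lib.Helper54.FlatStage4
open Groth.Agent.Lib.Helper54.RegFibre2

attribute [local instance] Algebra.TensorProduct.rightAlgebra

universe u

section Quot

variable {B B' : Type*} [CommRing B] [CommRing B'] {M M' : Type*} [AddCommGroup M] [Module B M]
  [AddCommGroup M'] [Module B' M']

/-- A semilinear isomorphism induces an isomorphism of the quotients by a multiplication. -/
theorem exists_quotSMulTop_equiv (θ : B' ≃+* B) (Θ : M' ≃+ M)
    (hΘ : ∀ (b' : B') (m' : M'), Θ (b' • m') = θ b' • Θ m') (g' : B') (g : B) (hg : θ g' = g) :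
    ∃ Ψ : QuotSMulTop g' M' ≃+ QuotSMulTop g M,
      ∀ (b' : B') (x : QuotSMulTop g' M'), Ψ (b' • x) = θ b' • Ψ x := by
  subst hg
  let p' : Submodule B' M' := g' • ⊤
  let p : Submodule B M := θ g' • ⊤
  let Θℤ : M' ≃ₗ[ℤ] M := Θ.toIntLinearEquiv
  have hmap : (p'.restrictScalars ℤ).map (Θℤ : M' →ₗ[ℤ] M) = p.restrictScalars ℤ := by
    ext m
    simp only [Submodule.mem_map, Submodule.restrictScalars_mem]
    constructor
    · rintro ⟨x, hx, rfl⟩
      obtain ⟨y, -, rfl⟩ := (Submodule.mem_smul_pointwise_iff_exists _ _ _).1 hx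
      show Θ (g' • y) ∈ p
      rw [hΘ]
      exact Submodule.smul_mem_pointwise_smul _ _ _ Submodule.mem_top
    · intro hm
      obtain ⟨y, -, rfl⟩ := (Submodule.mem_smul_pointwise_iff_exists _ _ _).1 hm
      refine ⟨g' • Θ.symm y, Submodule.smul_mem_pointwise_smul _ _ _ Submodule.mem_top, ?_⟩
      show Θ (g' • Θ.symm y) = _
      rw [hΘ, AddEquiv.apply_symm_apply]
  let Ψ : (M' ⧸ p') ≃ₗ[ℤ] (M ⧸ p) :=
    (Submodule.Quotient.restrictScalarsEquiv ℤ p').symm ≪≫ₗ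
      (Submodule.Quotient.equiv _ _ Θℤ hmap) ≪≫ₗ Submodule.Quotient.restrictScalarsEquiv ℤ p
  have hΨ : ∀ m' : M', Ψ (Submodule.Quotient.mk m') = Submodule.Quotient.mk (Θ m') := by
    intro m'
    rfl
  refine ⟨Ψ.toAddEquiv, ?_⟩
  intro b' x
  obtain ⟨m', rfl⟩ := Submodule.Quotient.mk_surjective _ x
  show Ψ (b' • Submodule.Quotient.mk m') = θ b' • Ψ (Submodule.Quotient.mk m')
  rw [← Submodule.Quotient.mk_smul, hΨ, hΨ, hΘ, Submodule.Quotient.mk_smul]

end Quot

section Dict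

variable {A B M : Type u} [CommRing A] [CommRing B] [Algebra A B] [AddCommGroup M] [Module B M]
  [Module A M] [IsScalarTower A B M]
variable (R₀ : Type u) [CommRing R₀] [Algebra R₀ A] (S₀ : Type u) [CommRing S₀] [Algebra R₀ S₀]
  (M₀ : Type u) [AddCommGroup M₀] [Module R₀ M₀] [Module S₀ M₀] [IsScalarTower R₀ S₀ M₀]
  (θ : S₀ ⊗[R₀] A ≃+* B) (hθ : ∀ r : A, θ (algebraMap A (S₀ ⊗[R₀] A) r) = algebraMap A B r)
  (Θ : (S₀ ⊗[R₀] A) ⊗[S₀] M₀ ≃+ M)
  (hΘ : ∀ (b' : S₀ ⊗[R₀] A) (x : (S₀ ⊗[R₀] A) ⊗[S₀] M₀), Θ (b' • x) = θ b' • Θ x)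

include hθ hΘ in
/-- The dictionary between `M₀ ⊗[R₀] X` with the action `act` and `M ⊗[A] X`. -/
theorem exists_dict (X : Type*) [AddCommGroup X] [Module A X] [Module R₀ X]
    [IsScalarTower R₀ A X] :
    ∃ e : M₀ ⊗[R₀] X ≃+ M ⊗[A] X, ∀ (w' : S₀ ⊗[R₀] A) (z₀ : M₀ ⊗[R₀] X),
      e (act R₀ S₀ M₀ A X w' z₀) = θ w' • e z₀ := by
  let ΘA : (S₀ ⊗[R₀] A) ⊗[S₀] M₀ ≃ₗ[A] M :=
    { Θ with
      map_smul' := fun r x => by
        show Θ (r • x) = r • Θ x
        rw [← algebraMap_smul (S₀ ⊗[R₀] A) r x, hΘ, hθ, algebraMap_smul] }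
  let E : ((S₀ ⊗[R₀] A) ⊗[S₀] M₀) ⊗[A] X ≃ₗ[A] M ⊗[A] X :=
    TensorProduct.congr ΘA (LinearEquiv.refl A X)
  have hE : ∀ (w' : S₀ ⊗[R₀] A) (y : ((S₀ ⊗[R₀] A) ⊗[S₀] M₀) ⊗[A] X),
      E (w' • y) = θ w' • E y := by
    intro w' y
    induction y with
    | zero => simp
    | add x y hx hy => rw [smul_add, map_add, hx, hy, map_add, smul_add]
    | tmul m' x =>
      rw [TensorProduct.smul_tmul', TensorProduct.congr_tmul, TensorProduct.congr_tmul,
        TensorProduct.smul_tmul']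
      congr 1
      exact hΘ w' m'
  refine ⟨(Psi R₀ S₀ M₀ A X).toAddEquiv.trans E.toAddEquiv, ?_⟩
  intro w' z₀
  show E (Psi R₀ S₀ M₀ A X (act R₀ S₀ M₀ A X w' z₀)) = θ w' • E (Psi R₀ S₀ M₀ A X z₀)
  rw [← smul_Psi, hE]

end Dict

section Core

/-- **Fibrewise criterion for a regular element** (EGA IV 11.3.7 for a multiplication map). Let
`B` be a finitely presented `A`-algebra, `M` a finitely presented `B`-module, `q` a prime of `B`
with `M_q` flat over `A`, `K` the residue field of `A` at the contraction of `q`, and `g ∈ B` an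
element which is regular on the localization at `q` of the fibre `M ⊗ K`. Then `g` is regular on
`M_q`, and `(M/gM)_q` is flat over `A`. (Regularity is stated elementwise.) -/
theorem core {A B : Type u} [CommRing A] [CommRing B] [Algebra A B]
    [Algebra.FinitePresentation A B] (M : Type u) [AddCommGroup M] [Module B M] [Module A M]
    [IsScalarTower A B M] [Module.FinitePresentation B M] (q : Ideal B) [q.IsPrime] (g : B)
    (K : Type u) [Field K] [Algebra A K]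
    (hK : ∀ a : A, algebraMap A K a = 0 ↔ algebraMap A B a ∈ q)
    (hflat : Module.Flat A (LocalizedModule q.primeCompl M))
    (hfib : ∀ z : M ⊗[A] K, g • z = 0 → ∃ w, w ∉ q ∧ w • z = 0) :
    (∀ m : M, g • m = 0 → ∃ w, w ∉ q ∧ w • m = 0) ∧
      Module.Flat A (LocalizedModule q.primeCompl (QuotSMulTop g M)) := by
  obtain ⟨R₀, i1, i2, S₀, i3, i4, M₀, i5, i6, i7, i8, θ, Θ, g₀, hft, hfp, hfin, hθ, hΘ, hg₀⟩ :=
    RegFibre4.exists_descent_elt A B M g
  haveI : IsNoetherianRing R₀ := Algebra.FiniteType.isNoetherianRing ℤ R₀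
  haveI : Algebra.FiniteType R₀ S₀ := inferInstance
  letI algR₀K : Algebra R₀ K := ((algebraMap A K).comp (algebraMap R₀ A)).toAlgebra
  haveI : IsScalarTower R₀ A K := IsScalarTower.of_algebraMap_eq (fun _ => rfl)
  obtain ⟨q', hq'def⟩ : ∃ q' : Ideal (S₀ ⊗[R₀] A), q' = q.comap θ := ⟨_, rfl⟩
  haveI : q'.IsPrime := hq'def ▸ Ideal.comap_isPrime θ q
  have hq' : ∀ b', b' ∈ q' ↔ θ b' ∈ q := fun b' => by rw [hq'def]; rfl
  have hK' : ∀ r : A, algebraMap A K r = 0 ↔ algebraMap A (S₀ ⊗[R₀] A) r ∈ q' := by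
    intro r
    rw [hK, hq', hθ]
  have hflat' : Module.Flat A (LocalizedModule q'.primeCompl ((S₀ ⊗[R₀] A) ⊗[S₀] M₀)) := by
    refine FlatDescent.flat_localized_of_semilinearEquiv θ.symm ?_ Θ.symm ?_ q' q ?_ hflat
    · intro r
      rw [← hθ, RingEquiv.symm_apply_apply]
    · intro b m
      apply Θ.injective
      rw [hΘ, AddEquiv.apply_symm_apply, RingEquiv.apply_symm_apply, AddEquiv.apply_symm_apply]
    · intro b
      rw [hq', RingEquiv.apply_symm_apply]
  have hg' : θ (algebraMap S₀ (S₀ ⊗[R₀] A) g₀) = g := by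
    rw [Algebra.TensorProduct.algebraMap_apply, Algebra.algebraMap_self, RingHom.id_apply, hg₀]
  obtain ⟨eK, heK⟩ := exists_dict R₀ S₀ M₀ θ hθ Θ hΘ K
  have hfib' : ∀ z₀ : M₀ ⊗[R₀] K, g₀ • z₀ = 0 →
      ∃ w', w' ∉ q' ∧ act R₀ S₀ M₀ A K w' z₀ = 0 := by
    intro z₀ hz₀
    have h1 : g • eK z₀ = 0 := by
      rw [← hg₀, ← heK, act_algebraMap, hz₀, map_zero]
    obtain ⟨w, hwq, hw⟩ := hfib _ h1
    refine ⟨θ.symm w, ?_, ?_⟩
    · rw [hq', RingEquiv.apply_symm_apply]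
      exact hwq
    · apply eK.injective
      rw [heK, RingEquiv.apply_symm_apply, hw, map_zero]
  obtain ⟨hreg, hflQ⟩ := RegFibre3.model_core R₀ S₀ M₀ A K q' g₀ hK' hflat' hfib'
  constructor
  · obtain ⟨eA, heA⟩ := exists_dict R₀ S₀ M₀ θ hθ Θ hΘ A
    intro m hm
    let ρ := AlgebraTensorModule.rid A B M
    have h1 : g₀ • eA.symm (ρ.symm m) = 0 := by
      apply eA.injective
      rw [map_zero, ← act_algebraMap R₀ S₀ M₀ A A, heA, hg₀, AddEquiv.apply_symm_apply,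
        ← map_smul, hm, map_zero]
    obtain ⟨w', hw'q, hw'⟩ := hreg _ h1
    refine ⟨θ w', (hq' w').not.1 hw'q, ?_⟩
    have h2 : θ w' • ρ.symm m = 0 := by
      have h3 := heA w' (eA.symm (ρ.symm m))
      rw [hw', map_zero, AddEquiv.apply_symm_apply] at h3
      exact h3.symm
    rw [← map_smul] at h2
    exact (LinearEquiv.map_eq_zero_iff _).1 h2
  · obtain ⟨Ψ, hΨ⟩ := exists_quotSMulTop_equiv θ Θ hΘ (algebraMap S₀ (S₀ ⊗[R₀] A) g₀) g hg'
    let E := QuotSMulTop.algebraMapTensorEquivTensorQuotSMulTop g₀ M₀ (S₀ ⊗[R₀] A)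
    refine FlatDescent.flat_localized_of_semilinearEquiv θ hθ (E.symm.toAddEquiv.trans Ψ) ?_
      q q' hq' hflQ
    intro b' x
    show Ψ (E.symm (b' • x)) = θ b' • Ψ (E.symm x)
    rw [map_smul, hΨ]

end Core

end Groth.Agent.Lib.Helper54.RegFibre5
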