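/-
helper54: localization and base change commute with quotients by an element (via exactness), and
the kernel form of regularity on a localized module.
-/
import Groth.Agent.Lib.Helper54.RegFibre5

set_option autoImplicit false
set_option maxHeartbeats 800000

namespace Groth.Agent.Lib.Helper54.RegFibre6

open TensorProduct Function
open scoped Pointwise
open Groth.Agent.Lib.Helper54

universe u

section Quot

variable {B : Type*} [CommRing B] {N Q : Type*} [AddCommGroup N] [Module B N] [AddCommGroup Q]
  [Module B Q] (r : B)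

/-- A cokernel of multiplication by `r` is `QuotSMulTop r`. -/
noncomputable def quotSMulTopEquivOfExact (π : N →ₗ[B] Q) (hπ : Surjective π)
    (hex : Function.Exact (LinearMap.lsmul B N r) π) : Q ≃ₗ[B] QuotSMulTop r N :=
  (LinearMap.quotKerEquivOfSurjective π hπ).symm ≪≫ₗ
    Submodule.quotEquivOfEq _ _ (by
      ext y
      rw [LinearMap.mem_ker, hex y, Submodule.mem_smul_pointwise_iff_exists]
      constructor
      · rintro ⟨x, rfl⟩
        exact ⟨x, Submodule.mem_top, rfl⟩
      · rintro ⟨x, -, rfl⟩
        exact ⟨x, rfl⟩)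

variable (W : Submonoid B)

/-- Localization commutes with cokernels of multiplication by `r`. -/
theorem exists_quotSMulTop_localized_equiv (π₀ : N →ₗ[B] Q) (hπ₀ : Surjective π₀)
    (hex : Function.Exact (LinearMap.lsmul B N r) π₀) :
    Nonempty (QuotSMulTop r (LocalizedModule W N) ≃ₗ[B] LocalizedModule W Q) := by
  let ℓ := LocalizedModule.mkLinearMap W N
  let ℓQ := LocalizedModule.mkLinearMap W Q
  let π : LocalizedModule W N →ₗ[B] LocalizedModule W Q := IsLocalizedModule.map W ℓ ℓQ π₀
  have hπ : Surjective π := IsLocalizedModule.map_surjective W ℓ ℓQ π₀ hπ₀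
  have hmap : IsLocalizedModule.map W ℓ ℓ (LinearMap.lsmul B N r) =
      LinearMap.lsmul B (LocalizedModule W N) r := by
    apply IsLocalizedModule.ext W ℓ (IsLocalizedModule.map_units ℓ)
    ext m
    simp only [LinearMap.coe_comp, Function.comp_apply, IsLocalizedModule.map_apply,
      LinearMap.lsmul_apply, map_smul]
  have hexL : Function.Exact (LinearMap.lsmul B (LocalizedModule W N) r) π := by
    have := IsLocalizedModule.map_exact W ℓ ℓ ℓQ (LinearMap.lsmul B N r) π₀ hex
    rwa [hmap] at this
  exact ⟨(quotSMulTopEquivOfExact r π hπ hexL).symm⟩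

end Quot

section Tensor

variable {A B : Type*} [CommRing A] [CommRing B] [Algebra A B] (M : Type*) [AddCommGroup M]
  [Module B M] [Module A M] [IsScalarTower A B M] (K : Type*) [AddCommGroup K] [Module A K] (r : B)

theorem rTensor_mkQ_surjective :
    Surjective (AlgebraTensorModule.rTensor A K (Submodule.mkQ (r • (⊤ : Submodule B M)))) := by
  intro z
  induction z with
  | zero => exact ⟨0, map_zero _⟩
  | add x y hx hy =>
    obtain ⟨x', rfl⟩ := hx
    obtain ⟨y', rfl⟩ := hy
    exact ⟨x' + y', map_add _ _ _⟩
  | tmul m c =>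
    obtain ⟨m', rfl⟩ := Submodule.mkQ_surjective _ m
    exact ⟨m' ⊗ₜ c, rfl⟩

omit [CommRing B] [Algebra A B] [Module B M] [IsScalarTower A B M] in
theorem exact_rTensor_aux {P : Type*} [AddCommGroup P] [Module A P] (f : M →ₗ[A] M)
    (g : M →ₗ[A] P) (hfg : Function.Exact f g) (hg : Surjective g)
    (F : M ⊗[A] K → M ⊗[A] K) (G : M ⊗[A] K → P ⊗[A] K) (hF : F = f.rTensor K)
    (hG : G = g.rTensor K) : Function.Exact F G := by
  subst hF hG
  exact rTensor_exact K hfg hg

theorem exact_rTensor_mkQ :
    Function.Exact (LinearMap.lsmul B (M ⊗[A] K) r)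
      (AlgebraTensorModule.rTensor A K (Submodule.mkQ (r • (⊤ : Submodule B M)))) := by
  have hex : Function.Exact ((LinearMap.lsmul B M r).restrictScalars A)
      ((Submodule.mkQ (r • (⊤ : Submodule B M))).restrictScalars A) :=
    RegFibre3.exact_smul_mkQ M r
  have hs : Surjective ((Submodule.mkQ (r • (⊤ : Submodule B M))).restrictScalars A) := by
    intro x
    obtain ⟨m, rfl⟩ := Submodule.mkQ_surjective (r • (⊤ : Submodule B M)) x
    exact ⟨m, rfl⟩
  have h2 : ⇑(LinearMap.lsmul B (M ⊗[A] K) r) =
      ⇑(((LinearMap.lsmul B M r).restrictScalars A).rTensor K) := by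
    funext y
    induction y with
    | zero => simp
    | add x y hx hy => rw [map_add, map_add, hx, hy]
    | tmul m c =>
      rw [LinearMap.lsmul_apply, LinearMap.rTensor_tmul, TensorProduct.smul_tmul']
      rfl
  exact exact_rTensor_aux M K _ _ hex hs _ _ h2 rfl

end Tensor

section Kernel

variable {B : Type*} [CommRing B] (W : Submonoid B) (N : Type*) [AddCommGroup N] [Module B N]
  (r : B)

/-- Regularity on the localization from the kernel form. -/
theorem isSMulRegular_localized_of_kernel
    (h : ∀ y : N, r • y = 0 → ∃ w ∈ W, w • y = 0) :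
    IsSMulRegular (LocalizedModule W N) r := by
  rw [isSMulRegular_iff_right_eq_zero_of_smul]
  refine (RegFibre1.regular_localized_iff W (LocalizedModule.mkLinearMap W N) r).2 ?_
  rintro y ⟨s, hs, hy⟩
  have h1 : r • (s • y) = 0 := by rw [smul_comm]; exact hy
  obtain ⟨w, hw, hwy⟩ := h _ h1
  exact ⟨w * s, W.mul_mem hw hs, by rw [mul_smul]; exact hwy⟩

/-- The kernel form from regularity on the localization. -/
theorem kernel_of_isSMulRegular_localized (h : IsSMulRegular (LocalizedModule W N) r)
    (y : N) (hy : r • y = 0) : ∃ w ∈ W, w • y = 0 := by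
  rw [isSMulRegular_iff_right_eq_zero_of_smul] at h
  exact (RegFibre1.regular_localized_iff W (LocalizedModule.mkLinearMap W N) r).1 h y
    ⟨1, W.one_mem, by rw [one_smul]; exact hy⟩

end Kernel

end Groth.Agent.Lib.Helper54.RegFibre6
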