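/-
helper54: an injective linear map with flat cokernel stays injective modulo any ideal
(elementwise form).
-/
import Groth.Agent.Lib.Helper54.LocalFlat
import Groth.Agent.Lib.Helper46.FibreFlat

set_option autoImplicit false
set_option maxHeartbeats 1000000
set_option linter.style.haveILetI false

namespace Groth.Agent.Lib.Helper54.FlatCoker

open TensorProduct Function

/-- If `0 → M → N → C → 0` is exact with `C` flat, then `u x ∈ I N` implies `x ∈ I M`. -/
theorem mem_smul_top_of_flat_coker {R M N C : Type*} [CommRing R] [AddCommGroup M]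
    [AddCommGroup N] [AddCommGroup C] [Module R M] [Module R N] [Module R C]
    (u : M →ₗ[R] N) (π : N →ₗ[R] C) (hu : Injective u) (hex : Exact u π) (hπ : Surjective π)
    [Module.Flat R C] (I : Ideal R) (x : M) (hx : u x ∈ (I • ⊤ : Submodule R N)) :
    x ∈ (I • ⊤ : Submodule R M) := by
  have hinj : Injective (u.rTensor (R ⧸ I)) :=
    LocalFlat.rTensor_injective_of_lTensor_injective I.subtype (Submodule.mkQ I)
      (LinearMap.exact_subtype_mkQ I) (Submodule.mkQ_surjective I) u π
      (Module.Flat.rTensor_preserves_injective_linearMap (M := R) u hu) hex hπ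
      (Module.Flat.lTensor_preserves_injective_linearMap I.subtype I.subtype_injective)
  have h1 : u.rTensor (R ⧸ I) (x ⊗ₜ[R] (1 : R ⧸ I)) = 0 := by
    rw [LinearMap.rTensor_tmul]
    have h2 : (tensorQuotEquivQuotSMul N I).symm (Submodule.Quotient.mk (u x)) =
        u x ⊗ₜ[R] (1 : R ⧸ I) := rfl
    rw [← h2, (Submodule.Quotient.mk_eq_zero _).2 hx, map_zero]
  have h3 : x ⊗ₜ[R] (1 : R ⧸ I) = 0 := hinj (by rw [h1, map_zero])
  have h4 : (tensorQuotEquivQuotSMul M I).symm (Submodule.Quotient.mk x) = 0 := h3
  have h5 : (Submodule.Quotient.mk x : M ⧸ (I • ⊤ : Submodule R M)) = 0 := by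
    have := congrArg (tensorQuotEquivQuotSMul M I) h4
    rwa [LinearEquiv.apply_symm_apply, map_zero] at this
  exact (Submodule.Quotient.mk_eq_zero _).1 h5

/-- Version over an algebra, with the extended ideal. -/
theorem mem_map_smul_top_of_flat_coker {R S M N C : Type*} [CommRing R] [CommRing S] [Algebra R S]
    [AddCommGroup M] [AddCommGroup N] [AddCommGroup C] [Module S M] [Module S N] [Module S C]
    [Module R M] [Module R N] [Module R C] [IsScalarTower R S M] [IsScalarTower R S N]
    [IsScalarTower R S C]
    (u : M →ₗ[S] N) (π : N →ₗ[S] C) (hu : Injective u) (hex : Exact u π) (hπ : Surjective π)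
    [Module.Flat R C] (I : Ideal R) (x : M)
    (hx : u x ∈ (I.map (algebraMap R S) • ⊤ : Submodule S N)) :
    x ∈ (I.map (algebraMap R S) • ⊤ : Submodule S M) := by
  rw [Groth.Agent.Lib.Helper46.FibreFlat.mem_map_smul_top_iff] at hx ⊢
  exact mem_smul_top_of_flat_coker (u.restrictScalars R) (π.restrictScalars R) hu hex hπ I x hx

end Groth.Agent.Lib.Helper54.FlatCoker
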