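/-
helper54: packaging of a flat model over a finitely generated subalgebra into the data of a
pushout square of algebras together with a base change of modules.
-/
import Groth.Agent.Lib.Helper54.FlatPkg

set_option autoImplicit false
set_option maxHeartbeats 1600000

namespace Groth.Agent.Lib.Helper54.FlatPkg2

open TensorProduct Function
open Groth.Agent.Lib.Helper54
open Groth.Agent.Lib.Helper54.FlatStage4

attribute [local instance] Algebra.TensorProduct.rightAlgebra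

universe u

section Package

variable {R S M : Type u} [CommRing R] [CommRing S] [Algebra R S] [AddCommGroup M]
  [Module S M] [Module R M] [IsScalarTower R S M]
variable (R₀ : Type u) [CommRing R₀] [Algebra R₀ R] (S₀ : Type u) [CommRing S₀] [Algebra R₀ S₀]
  (M₀ : Type u) [AddCommGroup M₀] [Module R₀ M₀] [Module S₀ M₀] [IsScalarTower R₀ S₀ M₀]
  (θ : S₀ ⊗[R₀] R ≃+* S) (hθ : ∀ r : R, θ (algebraMap R (S₀ ⊗[R₀] R) r) = algebraMap R S r)
  (Θ : (S₀ ⊗[R₀] R) ⊗[S₀] M₀ ≃+ M)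
  (hΘ : ∀ (b' : S₀ ⊗[R₀] R) (x : (S₀ ⊗[R₀] R) ⊗[S₀] M₀), Θ (b' • x) = θ b' • Θ x)
  (T : Type u) [CommRing T] [Algebra R₀ T] [Algebra T R] [IsScalarTower R₀ T R]

include hθ hΘ in
theorem package [Algebra.FiniteType R₀ S₀] [Module.Finite S₀ M₀]
    (hTfin : Algebra.FiniteType ℤ T) (hflat : Module.Flat T ((S₀ ⊗[R₀] T) ⊗[S₀] M₀)) :
    ∃ (R₀ : Type u) (_ : CommRing R₀) (_ : Algebra R₀ R) (S₀ : Type u) (_ : CommRing S₀)
      (_ : Algebra R₀ S₀) (_ : Algebra S₀ S) (_ : Algebra R₀ S) (_ : IsScalarTower R₀ R S)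
      (_ : IsScalarTower R₀ S₀ S) (M₀ : Type u) (_ : AddCommGroup M₀) (_ : Module S₀ M₀)
      (_ : Module R₀ M₀) (_ : IsScalarTower R₀ S₀ M₀) (_ : Module S₀ M) (_ : IsScalarTower S₀ S M)
      (f : M₀ →ₗ[S₀] M),
      Algebra.FiniteType ℤ R₀ ∧ Algebra.FiniteType R₀ S₀ ∧ Module.Finite S₀ M₀ ∧ Module.Flat R₀ M₀ ∧
        Algebra.IsPushout R₀ R S₀ S ∧ IsBaseChange S f := by
  let φ : T →ₐ[R₀] R := IsScalarTower.toAlgHom R₀ T R
  let ψ : S₀ ⊗[R₀] T →+* S := θ.toRingHom.comp (SM S₀ φ).toRingHom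
  letI algS'S : Algebra (S₀ ⊗[R₀] T) S := ψ.toAlgebra
  letI algTS : Algebra T S := ((algebraMap R S).comp (algebraMap T R)).toAlgebra
  letI algR₀S : Algebra R₀ S := ((algebraMap R S).comp (algebraMap R₀ R)).toAlgebra
  letI algS₀S : Algebra S₀ S := (θ.toRingHom.comp (algebraMap S₀ (S₀ ⊗[R₀] R))).toAlgebra
  have hS₀ : ∀ σ : S₀, algebraMap S₀ S σ = θ (σ ⊗ₜ 1) := fun σ => by
    show θ (algebraMap S₀ (S₀ ⊗[R₀] R) σ) = _
    rw [Algebra.TensorProduct.algebraMap_apply, Algebra.algebraMap_self, RingHom.id_apply]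
  have hone : ∀ r : R, θ ((1 : S₀) ⊗ₜ r) = algebraMap R S r := fun r => by
    rw [← hθ, Algebra.TensorProduct.right_algebraMap_apply]
  haveI tTRS : IsScalarTower T R S := IsScalarTower.of_algebraMap_eq (fun _ => rfl)
  haveI tR₀RS : IsScalarTower R₀ R S := IsScalarTower.of_algebraMap_eq (fun _ => rfl)
  haveI tR₀S₀S : IsScalarTower R₀ S₀ S := IsScalarTower.of_algebraMap_eq (fun r => by
    show algebraMap R S (algebraMap R₀ R r) = algebraMap S₀ S (algebraMap R₀ S₀ r)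
    rw [hS₀, ← hone]
    congr 1
    rw [Algebra.algebraMap_eq_smul_one r, Algebra.algebraMap_eq_smul_one r,
      TensorProduct.smul_tmul])
  haveI tTS'S : IsScalarTower T (S₀ ⊗[R₀] T) S := IsScalarTower.of_algebraMap_eq (fun t => by
    show algebraMap R S (algebraMap T R t) = θ (SM S₀ φ (algebraMap T (S₀ ⊗[R₀] T) t))
    rw [Algebra.TensorProduct.right_algebraMap_apply, Algebra.TensorProduct.map_tmul, map_one,
      hone]
    rfl)
  haveI tR₀S'S : IsScalarTower R₀ (S₀ ⊗[R₀] T) S := IsScalarTower.of_algebraMap_eq (fun r => by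
    show algebraMap R S (algebraMap R₀ R r) = θ (SM S₀ φ (algebraMap R₀ (S₀ ⊗[R₀] T) r))
    rw [SM_algebraMap, IsScalarTower.algebraMap_apply R₀ R (S₀ ⊗[R₀] R), hθ])
  haveI tS₀S'S : IsScalarTower S₀ (S₀ ⊗[R₀] T) S := IsScalarTower.of_algebraMap_eq (fun σ => by
    show θ (algebraMap S₀ (S₀ ⊗[R₀] R) σ) = θ (SM S₀ φ (algebraMap S₀ (S₀ ⊗[R₀] T) σ))
    rw [AlgHom.commutes])
  -- the pushout square
  have hbig : Algebra.IsPushout R₀ R S₀ S := by
    let e : S₀ ⊗[R₀] R ≃ₐ[R] S := AlgEquiv.ofRingEquiv (f := θ) hθ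
    exact Algebra.IsPushout.of_equiv (R := R₀) (R' := R) (S := S₀) (S' := S₀ ⊗[R₀] R) e
      (RingHom.ext fun σ => rfl)
  have hpush : Algebra.IsPushout T R (S₀ ⊗[R₀] T) S :=
    (Algebra.IsPushout.comp_iff R₀ T S₀ (S' := S₀ ⊗[R₀] T) (T := R) (T' := S)).1 hbig
  -- module structures on `M`
  letI modS'M : Module (S₀ ⊗[R₀] T) M := Module.compHom M ψ
  haveI tS'SM : IsScalarTower (S₀ ⊗[R₀] T) S M := ⟨fun x s m => by
    show (x • s) • m = ψ x • (s • m)
    rw [Algebra.smul_def, mul_smul]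
    rfl⟩
  letI modS₀M : Module S₀ M := Module.compHom M (algebraMap S₀ S)
  haveI tS₀SM : IsScalarTower S₀ S M := ⟨fun x s m => by
    show (x • s) • m = algebraMap S₀ S x • (s • m)
    rw [Algebra.smul_def, mul_smul]⟩
  haveI tS₀S'M : IsScalarTower S₀ (S₀ ⊗[R₀] T) M := ⟨fun σ x m => by
    show ψ (σ • x) • m = algebraMap S₀ S σ • (ψ x • m)
    rw [Algebra.smul_def, map_mul, mul_smul, IsScalarTower.algebraMap_apply S₀ (S₀ ⊗[R₀] T) S σ]
    rfl⟩
  -- the map of modules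
  let g : (S₀ ⊗[R₀] T) ⊗[S₀] M₀ →ₗ[S₀] (S₀ ⊗[R₀] R) ⊗[S₀] M₀ :=
    (SM S₀ φ).toLinearMap.rTensor M₀
  have hg : ∀ (b : S₀ ⊗[R₀] T) (x : (S₀ ⊗[R₀] T) ⊗[S₀] M₀), g (b • x) = SM S₀ φ b • g x := by
    intro b x
    induction x with
    | zero => simp
    | add x y hx hy => rw [smul_add, map_add, hx, hy, map_add, smul_add]
    | tmul c y =>
      rw [TensorProduct.smul_tmul', LinearMap.rTensor_tmul, LinearMap.rTensor_tmul,
        TensorProduct.smul_tmul', smul_eq_mul, smul_eq_mul]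
      congr 1
      exact map_mul (SM S₀ φ) b c
  let f : (S₀ ⊗[R₀] T) ⊗[S₀] M₀ →ₗ[S₀ ⊗[R₀] T] M :=
    { toFun := fun x => Θ (g x)
      map_add' := fun x y => by rw [map_add, map_add]
      map_smul' := fun b x => by
        show Θ (g (b • x)) = ψ b • Θ (g x)
        rw [hg, hΘ]
        rfl }
  have hbc : IsBaseChange S f := by
    have hf₁ : IsBaseChange (S₀ ⊗[R₀] T) (TensorProduct.mk S₀ (S₀ ⊗[R₀] T) M₀ 1) :=
      TensorProduct.isBaseChange S₀ M₀ (S₀ ⊗[R₀] T)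
    apply IsBaseChange.of_comp hf₁
    let θL : (S₀ ⊗[R₀] R) ≃ₗ[S₀] S :=
      { θ.toAddEquiv with
        map_smul' := fun σ x => by
          show θ (σ • x) = σ • θ x
          rw [Algebra.smul_def, Algebra.smul_def, map_mul]
          rfl }
    let Θ₁ : (S₀ ⊗[R₀] R) ⊗[S₀] M₀ ≃ₗ[S₀] S ⊗[S₀] M₀ :=
      TensorProduct.congr θL (LinearEquiv.refl S₀ M₀)
    have hΘ₁ : ∀ (b' : S₀ ⊗[R₀] R) (x : (S₀ ⊗[R₀] R) ⊗[S₀] M₀),
        Θ₁ (b' • x) = θ b' • Θ₁ x := by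
      intro b' x
      induction x with
      | zero => simp
      | add x y hx hy => rw [smul_add, map_add, hx, hy, map_add, smul_add]
      | tmul c y =>
        rw [TensorProduct.smul_tmul', TensorProduct.congr_tmul, TensorProduct.congr_tmul,
          TensorProduct.smul_tmul', smul_eq_mul, smul_eq_mul]
        congr 1
        exact map_mul θ b' c
    let E : S ⊗[S₀] M₀ ≃ₗ[S] M :=
      { (Θ₁.symm.toAddEquiv.trans Θ) with
        map_smul' := fun s y => by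
          show Θ (Θ₁.symm (s • y)) = s • Θ (Θ₁.symm y)
          obtain ⟨x, rfl⟩ := Θ₁.surjective y
          obtain ⟨b', rfl⟩ := θ.surjective s
          rw [← hΘ₁, LinearEquiv.symm_apply_apply, LinearEquiv.symm_apply_apply, hΘ] }
    refine IsBaseChange.of_equiv E (fun m₀ => ?_)
    show Θ (Θ₁.symm (1 ⊗ₜ m₀)) = Θ (g (1 ⊗ₜ m₀))
    congr 1
    rw [LinearEquiv.symm_apply_eq]
    show (1 : S) ⊗ₜ[S₀] m₀ = Θ₁ ((SM S₀ φ).toLinearMap 1 ⊗ₜ m₀)
    rw [TensorProduct.congr_tmul]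
    show (1 : S) ⊗ₜ[S₀] m₀ = θ (SM S₀ φ 1) ⊗ₜ m₀
    rw [map_one, map_one]
  exact ⟨T, inferInstance, inferInstance, S₀ ⊗[R₀] T, inferInstance, inferInstance, algS'S, algTS,
    tTRS, tTS'S, (S₀ ⊗[R₀] T) ⊗[S₀] M₀, inferInstance, inferInstance, inferInstance, inferInstance,
    modS'M, tS'SM, f, hTfin, FlatOpenB.finiteType_right R₀ S₀ T, inferInstance, hflat, hpush, hbc⟩

end Package

end Groth.Agent.Lib.Helper54.FlatPkg2
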