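/-
helper54: tools for descending faithful flatness of a finitely presented algebra:
* `mem_range_comap_baseChange`: a prime whose contraction lies in the image of `Spec S → Spec R`
  lies in the image of `Spec (R' ⊗[R] S) → Spec R'`;
* `faithfullyFlat_baseChange_of_range`;
* `map_vanishingIdeal_eq_top`: the ideal of the complement of the (open) image of `Spec S → Spec T`
  generates the unit ideal in `A` when `A → B` is surjective on spectra and `S → B` is compatible;
* `exists_fg_ideal_map_eq_top`: finite stage of such an identity inside a subalgebra;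
* `exists_algEquiv_stage`, `ridA`, `assemble`.
-/
import Groth.Agent.Lib.Helper54.FlatPkg2
import Mathlib.RingTheory.Spectrum.Prime.Chevalley
import Mathlib.RingTheory.Flat.FaithfullyFlat.Algebra
import Mathlib.RingTheory.Ideal.GoingDown

set_option autoImplicit false
set_option maxHeartbeats 1600000

namespace Groth.Agent.Lib.Helper54.FFDescent

open TensorProduct Function
open Groth.Agent.Lib.Helper54
open Groth.Agent.Lib.Helper54.FlatStage4

universe u

section BaseChange

/-- The image of the spectrum is compatible with base change. -/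
theorem mem_range_comap_baseChange {R R' S : Type*} [CommRing R] [CommRing R'] [CommRing S]
    [Algebra R R'] [Algebra R S] (P : PrimeSpectrum R')
    (h : PrimeSpectrum.comap (algebraMap R R') P ∈
      Set.range (PrimeSpectrum.comap (algebraMap R S))) :
    P ∈ Set.range (PrimeSpectrum.comap (algebraMap R' (R' ⊗[R] S))) := by
  rw [← PrimeSpectrum.nontrivial_iff_mem_rangeComap] at h ⊢
  let ψ : (PrimeSpectrum.comap (algebraMap R R') P).asIdeal.ResidueField →+*
      P.asIdeal.ResidueField :=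
    Ideal.ResidueField.map (PrimeSpectrum.comap (algebraMap R R') P).asIdeal P.asIdeal
      (algebraMap R R') rfl
  letI : Algebra (PrimeSpectrum.comap (algebraMap R R') P).asIdeal.ResidueField
      P.asIdeal.ResidueField := ψ.toAlgebra
  haveI : IsScalarTower R (PrimeSpectrum.comap (algebraMap R R') P).asIdeal.ResidueField
      P.asIdeal.ResidueField := IsScalarTower.of_algebraMap_eq (fun r => by
    show _ = ψ (algebraMap R _ r)
    rw [Ideal.ResidueField.map_algebraMap]
    exact IsScalarTower.algebraMap_apply R R' P.asIdeal.ResidueField r)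
  let e₁ := AlgebraTensorModule.cancelBaseChange R R' P.asIdeal.ResidueField
    P.asIdeal.ResidueField S
  let e₂ := AlgebraTensorModule.cancelBaseChange R
    (PrimeSpectrum.comap (algebraMap R R') P).asIdeal.ResidueField P.asIdeal.ResidueField
    P.asIdeal.ResidueField S
  haveI : Nontrivial (P.asIdeal.ResidueField ⊗[(PrimeSpectrum.comap (algebraMap R R')
      P).asIdeal.ResidueField] ((PrimeSpectrum.comap (algebraMap R R') P).asIdeal.ResidueField
      ⊗[R] S)) :=
    (Module.FaithfullyFlat.nontrivial_tensorProduct_iff_right _ _).2 h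
  exact (e₁.trans e₂.symm).toEquiv.nontrivial

theorem faithfullyFlat_baseChange_of_range {T S C : Type*} [CommRing T] [CommRing S] [CommRing C]
    [Algebra T S] [Algebra T C] [Module.Flat T S]
    (h : ∀ P : PrimeSpectrum C, PrimeSpectrum.comap (algebraMap T C) P ∈
      Set.range (PrimeSpectrum.comap (algebraMap T S))) :
    Module.FaithfullyFlat C (C ⊗[T] S) := by
  haveI : Module.Flat C (C ⊗[T] S) := inferInstance
  exact Module.FaithfullyFlat.of_comap_surjective
    (fun P => mem_range_comap_baseChange P (h P))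

end BaseChange

section Top

theorem map_vanishingIdeal_eq_top {T S A B : Type*} [CommRing T] [CommRing S] [CommRing A]
    [CommRing B] [Algebra T S] [Algebra T A] [Algebra A B] (ψ : S →+* B)
    (hψ : ∀ t, ψ (algebraMap T S t) = algebraMap A B (algebraMap T A t))
    (hsurj : Function.Surjective (PrimeSpectrum.comap (algebraMap A B)))
    (hopen : IsOpen (Set.range (PrimeSpectrum.comap (algebraMap T S)))) :
    Ideal.map (algebraMap T A) (PrimeSpectrum.vanishingIdeal
      (Set.range (PrimeSpectrum.comap (algebraMap T S)))ᶜ) = ⊤ := by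
  by_contra hne
  obtain ⟨m, hm, hle⟩ := Ideal.exists_le_maximal _ hne
  haveI := hm.isPrime
  obtain ⟨Q, hQ⟩ := hsurj ⟨m, hm.isPrime⟩
  have hmem : PrimeSpectrum.comap (algebraMap T A) ⟨m, hm.isPrime⟩ ∈
      Set.range (PrimeSpectrum.comap (algebraMap T S)) := by
    refine ⟨PrimeSpectrum.comap ψ Q, ?_⟩
    apply PrimeSpectrum.ext
    ext t
    rw [← hQ]
    show ψ (algebraMap T S t) ∈ Q.asIdeal ↔ algebraMap A B (algebraMap T A t) ∈ Q.asIdeal
    rw [hψ]
  have h1 : PrimeSpectrum.vanishingIdeal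
      (Set.range (PrimeSpectrum.comap (algebraMap T S)))ᶜ ≤
      (PrimeSpectrum.comap (algebraMap T A) ⟨m, hm.isPrime⟩).asIdeal :=
    Ideal.map_le_iff_le_comap.1 hle
  have h2 : PrimeSpectrum.comap (algebraMap T A) ⟨m, hm.isPrime⟩ ∈ PrimeSpectrum.zeroLocus
      ((PrimeSpectrum.vanishingIdeal (Set.range (PrimeSpectrum.comap (algebraMap T S)))ᶜ :
        Ideal T) : Set T) := (PrimeSpectrum.mem_zeroLocus _ _).2 h1
  rw [PrimeSpectrum.zeroLocus_vanishingIdeal_eq_closure, hopen.isClosed_compl.closure_eq] at h2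
  exact h2 hmem

end Top

section Stage

variable {Z₀ A : Type*} [CommRing Z₀] [CommRing A] [Algebra Z₀ A]

theorem mem_map_inclusion_trans {T T' T'' : Subalgebra Z₀ A} (h₁ : T ≤ T') (h₂ : T' ≤ T'')
    (I : Ideal T) {x : T'} (hx : x ∈ Ideal.map (Subalgebra.inclusion h₁) I) :
    Subalgebra.inclusion h₂ x ∈ Ideal.map (Subalgebra.inclusion (h₁.trans h₂)) I := by
  refine Submodule.span_induction (p := fun x _ => Subalgebra.inclusion h₂ x ∈
    Ideal.map (Subalgebra.inclusion (h₁.trans h₂)) I) ?_ ?_ ?_ ?_ hx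
  · rintro _ ⟨j, hj, rfl⟩
    exact Ideal.mem_map_of_mem (Subalgebra.inclusion (h₁.trans h₂)) hj
  · rw [map_zero]
    exact Ideal.zero_mem _
  · intro x y _ _ hx hy
    rw [map_add]
    exact Ideal.add_mem _ hx hy
  · intro r x _ hx
    rw [smul_eq_mul, map_mul]
    exact Ideal.mul_mem_left _ _ hx

/-- An ideal of a subalgebra generating the unit ideal in the ambient ring already does so in a
finitely generated larger subalgebra. -/
theorem exists_fg_ideal_map_eq_top (T : Subalgebra Z₀ A) (hT : T.FG) (I : Ideal T)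
    (h : Ideal.map (algebraMap T A) I = ⊤) :
    ∃ (T'' : Subalgebra Z₀ A) (hle : T ≤ T''), T''.FG ∧
      Ideal.map (Subalgebra.inclusion hle) I = ⊤ := by
  have key : ∀ x ∈ Ideal.map (algebraMap T A) I, ∃ (T'' : Subalgebra Z₀ A) (hle : T ≤ T''),
      T''.FG ∧ ∃ x' ∈ Ideal.map (Subalgebra.inclusion hle) I, ((x' : T'') : A) = x := by
    intro x hx
    refine Submodule.span_induction (p := fun x _ => ∃ (T'' : Subalgebra Z₀ A) (hle : T ≤ T''),
      T''.FG ∧ ∃ x' ∈ Ideal.map (Subalgebra.inclusion hle) I, ((x' : T'') : A) = x) ?_ ?_ ?_ ?_ hx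
    · rintro _ ⟨j, hj, rfl⟩
      exact ⟨T, le_refl T, hT, Subalgebra.inclusion (le_refl T) j,
        Ideal.mem_map_of_mem (Subalgebra.inclusion (le_refl T)) hj, rfl⟩
    · exact ⟨T, le_refl T, hT, 0, Ideal.zero_mem _, rfl⟩
    · rintro x y _ _ ⟨Ta, ha, hafg, xa, hxa, rfl⟩ ⟨Tb, hb, hbfg, xb, hxb, rfl⟩
      refine ⟨Ta ⊔ Tb, ha.trans le_sup_left, hafg.sup hbfg,
        Subalgebra.inclusion le_sup_left xa + Subalgebra.inclusion le_sup_right xb,
        Ideal.add_mem _ ?_ ?_, rfl⟩
      · exact mem_map_inclusion_trans ha le_sup_left I hxa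
      · exact mem_map_inclusion_trans hb le_sup_right I hxb
    · rintro r x _ ⟨Ta, ha, hafg, xa, hxa, rfl⟩
      have hr : r ∈ Ta ⊔ Algebra.adjoin Z₀ {r} :=
        (le_sup_right : Algebra.adjoin Z₀ {r} ≤ _) (Algebra.subset_adjoin (Set.mem_singleton r))
      refine ⟨Ta ⊔ Algebra.adjoin Z₀ {r}, ha.trans le_sup_left, hafg.sup ?_,
        (⟨r, hr⟩ : ↥(Ta ⊔ Algebra.adjoin Z₀ {r})) * Subalgebra.inclusion le_sup_left xa,
        Ideal.mul_mem_left _ _ ?_, rfl⟩
      · have := Subalgebra.fg_adjoin_finset (R := Z₀) ({r} : Finset A)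
        simpa using this
      · exact mem_map_inclusion_trans ha le_sup_left I hxa
  obtain ⟨T'', hle, hfg, x', hx', hx1⟩ := key 1 (by rw [h]; trivial)
  refine ⟨T'', hle, hfg, ?_⟩
  rw [Ideal.eq_top_iff_one]
  have : x' = 1 := Subtype.ext hx1
  rw [← this]
  exact hx'

end Stage

section Pushout

attribute [local instance] Algebra.TensorProduct.rightAlgebra

/-- The `C`-linear form of the isomorphism `(S₀ ⊗ C) ⊗[S₀] S₀ ≃ S₀ ⊗ C`. -/
noncomputable def ridA (Z₀ S₀ C : Type*) [CommRing Z₀] [CommRing S₀] [Algebra Z₀ S₀] [CommRing C]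
    [Algebra Z₀ C] : (S₀ ⊗[Z₀] C) ⊗[S₀] S₀ ≃ₗ[C] S₀ ⊗[Z₀] C :=
  { (TensorProduct.rid S₀ (S₀ ⊗[Z₀] C)).toAddEquiv with
    map_smul' := fun a x => by
      show TensorProduct.rid S₀ _ (a • x) = a • TensorProduct.rid S₀ _ x
      induction x with
      | zero => simp
      | add x y hx hy => rw [smul_add, map_add, hx, hy, map_add, smul_add]
      | tmul c s =>
        rw [TensorProduct.smul_tmul', TensorProduct.rid_tmul, TensorProduct.rid_tmul, smul_comm] }

theorem exists_algEquiv_stage {R S : Type u} [CommRing R] [CommRing S] [Algebra R S]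
    (R₀ : Type u) [CommRing R₀] [Algebra R₀ R] (S₀ : Type u) [CommRing S₀] [Algebra R₀ S₀]
    (θ : S₀ ⊗[R₀] R ≃+* S) (hθ : ∀ r : R, θ (algebraMap R (S₀ ⊗[R₀] R) r) = algebraMap R S r)
    (T : Type u) [CommRing T] [Algebra R₀ T] [Algebra T R] [IsScalarTower R₀ T R] :
    Nonempty (S ≃ₐ[R] R ⊗[T] (S₀ ⊗[R₀] T)) := by
  let φ : T →ₐ[R₀] R := IsScalarTower.toAlgHom R₀ T R
  let ψ : S₀ ⊗[R₀] T →+* S := θ.toRingHom.comp (SM S₀ φ).toRingHom
  letI algS'S : Algebra (S₀ ⊗[R₀] T) S := ψ.toAlgebra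
  letI algTS : Algebra T S := ((algebraMap R S).comp (algebraMap T R)).toAlgebra
  letI algR₀S : Algebra R₀ S := ((algebraMap R S).comp (algebraMap R₀ R)).toAlgebra
  letI algS₀S : Algebra S₀ S := (θ.toRingHom.comp (algebraMap S₀ (S₀ ⊗[R₀] R))).toAlgebra
  have hS₀ : ∀ σ : S₀, algebraMap S₀ S σ = θ (σ ⊗ₜ 1) := fun σ => by
    show θ (algebraMap S₀ (S₀ ⊗[R₀] R) σ) = _
    rw [Algebra.TensorProduct.algebraMap_apply, Algebra.algebraMap_self, RingHom.id_apply]
  have hone : ∀ r : R, θ ((1 : S₀) ⊗ₜ r) = algebraMap R S r := fun r => by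
    rw [← hθ, Algebra.TensorProduct.right_algebraMap_apply]
  haveI tTRS : IsScalarTower T R S := IsScalarTower.of_algebraMap_eq (fun _ => rfl)
  haveI tR₀RS : IsScalarTower R₀ R S := IsScalarTower.of_algebraMap_eq (fun _ => rfl)
  haveI tR₀S₀S : IsScalarTower R₀ S₀ S := IsScalarTower.of_algebraMap_eq (fun r => by
    show algebraMap R S (algebraMap R₀ R r) = algebraMap S₀ S (algebraMap R₀ S₀ r)
    rw [hS₀, ← hone]
    congr 1
    rw [Algebra.algebraMap_eq_smul_one r, Algebra.algebraMap_eq_smul_one r,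
      TensorProduct.smul_tmul])
  haveI tTS'S : IsScalarTower T (S₀ ⊗[R₀] T) S := IsScalarTower.of_algebraMap_eq (fun t => by
    show algebraMap R S (algebraMap T R t) = θ (SM S₀ φ (algebraMap T (S₀ ⊗[R₀] T) t))
    rw [Algebra.TensorProduct.right_algebraMap_apply, Algebra.TensorProduct.map_tmul, map_one,
      hone]
    rfl)
  haveI tR₀S'S : IsScalarTower R₀ (S₀ ⊗[R₀] T) S := IsScalarTower.of_algebraMap_eq (fun r => by
    show algebraMap R S (algebraMap R₀ R r) = θ (SM S₀ φ (algebraMap R₀ (S₀ ⊗[R₀] T) r))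
    rw [SM_algebraMap, IsScalarTower.algebraMap_apply R₀ R (S₀ ⊗[R₀] R), hθ])
  haveI tS₀S'S : IsScalarTower S₀ (S₀ ⊗[R₀] T) S := IsScalarTower.of_algebraMap_eq (fun σ => by
    show θ (algebraMap S₀ (S₀ ⊗[R₀] R) σ) = θ (SM S₀ φ (algebraMap S₀ (S₀ ⊗[R₀] T) σ))
    rw [AlgHom.commutes])
  have hbig : Algebra.IsPushout R₀ R S₀ S := by
    let e : S₀ ⊗[R₀] R ≃ₐ[R] S := AlgEquiv.ofRingEquiv (f := θ) hθ
    exact Algebra.IsPushout.of_equiv (R := R₀) (R' := R) (S := S₀) (S' := S₀ ⊗[R₀] R) e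
      (RingHom.ext fun σ => rfl)
  haveI hpush : Algebra.IsPushout T R (S₀ ⊗[R₀] T) S :=
    (Algebra.IsPushout.comp_iff R₀ T S₀ (S' := S₀ ⊗[R₀] T) (T := R) (T' := S)).1 hbig
  exact ⟨(Algebra.IsPushout.equiv T R (S₀ ⊗[R₀] T) S).symm⟩

end Pushout

section Assemble

theorem assemble {R A B : Type u} [CommRing R] [CommRing A] [CommRing B] [Algebra R A]
    [Algebra A B] (T T'' S_T : Type u) [CommRing T] [CommRing T''] [CommRing S_T] [Algebra T T'']
    [Algebra T A] [Algebra T'' A] [IsScalarTower T T'' A] [Algebra T S_T] [Module.Flat T S_T]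
    [Algebra.FinitePresentation T S_T] [Algebra.FinitePresentation ℤ T'']
    (e : B ≃ₐ[A] A ⊗[T] S_T)
    (hrange : ∀ P : PrimeSpectrum T'', PrimeSpectrum.comap (algebraMap T T'') P ∈
      Set.range (PrimeSpectrum.comap (algebraMap T S_T))) :
    ∃ (A₀ B₀ : Type u) (_ : CommRing A₀) (_ : CommRing B₀) (_ : Algebra R A₀) (_ : Algebra A₀ A)
      (_ : IsScalarTower R A₀ A) (_ : Algebra A₀ B₀), Algebra.FinitePresentation R A₀ ∧
      Algebra.FinitePresentation A₀ B₀ ∧ Module.FaithfullyFlat A₀ B₀ ∧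
      Nonempty (B ≃ₐ[A] A ⊗[A₀] B₀) := by
  let gA : T'' →ₐ[ℤ] A := (algebraMap T'' A).toIntAlgHom
  let lft : R ⊗[ℤ] T'' →ₐ[R] A :=
    Algebra.TensorProduct.lift (Algebra.ofId R A) gA (fun _ _ => Commute.all _ _)
  letI algCA : Algebra (R ⊗[ℤ] T'') A := lft.toRingHom.toAlgebra
  haveI : IsScalarTower R (R ⊗[ℤ] T'') A :=
    IsScalarTower.of_algebraMap_eq (fun r => (lft.commutes r).symm)
  letI algTC : Algebra T (R ⊗[ℤ] T'') :=
    ((Algebra.TensorProduct.includeRight : T'' →ₐ[ℤ] R ⊗[ℤ] T'').toRingHom.comp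
      (algebraMap T T'')).toAlgebra
  haveI : IsScalarTower T (R ⊗[ℤ] T'') A := IsScalarTower.of_algebraMap_eq (fun t => by
    show algebraMap T A t = lft (1 ⊗ₜ algebraMap T T'' t)
    rw [Algebra.TensorProduct.lift_tmul, map_one, one_mul]
    exact IsScalarTower.algebraMap_apply T T'' A t)
  have hC : ∀ P : PrimeSpectrum (R ⊗[ℤ] T''),
      PrimeSpectrum.comap (algebraMap T (R ⊗[ℤ] T'')) P ∈
        Set.range (PrimeSpectrum.comap (algebraMap T S_T)) := by
    intro P
    exact hrange (PrimeSpectrum.comap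
      (Algebra.TensorProduct.includeRight : T'' →ₐ[ℤ] R ⊗[ℤ] T'').toRingHom P)
  haveI := faithfullyFlat_baseChange_of_range (T := T) (S := S_T) (C := R ⊗[ℤ] T'') hC
  refine ⟨R ⊗[ℤ] T'', (R ⊗[ℤ] T'') ⊗[T] S_T, inferInstance, inferInstance, inferInstance, algCA,
    inferInstance, inferInstance, inferInstance, inferInstance, inferInstance, ⟨?_⟩⟩
  exact e.trans (Algebra.TensorProduct.cancelBaseChange T (R ⊗[ℤ] T'') A A S_T).symm

end Assemble

end Groth.Agent.Lib.Helper54.FFDescent
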