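import Mathlib

/-!
# Bass: unimodular elements in big projective modules (core Noetherian induction)

`R` a commutative ring, `J` an ideal with `R ⧸ J` Noetherian, `P` an `R`-module that is a retract
of a free module `ι →₀ R` via `s : P → (ι →₀ R)`, `π : (ι →₀ R) → P`, `π ∘ s = id`.
-/

set_option autoImplicit false
set_option maxHeartbeats 400000

namespace Groth.Agent.Lib.Helper54.Bass

open Submodule

variable {R : Type*} [CommRing R] {P : Type*} [AddCommGroup P] [Module R P] {ι : Type*}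

/-- the ideal generated by the coordinates of `x`. -/
def coordIdeal (s : P →ₗ[R] (ι →₀ R)) (x : P) : Ideal R := Ideal.span (Set.range (s x))

theorem coord_mem_coordIdeal (s : P →ₗ[R] (ι →₀ R)) (x : P) (k : ι) : s x k ∈ coordIdeal s x :=
  Ideal.subset_span ⟨k, rfl⟩

/-- the linear form with coefficient function `c`. -/
noncomputable def formOf (s : P →ₗ[R] (ι →₀ R)) (c : ι → R) : P →ₗ[R] R :=
  (Finsupp.linearCombination R c) ∘ₗ s

theorem formOf_apply (s : P →ₗ[R] (ι →₀ R)) (c : ι → R) (x : P) :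
    formOf s c x = (s x).sum fun k a => a * c k := by
  simp [formOf, Finsupp.linearCombination_apply]

theorem formOf_mem_coordIdeal (s : P →ₗ[R] (ι →₀ R)) (c : ι → R) (x : P) :
    formOf s c x ∈ coordIdeal s x := by
  rw [formOf_apply]
  exact Ideal.sum_mem _ fun k _ => Ideal.mul_mem_right _ _ (coord_mem_coordIdeal s x k)

theorem exists_formOf_of_mem_coordIdeal (s : P →ₗ[R] (ι →₀ R)) (x : P) {a : R}
    (ha : a ∈ coordIdeal s x) : ∃ c : ι → R, formOf s c x = a := by
  classical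
  rw [coordIdeal, Ideal.span, Finsupp.mem_span_range_iff_exists_finsupp] at ha
  obtain ⟨c, hc⟩ := ha
  refine ⟨c, ?_⟩
  rw [formOf_apply, ← hc]
  rw [Finsupp.sum_of_support_subset (s x) (Finset.subset_union_left (s₂ := c.support))
      (fun k a => a * c k) (fun k _ => zero_mul _),
    Finsupp.sum_of_support_subset c (Finset.subset_union_right (s₁ := (s x).support))
      (fun k a => a • (s x) k) (fun k _ => zero_smul _ _)]
  exact Finset.sum_congr rfl fun k _ => by rw [smul_eq_mul, mul_comm]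

/-- reconstruction of `x` from its coordinates. -/
theorem eq_sum_coord (s : P →ₗ[R] (ι →₀ R)) (π : (ι →₀ R) →ₗ[R] P)
    (hπs : π ∘ₗ s = LinearMap.id) (x : P) :
    x = (s x).sum fun k a => a • π (Finsupp.single k 1) := by
  have h : x = π (s x) := (LinearMap.congr_fun hπs x).symm
  conv_lhs => rw [h, ← Finsupp.sum_single (s x)]
  rw [map_finsuppSum]
  refine Finsupp.sum_congr fun k _ => ?_
  rw [← map_smul, Finsupp.smul_single, smul_eq_mul, mul_one]

theorem mem_smul_top_of_coord_mem (s : P →ₗ[R] (ι →₀ R)) (π : (ι →₀ R) →ₗ[R] P)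
    (hπs : π ∘ₗ s = LinearMap.id) (m : Ideal R) (x : P) (hx : ∀ k, s x k ∈ m) :
    x ∈ (m • ⊤ : Submodule R P) := by
  rw [eq_sum_coord s π hπs x]
  exact Submodule.sum_mem _ fun k _ => Submodule.smul_mem_smul (hx k) mem_top

/-- Noetherian-ness descends along a surjective ring map. -/
theorem isNoetherian_of_quotient (J : Ideal R) (Q : Type*) [AddCommGroup Q] [Module R Q]
    [Module (R ⧸ J) Q] [IsScalarTower R (R ⧸ J) Q] [IsNoetherian (R ⧸ J) Q] :
    IsNoetherian R Q := by
  constructor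
  intro N
  let N' : Submodule (R ⧸ J) Q :=
    { carrier := N
      add_mem' := N.add_mem
      zero_mem' := N.zero_mem
      smul_mem' := fun c x hx => by
        obtain ⟨r, rfl⟩ := Ideal.Quotient.mk_surjective c
        have : (Ideal.Quotient.mk J r) • x = r • x := by
          rw [← Ideal.Quotient.algebraMap_eq, algebraMap_smul]
        rw [this]
        exact N.smul_mem r hx }
  obtain ⟨t, ht⟩ := IsNoetherian.noetherian N'
  refine ⟨t, ?_⟩
  have h := Submodule.restrictScalars_span R (R ⧸ J)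
    (Ideal.Quotient.mk_surjective (I := J)) (t : Set Q)
  rw [← h, ht]
  ext x
  rfl

/-- `P` is big modulo `J`: no quotient `P/mP` (`m ⊇ J` maximal) is finitely generated. -/
def Big (J : Ideal R) (P : Type*) [AddCommGroup P] [Module R P] : Prop :=
  ∀ m : Ideal R, m.IsMaximal → J ≤ m → ∀ G : Submodule R P, G.FG → G ⊔ m • ⊤ ≠ ⊤

/-- a submodule of finite corank modulo `J`. -/
def BigSub (J : Ideal R) (N : Submodule R P) : Prop :=
  ∃ G : Submodule R P, G.FG ∧ N ⊔ G ⊔ J • ⊤ = ⊤

theorem BigSub.inf_ker {J : Ideal R} {N : Submodule R P} (hN : BigSub J N)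
    {Q : Type*} [AddCommGroup Q] [Module R Q] [IsNoetherian R Q] (Ψ : P →ₗ[R] Q) :
    BigSub J (N ⊓ LinearMap.ker Ψ) := by
  classical
  obtain ⟨G, hG, hNG⟩ := hN
  obtain ⟨t, ht⟩ := IsNoetherian.noetherian (N.map Ψ)
  have hmem : ∀ q ∈ t, ∃ n ∈ N, Ψ n = q := by
    intro q hq
    have : q ∈ N.map Ψ := ht ▸ Submodule.subset_span hq
    exact this
  choose! f hfN hfq using hmem
  let G' : Submodule R P := Submodule.span R (f '' (t : Set Q))
  have hG'N : G' ≤ N := Submodule.span_le.mpr (by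
    rintro _ ⟨q, hq, rfl⟩
    exact hfN q hq)
  have hG'fg : G'.FG := Submodule.fg_span ((Finset.finite_toSet t).image f)
  have hmap : G'.map Ψ = N.map Ψ := by
    rw [Submodule.map_span, ← ht]
    congr 1
    ext q
    constructor
    · rintro ⟨_, ⟨q', hq', rfl⟩, rfl⟩
      rw [hfq q' hq']
      exact hq'
    · intro hq
      exact ⟨f q, ⟨q, hq, rfl⟩, hfq q hq⟩
  have hle : N ≤ (N ⊓ LinearMap.ker Ψ) ⊔ G' := by
    intro n hn
    have : Ψ n ∈ G'.map Ψ := hmap ▸ Submodule.mem_map_of_mem hn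
    obtain ⟨g, hg, hgn⟩ := this
    have : n = (n - g) + g := by abel
    rw [this]
    refine Submodule.add_mem_sup ⟨N.sub_mem hn (hG'N hg), ?_⟩ hg
    show Ψ (n - g) = 0
    rw [map_sub, hgn, sub_self]
  refine ⟨G ⊔ G', hG.sup hG'fg, ?_⟩
  refine top_le_iff.mp (hNG.ge.trans ?_)
  refine sup_le (sup_le ?_ ?_) ?_
  · refine hle.trans ?_
    refine sup_le (le_sup_left.trans le_sup_left) ?_
    exact (le_sup_right (a := G)).trans (le_sup_right.trans le_sup_left)
  · exact (le_sup_left (b := G')).trans (le_sup_right.trans le_sup_left)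
  · exact le_sup_right

theorem BigSub.not_le_smul_top {J : Ideal R} (hP : Big J P) {N : Submodule R P}
    (hN : BigSub J N) (m : Ideal R) (hm : m.IsMaximal) (hJm : J ≤ m) :
    ¬ N ≤ (m • ⊤ : Submodule R P) := by
  intro hle
  obtain ⟨G, hG, hNG⟩ := hN
  refine hP m hm hJm G hG ?_
  refine top_le_iff.mp (hNG.ge.trans ?_)
  refine sup_le (sup_le (hle.trans le_sup_right) le_sup_left) ?_
  exact (Submodule.smul_mono_left hJm).trans le_sup_right

/-- the core Noetherian induction. -/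
theorem exists_add_mem_coordIdeal_sup_eq_top (J : Ideal R) [IsNoetherianRing (R ⧸ J)]
    (s : P →ₗ[R] (ι →₀ R)) (π : (ι →₀ R) →ₗ[R] P) (hπs : π ∘ₗ s = LinearMap.id)
    (hP : Big J P) (Ibar : Ideal (R ⧸ J)) :
    ∀ (N : Submodule R P), BigSub J N → ∀ x : P,
      ∃ n ∈ N, (coordIdeal s (x + n)).map (Ideal.Quotient.mk J) ⊔ Ibar = ⊤ := by
  classical
  refine IsNoetherian.induction (P := fun Ibar : Ideal (R ⧸ J) =>
    ∀ (N : Submodule R P), BigSub J N → ∀ x : P,
      ∃ n ∈ N, (coordIdeal s (x + n)).map (Ideal.Quotient.mk J) ⊔ Ibar = ⊤) ?_ Ibar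
  intro I ih N hN x
  by_cases hI : I = ⊤
  · exact ⟨0, N.zero_mem, by rw [hI, sup_top_eq]⟩
  obtain ⟨mbar, hmbar, hIm⟩ := Ideal.exists_le_maximal I hI
  have hm : (mbar.comap (Ideal.Quotient.mk J)).IsMaximal :=
    Ideal.comap_isMaximal_of_surjective _ Ideal.Quotient.mk_surjective
  have hJm : J ≤ mbar.comap (Ideal.Quotient.mk J) := by
    intro j hj
    rw [Ideal.mem_comap, Ideal.Quotient.eq_zero_iff_mem.mpr hj]
    exact mbar.zero_mem
  -- first step: make the coordinate ideal leave `I`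
  have h1 : ∃ n₁ ∈ N, ¬ (coordIdeal s (x + n₁)).map (Ideal.Quotient.mk J) ≤ I := by
    by_cases h : (coordIdeal s x).map (Ideal.Quotient.mk J) ≤ I
    · obtain ⟨n₁, hn₁N, hn₁⟩ := Set.not_subset.mp (hN.not_le_smul_top hP _ hm hJm)
      refine ⟨n₁, hn₁N, fun hle => hn₁ ?_⟩
      apply mem_smul_top_of_coord_mem s π hπs _ n₁
      intro k
      rw [Ideal.mem_comap]
      have e : s n₁ k = s (x + n₁) k - s x k := by
        rw [map_add, Finsupp.add_apply]; ring
      rw [e, map_sub]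
      exact mbar.sub_mem
        (hIm (hle (Ideal.mem_map_of_mem _ (coord_mem_coordIdeal s _ k))))
        (hIm (h (Ideal.mem_map_of_mem _ (coord_mem_coordIdeal s _ k))))
    · exact ⟨0, N.zero_mem, by rwa [add_zero]⟩
  obtain ⟨n₁, hn₁N, hn₁⟩ := h1
  have hlt : I < I ⊔ (coordIdeal s (x + n₁)).map (Ideal.Quotient.mk J) := left_lt_sup.mpr hn₁
  let T := (s (x + n₁)).support
  let Ψ : P →ₗ[R] (T → R ⧸ J) :=
    LinearMap.pi fun k => (Ideal.Quotient.mkₐ R J).toLinearMap ∘ₗ (Finsupp.lapply (k : ι)) ∘ₗ s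
  haveI : IsNoetherian R (T → R ⧸ J) := isNoetherian_of_quotient J _
  obtain ⟨n', hn'N, hn'⟩ := ih _ hlt (N ⊓ LinearMap.ker Ψ) (hN.inf_ker Ψ) (x + n₁)
  refine ⟨n₁ + n', N.add_mem hn₁N hn'N.1, ?_⟩
  rw [← add_assoc]
  have key : (coordIdeal s (x + n₁)).map (Ideal.Quotient.mk J) ≤
      (coordIdeal s (x + n₁ + n')).map (Ideal.Quotient.mk J) := by
    rw [Ideal.map_le_iff_le_comap, coordIdeal, Ideal.span_le]
    rintro _ ⟨k, rfl⟩
    show Ideal.Quotient.mk J (s (x + n₁) k) ∈
      (coordIdeal s (x + n₁ + n')).map (Ideal.Quotient.mk J)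
    by_cases hk : k ∈ T
    · have h0 : Ideal.Quotient.mk J (s n' k) = 0 := by
        have := congrFun (LinearMap.mem_ker.mp hn'N.2) ⟨k, hk⟩
        exact this
      have e : s (x + n₁) k = s (x + n₁ + n') k - s n' k := by
        rw [map_add s (x + n₁) n', Finsupp.add_apply]; ring
      rw [e, map_sub, h0, sub_zero]
      exact Ideal.mem_map_of_mem _ (coord_mem_coordIdeal s _ k)
    · rw [Finsupp.notMem_support_iff.mp hk, map_zero]
      exact Ideal.zero_mem _
  refine top_le_iff.mp (hn'.ge.trans ?_)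
  refine sup_le le_sup_left (sup_le le_sup_right (key.trans le_sup_left))

/-- Bass: in a big projective module every coset of a submodule of finite corank (modulo `J`)
contains an element that is unimodular modulo `J`. -/
theorem exists_add_unimodular (J : Ideal R) [IsNoetherianRing (R ⧸ J)]
    (s : P →ₗ[R] (ι →₀ R)) (π : (ι →₀ R) →ₗ[R] P) (hπs : π ∘ₗ s = LinearMap.id)
    (hP : Big J P) (N : Submodule R P) (hN : BigSub J N) (x : P) :
    ∃ n ∈ N, ∃ c : ι → R, 1 - formOf s c (x + n) ∈ J := by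
  obtain ⟨n, hnN, hn⟩ := exists_add_mem_coordIdeal_sup_eq_top J s π hπs hP ⊥ N hN x
  rw [sup_bot_eq] at hn
  have h1 : (1 : R ⧸ J) ∈ (coordIdeal s (x + n)).map (Ideal.Quotient.mk J) := by
    rw [hn]; trivial
  obtain ⟨a, ha, ha1⟩ := (Ideal.mem_map_iff_of_surjective _ Ideal.Quotient.mk_surjective).mp h1
  obtain ⟨c, hc⟩ := exists_formOf_of_mem_coordIdeal s (x + n) ha
  refine ⟨n, hnN, c, ?_⟩
  rw [hc]
  rw [← map_one (Ideal.Quotient.mk J)] at ha1
  exact Ideal.Quotient.eq.mp ha1.symm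

end Groth.Agent.Lib.Helper54.Bass
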