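import Groth.Agent.Lib.Helper54.BassLocal

/-!
# Endomorphisms congruent to the identity modulo the maximal ideal act injectively on fibres of
projective modules over a local ring
-/

set_option autoImplicit false
set_option maxHeartbeats 400000

namespace Groth.Agent.Lib.Helper54.Bass

open Submodule TensorProduct

section coord

variable {R : Type*} [CommRing R] {P : Type*} [AddCommGroup P] [Module R P] {ι : Type*}

theorem coordIdeal_fg (s : P →ₗ[R] (ι →₀ R)) (x : P) : (coordIdeal s x).FG := by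
  classical
  refine ⟨(s x).support.image (s x), ?_⟩
  apply le_antisymm
  · refine Submodule.span_le.mpr ?_
    intro a ha
    rw [Finset.coe_image] at ha
    obtain ⟨k, _, rfl⟩ := ha
    exact coord_mem_coordIdeal s x k
  · refine Ideal.span_le.mpr ?_
    rintro _ ⟨k, rfl⟩
    by_cases hk : k ∈ (s x).support
    · exact Submodule.subset_span (Finset.mem_coe.mpr (Finset.mem_image_of_mem _ hk))
    · rw [Finsupp.notMem_support_iff.mp hk]
      exact Submodule.zero_mem _

/-- If `H` maps `P` into `I P` then the coordinates of `H x` lie in `I • coordIdeal x`. -/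
theorem coord_map_mem_smul (s : P →ₗ[R] (ι →₀ R)) (π : (ι →₀ R) →ₗ[R] P)
    (hπs : π ∘ₗ s = LinearMap.id) (I : Ideal R) (H : P →ₗ[R] P)
    (hH : ∀ y, H y ∈ (I • ⊤ : Submodule R P)) (x : P) (i : ι) :
    s (H x) i ∈ I • coordIdeal s x := by
  have hx := eq_sum_coord s π hπs x
  have h2 : s (H x) i = (s x).sum fun k a => a * s (H (π (Finsupp.single k 1))) i := by
    conv_lhs => rw [hx]
    rw [map_finsuppSum, map_finsuppSum, Finsupp.sum_apply]
    refine Finsupp.sum_congr fun k _ => ?_
    rw [map_smul, map_smul, Finsupp.smul_apply, smul_eq_mul]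
  rw [h2]
  refine Submodule.sum_mem _ fun k _ => ?_
  show (s x) k * (s (H (π (Finsupp.single k 1)))) i ∈ I • coordIdeal s x
  rw [mul_comm]
  exact Submodule.smul_mem_smul (coord_mem_of_mem_smul_top s I (hH _) i)
    (coord_mem_coordIdeal s x k)

/-- Let `G` be an endomorphism of a projective module congruent to the identity modulo `I`
(`I` in the Jacobson radical). If all coordinates of `G x` lie in an ideal `p`, so do those of
`x`. -/
theorem coord_mem_of_coord_map_mem (s : P →ₗ[R] (ι →₀ R)) (π : (ι →₀ R) →ₗ[R] P)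
    (hπs : π ∘ₗ s = LinearMap.id) (I : Ideal R) (hI : I ≤ Ideal.jacobson ⊥) (G : P →ₗ[R] P)
    (hG : ∀ y, y - G y ∈ (I • ⊤ : Submodule R P)) (p : Ideal R) (x : P)
    (h : ∀ i, s (G x) i ∈ p) (i : ι) : s x i ∈ p := by
  have hle : coordIdeal s x ≤ p ⊔ I • coordIdeal s x := by
    refine Ideal.span_le.mpr ?_
    rintro _ ⟨k, rfl⟩
    have e : s x k = s (G x) k + s ((LinearMap.id - G : P →ₗ[R] P) x) k := by
      simp only [LinearMap.sub_apply, LinearMap.id_apply, map_sub, Finsupp.sub_apply]
      ring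
    show s x k ∈ p ⊔ I • coordIdeal s x
    rw [e]
    exact Submodule.add_mem_sup (h k)
      (coord_map_mem_smul s π hπs I (LinearMap.id - G : P →ₗ[R] P) (fun y => hG y) x k)
  have := Submodule.le_of_le_smul_of_le_jacobson_bot (coordIdeal_fg s x) hI hle
  exact this (coord_mem_coordIdeal s x i)

end coord

section fibre

universe u

variable {R : Type u} [CommRing R] (N : Type u) [AddCommGroup N] [Module R N]
  (p : Ideal R) [p.IsPrime]

/-- clearing denominators in `N ⊗ κ(p)`. -/
theorem exists_smul_eq_tmul_one (x : N ⊗[R] p.ResidueField) :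
    ∃ r : R, r ∉ p ∧ ∃ n : N, r • x = n ⊗ₜ[R] (1 : p.ResidueField) := by
  induction x using TensorProduct.induction_on with
  | zero => exact ⟨1, fun h => (Ideal.IsPrime.ne_top inferInstance) ((Ideal.eq_top_iff_one p).mpr h),
      0, by simp⟩
  | tmul n c =>
    obtain ⟨⟨abar, bbar⟩, hab⟩ := IsLocalization.surj (nonZeroDivisors (R ⧸ p)) c
    obtain ⟨a, rfl⟩ := Ideal.Quotient.mk_surjective abar
    obtain ⟨b, hb⟩ := Ideal.Quotient.mk_surjective bbar.1
    have hbp : b ∉ p := by
      intro hbp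
      have h0 : (bbar : R ⧸ p) = 0 := by
        rw [← hb]; exact Ideal.Quotient.eq_zero_iff_mem.mpr hbp
      exact nonZeroDivisors.coe_ne_zero bbar h0
    refine ⟨b, hbp, a • n, ?_⟩
    rw [← TensorProduct.tmul_smul, TensorProduct.smul_tmul]
    congr 1
    rw [Algebra.smul_def, Algebra.smul_def, mul_one,
      IsScalarTower.algebraMap_apply R (R ⧸ p) p.ResidueField,
      IsScalarTower.algebraMap_apply R (R ⧸ p) p.ResidueField a, Ideal.Quotient.algebraMap_eq,
      hb, mul_comm]
    exact hab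
  | add x y hx hy =>
    obtain ⟨r₁, hr₁, n₁, h₁⟩ := hx
    obtain ⟨r₂, hr₂, n₂, h₂⟩ := hy
    refine ⟨r₁ * r₂, fun h => (Ideal.IsPrime.mem_or_mem inferInstance h).elim hr₁ hr₂,
      r₂ • n₁ + r₁ • n₂, ?_⟩
    rw [smul_add, TensorProduct.add_tmul, mul_comm r₁ r₂, mul_smul, h₁, mul_comm r₂ r₁, mul_smul,
      h₂, TensorProduct.smul_tmul', TensorProduct.smul_tmul']

theorem eq_zero_of_smul_eq_zero_residueField (r : R) (hr : r ∉ p) (x : N ⊗[R] p.ResidueField)
    (h : r • x = 0) : x = 0 := by
  have hu : algebraMap R p.ResidueField r ≠ 0 := fun h0 =>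
    hr (Ideal.algebraMap_residueField_eq_zero.mp h0)
  let ρ : N ⊗[R] p.ResidueField →ₗ[R] N ⊗[R] p.ResidueField :=
    LinearMap.lTensor N (LinearMap.mulLeft R (algebraMap R p.ResidueField r)⁻¹)
  have hρ : ∀ y, ρ (r • y) = y := by
    intro y
    induction y using TensorProduct.induction_on with
    | zero => simp
    | tmul n c =>
      rw [← TensorProduct.tmul_smul]
      simp only [ρ, LinearMap.lTensor_tmul, LinearMap.mulLeft_apply, Algebra.smul_def]
      rw [← mul_assoc, inv_mul_cancel₀ hu, one_mul]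
    | add a b ha hb => rw [smul_add, map_add, ha, hb]
  rw [← hρ x, h, map_zero]

theorem tmul_one_eq_zero_of_mem_smul_top {n : N} (hn : n ∈ (p • ⊤ : Submodule R N)) :
    n ⊗ₜ[R] (1 : p.ResidueField) = 0 := by
  refine Submodule.smul_induction_on (p := fun n => n ⊗ₜ[R] (1 : p.ResidueField) = 0) hn ?_ ?_
  · intro a ha z _
    rw [TensorProduct.smul_tmul, Algebra.smul_def, mul_one,
      Ideal.algebraMap_residueField_eq_zero.mpr ha, TensorProduct.tmul_zero]
  · intro y z hy hz
    rw [TensorProduct.add_tmul, hy, hz, add_zero]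

theorem coord_mem_of_tmul_one_eq_zero {ι : Type*} (s : N →ₗ[R] (ι →₀ R)) {n : N}
    (hn : n ⊗ₜ[R] (1 : p.ResidueField) = 0) (i : ι) : s n i ∈ p := by
  let γ : N ⊗[R] p.ResidueField →ₗ[R] p.ResidueField :=
    (TensorProduct.lid R p.ResidueField).toLinearMap ∘ₗ
      LinearMap.rTensor p.ResidueField ((Finsupp.lapply i) ∘ₗ s)
  have h1 : γ (n ⊗ₜ[R] (1 : p.ResidueField)) = algebraMap R p.ResidueField (s n i) := by
    simp [γ, Algebra.algebraMap_eq_smul_one]
  rw [hn, map_zero] at h1
  exact Ideal.algebraMap_residueField_eq_zero.mp h1.symm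

end fibre

end Groth.Agent.Lib.Helper54.Bass
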