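import Groth.Agent.Lib.Helper54.BassSummand

/-!
# Bass: countably generated big projective modules are free
-/

set_option autoImplicit false
set_option maxHeartbeats 400000

namespace Groth.Agent.Lib.Helper54.Bass

open Submodule

variable {R : Type*} [CommRing R] {P : Type*} [AddCommGroup P] [Module R P]

/-- bigness passes to a submodule of finite corank. -/
theorem Big.of_range_sup_fg {J : Ideal R} {A B : Type*} [AddCommGroup A] [Module R A]
    [AddCommGroup B] [Module R B] (i : B →ₗ[R] A) (F : Submodule R A) (hF : F.FG)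
    (h : LinearMap.range i ⊔ F = ⊤) (hA : Big J A) : Big J B := by
  intro m hm hJm G hG hGm
  refine hA m hm hJm (G.map i ⊔ F) ((hG.map i).sup hF) ?_
  refine top_le_iff.mp (h.ge.trans (sup_le ?_ ?_))
  · rw [LinearMap.range_eq_map, ← hGm, Submodule.map_sup, Submodule.map_smul'']
    refine sup_le ?_ ?_
    · exact fun z hz => Submodule.mem_sup_left (Submodule.mem_sup_left hz)
    · have h2 : (m • Submodule.map i ⊤ : Submodule R A) ≤ m • ⊤ :=
        Submodule.smul_mono le_rfl le_top
      exact fun z hz => Submodule.mem_sup_right (h2 hz)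
  · exact fun z hz => Submodule.mem_sup_left (Submodule.mem_sup_right hz)

theorem Big.top {J : Ideal R} (hP : Big J P) : Big J (⊤ : Submodule R P) :=
  Big.of_range_sup_fg (⊤ : Submodule R P).subtype ⊥ Submodule.fg_bot
    (by rw [Submodule.range_subtype, sup_bot_eq]) hP

/-- splitting a finite free summand containing `y` off a big direct summand `C`. -/
theorem exists_summand_step [IsNoetherianRing (R ⧸ Ideal.jacobson (⊥ : Ideal R))]
    [Module.Projective R P] (L C : Submodule R P) (hLC : IsCompl L C)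
    (hC : Big (Ideal.jacobson (⊥ : Ideal R)) C) (y : P) (hy : y ∈ C) :
    ∃ K C' : Submodule R P, K ≤ C ∧ C' ≤ C ∧ Disjoint K C' ∧ K ⊔ C' = C ∧
      Module.Free R K ∧ y ∈ K ∧ Big (Ideal.jacobson (⊥ : Ideal R)) C' := by
  haveI : Module.Projective R C :=
    Module.Projective.of_split C.subtype (Submodule.linearProjOfIsCompl C L hLC.symm)
      (Submodule.linearProjOfIsCompl_comp_subtype _)
  obtain ⟨K₀, K₀', hcompl, hfin, hfree, hyK⟩ := exists_finite_free_summand hC ⟨y, hy⟩
  have hinj : Function.Injective C.subtype := Submodule.subtype_injective C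
  refine ⟨K₀.map C.subtype, K₀'.map C.subtype, Submodule.map_subtype_le _ _,
    Submodule.map_subtype_le _ _, ?_, ?_, ?_, ⟨⟨y, hy⟩, hyK, rfl⟩, ?_⟩
  · rw [Submodule.disjoint_def]
    rintro _ ⟨a, ha, rfl⟩ ⟨b, hb, hab⟩
    have : b = a := hinj hab
    subst this
    have h0 : b ∈ K₀ ⊓ K₀' := ⟨ha, hb⟩
    rw [hcompl.inf_eq_bot, Submodule.mem_bot] at h0
    rw [h0, map_zero]
  · rw [← Submodule.map_sup, hcompl.sup_eq_top, Submodule.map_top, Submodule.range_subtype]
  · exact Module.Free.of_equiv (Submodule.equivMapOfInjective C.subtype hinj K₀)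
  · have hle : K₀'.map C.subtype ≤ C := Submodule.map_subtype_le _ _
    refine Big.of_range_sup_fg (Submodule.inclusion hle) K₀ (Module.Finite.iff_fg.mp hfin) ?_ hC
    rw [eq_top_iff]
    intro z _
    have hz : z ∈ K₀ ⊔ K₀' := hcompl.sup_eq_top ▸ Submodule.mem_top
    obtain ⟨a, ha, b, hb, rfl⟩ := Submodule.mem_sup.mp hz
    rw [add_comm]
    refine Submodule.add_mem_sup ?_ ha
    exact ⟨⟨(b : P), Submodule.mem_map_of_mem hb⟩, Subtype.ext rfl⟩

/-- one step of the Kaplansky-type recursion. -/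
theorem exists_state_step [IsNoetherianRing (R ⧸ Ideal.jacobson (⊥ : Ideal R))]
    [Module.Projective R P]
    (st : {LC : Submodule R P × Submodule R P //
      IsCompl LC.1 LC.2 ∧ Big (Ideal.jacobson (⊥ : Ideal R)) LC.2}) (x : P) :
    ∃ (K : Submodule R P) (st' : {LC : Submodule R P × Submodule R P //
        IsCompl LC.1 LC.2 ∧ Big (Ideal.jacobson (⊥ : Ideal R)) LC.2}),
      K ≤ st.1.2 ∧ Module.Free R K ∧ st'.1.1 = st.1.1 ⊔ K ∧ st'.1.2 ≤ st.1.2 ∧ x ∈ st'.1.1 := by
  obtain ⟨⟨L, C⟩, hLC, hC⟩ := st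
  have hx : x ∈ L ⊔ C := hLC.sup_eq_top ▸ Submodule.mem_top
  obtain ⟨l, hl, y, hy, rfl⟩ := Submodule.mem_sup.mp hx
  obtain ⟨K, C', hKC, hC'C, hdisj, hsup, hfree, hyK, hbig⟩ := exists_summand_step L C hLC hC y hy
  refine ⟨K, ⟨(L ⊔ K, C'), ⟨?_, ?_⟩, hbig⟩, hKC, hfree, rfl, hC'C,
    Submodule.add_mem_sup hl hyK⟩
  · rw [Submodule.disjoint_def]
    intro z hz hzC'
    obtain ⟨l', hl', k, hk, rfl⟩ := Submodule.mem_sup.mp hz
    have hl'C : l' ∈ C := by
      have : l' = (l' + k) - k := by abel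
      rw [this]
      exact C.sub_mem (hC'C hzC') (hKC hk)
    have hl'0 : l' = 0 := by
      have : l' ∈ L ⊓ C := ⟨hl', hl'C⟩
      rwa [hLC.inf_eq_bot, Submodule.mem_bot] at this
    rw [hl'0, zero_add] at hzC' ⊢
    have : k ∈ K ⊓ C' := ⟨hk, hzC'⟩
    rwa [hdisj.eq_bot, Submodule.mem_bot] at this
  · rw [codisjoint_iff, sup_assoc, hsup, hLC.sup_eq_top]

/-- Bass: a big projective module generated by a sequence is free. -/
theorem free_of_big_of_seq [IsNoetherianRing (R ⧸ Ideal.jacobson (⊥ : Ideal R))]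
    [Module.Projective R P] (hP : Big (Ideal.jacobson (⊥ : Ideal R)) P)
    (x : ℕ → P) (hx : Submodule.span R (Set.range x) = ⊤) : Module.Free R P := by
  classical
  choose Kf stf h1 h2 h3 h4 h5 using exists_state_step (R := R) (P := P)
  let st0 : {LC : Submodule R P × Submodule R P //
      IsCompl LC.1 LC.2 ∧ Big (Ideal.jacobson (⊥ : Ideal R)) LC.2} :=
    ⟨(⊥, ⊤), isCompl_bot_top, hP.top⟩
  let seq : ℕ → {LC : Submodule R P × Submodule R P //
      IsCompl LC.1 LC.2 ∧ Big (Ideal.jacobson (⊥ : Ideal R)) LC.2} := fun n =>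
    Nat.rec st0 (fun n st => stf st (x n)) n
  let K : ℕ → Submodule R P := fun n => Kf (seq n) (x n)
  let L : ℕ → Submodule R P := fun n => (seq n).1.1
  let C : ℕ → Submodule R P := fun n => (seq n).1.2
  have hL0 : L 0 = ⊥ := rfl
  have hLs : ∀ n, L (n + 1) = L n ⊔ K n := fun n => h3 (seq n) (x n)
  have hCs : ∀ n, C (n + 1) ≤ C n := fun n => h4 (seq n) (x n)
  have hKC : ∀ n, K n ≤ C n := fun n => h1 (seq n) (x n)
  have hxL : ∀ n, x n ∈ L (n + 1) := fun n => h5 (seq n) (x n)
  have hcompl : ∀ n, IsCompl (L n) (C n) := fun n => (seq n).2.1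
  have hfree : ∀ n, Module.Free R (K n) := fun n => h2 (seq n) (x n)
  have hKL : ∀ n i, i < n → K i ≤ L n := by
    intro n
    induction n with
    | zero => intro i hi; exact absurd hi (Nat.not_lt_zero i)
    | succ n ih =>
      intro i hi
      rw [hLs n]
      rcases Nat.lt_succ_iff_lt_or_eq.mp hi with h | rfl
      · exact (ih i h).trans le_sup_left
      · exact le_sup_right
  have hLK : ∀ n, L n ≤ ⨆ i, K i := by
    intro n
    induction n with
    | zero => rw [hL0]; exact bot_le
    | succ n ih =>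
      rw [hLs n]
      exact sup_le ih (le_iSup K n)
  have hCanti : ∀ n m, n ≤ m → C m ≤ C n := by
    intro n m hnm
    induction m, hnm using Nat.le_induction with
    | base => exact le_rfl
    | succ m _ ih => exact (hCs m).trans ih
  have hsup : iSup K = ⊤ := by
    rw [eq_top_iff, ← hx]
    refine Submodule.span_le.mpr ?_
    rintro _ ⟨n, rfl⟩
    exact hLK (n + 1) (hxL n)
  have hind : iSupIndep K := by
    rw [iSupIndep_def]
    intro n
    have hle : (⨆ (j) (_ : j ≠ n), K j) ≤ L n ⊔ C (n + 1) := by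
      refine iSup_le fun j => iSup_le fun hj => ?_
      rcases lt_or_gt_of_ne hj with h | h
      · exact (hKL n j h).trans le_sup_left
      · exact ((hKC j).trans (hCanti (n + 1) j h)).trans le_sup_right
    refine Disjoint.mono_right hle ?_
    rw [Submodule.disjoint_def]
    intro z hzK hz
    obtain ⟨l, hl, c, hc, rfl⟩ := Submodule.mem_sup.mp hz
    have hcL : c ∈ L (n + 1) := by
      rw [hLs n]
      have : c = (l + c) - l := by abel
      rw [this]
      exact Submodule.sub_mem _ (Submodule.mem_sup_right hzK) (Submodule.mem_sup_left hl)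
    have hc0 : c = 0 := by
      have : c ∈ L (n + 1) ⊓ C (n + 1) := ⟨hcL, hc⟩
      rwa [(hcompl (n + 1)).inf_eq_bot, Submodule.mem_bot] at this
    rw [hc0, add_zero] at hzK ⊢
    have : l ∈ L n ⊓ C n := ⟨hl, hKC n hzK⟩
    rwa [(hcompl n).inf_eq_bot, Submodule.mem_bot] at this
  have hint : DirectSum.IsInternal K :=
    DirectSum.isInternal_submodule_of_iSupIndep_of_iSup_eq_top hind hsup
  exact Module.Free.of_equiv (LinearEquiv.ofBijective (DirectSum.coeLinearMap K) hint)

end Groth.Agent.Lib.Helper54.Bass
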