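import Groth.Agent.Lib.Helper54.BassCore

/-!
# Bass: projective modules over a local ring with finitely generated fibre are finite
-/

set_option autoImplicit false
set_option maxHeartbeats 400000

namespace Groth.Agent.Lib.Helper54.Bass

open Submodule

section general

variable {R : Type*} [CommRing R] {P : Type*} [AddCommGroup P] [Module R P] {ι : Type*}

theorem coord_mem_of_mem_smul_top (s : P →ₗ[R] (ι →₀ R)) (I : Ideal R) {y : P}
    (hy : y ∈ (I • ⊤ : Submodule R P)) (i : ι) : s y i ∈ I := by
  refine Submodule.smul_induction_on (p := fun y => s y i ∈ I) hy ?_ ?_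
  · intro a ha z _
    rw [map_smul, Finsupp.smul_apply, smul_eq_mul]
    exact I.mul_mem_right _ ha
  · intro y z hy hz
    rw [map_add, Finsupp.add_apply]
    exact I.add_mem hy hz

/-- Bass: a projective module `P` with `P = I P`, `I` inside the Jacobson radical, is zero. -/
theorem eq_zero_of_smul_top_eq_top (s : P →ₗ[R] (ι →₀ R)) (π : (ι →₀ R) →ₗ[R] P)
    (hπs : π ∘ₗ s = LinearMap.id) (I : Ideal R) (hI : I ≤ Ideal.jacobson ⊥)
    (h : (I • ⊤ : Submodule R P) = ⊤) (x : P) : x = 0 := by
  classical
  have hfg : (coordIdeal s x).FG := by
    refine ⟨(s x).support.image (s x), ?_⟩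
    apply le_antisymm
    · refine Submodule.span_le.mpr ?_
      intro a ha
      rw [Finset.coe_image] at ha
      obtain ⟨k, _, rfl⟩ := ha
      exact coord_mem_coordIdeal s x k
    · refine Ideal.span_le.mpr ?_
      rintro _ ⟨k, rfl⟩
      by_cases hk : k ∈ (s x).support
      · exact Submodule.subset_span (Finset.mem_coe.mpr (Finset.mem_image_of_mem _ hk))
      · rw [Finsupp.notMem_support_iff.mp hk]
        exact Submodule.zero_mem _
  have hle : coordIdeal s x ≤ I • coordIdeal s x := by
    refine Ideal.span_le.mpr ?_
    rintro _ ⟨i, rfl⟩
    have hx := eq_sum_coord s π hπs x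
    have h2 : s x i = (s x).sum fun k a => a * s (π (Finsupp.single k 1)) i := by
      conv_lhs => rw [hx]
      rw [map_finsuppSum, Finsupp.sum_apply]
      refine Finsupp.sum_congr fun k _ => ?_
      rw [map_smul, Finsupp.smul_apply, smul_eq_mul]
    show s x i ∈ I • coordIdeal s x
    rw [h2]
    refine Submodule.sum_mem _ fun k _ => ?_
    show (s x) k * (s (π (Finsupp.single k 1))) i ∈ I • coordIdeal s x
    rw [mul_comm]
    exact Submodule.smul_mem_smul
      (coord_mem_of_mem_smul_top s I (h.ge Submodule.mem_top) i) (coord_mem_coordIdeal s x k)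
  have hbot : coordIdeal s x = ⊥ :=
    Submodule.eq_bot_of_le_smul_of_le_jacobson_bot I _ hfg hle hI
  have hs : s x = 0 := by
    ext k
    have : s x k ∈ coordIdeal s x := coord_mem_coordIdeal s x k
    rw [hbot] at this
    simpa using this
  have := LinearMap.congr_fun hπs x
  simp only [LinearMap.comp_apply, LinearMap.id_apply, hs, map_zero] at this
  exact this.symm

end general

section local_

variable {A : Type*} [CommRing A] [IsLocalRing A]

open IsLocalRing

/-- an element outside `𝔪 P` of a projective module over a local ring is unimodular. -/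
theorem exists_form_eq_one {P : Type*} [AddCommGroup P] [Module A P] [Module.Projective A P]
    {x : P} (hx : x ∉ (maximalIdeal A • ⊤ : Submodule A P)) : ∃ φ : P →ₗ[A] A, φ x = 1 := by
  obtain ⟨s, hs⟩ := (Module.projective_def' (R := A) (P := P)).mp inferInstance
  have h1 : ∃ k, s x k ∉ maximalIdeal A := by
    by_contra hcon
    push Not at hcon
    exact hx (mem_smul_top_of_coord_mem s _ hs _ x hcon)
  obtain ⟨k, hk⟩ := h1
  have hu : IsUnit (s x k) := by
    by_contra hnu
    exact hk ((mem_maximalIdeal _).mpr hnu)
  obtain ⟨u, hu⟩ := hu
  refine ⟨(↑u⁻¹ : A) • ((Finsupp.lapply k) ∘ₗ s), ?_⟩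
  simp only [LinearMap.smul_apply, LinearMap.comp_apply, Finsupp.lapply_apply, smul_eq_mul]
  rw [← hu, Units.inv_mul]

/-- Nakayama for projective modules over a local ring: if `P = G + 𝔪 P` with `G` generated by
`n` elements then `P` is finite. -/
theorem finite_of_span_sup_smul_top (n : ℕ) : ∀ (P : Type*) [AddCommGroup P] [Module A P]
    [Module.Projective A P] (g : Fin n → P),
    Submodule.span A (Set.range g) ⊔ maximalIdeal A • ⊤ = ⊤ → Module.Finite A P := by
  induction n with
  | zero =>
    intro P _ _ _ g hg
    have h1 : (maximalIdeal A • ⊤ : Submodule A P) = ⊤ := by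
      have : Set.range g = ∅ := Set.range_eq_empty g
      rw [this, Submodule.span_empty, bot_sup_eq] at hg
      exact hg
    obtain ⟨s, hs⟩ := (Module.projective_def' (R := A) (P := P)).mp inferInstance
    have h0 : ∀ x : P, x = 0 :=
      eq_zero_of_smul_top_eq_top s _ hs _ (maximalIdeal_le_jacobson ⊥) h1
    haveI : Subsingleton P := ⟨fun a b => by rw [h0 a, h0 b]⟩
    infer_instance
  | succ n ih =>
    intro P _ _ _ g hg
    by_cases h0 : g 0 ∈ (maximalIdeal A • ⊤ : Submodule A P)
    · apply ih P (fun i => g i.succ)
      have hle : Submodule.span A (Set.range g) ≤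
          Submodule.span A (Set.range fun i : Fin n => g i.succ) ⊔
            (maximalIdeal A • ⊤ : Submodule A P) := by
        refine Submodule.span_le.mpr ?_
        rintro _ ⟨i, rfl⟩
        refine Fin.cases ?_ (fun j => ?_) i
        · exact Submodule.mem_sup_right h0
        · exact Submodule.mem_sup_left (Submodule.subset_span ⟨j, rfl⟩)
      exact top_le_iff.mp (hg.ge.trans (sup_le hle le_sup_right))
    · obtain ⟨φ, hφ⟩ := exists_form_eq_one h0
      let pr : P →ₗ[A] LinearMap.ker φ :=
        (LinearMap.id - (LinearMap.toSpanSingleton A P (g 0)) ∘ₗ φ).codRestrict (LinearMap.ker φ)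
          (by
            intro x
            rw [LinearMap.mem_ker]
            simp [hφ])
      have hprval : ∀ x : P, ((pr x : LinearMap.ker φ) : P) = x - φ x • g 0 := by
        intro x
        simp [pr]
      have hpr : pr ∘ₗ (LinearMap.ker φ).subtype = LinearMap.id := by
        ext y
        simp only [LinearMap.comp_apply, Submodule.subtype_apply, LinearMap.id_apply]
        rw [hprval, LinearMap.mem_ker.mp y.2, zero_smul, sub_zero]
      haveI : Module.Projective A (LinearMap.ker φ) :=
        Module.Projective.of_split (LinearMap.ker φ).subtype pr hpr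
      have hprsurj : Function.Surjective pr := fun y => ⟨y, LinearMap.congr_fun hpr y⟩
      have hfin : Module.Finite A (LinearMap.ker φ) := by
        apply ih (LinearMap.ker φ) (fun i => pr (g i.succ))
        have h1 : Submodule.map pr ⊤ = ⊤ := by
          rw [Submodule.map_top, LinearMap.range_eq_top.mpr hprsurj]
        have h3 : Submodule.map pr (Submodule.span A (Set.range g) ⊔
            (maximalIdeal A • ⊤ : Submodule A P)) ≤
            Submodule.span A (Set.range fun i : Fin n => pr (g i.succ)) ⊔
              (maximalIdeal A • ⊤ : Submodule A (LinearMap.ker φ)) := by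
          rw [Submodule.map_sup, Submodule.map_span, Submodule.map_smul'']
          refine sup_le (Submodule.span_le.mpr ?_) ?_
          · rintro _ ⟨_, ⟨i, rfl⟩, rfl⟩
            refine Fin.cases ?_ (fun j => ?_) i
            · have : pr (g 0) = 0 := by
                apply Subtype.ext
                rw [hprval, hφ, one_smul, sub_self]
                rfl
              rw [this]
              exact Submodule.zero_mem _
            · exact Submodule.mem_sup_left (Submodule.subset_span ⟨j, rfl⟩)
          · have h2 : (maximalIdeal A • Submodule.map pr ⊤ : Submodule A (LinearMap.ker φ)) ≤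
                maximalIdeal A • ⊤ := Submodule.smul_mono le_rfl le_top
            exact fun y hy => Submodule.mem_sup_right (h2 hy)
        rw [hg, h1] at h3
        exact top_le_iff.mp h3
      let f : (A × LinearMap.ker φ) →ₗ[A] P :=
        (LinearMap.toSpanSingleton A P (g 0)).coprod (LinearMap.ker φ).subtype
      refine Module.Finite.of_surjective f ?_
      intro x
      refine ⟨(φ x, pr x), ?_⟩
      simp only [f, LinearMap.coprod_apply, LinearMap.toSpanSingleton_apply, Submodule.subtype_apply]
      rw [hprval]
      abel

end local_

section localization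

variable {R : Type*} [CommRing R]

/-- if localizations at all maximal ideals are not finitely generated, then `P` is big. -/
theorem big_of_not_finite_localization (P : Type*) [AddCommGroup P] [Module R P]
    [Module.Projective R P]
    (hP : ∀ (m : Ideal R) [m.IsMaximal],
      ¬ Module.Finite (Localization.AtPrime m) (LocalizedModule m.primeCompl P))
    (J : Ideal R) : Big J P := by
  intro m hm _ G hG hGm
  haveI := hm
  apply hP m
  obtain ⟨n, g, hg⟩ := Submodule.fg_iff_exists_fin_generating_family.mp hG
  let f := LocalizedModule.mkLinearMap m.primeCompl P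
  apply finite_of_span_sup_smul_top (A := Localization.AtPrime m) n
    (LocalizedModule m.primeCompl P) (fun i => f (g i))
  rw [eq_top_iff]
  intro y _
  induction y using LocalizedModule.induction_on with
  | h x t =>
    have hmk : LocalizedModule.mk x t = (Localization.mk 1 t : Localization.AtPrime m) • f x := by
      rw [LocalizedModule.mkLinearMap_apply, LocalizedModule.mk_smul_mk, one_smul, mul_one]
    rw [hmk]
    refine Submodule.smul_mem _ _ ?_
    have hx : x ∈ G ⊔ (m • ⊤ : Submodule R P) := hGm.ge Submodule.mem_top
    obtain ⟨a, ha, b, hb, rfl⟩ := Submodule.mem_sup.mp hx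
    rw [map_add]
    refine Submodule.add_mem_sup ?_ ?_
    · rw [← hg] at ha
      have h1 : Submodule.map f (Submodule.span R (Set.range g)) ≤
          (Submodule.span (Localization.AtPrime m) (Set.range fun i => f (g i))).restrictScalars R := by
        rw [Submodule.map_span]
        refine Submodule.span_le.mpr ?_
        rintro _ ⟨_, ⟨i, rfl⟩, rfl⟩
        exact Submodule.subset_span ⟨i, rfl⟩
      exact h1 (Submodule.mem_map_of_mem ha)
    · refine Submodule.smul_induction_on hb ?_ ?_
      · intro r hr z _
        rw [map_smul, ← algebraMap_smul (Localization.AtPrime m) r (f z)]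
        exact Submodule.smul_mem_smul
          ((IsLocalization.AtPrime.to_map_mem_maximal_iff (Localization.AtPrime m) m r).mpr hr)
          Submodule.mem_top
      · intro y z hy hz
        rw [map_add]
        exact Submodule.add_mem _ hy hz

end localization

end Groth.Agent.Lib.Helper54.Bass
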