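import Groth.Agent.Lib.Helper54.BassLocal

/-!
# Bass: unimodular elements and finite free summands in big projective modules
-/

set_option autoImplicit false
set_option maxHeartbeats 400000

namespace Groth.Agent.Lib.Helper54.Bass

open Submodule

variable {R : Type*} [CommRing R] {P : Type*} [AddCommGroup P] [Module R P] {ι : Type*}

theorem isUnit_of_one_sub_mem_jacobson {a : R} (h : 1 - a ∈ Ideal.jacobson (⊥ : Ideal R)) :
    IsUnit a := by
  have := Ideal.mem_jacobson_bot.mp h (-1)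
  have e : (1 - a) * -1 + 1 = a := by ring
  rwa [e] at this

/-- unimodular element in a coset, with the linear form an explicit combination of coordinates. -/
theorem exists_formOf_add_eq_one [IsNoetherianRing (R ⧸ Ideal.jacobson (⊥ : Ideal R))]
    (s : P →ₗ[R] (ι →₀ R)) (π : (ι →₀ R) →ₗ[R] P) (hπs : π ∘ₗ s = LinearMap.id)
    (hP : Big (Ideal.jacobson (⊥ : Ideal R)) P) (N : Submodule R P)
    (hN : BigSub (Ideal.jacobson (⊥ : Ideal R)) N) (x : P) :
    ∃ n ∈ N, ∃ c : ι → R, formOf s c (x + n) = 1 := by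
  obtain ⟨n, hnN, c, hc⟩ := exists_add_unimodular _ s π hπs hP N hN x
  obtain ⟨u, hu⟩ := isUnit_of_one_sub_mem_jacobson hc
  refine ⟨n, hnN, fun k => (↑u⁻¹ : R) * c k, ?_⟩
  have : formOf s (fun k => (↑u⁻¹ : R) * c k) = (↑u⁻¹ : R) • formOf s c := by
    ext y
    simp only [formOf_apply, LinearMap.smul_apply, smul_eq_mul, Finsupp.sum, Finset.mul_sum]
    exact Finset.sum_congr rfl fun k _ => by ring
  rw [this, LinearMap.smul_apply, ← hu, smul_eq_mul, Units.inv_mul]

theorem exists_form_add_eq_one [IsNoetherianRing (R ⧸ Ideal.jacobson (⊥ : Ideal R))]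
    [Module.Projective R P]
    (hP : Big (Ideal.jacobson (⊥ : Ideal R)) P) (N : Submodule R P)
    (hN : BigSub (Ideal.jacobson (⊥ : Ideal R)) N) (x : P) :
    ∃ n ∈ N, ∃ φ : P →ₗ[R] R, φ (x + n) = 1 := by
  obtain ⟨s, hs⟩ := (Module.projective_def' (R := R) (P := P)).mp inferInstance
  obtain ⟨n, hnN, c, hc⟩ := exists_formOf_add_eq_one s _ hs hP N hN x
  exact ⟨n, hnN, formOf s c, hc⟩

end Groth.Agent.Lib.Helper54.Bass
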