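import Groth.Agent.Lib.Helper54.BassMain

/-!
# Bass: every element of a big projective module lies in a finite free direct summand
-/

set_option autoImplicit false
set_option maxHeartbeats 400000

namespace Groth.Agent.Lib.Helper54.Bass

open Submodule

variable {R : Type*} [CommRing R] {P : Type*} [AddCommGroup P] [Module R P] {ι : Type*}

theorem formOf_add (s : P →ₗ[R] (ι →₀ R)) (c c' : ι → R) :
    formOf s (c + c') = formOf s c + formOf s c' := by
  ext y
  simp only [formOf_apply, LinearMap.add_apply, Pi.add_apply, Finsupp.sum, mul_add,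
    Finset.sum_add_distrib]

/-- the difference of two forms whose coefficients agree outside `T`, evaluated at an element
whose `T`-coordinates lie in `J`, lies in `J`. -/
theorem formOf_sub_mem (s : P →ₗ[R] (ι →₀ R)) (J : Ideal R) (T : Finset ι) (c c' : ι → R)
    (hcc : ∀ k, k ∉ T → c k = c' k) (y : P) (hy : ∀ k ∈ T, s y k ∈ J) :
    formOf s c y - formOf s c' y ∈ J := by
  rw [formOf_apply, formOf_apply, Finsupp.sum, Finsupp.sum, ← Finset.sum_sub_distrib]
  refine Ideal.sum_mem _ fun k _ => ?_
  by_cases hk : k ∈ T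
  · rw [← mul_sub]
    exact J.mul_mem_right _ (hy k hk)
  · rw [hcc k hk, sub_self]
    exact J.zero_mem

theorem exists_coeff_surjective_mod [IsNoetherianRing (R ⧸ Ideal.jacobson (⊥ : Ideal R))]
    (s : P →ₗ[R] (ι →₀ R)) (π : (ι →₀ R) →ₗ[R] P) (hπs : π ∘ₗ s = LinearMap.id)
    (hP : Big (Ideal.jacobson (⊥ : Ideal R)) P) (N : Submodule R P)
    (hN : BigSub (Ideal.jacobson (⊥ : Ideal R)) N) (T : Finset ι) (T' : Finset ι) :
    ∃ c : ι → ι → R, (∀ t k, k ∈ T → c t k = 0) ∧ ∀ v : ι → R, ∃ n ∈ N, ∀ t ∈ T',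
      s n t + formOf s (c t) n - v t ∈ Ideal.jacobson (⊥ : Ideal R) := by
  classical
  induction T' using Finset.induction_on with
  | empty =>
    exact ⟨fun _ _ => 0, fun _ _ _ => rfl, fun v => ⟨0, N.zero_mem, fun t ht => by simp at ht⟩⟩
  | insert t T'' ht ih =>
    obtain ⟨c'', h0, hsurj⟩ := ih
    set J := Ideal.jacobson (⊥ : Ideal R) with hJ
    let mkJ : R →ₗ[R] R ⧸ J := (Ideal.Quotient.mkₐ R J).toLinearMap
    let Ψ : P →ₗ[R] ((T'' → R ⧸ J) × (T → R ⧸ J) × (R ⧸ J)) :=
      (LinearMap.pi fun t'' : T'' =>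
        mkJ ∘ₗ ((Finsupp.lapply (t'' : ι)) ∘ₗ s + formOf s (c'' t''))).prod
      ((LinearMap.pi fun k : T => mkJ ∘ₗ (Finsupp.lapply (k : ι)) ∘ₗ s).prod
        (mkJ ∘ₗ (Finsupp.lapply t) ∘ₗ s))
    haveI : IsNoetherian R (T'' → R ⧸ J) := isNoetherian_of_quotient J _
    haveI : IsNoetherian R (T → R ⧸ J) := isNoetherian_of_quotient J _
    haveI : IsNoetherian R (R ⧸ J) := isNoetherian_of_quotient J _
    obtain ⟨y, hyN', c₁, hc₁⟩ := exists_formOf_add_eq_one s π hπs hP _ (hN.inf_ker Ψ) 0
    rw [zero_add] at hc₁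
    have hker : Ψ y = 0 := LinearMap.mem_ker.mp hyN'.2
    have hmk : ∀ a : R, mkJ a = 0 → a ∈ J := fun a ha => Ideal.Quotient.eq_zero_iff_mem.mp ha
    have ha : ∀ t'' ∈ T'', s y t'' + formOf s (c'' t'') y ∈ J := by
      intro t'' ht''
      apply hmk
      have := congrFun (congrArg Prod.fst hker) ⟨t'', ht''⟩
      exact this
    have hb : ∀ k ∈ T, s y k ∈ J := by
      intro k hk
      apply hmk
      have := congrFun (congrArg (fun z => z.2.1) hker) ⟨k, hk⟩
      exact this
    have hc : s y t ∈ J := by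
      apply hmk
      have := congrArg (fun z => z.2.2) hker
      exact this
    let cnew : ι → R := fun k => if k ∈ T then 0 else c₁ k
    have hχ : 1 - formOf s cnew y ∈ J := by
      rw [← hc₁]
      exact formOf_sub_mem s J T c₁ cnew (fun k hk => by simp [cnew, hk]) y hb
    refine ⟨Function.update c'' t cnew, ?_, ?_⟩
    · intro t' k hk
      by_cases htt : t' = t
      · subst htt
        simp [cnew, hk]
      · rw [Function.update_of_ne htt]
        exact h0 t' k hk
    · intro v
      obtain ⟨n, hnN, hn⟩ := hsurj v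
      let w : R := v t - (s n t + formOf s cnew n)
      refine ⟨n + w • y, N.add_mem hnN (N.smul_mem w hyN'.1), ?_⟩
      intro t' ht'
      rcases Finset.mem_insert.mp ht' with rfl | ht''
      · rw [Function.update_self]
        have e : s (n + w • y) t' + formOf s cnew (n + w • y) - v t' =
            w * s y t' - w * (1 - formOf s cnew y) := by
          simp only [map_add, map_smul, Finsupp.add_apply, Finsupp.smul_apply, smul_eq_mul, w]
          ring
        rw [e]
        exact J.sub_mem (J.mul_mem_left _ hc) (J.mul_mem_left _ hχ)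
      · have hne : t' ≠ t := fun h => ht (h ▸ ht'')
        rw [Function.update_of_ne hne]
        have e : s (n + w • y) t' + formOf s (c'' t') (n + w • y) - v t' =
            (s n t' + formOf s (c'' t') n - v t') + w * (s y t' + formOf s (c'' t') y) := by
          simp only [map_add, map_smul, Finsupp.add_apply, Finsupp.smul_apply, smul_eq_mul]
          ring
        rw [e]
        exact J.add_mem (hn t' ht'') (J.mul_mem_left _ (ha t' ht''))

theorem mem_smul_top_pi (J : Ideal R) {T : Type*} [Fintype T] [DecidableEq T] (w : T → R)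
    (hw : ∀ t, w t ∈ J) : w ∈ (J • ⊤ : Submodule R (T → R)) := by
  have : w = ∑ t, w t • (Pi.single t 1 : T → R) := by
    ext t'
    simp [Finset.sum_apply, Pi.single_apply]
  rw [this]
  exact Submodule.sum_mem _ fun t _ => Submodule.smul_mem_smul (hw t) Submodule.mem_top

/-- Bass: in a big projective module every element lies in a finite free direct summand. -/
theorem exists_finite_free_summand' [IsNoetherianRing (R ⧸ Ideal.jacobson (⊥ : Ideal R))]
    (s : P →ₗ[R] (ι →₀ R)) (π : (ι →₀ R) →ₗ[R] P) (hπs : π ∘ₗ s = LinearMap.id)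
    (hP : Big (Ideal.jacobson (⊥ : Ideal R)) P) (x : P) :
    ∃ K K' : Submodule R P, IsCompl K K' ∧ Module.Finite R K ∧ Module.Free R K ∧ x ∈ K := by
  classical
  set J := Ideal.jacobson (⊥ : Ideal R) with hJ
  let T := (s x).support
  have hNtop : BigSub J (⊤ : Submodule R P) := ⟨⊥, Submodule.fg_bot, by simp⟩
  obtain ⟨c, h0, hsurj⟩ := exists_coeff_surjective_mod s π hπs hP ⊤ hNtop T T
  let g' : P →ₗ[R] (T → R) :=
    LinearMap.pi fun t : T => (Finsupp.lapply (t : ι)) ∘ₗ s + formOf s (c t)
  have hg'apply : ∀ (p : P) (t : T), g' p t = s p t + formOf s (c t) p := fun p t => rfl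
  have hform0 : ∀ t : ι, formOf s (c t) x = 0 := by
    intro t
    rw [formOf_apply]
    refine Finset.sum_eq_zero fun k hk => ?_
    show s x k * c t k = 0
    rw [h0 t k hk, mul_zero]
  have hg'x : g' x = fun t : T => s x t := by
    ext t
    rw [hg'apply, hform0, add_zero]
  -- surjectivity by Nakayama
  have hsurj' : LinearMap.range g' = ⊤ := by
    refine top_le_iff.mp ?_
    refine Submodule.le_of_le_smul_of_le_jacobson_bot (I := J) Module.Finite.fg_top le_rfl ?_
    intro v _
    obtain ⟨n, -, hn⟩ := hsurj (fun k => if h : k ∈ T then v ⟨k, h⟩ else 0)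
    have e : v = g' n + (v - g' n) := by abel
    rw [e]
    refine Submodule.add_mem_sup (LinearMap.mem_range_self g' n) ?_
    apply mem_smul_top_pi
    intro t
    have := hn t t.2
    rw [dif_pos t.2] at this
    have e2 : (v - g' n) t = -(s n t + formOf s (c t) n - v t) := by
      rw [Pi.sub_apply, hg'apply]; ring
    rw [e2]
    exact J.neg_mem this
  obtain ⟨σ, hσ⟩ := Module.projective_lifting_property g' LinearMap.id
    (LinearMap.range_eq_top.mp hsurj')
  have hσ' : ∀ w, g' (σ w) = w := fun w => LinearMap.congr_fun hσ w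
  let β : (T → R) →ₗ[R] P := Fintype.linearCombination R fun t : T => π (Finsupp.single (t : ι) 1)
  have hβ : β (g' x) = x := by
    rw [hg'x]
    simp only [β, Fintype.linearCombination_apply]
    rw [Finset.sum_coe_sort T (fun k => s x k • π (Finsupp.single k 1))]
    exact (eq_sum_coord s π hπs x).symm
  let σ' : (T → R) →ₗ[R] P := σ + (LinearMap.id - σ ∘ₗ g') ∘ₗ β
  have hσ'apply : ∀ w, σ' w = σ w + (β w - σ (g' (β w))) := fun w => rfl
  have hgσ' : ∀ w, g' (σ' w) = w := by
    intro w
    rw [hσ'apply, map_add, map_sub, hσ', hσ', sub_self, add_zero]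
  have hσ'x : σ' (g' x) = x := by
    rw [hσ'apply, hβ]
    abel
  have hinj : Function.Injective σ' := fun a b hab => by
    rw [← hgσ' a, ← hgσ' b, hab]
  refine ⟨LinearMap.range σ', LinearMap.ker g', ?_, ?_, ?_, ⟨g' x, hσ'x⟩⟩
  · refine ⟨Submodule.disjoint_def.mpr ?_, codisjoint_iff.mpr (eq_top_iff.mpr ?_)⟩
    · rintro _ ⟨w, rfl⟩ hk
      rw [LinearMap.mem_ker, hgσ'] at hk
      rw [hk, map_zero]
    · intro p _
      have e : p = σ' (g' p) + (p - σ' (g' p)) := by abel
      rw [e]
      refine Submodule.add_mem_sup (LinearMap.mem_range_self _ _) ?_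
      rw [LinearMap.mem_ker, map_sub, hgσ', sub_self]
  · exact Module.Finite.equiv (LinearEquiv.ofInjective σ' hinj)
  · exact Module.Free.of_equiv (LinearEquiv.ofInjective σ' hinj)

theorem exists_finite_free_summand [IsNoetherianRing (R ⧸ Ideal.jacobson (⊥ : Ideal R))]
    [Module.Projective R P] (hP : Big (Ideal.jacobson (⊥ : Ideal R)) P) (x : P) :
    ∃ K K' : Submodule R P, IsCompl K K' ∧ Module.Finite R K ∧ Module.Free R K ∧ x ∈ K := by
  obtain ⟨s, hs⟩ := (Module.projective_def' (R := R) (P := P)).mp inferInstance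
  exact exists_finite_free_summand' s _ hs hP x

end Groth.Agent.Lib.Helper54.Bass
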