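/-
helper54: over a commutative ring `A`, for a coalgebra `C` which is projective as an `A`-module,
every submodule `M` of a comodule `V` is contained in a smallest subcomodule, finitely generated
when `M` is (SGA3 VI_B 11.8).
-/
import Groth.Prelude
import Mathlib.Algebra.Module.Projective
import Mathlib.LinearAlgebra.TensorProduct.Associator

set_option autoImplicit false
set_option maxHeartbeats 400000
universe u

namespace Groth.Agent.Lib.Helper54.Comod

open TensorProduct Function

section Slice

variable {A : Type u} [CommRing A] {C : Type u} [AddCommGroup C] [Module A C]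
  {V : Type u} [AddCommGroup V] [Module A V]

/-- `(id ⊗ l)` followed by `V ⊗ A ≃ V`. -/
noncomputable def slice (l : C →ₗ[A] A) : V ⊗[A] C →ₗ[A] V :=
  (TensorProduct.rid A V).toLinearMap ∘ₗ l.lTensor V

@[simp]
theorem slice_tmul (l : C →ₗ[A] A) (v : V) (c : C) : slice l (v ⊗ₜ[A] c) = l c • v := by
  simp [slice]

theorem slice_lTensor (l : C →ₗ[A] A) (θ : C →ₗ[A] C) (z : V ⊗[A] C) :
    slice l (θ.lTensor V z) = slice (l ∘ₗ θ) z := by
  induction z using TensorProduct.induction_on with
  | zero => simp
  | tmul v c => simp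
  | add x y hx hy => simp only [map_add, hx, hy]

theorem slice_rTensor {V' : Type u} [AddCommGroup V'] [Module A V'] (f : V' →ₗ[A] V)
    (l : C →ₗ[A] A) (z : V' ⊗[A] C) : slice l (f.rTensor C z) = f (slice l z) := by
  induction z using TensorProduct.induction_on with
  | zero => simp
  | tmul v c => simp
  | add x y hx hy => simp only [map_add, hx, hy]

/-- Dual basis expansion of an element of `V ⊗ C` for projective `C`. -/
theorem exists_expansion [Module.Projective A C] (z : V ⊗[A] C) :
    ∃ (D : Finset C) (μ : C → (C →ₗ[A] A)), z = ∑ d ∈ D, (slice (μ d) z) ⊗ₜ[A] d := by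
  classical
  obtain ⟨s, hs⟩ := (Module.projective_def' (R := A) (P := C)).1 inferInstance
  have hs' : ∀ c : C, Finsupp.linearCombination A id (s c) = c := fun c =>
    LinearMap.congr_fun hs c
  obtain ⟨n, v, c, rfl⟩ := TensorProduct.exists_sum_tmul_eq z
  let D : Finset C := Finset.univ.biUnion fun j => (s (c j)).support
  let μ : C → (C →ₗ[A] A) := fun d => (Finsupp.lapply d) ∘ₗ s
  have hc : ∀ j, c j = ∑ d ∈ D, (μ d (c j)) • d := by
    intro j
    conv_lhs => rw [← hs' (c j), Finsupp.linearCombination_apply]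
    apply Finsupp.sum_of_support_subset
    · intro d hd
      exact Finset.mem_biUnion.2 ⟨j, Finset.mem_univ j, hd⟩
    · intro d _
      simp
  refine ⟨D, μ, ?_⟩
  have h1 : ∀ d, slice (μ d) (∑ j, v j ⊗ₜ[A] c j) = ∑ j, (μ d (c j)) • v j := by
    intro d
    rw [map_sum]
    apply Finset.sum_congr rfl
    intro j _
    rw [slice_tmul]
  calc ∑ j, v j ⊗ₜ[A] c j = ∑ j, v j ⊗ₜ[A] (∑ d ∈ D, (μ d (c j)) • d) := by
        apply Finset.sum_congr rfl
        intro j _
        rw [← hc j]
    _ = ∑ j, ∑ d ∈ D, ((μ d (c j)) • v j) ⊗ₜ[A] d := by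
        apply Finset.sum_congr rfl
        intro j _
        rw [TensorProduct.tmul_sum]
        apply Finset.sum_congr rfl
        intro d _
        rw [TensorProduct.tmul_smul, TensorProduct.smul_tmul']
    _ = ∑ d ∈ D, ∑ j, ((μ d (c j)) • v j) ⊗ₜ[A] d := Finset.sum_comm
    _ = ∑ d ∈ D, (slice (μ d) (∑ j, v j ⊗ₜ[A] c j)) ⊗ₜ[A] d := by
        apply Finset.sum_congr rfl
        intro d _
        rw [h1 d, TensorProduct.sum_tmul]

/-- If all slices of `z` lie in a submodule `W'`, then every `(id ⊗ θ) z` lies in the image of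
`W' ⊗ C`. -/
theorem lTensor_mem_range_of_slice_mem [Module.Projective A C] (W' : Submodule A V)
    (z : V ⊗[A] C) (hz : ∀ l : C →ₗ[A] A, slice l z ∈ W') (θ : C →ₗ[A] C) :
    θ.lTensor V z ∈ LinearMap.range (W'.subtype.rTensor C) := by
  obtain ⟨D, μ, hD⟩ := exists_expansion (θ.lTensor V z)
  rw [hD]
  apply Submodule.sum_mem
  intro d _
  refine ⟨(⟨slice (μ d) (θ.lTensor V z), ?_⟩ : W') ⊗ₜ[A] d, rfl⟩
  rw [slice_lTensor]
  exact hz _

end Slice

section Smallest

variable (A : Type u) [CommRing A] (C : Type u) [AddCommGroup C] [Module A C] [Coalgebra A C]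
  (V : Type u) [AddCommGroup V] [Module A V] [HopfRep.Comod A C V]

/-- The map `v ↦ (id ⊗ l)(ρ v)`. -/
noncomputable def g (l : C →ₗ[A] A) : V →ₗ[A] V :=
  slice l ∘ₗ (HopfRep.Comod.coact (k := A) (A := C) : V →ₗ[A] V ⊗[A] C)

theorem g_counit : g A C V (CoalgebraStruct.counit (R := A) (A := C)) = LinearMap.id := by
  apply LinearMap.ext
  intro v
  have h := LinearMap.congr_fun (HopfRep.Comod.counit_comp (k := A) (A := C) (V := V)) v
  show (TensorProduct.rid A V) ((CoalgebraStruct.counit (R := A) (A := C)).lTensor V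
    (HopfRep.Comod.coact (k := A) (A := C) v)) = v
  rw [LinearMap.comp_apply] at h
  rw [h]
  simp

/-- the endomorphism `c ↦ ∑ l(c₂) c₁` of `C` -/
noncomputable def θ (l : C →ₗ[A] A) : C →ₗ[A] C :=
  (TensorProduct.rid A C).toLinearMap ∘ₗ l.lTensor C ∘ₗ (CoalgebraStruct.comul (R := A) (A := C))

theorem slice_assoc_symm (l : C →ₗ[A] A) (y : V ⊗[A] (C ⊗[A] C)) :
    slice l ((TensorProduct.assoc A V C C).symm y) =
      ((TensorProduct.rid A C).toLinearMap ∘ₗ l.lTensor C).lTensor V y := by
  induction y using TensorProduct.induction_on with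
  | zero => simp
  | tmul v cc =>
    induction cc using TensorProduct.induction_on with
    | zero => simp
    | tmul c c' =>
      simp [TensorProduct.tmul_smul, TensorProduct.smul_tmul']
    | add x y hx hy =>
      rw [TensorProduct.tmul_add, map_add, map_add, hx, hy, map_add]
  | add x y hx hy => simp only [map_add, hx, hy]

/-- naturality of the coaction with respect to slicing -/
theorem coact_slice (l : C →ₗ[A] A) (z : V ⊗[A] C) :
    (HopfRep.Comod.coact (k := A) (A := C) (slice l z) : V ⊗[A] C) =
      slice l ((HopfRep.Comod.coact (k := A) (A := C) : V →ₗ[A] V ⊗[A] C).rTensor C z) := by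
  induction z using TensorProduct.induction_on with
  | zero => simp
  | tmul v c => simp
  | add x y hx hy => simp only [map_add, hx, hy]

theorem coact_g (l : C →ₗ[A] A) (m : V) :
    (HopfRep.Comod.coact (k := A) (A := C) (g A C V l m) : V ⊗[A] C) =
      (θ A C l).lTensor V (HopfRep.Comod.coact (k := A) (A := C) m) := by
  have hco := LinearMap.congr_fun (HopfRep.Comod.coassoc (k := A) (A := C) (V := V)) m
  simp only [LinearMap.comp_apply, LinearEquiv.coe_coe] at hco
  have h1 : (HopfRep.Comod.coact (k := A) (A := C) : V →ₗ[A] V ⊗[A] C).rTensor C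
      (HopfRep.Comod.coact (k := A) (A := C) m) =
      (TensorProduct.assoc A V C C).symm
        ((CoalgebraStruct.comul (R := A) (A := C)).lTensor V
          (HopfRep.Comod.coact (k := A) (A := C) m)) := by
    rw [← hco, LinearEquiv.symm_apply_apply]
  show (HopfRep.Comod.coact (k := A) (A := C)
    (slice l (HopfRep.Comod.coact (k := A) (A := C) m)) : V ⊗[A] C) = _
  rw [coact_slice, h1, slice_assoc_symm, ← LinearMap.comp_apply, ← LinearMap.lTensor_comp]
  rfl

/-- The smallest subcomodule containing `M`. -/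
noncomputable def W (M : Submodule A V) : Submodule A V := ⨆ l : C →ₗ[A] A, M.map (g A C V l)

theorem le_W (M : Submodule A V) : M ≤ W A C V M := by
  have h : M.map (g A C V (CoalgebraStruct.counit (R := A) (A := C))) ≤ W A C V M :=
    le_iSup (fun l : C →ₗ[A] A => M.map (g A C V l)) _
  rwa [g_counit, Submodule.map_id] at h

theorem g_mem_W (M : Submodule A V) (l : C →ₗ[A] A) {m : V} (hm : m ∈ M) :
    g A C V l m ∈ W A C V M :=
  (le_iSup (fun l : C →ₗ[A] A => M.map (g A C V l)) l) (Submodule.mem_map_of_mem hm)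

theorem isSubcomod_W [Module.Projective A C] (M : Submodule A V) :
    HopfRep.IsSubcomod (k := A) (A := C) (W A C V M) := by
  have key : W A C V M ≤ (LinearMap.range ((W A C V M).subtype.rTensor C)).comap
      (HopfRep.Comod.coact (k := A) (A := C) : V →ₗ[A] V ⊗[A] C) := by
    apply iSup_le
    intro l
    rw [Submodule.map_le_iff_le_comap]
    intro m hm
    show (HopfRep.Comod.coact (k := A) (A := C) (g A C V l m) : V ⊗[A] C) ∈
      LinearMap.range ((W A C V M).subtype.rTensor C)
    rw [coact_g]
    apply lTensor_mem_range_of_slice_mem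
    intro l'
    exact g_mem_W A C V M l' hm
  intro w hw
  exact key hw

theorem W_le (M : Submodule A V) (W' : Submodule A V)
    (hW' : HopfRep.IsSubcomod (k := A) (A := C) W') (hM : M ≤ W') : W A C V M ≤ W' := by
  apply iSup_le
  intro l
  rw [Submodule.map_le_iff_le_comap]
  intro m hm
  obtain ⟨z', hz'⟩ := hW' m (hM hm)
  show slice l (HopfRep.Comod.coact (k := A) (A := C) m) ∈ W'
  rw [← hz', slice_rTensor]
  exact (slice l z').2

theorem fg_W [Module.Projective A C] (M : Submodule A V) (hM : M.FG) : (W A C V M).FG := by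
  classical
  obtain ⟨S, rfl⟩ := hM
  choose D μ hD using fun m : V =>
    exists_expansion (HopfRep.Comod.coact (k := A) (A := C) m : V ⊗[A] C)
  let G : Finset V := S.biUnion fun m => (D m).image fun d => g A C V (μ m d) m
  refine ⟨G, ?_⟩
  apply le_antisymm
  · rw [Submodule.span_le]
    intro w hw
    obtain ⟨m, hm, hw⟩ := Finset.mem_biUnion.1 (Finset.mem_coe.1 hw)
    obtain ⟨d, -, rfl⟩ := Finset.mem_image.1 hw
    exact g_mem_W A C V _ _ (Submodule.subset_span hm)
  · apply iSup_le
    intro l
    rw [Submodule.map_span, Submodule.span_le]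
    rintro _ ⟨m, hm, rfl⟩
    show slice l (HopfRep.Comod.coact (k := A) (A := C) m) ∈ _
    rw [hD m, map_sum]
    apply Submodule.sum_mem
    intro d hd
    rw [slice_tmul]
    apply Submodule.smul_mem
    apply Submodule.subset_span
    apply Finset.mem_coe.2
    exact Finset.mem_biUnion.2 ⟨m, hm, Finset.mem_image.2 ⟨d, hd, rfl⟩⟩

/-- SGA3 VI_B 11.8 for a projective coalgebra. -/
theorem exists_smallest_subcomod [Module.Projective A C] (M : Submodule A V) :
    ∃ W : Submodule A V, HopfRep.IsSubcomod (k := A) (A := C) W ∧ M ≤ W ∧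
      (∀ W' : Submodule A V, HopfRep.IsSubcomod (k := A) (A := C) W' → M ≤ W' → W ≤ W') ∧
      (M.FG → W.FG) :=
  ⟨W A C V M, isSubcomod_W A C V M, le_W A C V M, W_le A C V M, fg_W A C V M⟩

end Smallest

end Groth.Agent.Lib.Helper54.Comod
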