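import Groth.Prelude.Def_Found
import Mathlib

set_option autoImplicit false
set_option maxHeartbeats 400000
universe u

namespace Groth.Agent.Lib.Helper54

open TensorProduct Pointwise

/-- A finite module over a finite type algebra is a countably generated module over the base. -/
theorem isCountablyGenerated_of_finiteType {R S : Type u} [CommRing R] [CommRing S] [Algebra R S]
    [Algebra.FiniteType R S] (N : Type u) [AddCommGroup N] [Module S N] [Module R N]
    [IsScalarTower R S N] [Module.Finite S N] : CAlg.IsCountablyGenerated R N := by
  classical
  obtain ⟨n, f, hf⟩ := Algebra.FiniteType.iff_quotient_mvPolynomial''.mp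
    (inferInstance : Algebra.FiniteType R S)
  obtain ⟨t, ht⟩ := (Module.Finite.fg_top : (⊤ : Submodule S N).FG)
  let A : Set S := Set.range (fun m : (Fin n →₀ ℕ) => f (MvPolynomial.monomial m (1 : R)))
  have hA : A.Countable := Set.countable_range _
  have h1 : Submodule.span R A = ⊤ := by
    have hb := (MvPolynomial.basisMonomials (Fin n) R).span_eq
    have : A = f.toLinearMap '' Set.range (MvPolynomial.basisMonomials (Fin n) R) := by
      rw [← Set.range_comp]
      apply congrArg Set.range
      funext m
      simp [MvPolynomial.coe_basisMonomials]
    rw [this, ← Submodule.map_span, hb, Submodule.map_top, LinearMap.range_eq_top]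
    exact hf
  refine ⟨A • (t : Set N), ?_, ?_⟩
  · exact Set.Countable.image2 hA t.countable_toSet _
  · rw [Submodule.span_smul_of_span_eq_top h1, ht]
    rfl

end Groth.Agent.Lib.Helper54
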