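/-
helper54: bridging lemmas for local rings essentially of finite presentation:
* a local ring which is a localization of `S₀` is the localization of `S₀` at the contraction of
  its maximal ideal;
* a finitely presented module over a localization `S` of `S₀` has a finitely presented model over
  `S₀`.
-/
import Mathlib

set_option autoImplicit false
set_option maxHeartbeats 400000

namespace Groth.Agent.Lib.Helper54.EssLoc1

open Function

universe u

section AtPrime

variable {S₀ S : Type*} [CommRing S₀] [CommRing S] [IsLocalRing S] [Algebra S₀ S]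
  (W : Submonoid S₀) [IsLocalization W S]

include W in
/-- A local localization of `S₀` is the localization at the contraction of the maximal ideal. -/
theorem isLocalization_atPrime :
    IsLocalization.AtPrime S ((IsLocalRing.maximalIdeal S).comap (algebraMap S₀ S)) := by
  set q := (IsLocalRing.maximalIdeal S).comap (algebraMap S₀ S) with hq
  have hWq : W ≤ q.primeCompl := by
    intro w hw hwq
    have h1 : algebraMap S₀ S w ∈ IsLocalRing.maximalIdeal S := hwq
    exact (IsLocalRing.mem_maximalIdeal _).1 h1 (IsLocalization.map_units S ⟨w, hw⟩)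
  refine IsLocalization.isLocalization_of_is_exists_mul_mem S W q.primeCompl hWq ?_
  rintro ⟨n, hn⟩
  have hunit : IsUnit (algebraMap S₀ S n) := by
    by_contra h
    exact hn ((IsLocalRing.mem_maximalIdeal _).2 h)
  obtain ⟨y, hy⟩ := hunit.exists_left_inv
  obtain ⟨⟨a, w⟩, haw⟩ := IsLocalization.surj W y
  -- `y * w = a`, so `a * n = w` in `S`
  have h1 : algebraMap S₀ S (a * n) = algebraMap S₀ S w := by
    rw [map_mul, ← haw]
    calc y * algebraMap S₀ S w * algebraMap S₀ S n
        = (y * algebraMap S₀ S n) * algebraMap S₀ S w := by ring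
      _ = algebraMap S₀ S w := by rw [hy, one_mul]
  obtain ⟨c, hc⟩ := (IsLocalization.eq_iff_exists W S).1 h1
  refine ⟨c * a, ?_⟩
  show c * a * n ∈ W
  have : (c : S₀) * a * n = c * w := by rw [mul_assoc]; exact hc
  rw [this]
  exact W.mul_mem c.2 w.2

end AtPrime

section Model

variable {S₀ S : Type u} [CommRing S₀] [CommRing S] [Algebra S₀ S]
  (W : Submonoid S₀) [IsLocalization W S]
  (N : Type u) [AddCommGroup N] [Module S N] [Module S₀ N] [IsScalarTower S₀ S N]
  [Module.FinitePresentation S N]

omit [IsLocalization W S] [Module.FinitePresentation S N] in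
theorem smul_eq_algebraMap_smul (w : W) (y : N) : w • y = algebraMap S₀ S (w : S₀) • y := by
  rw [Submonoid.smul_def, algebraMap_smul]

include S in
/-- A finitely presented module over a localization of `S₀` is the localization of a finitely
presented `S₀`-module. -/
theorem exists_fp_model :
    ∃ (N₀ : Type u) (_ : AddCommGroup N₀) (_ : Module S₀ N₀)
      (_ : Module.FinitePresentation S₀ N₀) (f : N₀ →ₗ[S₀] N), IsLocalizedModule W f := by
  classical
  obtain ⟨n, m, π, g, hπ, hex⟩ := Module.FinitePresentation.exists_fin' S N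
  -- the relations
  let v : Fin m → Fin n → S := fun j => g (Pi.single j 1)
  obtain ⟨b, hb⟩ := IsLocalization.exist_integer_multiples_of_finite W
    (fun x : Fin m × Fin n => v x.1 x.2)
  choose c hc using hb
  let v₀ : Fin m → Fin n → S₀ := fun j i => c (j, i)
  let K₀ : Submodule S₀ (Fin n → S₀) := Submodule.span S₀ (Set.range v₀)
  let ι : (Fin n → S₀) →ₗ[S₀] (Fin n → S) := (Algebra.linearMap S₀ S).compLeft (Fin n)
  have hι : ∀ (a : Fin n → S₀) (i : Fin n), ι a i = algebraMap S₀ S (a i) := fun a i => rfl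
  let φ : (Fin n → S₀) →ₗ[S₀] N := (π.restrictScalars S₀) ∘ₗ ι
  have hφ_apply : ∀ a, φ a = π (ι a) := fun a => rfl
  have hιv : ∀ j, ι (v₀ j) = algebraMap S₀ S (b : S₀) • v j := by
    intro j
    funext i
    rw [hι, Pi.smul_apply, smul_eq_mul]
    have := hc (j, i)
    rw [Algebra.smul_def] at this
    exact this
  have hπv : ∀ j, π (v j) = 0 := fun j => (hex (v j)).2 ⟨_, rfl⟩
  have hφ : K₀ ≤ LinearMap.ker φ := by
    rw [Submodule.span_le]
    rintro _ ⟨j, rfl⟩
    show φ (v₀ j) = 0
    rw [hφ_apply, hιv, map_smul, hπv, smul_zero]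
  let f : ((Fin n → S₀) ⧸ K₀) →ₗ[S₀] N := K₀.liftQ φ hφ
  have hf_mk : ∀ a, f (Submodule.Quotient.mk a) = π (ι a) := fun a => rfl
  have hfp : Module.FinitePresentation S₀ ((Fin n → S₀) ⧸ K₀) := by
    refine Module.finitePresentation_of_surjective K₀.mkQ (Submodule.mkQ_surjective _) ?_
    rw [Submodule.ker_mkQ]
    exact Submodule.fg_span (Set.finite_range v₀)
  -- integrality of vectors
  have hint : ∀ {k : ℕ} (a : Fin k → S), ∃ (d : W) (a₀ : Fin k → S₀),
      ∀ i, algebraMap S₀ S (a₀ i) = algebraMap S₀ S (d : S₀) * a i := by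
    intro k a
    obtain ⟨d, hd⟩ := IsLocalization.exist_integer_multiples_of_finite W a
    choose a₀ ha₀ using hd
    exact ⟨d, a₀, fun i => by rw [ha₀ i, Algebra.smul_def]⟩
  refine ⟨(Fin n → S₀) ⧸ K₀, inferInstance, inferInstance, hfp, f, ?_, ?_, ?_⟩
  · -- units
    intro w
    rw [Module.End.isUnit_iff]
    have hu := IsLocalization.map_units S w
    obtain ⟨y, hy⟩ := hu.exists_left_inv
    have hy' : algebraMap S₀ S (w : S₀) * y = 1 := by rw [mul_comm]; exact hy
    constructor
    · intro x₁ x₂ h
      have h' : algebraMap S₀ S (w : S₀) • x₁ = algebraMap S₀ S (w : S₀) • x₂ := by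
        simpa [Module.algebraMap_end_apply, algebraMap_smul] using h
      calc x₁ = (y * algebraMap S₀ S (w : S₀)) • x₁ := by rw [hy, one_smul]
        _ = (y * algebraMap S₀ S (w : S₀)) • x₂ := by rw [mul_smul, h', ← mul_smul]
        _ = x₂ := by rw [hy, one_smul]
    · intro x
      refine ⟨y • x, ?_⟩
      rw [Module.algebraMap_end_apply, ← algebraMap_smul S, ← mul_smul, hy', one_smul]
  · -- surjectivity up to denominators
    intro y
    obtain ⟨a, rfl⟩ := hπ y
    obtain ⟨d, a₀, ha₀⟩ := hint a
    refine ⟨(Submodule.Quotient.mk a₀, d), ?_⟩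
    show d • π a = f (Submodule.Quotient.mk a₀)
    rw [hf_mk, smul_eq_algebraMap_smul (S := S) W N d, ← map_smul]
    congr 1
    funext i
    rw [hι, ha₀ i, Pi.smul_apply, smul_eq_mul]
  · -- injectivity up to denominators
    intro x₁ x₂ h
    obtain ⟨a₁, rfl⟩ := Submodule.Quotient.mk_surjective _ x₁
    obtain ⟨a₂, rfl⟩ := Submodule.Quotient.mk_surjective _ x₂
    rw [hf_mk, hf_mk, ← sub_eq_zero, ← map_sub, ← map_sub] at h
    obtain ⟨r, hr⟩ := (hex _).1 h
    -- `g r = ι (a₁ - a₂)`, and `g r = ∑ r j • v j`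
    have hgr : g r = ∑ j, r j • v j := by
      conv_lhs => rw [← Finset.univ_sum_single r]
      rw [map_sum]
      refine Finset.sum_congr rfl fun j _ => ?_
      have : (Pi.single j (r j) : Fin m → S) = r j • Pi.single j 1 := by
        rw [← Pi.single_smul, smul_eq_mul, mul_one]
      rw [this, map_smul]
    obtain ⟨d, r₀, hr₀⟩ := hint r
    -- the element `u`
    let u : Fin n → S₀ := ((d : S₀) * (b : S₀)) • (a₁ - a₂) - ∑ j, r₀ j • v₀ j
    have hu : ι u = 0 := by
      show ι (((d : S₀) * (b : S₀)) • (a₁ - a₂) - ∑ j, r₀ j • v₀ j) = 0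
      rw [map_sub, map_smul, ← hr, hgr, map_sum, sub_eq_zero, Finset.smul_sum]
      refine Finset.sum_congr rfl fun j _ => ?_
      rw [map_smul, hιv, ← algebraMap_smul S (r₀ j), hr₀ j, ← algebraMap_smul S ((d : S₀) * b),
        map_mul, ← mul_smul, ← mul_smul]
      congr 1
      ring
    have hui : ∀ i, ∃ e : W, (e : S₀) * u i = 0 := by
      intro i
      have h0 : algebraMap S₀ S (u i) = 0 := by rw [← hι, hu]; rfl
      exact (IsLocalization.map_eq_zero_iff W S (u i)).1 h0
    choose e he using hui
    refine ⟨(∏ i, e i) * d * b, ?_⟩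
    rw [← sub_eq_zero, ← smul_sub, ← Submodule.Quotient.mk_sub, Submonoid.smul_def,
      ← Submodule.Quotient.mk_smul, Submodule.Quotient.mk_eq_zero]
    have hprod : ((∏ i, e i : W) : S₀) • u = 0 := by
      funext i
      rw [Pi.smul_apply, Pi.zero_apply, smul_eq_mul, Submonoid.coe_finsetProd,
        ← Finset.mul_prod_erase Finset.univ _ (Finset.mem_univ i), mul_comm (e i : S₀), mul_assoc,
        he i, mul_zero]
    have hsplit : (((∏ i, e i) * d * b : W) : S₀) • (a₁ - a₂) =
        ((∏ i, e i : W) : S₀) • ∑ j, r₀ j • v₀ j := by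
      have : ((∏ i, e i : W) : S₀) • u =
          (((∏ i, e i) * d * b : W) : S₀) • (a₁ - a₂) -
            ((∏ i, e i : W) : S₀) • ∑ j, r₀ j • v₀ j := by
        show ((∏ i, e i : W) : S₀) • (((d : S₀) * (b : S₀)) • (a₁ - a₂) - ∑ j, r₀ j • v₀ j) = _
        rw [smul_sub, ← mul_smul]
        congr 2
        push_cast
        ring
      rw [hprod] at this
      exact (sub_eq_zero.1 this.symm)
    rw [hsplit]
    refine Submodule.smul_mem _ _ (Submodule.sum_mem _ fun j _ => Submodule.smul_mem _ _ ?_)
    exact Submodule.subset_span ⟨j, rfl⟩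

end Model

end Groth.Agent.Lib.Helper54.EssLoc1
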