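/-
helper54: the fibrewise criterion for a regular element (`RegFibre5.core`), transported to an
arbitrary localization `f : M → N` of the module at the prime.
-/
import Groth.Agent.Lib.Helper54.RegFibre6
import Groth.Agent.Lib.Helper54.EssLoc1

set_option autoImplicit false
set_option maxHeartbeats 400000

namespace Groth.Agent.Lib.Helper54.EssLoc2

open TensorProduct Function
open scoped Pointwise
open Groth.Agent.Lib.Helper54

universe u

section CoreLoc

variable {A B : Type u} [CommRing A] [CommRing B] [Algebra A B] [Algebra.FinitePresentation A B]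
  (M : Type u) [AddCommGroup M] [Module B M] [Module A M] [IsScalarTower A B M]
  [Module.FinitePresentation B M] (q : Ideal B) [q.IsPrime] (g : B) (K : Type u) [Field K]
  [Algebra A K] {N : Type u} [AddCommGroup N] [Module B N] [Module A N] [IsScalarTower A B N]
  (f : M →ₗ[B] N) [IsLocalizedModule q.primeCompl f]

include M f in
/-- **Fibrewise criterion for a regular element, on a localization.** -/
theorem core_loc (hK : ∀ a : A, algebraMap A K a = 0 ↔ algebraMap A B a ∈ q)
    (hflat : Module.Flat A N) (hfib : ∀ z : N ⊗[A] K, g • z = 0 → z = 0) :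
    (∀ y : N, g • y = 0 → y = 0) ∧ Module.Flat A (QuotSMulTop g N) := by
  have hflat' : Module.Flat A (LocalizedModule q.primeCompl M) :=
    Module.Flat.of_linearEquiv ((IsLocalizedModule.iso q.primeCompl f).restrictScalars A)
  have hfib' : ∀ z : M ⊗[A] K, g • z = 0 → ∃ w, w ∉ q ∧ w • z = 0 := by
    intro z hz
    have h1 : g • (AlgebraTensorModule.rTensor A K f z) = 0 := by
      rw [← map_smul, hz, map_zero]
    have h2 := hfib _ h1
    obtain ⟨w, hw⟩ :=
      (IsLocalizedModule.eq_zero_iff q.primeCompl (AlgebraTensorModule.rTensor A K f)).1 h2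
    exact ⟨w.1, w.2, hw⟩
  obtain ⟨c1, c2⟩ := RegFibre5.core M q g K hK hflat' hfib'
  constructor
  · refine (RegFibre1.regular_localized_iff q.primeCompl f g).2 ?_
    rintro y ⟨s, hs, hy⟩
    have h1 : g • (s • y) = 0 := by rw [smul_comm]; exact hy
    obtain ⟨w, hw, hwy⟩ := c1 _ h1
    exact ⟨w * s, q.primeCompl.mul_mem hw hs, by rw [mul_smul]; exact hwy⟩
  · let ℓQ := LocalizedModule.mkLinearMap q.primeCompl (QuotSMulTop g M)
    let π : N →ₗ[B] LocalizedModule q.primeCompl (QuotSMulTop g M) :=
      IsLocalizedModule.map q.primeCompl f ℓQ (Submodule.mkQ (g • (⊤ : Submodule B M)))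
    have hπ : Surjective π :=
      IsLocalizedModule.map_surjective q.primeCompl f ℓQ _ (Submodule.mkQ_surjective _)
    have hmap : IsLocalizedModule.map q.primeCompl f f (LinearMap.lsmul B M g) =
        LinearMap.lsmul B N g := by
      apply IsLocalizedModule.ext q.primeCompl f (IsLocalizedModule.map_units f)
      ext m
      simp only [LinearMap.coe_comp, Function.comp_apply, IsLocalizedModule.map_apply,
        LinearMap.lsmul_apply, map_smul]
    have hex : Function.Exact (LinearMap.lsmul B N g) π := by
      have := IsLocalizedModule.map_exact q.primeCompl f f ℓQ (LinearMap.lsmul B M g)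
        (Submodule.mkQ (g • (⊤ : Submodule B M))) (RegFibre3.exact_smul_mkQ M g)
      rwa [hmap] at this
    let e := RegFibre6.quotSMulTopEquivOfExact g π hπ hex
    haveI := c2
    exact Module.Flat.of_linearEquiv (e.symm.restrictScalars A)

end CoreLoc

end Groth.Agent.Lib.Helper54.EssLoc2
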