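/-
helper54: the fibre module `(κ(p) ⊗ S) ⊗[S] N` of `Def_FlatCA` versus `N ⊗[R] κ(p)`.
-/
import Groth.Agent.Lib.Helper54.EssLoc2
import Groth.Prelude.Def_FlatCA

set_option autoImplicit false
set_option maxHeartbeats 400000

namespace Groth.Agent.Lib.Helper54.EssLoc3

open TensorProduct Function

universe u

attribute [local instance] Algebra.TensorProduct.rightAlgebra

section Fibre

variable {R : Type u} [CommRing R] (S : Type u) [CommRing S] [Algebra R S] (K : Type u)
  [CommRing K] [Algebra R K] (N : Type u) [AddCommGroup N] [Module S N] [Module R N]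
  [IsScalarTower R S N]

/-- The swap `K ⊗ S ≃ S ⊗ K`, linear over `S` (acting on the right, resp. left, factor). -/
noncomputable def commS : K ⊗[R] S ≃ₗ[S] S ⊗[R] K :=
  { (TensorProduct.comm R K S) with
    map_smul' := fun s x => by
      show TensorProduct.comm R K S (s • x) = s • TensorProduct.comm R K S x
      induction x with
      | zero => simp
      | add x y hx hy => rw [smul_add, map_add, map_add, smul_add, hx, hy]
      | tmul c t =>
        rw [Algebra.smul_def, Algebra.TensorProduct.right_algebraMap_apply,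
          Algebra.TensorProduct.tmul_mul_tmul, one_mul, TensorProduct.comm_tmul,
          TensorProduct.comm_tmul, TensorProduct.smul_tmul', smul_eq_mul] }

/-- The fibre module `(K ⊗ S) ⊗[S] N` is `N ⊗[R] K`. -/
noncomputable def fibreEquiv : (K ⊗[R] S) ⊗[S] N ≃ₗ[S] N ⊗[R] K :=
  TensorProduct.comm S (K ⊗[R] S) N ≪≫ₗ LinearEquiv.lTensor N (commS S K) ≪≫ₗ
    AlgebraTensorModule.cancelBaseChange R S S N K

end Fibre

section Regular

variable {R : Type u} [CommRing R] (p : Ideal R) [p.IsPrime] (S : Type u) [CommRing S]
  [Algebra R S] (N : Type u) [AddCommGroup N] [Module S N] [Module R N] [IsScalarTower R S N]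

/-- An element acting injectively on the fibre module of `Def_FlatCA` acts injectively on
`N ⊗[R] κ(p)`. -/
theorem regular_of_mem_nzd (s : S) (hs : s ∈ nonZeroSMulDivisors S (FlatCA.fiberMod p S N))
    (z : N ⊗[R] p.ResidueField) (hz : s • z = 0) : z = 0 := by
  have h1 := (mem_nonZeroSMulDivisors_iff.1 hs)
  let e := fibreEquiv (R := R) S p.ResidueField N
  have h2 : s • (e.symm z) = 0 := by rw [← map_smul, hz, map_zero]
  have h3 : e.symm z = 0 := h1 (e.symm z) h2
  exact (LinearEquiv.map_eq_zero_iff e.symm).1 h3

end Regular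

end Groth.Agent.Lib.Helper54.EssLoc3
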