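/-
helper54: two general lemmas for the Raynaud–Gruson universal injectivity statements.
* `exists_assPrime_ge`: for a module over a Noetherian quotient `Sb` of `S`, a prime of `S`
  consisting of zero divisors is contained in an associated prime (over `S`).
* `map_ker_toSpanSingleton_eq_top`: for a flat algebra `S'`, if `1 ⊗ x = 0` in `S' ⊗ P` then the
  annihilator of `x` generates the unit ideal of `S'`.
-/
import Mathlib

set_option autoImplicit false
set_option maxHeartbeats 400000

namespace Groth.Agent.Lib.Helper54.EssLoc4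

open TensorProduct Function

section Ass

variable {S Sb : Type*} [CommRing S] [CommRing Sb] [Algebra S Sb] [IsNoetherianRing Sb]
  (F : Type*) [AddCommGroup F] [Module S F] [Module Sb F] [IsScalarTower S Sb F]
  [Module.Finite Sb F]

theorem exists_assPrime_ge (hsurj : Surjective (algebraMap S Sb)) (P : Ideal S)
    (hP : ∀ s ∈ P, ∃ z : F, z ≠ 0 ∧ s • z = 0) : ∃ q ∈ associatedPrimes S F, P ≤ q := by
  classical
  have hfin : (associatedPrimes Sb F).Finite := associatedPrimes.finite Sb F
  have hsub : ((P.map (algebraMap S Sb) : Ideal Sb) : Set Sb) ⊆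
      ⋃ qb ∈ (hfin.toFinset : Set (Ideal Sb)), ((id qb : Ideal Sb) : Set Sb) := by
    intro xb hxb
    obtain ⟨s, hs, rfl⟩ := (Ideal.mem_map_iff_of_surjective _ hsurj).1 hxb
    obtain ⟨z, hz0, hz⟩ := hP s hs
    have h1 : algebraMap S Sb s ∈ {r : Sb | ∃ x : F, x ≠ 0 ∧ r • x = 0} :=
      ⟨z, hz0, by rw [algebraMap_smul]; exact hz⟩
    rw [← biUnion_associatedPrimes_eq_zero_divisors] at h1
    simp only [Set.mem_iUnion] at h1 ⊢
    obtain ⟨qb, hqb, hmem⟩ := h1
    exact ⟨qb, by simpa using hqb, hmem⟩
  obtain ⟨qb, hqb, hle⟩ := (Ideal.subset_union_prime (f := (id : Ideal Sb → Ideal Sb)) ⊥ ⊥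
    (fun i hi _ _ => by
      have : i ∈ associatedPrimes Sb F := by simpa using hi
      exact this.isPrime)).1 hsub
  have hqb'' : qb ∈ associatedPrimes Sb F := by simpa using hqb
  have hqb' : IsAssociatedPrime qb F := hqb''
  obtain ⟨hprime, x, hx⟩ := isAssociatedPrime_iff.1 hqb'
  have hcolon : (⊥ : Submodule S F).colon {x} = qb.comap (algebraMap S Sb) := by
    ext r
    rw [Submodule.mem_colon_singleton, Ideal.mem_comap, hx, Submodule.mem_colon_singleton,
      Submodule.mem_bot, Submodule.mem_bot, algebraMap_smul]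
  haveI : (qb.comap (algebraMap S Sb)).IsPrime := Ideal.comap_isPrime _ _
  refine ⟨qb.comap (algebraMap S Sb), ⟨inferInstance, x, ?_⟩, ?_⟩
  · rw [hcolon, Ideal.IsPrime.radical inferInstance]
  · exact (Ideal.le_comap_map).trans (Ideal.comap_mono hle)

end Ass

section Flat

variable {S S' : Type*} [CommRing S] [CommRing S'] [Algebra S S'] [Module.Flat S S']
  {P : Type*} [AddCommGroup P] [Module S P]

theorem map_ker_toSpanSingleton_eq_top (x : P) (hx : (1 : S') ⊗ₜ[S] x = 0) :
    Ideal.map (algebraMap S S') (LinearMap.ker (LinearMap.toSpanSingleton S P x) : Ideal S) = ⊤ := by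
  set I : Ideal S := LinearMap.ker (LinearMap.toSpanSingleton S P x) with hI
  let ιx : (S ⧸ I) →ₗ[S] P := Submodule.liftQ I (LinearMap.toSpanSingleton S P x) le_rfl
  have hinj : Injective ιx := by
    rw [← LinearMap.ker_eq_bot]
    exact Submodule.ker_liftQ_eq_bot _ _ _ le_rfl
  have hinj' : Injective (ιx.lTensor S') :=
    Module.Flat.lTensor_preserves_injective_linearMap ιx hinj
  have h1 : (1 : S') ⊗ₜ[S] (Ideal.Quotient.mk I 1) = 0 := by
    apply hinj'
    rw [map_zero, LinearMap.lTensor_tmul]
    show (1 : S') ⊗ₜ[S] (LinearMap.toSpanSingleton S P x 1) = 0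
    rw [LinearMap.toSpanSingleton_apply, one_smul]
    exact hx
  have h2 := congrArg (tensorQuotEquivQuotSMul S' I) h1
  rw [tensorQuotEquivQuotSMul_tmul_mk, map_zero, one_smul, Submodule.Quotient.mk_eq_zero,
    Ideal.smul_top_eq_map, Submodule.restrictScalars_mem] at h2
  exact (Ideal.eq_top_iff_one _).2 h2

end Flat

end Groth.Agent.Lib.Helper54.EssLoc4
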