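/-
helper54: primes of zero divisors on the closed fibre module are contained in associated primes.
-/
import Groth.Agent.Lib.Helper54.EssLoc3
import Groth.Agent.Lib.Helper54.EssLoc4

set_option autoImplicit false
set_option maxHeartbeats 400000

namespace Groth.Agent.Lib.Helper54.EssLoc5

open TensorProduct Function

universe u

attribute [local instance] Algebra.TensorProduct.rightAlgebra

variable {R S : Type u} [CommRing R] [IsLocalRing R] [CommRing S] [Algebra R S]
  [Algebra.EssFiniteType R S] (N : Type u) [AddCommGroup N] [Module S N] [Module R N]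
  [IsScalarTower R S N] [Module.Finite S N]

theorem exists_assPrime_fiberMod (P : Ideal S) (hP : ∀ s ∈ P, s ∉ FlatCA.nzdFiber R S N) :
    ∃ q ∈ associatedPrimes S (FlatCA.fiberMod (IsLocalRing.maximalIdeal R) S N), P ≤ q := by
  let K := (IsLocalRing.maximalIdeal R).ResidueField
  haveI : IsNoetherianRing (K ⊗[R] S) := Algebra.EssFiniteType.isNoetherianRing K (K ⊗[R] S)
  have hsurj : Surjective (algebraMap S (K ⊗[R] S)) := by
    have h := TensorProduct.mk_surjective R S K
      (Ideal.algebraMap_residueField_surjective (IsLocalRing.maximalIdeal R))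
    intro x
    obtain ⟨s, hs⟩ := h x
    exact ⟨s, by rw [Algebra.TensorProduct.right_algebraMap_apply]; exact hs⟩
  have hP' : ∀ s ∈ P, ∃ z : (K ⊗[R] S) ⊗[S] N, z ≠ 0 ∧ s • z = 0 := by
    intro s hs
    have h1 := hP s hs
    rw [mem_nonZeroSMulDivisors_iff] at h1
    push_neg at h1
    obtain ⟨z, hz, hz0⟩ := h1
    exact ⟨z, hz0, hz⟩
  exact EssLoc4.exists_assPrime_ge (Sb := K ⊗[R] S) ((K ⊗[R] S) ⊗[S] N) hsurj P hP'

end Groth.Agent.Lib.Helper54.EssLoc5
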