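import Groth.Prelude.Def_FlatCA
import Groth.Agent.S1191
import Groth.Agent.S2069

set_option autoImplicit false
set_option maxHeartbeats 400000
universe u

namespace Groth.Agent.Lib.Helper54.FiberAss

open TensorProduct

variable {R S : Type u} [CommRing R] [CommRing S] [Algebra R S]

/-- The extension of a prime `q` over `p` to the fibre ring is the prime corresponding to `q`. -/
theorem fiberIdeal_eq (p : Ideal R) [p.IsPrime] (q : Ideal S) [q.IsPrime] [q.LiesOver p] :
    ∃ Q : Ideal (p.Fiber S), Q.IsPrime ∧ FlatCA.fiberIdeal p q = Q ∧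
      Q.comap (Algebra.TensorProduct.includeRight (R := R) (A := p.ResidueField) (B := S)).toRingHom
        = q := by
  have hq : (⟨q, inferInstance⟩ : PrimeSpectrum S) ∈
      PrimeSpectrum.comap (algebraMap R S) ⁻¹' {(⟨p, inferInstance⟩ : PrimeSpectrum R)} := by
    rw [Set.mem_preimage, Set.mem_singleton_iff]
    ext1
    exact (Ideal.over_def q p).symm
  set Q := PrimeSpectrum.preimageEquivFiber R S ⟨p, inferInstance⟩ ⟨⟨q, inferInstance⟩, hq⟩ with hQ
  have hcomap : Q.asIdeal.comap
      (Algebra.TensorProduct.includeRight (R := R) (A := p.ResidueField) (B := S)).toRingHom = q := by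
    have := (PrimeSpectrum.preimageEquivFiber R S ⟨p, inferInstance⟩).left_inv
      ⟨⟨q, inferInstance⟩, hq⟩
    have h2 := congrArg (fun z => z.1.asIdeal) this
    exact h2
  refine ⟨Q.asIdeal, Q.2, ?_, hcomap⟩
  apply le_antisymm
  · rw [FlatCA.fiberIdeal, Ideal.map_le_iff_le_comap, hcomap]
  · apply Groth.Agent.S1191.le_fiberIdeal_of_forall
    intro s hs
    rw [← hcomap]
    exact hs

attribute [local instance] Algebra.TensorProduct.rightAlgebra

variable (N : Type u) [AddCommGroup N] [Module S N] [Module R N] [IsScalarTower R S N]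

/-- `N ⊗_R κ(p) ≃ (κ(p) ⊗_R S) ⊗_S N`, `S`-linearly. -/
noncomputable def fiberEquiv (p : Ideal R) [p.IsPrime] :
    N ⊗[R] p.ResidueField ≃ₗ[S] (p.Fiber S) ⊗[S] N :=
  ((TensorProduct.AlgebraTensorModule.cancelBaseChange R S S N p.ResidueField).symm.trans
    (TensorProduct.comm S N (S ⊗[R] p.ResidueField))).trans
    (TensorProduct.congr (Algebra.TensorProduct.commRight R S p.ResidueField).toLinearEquiv
      (LinearEquiv.refl S N))

theorem one_tmul_smul (p : Ideal R) [p.IsPrime] (s : S) (ξ : (p.Fiber S) ⊗[S] N) :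
    ((1 : p.ResidueField) ⊗ₜ[R] s : p.Fiber S) • ξ = s • ξ := by
  have : ((1 : p.ResidueField) ⊗ₜ[R] s : p.Fiber S) = algebraMap S (p.Fiber S) s := rfl
  rw [this, algebraMap_smul]

theorem fiberIdeal_mem_associatedPrimes [Module.Flat R N] (p : Ideal R) [p.IsPrime] (q : Ideal S)
    [q.IsPrime] [q.LiesOver p] (hq : q ∈ associatedPrimes S (N ⊗[R] (R ⧸ p))) :
    FlatCA.fiberIdeal p q ∈ associatedPrimes (p.Fiber S) (FlatCA.fiberMod p S N) := by
  obtain ⟨Q, hQp, hQ, hcomap⟩ := fiberIdeal_eq p q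
  obtain ⟨_, t, ht⟩ := hq
  let f : (R ⧸ p) →ₗ[R] p.ResidueField :=
    (IsScalarTower.toAlgHom R (R ⧸ p) p.ResidueField).toLinearMap
  have hf : Function.Injective f := Ideal.injective_algebraMap_quotient_residueField p
  have hφ := Groth.Agent.S2069.lT_injective (S := S) (N := N) f hf
  let ξ : (p.Fiber S) ⊗[S] N :=
    fiberEquiv N p (TensorProduct.AlgebraTensorModule.lTensor S N f t)
  have key : ∀ s : S, ((1 : p.ResidueField) ⊗ₜ[R] s : p.Fiber S) • ξ = 0 ↔ s • t = 0 := by
    intro s
    rw [one_tmul_smul]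
    show s • (fiberEquiv N p (TensorProduct.AlgebraTensorModule.lTensor S N f t)) = 0 ↔ _
    rw [← map_smul, ← map_smul, LinearEquiv.map_eq_zero_iff]
    constructor
    · intro h0
      exact hφ (by rw [h0, map_zero])
    · intro h0
      rw [h0, map_zero]
  refine ⟨hQ ▸ hQp, ξ, ?_⟩
  apply le_antisymm
  · rw [FlatCA.fiberIdeal, Ideal.map_le_iff_le_comap]
    intro s hs
    rw [ht] at hs
    obtain ⟨k, hk⟩ := hs
    rw [Submodule.mem_colon_singleton, Submodule.mem_bot] at hk
    rw [Ideal.mem_comap]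
    refine ⟨k, ?_⟩
    rw [Submodule.mem_colon_singleton, Submodule.mem_bot, ← map_pow]
    exact (key _).mpr hk
  · apply Groth.Agent.S1191.le_fiberIdeal_of_forall
    intro s hs
    obtain ⟨k, hk⟩ := hs
    rw [ht]
    refine ⟨k, ?_⟩
    rw [Submodule.mem_colon_singleton, Submodule.mem_bot] at hk ⊢
    rw [Algebra.TensorProduct.tmul_pow, one_pow] at hk
    exact (key _).mp hk

end Groth.Agent.Lib.Helper54.FiberAss
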