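/-
helper54: universal form of the fibrewise regular-element criterion, and regular elements at
fibre primes which are not associated.
-/
import Groth.Agent.Lib.Helper54.EssLoc3
import Groth.Agent.Lib.Helper54.FiberAss

set_option autoImplicit false
set_option maxHeartbeats 400000

namespace Groth.Agent.Lib.Helper54.EssLoc6

open TensorProduct Function
open scoped Pointwise
open Groth.Agent.Lib.Helper54

universe u

section CoreUniv

variable {A B : Type u} [CommRing A] [CommRing B] [Algebra A B] [Algebra.FinitePresentation A B]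
  (M : Type u) [AddCommGroup M] [Module B M] [Module A M] [IsScalarTower A B M]
  [Module.FinitePresentation B M] (q : Ideal B) [q.IsPrime] (g : B) (K : Type u) [Field K]
  [Algebra A K]

/-- **Universal form of the fibrewise criterion for a regular element**: `g` is regular on the
localization at `q` of `M ⊗ X` for every `A`-module `X`. -/
theorem core_univ (hK : ∀ a : A, algebraMap A K a = 0 ↔ algebraMap A B a ∈ q)
    (hflat : Module.Flat A (LocalizedModule q.primeCompl M))
    (hfib : ∀ z : M ⊗[A] K, g • z = 0 → ∃ w, w ∉ q ∧ w • z = 0)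
    (X : Type*) [AddCommGroup X] [Module A X] (y : M ⊗[A] X) (hy : g • y = 0) :
    ∃ w, w ∉ q ∧ w • y = 0 := by
  obtain ⟨c1, c2⟩ := RegFibre5.core M q g K hK hflat hfib
  set L := LocalizedModule q.primeCompl M with hL
  have hreg : IsSMulRegular L g :=
    RegFibre6.isSMulRegular_localized_of_kernel q.primeCompl M g (fun y hy => by
      obtain ⟨w, hw, hwy⟩ := c1 y hy
      exact ⟨w, hw, hwy⟩)
  have hinj : Injective ((LinearMap.lsmul B L g).restrictScalars A) := hreg
  obtain ⟨e⟩ := RegFibre6.exists_quotSMulTop_localized_equiv g q.primeCompl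
    (Submodule.mkQ (g • (⊤ : Submodule B M))) (Submodule.mkQ_surjective _)
    (RegFibre3.exact_smul_mkQ M g)
  haveI := c2
  have h1 : Module.Flat A (QuotSMulTop g L) := Module.Flat.of_linearEquiv (e.restrictScalars A)
  have hrange : LinearMap.range ((LinearMap.lsmul B L g).restrictScalars A) =
      (g • (⊤ : Submodule B L)).restrictScalars A := by
    ext z
    simp only [LinearMap.mem_range, Submodule.restrictScalars_mem,
      Submodule.mem_smul_pointwise_iff_exists]
    constructor
    · rintro ⟨x, rfl⟩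
      exact ⟨x, Submodule.mem_top, rfl⟩
    · rintro ⟨x, -, rfl⟩
      exact ⟨x, rfl⟩
  have hfl : Module.Flat A (L ⧸ LinearMap.range ((LinearMap.lsmul B L g).restrictScalars A)) := by
    haveI := h1
    have h2 : Module.Flat A (L ⧸ (g • (⊤ : Submodule B L)).restrictScalars A) :=
      Module.Flat.of_linearEquiv
        (Submodule.Quotient.restrictScalarsEquiv A (g • (⊤ : Submodule B L)))
    haveI := h2
    exact Module.Flat.of_linearEquiv (Submodule.quotEquivOfEq _ _ hrange)
  obtain ⟨w, hw, hwy⟩ := RegFibre1.univ_regular q.primeCompl g hinj hfl X y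
    ⟨1, q.primeCompl.one_mem, by rw [one_smul]; exact hy⟩
  exact ⟨w, hw, hwy⟩

/-- Powers of `g` are also regular at `q`. -/
theorem core_univ_pow (hK : ∀ a : A, algebraMap A K a = 0 ↔ algebraMap A B a ∈ q)
    (hflat : Module.Flat A (LocalizedModule q.primeCompl M))
    (hfib : ∀ z : M ⊗[A] K, g • z = 0 → ∃ w, w ∉ q ∧ w • z = 0)
    (X : Type*) [AddCommGroup X] [Module A X] (n : ℕ) (y : M ⊗[A] X) (hy : g ^ n • y = 0) :
    ∃ w, w ∉ q ∧ w • y = 0 := by
  induction n generalizing y with
  | zero => exact ⟨1, fun h => ‹q.IsPrime›.ne_top ((Ideal.eq_top_iff_one q).2 h),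
      by rw [one_smul]; simpa using hy⟩
  | succ n ih =>
    have h1 : g • (g ^ n • y) = 0 := by rw [← mul_smul, ← pow_succ']; exact hy
    obtain ⟨w, hw, hwy⟩ := core_univ M q g K hK hflat hfib X _ h1
    have h2 : g ^ n • (w • y) = 0 := by rw [smul_comm]; exact hwy
    obtain ⟨w', hw', hw'y⟩ := ih _ h2
    exact ⟨w' * w, fun h => (‹q.IsPrime›.mem_or_mem h).elim hw' hw, by rw [mul_smul]; exact hw'y⟩

end CoreUniv

section MinimalPrime

variable {B : Type*} [CommRing B]

/-- At a minimal prime over `I`, every element of the prime has a power in `I` up to an element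
outside the prime. -/
theorem exists_mul_pow_mem_of_mem_minimalPrimes {I P : Ideal B} (hP : P ∈ I.minimalPrimes)
    {g : B} (hg : g ∈ P) : ∃ w, w ∉ P ∧ ∃ n : ℕ, w * g ^ n ∈ I := by
  haveI := hP.1.1
  by_contra hcon
  push_neg at hcon
  have hdisj : Disjoint (I : Set B) ((P.primeCompl ⊔ Submonoid.powers g : Submonoid B) : Set B) := by
    rw [Set.disjoint_left]
    intro x hxI hx
    obtain ⟨w, hw, z, hz, rfl⟩ := Submonoid.mem_sup.1 hx
    obtain ⟨n, rfl⟩ := (Submonoid.mem_powers_iff _ _).1 hz
    exact hcon w hw n hxI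
  obtain ⟨P', hP'prime, hIP', hP'disj⟩ := Ideal.exists_le_prime_disjoint I _ hdisj
  have hle : P' ≤ P := by
    intro x hx
    by_contra hxP
    exact (Set.disjoint_left.1 hP'disj) hx
      ((le_sup_left : P.primeCompl ≤ P.primeCompl ⊔ Submonoid.powers g) hxP)
  have hge : P ≤ P' := hP.2 ⟨hP'prime, hIP'⟩ hle
  exact (Set.disjoint_left.1 hP'disj) (hge hg)
    ((le_sup_right : Submonoid.powers g ≤ P.primeCompl ⊔ Submonoid.powers g)
      (Submonoid.mem_powers g))

end MinimalPrime

end Groth.Agent.Lib.Helper54.EssLoc6
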