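/-
helper54: at a prime of `S` whose fibre ideal is not an associated prime of the fibre module,
some element of the prime is regular on the localized fibre module.
-/
import Groth.Agent.Lib.Helper54.EssLoc6

set_option autoImplicit false
set_option maxHeartbeats 400000

namespace Groth.Agent.Lib.Helper54.EssLoc7

open TensorProduct Function
open Groth.Agent.Lib.Helper54

universe u

attribute [local instance] Algebra.TensorProduct.rightAlgebra

section

variable {R S : Type u} [CommRing R] [CommRing S] [Algebra R S] [Algebra.FiniteType R S]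
  (p : Ideal R) [p.IsPrime] (q : Ideal S) [q.IsPrime] [q.LiesOver p]
  (N : Type u) [AddCommGroup N] [Module S N] [Module R N] [IsScalarTower R S N] [Module.Finite S N]

omit [Algebra.FiniteType R S] [q.IsPrime] [q.LiesOver p] in
/-- Scalars outside `p` act invertibly on ideals of the fibre ring. -/
theorem mem_of_smul_mem (J : Ideal (p.Fiber S)) (r : R) (hr : r ∉ p) (x : p.Fiber S)
    (h : r • x ∈ J) : x ∈ J := by
  have hc : algebraMap R p.ResidueField r ≠ 0 := fun h0 =>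
    hr (Ideal.algebraMap_residueField_eq_zero.1 h0)
  have h1 : x = (algebraMap R p.ResidueField r)⁻¹ • (r • x) := by
    rw [← algebraMap_smul p.ResidueField r x, ← mul_smul, inv_mul_cancel₀ hc, one_smul]
  rw [h1]
  exact Submodule.smul_of_tower_mem J _ h

theorem exists_regular_of_not_mem_ass
    (hq : FlatCA.fiberIdeal p q ∉ associatedPrimes (p.Fiber S) (FlatCA.fiberMod p S N)) :
    ∃ g ∈ q, ∀ z : N ⊗[R] p.ResidueField, g • z = 0 → ∃ w, w ∉ q ∧ w • z = 0 := by
  classical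
  haveI : IsNoetherianRing (p.Fiber S) :=
    Algebra.FiniteType.isNoetherianRing p.ResidueField (p.ResidueField ⊗[R] S)
  obtain ⟨Qb, hQbprime, hQb_eq, hcomap⟩ := FiberAss.fiberIdeal_eq p q
  have hQbnot : Qb ∉ associatedPrimes (p.Fiber S) ((p.Fiber S) ⊗[S] N) := by
    rw [← hQb_eq]; exact hq
  have hfin : (associatedPrimes (p.Fiber S) ((p.Fiber S) ⊗[S] N)).Finite :=
    associatedPrimes.finite _ _
  -- the associated primes below `Qb`
  let A : Finset (Ideal (p.Fiber S)) := hfin.toFinset.filter (fun 𝔞 => 𝔞 ≤ Qb)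
  have hA : ∀ 𝔞 ∈ A, 𝔞 ∈ associatedPrimes (p.Fiber S) ((p.Fiber S) ⊗[S] N) ∧ 𝔞 ≤ Qb := by
    intro 𝔞 h𝔞
    have := Finset.mem_filter.1 h𝔞
    exact ⟨by simpa using this.1, this.2⟩
  have hnot : ¬ ((Qb : Set (p.Fiber S)) ⊆ ⋃ 𝔞 ∈ (A : Set (Ideal (p.Fiber S))),
      ((id 𝔞 : Ideal (p.Fiber S)) : Set (p.Fiber S))) := by
    intro hsub
    obtain ⟨𝔞, h𝔞, hle⟩ := (Ideal.subset_union_prime (f := (id : Ideal (p.Fiber S) → _)) ⊥ ⊥
      (fun i hi _ _ => (hA i hi).1.isPrime)).1 hsub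
    have heq : 𝔞 = Qb := le_antisymm (hA 𝔞 h𝔞).2 hle
    exact hQbnot (heq ▸ (hA 𝔞 h𝔞).1)
  obtain ⟨gb, hgbQ, hgb⟩ := Set.not_subset.1 hnot
  have hgb' : ∀ 𝔞 ∈ A, gb ∉ 𝔞 := by
    intro 𝔞 h𝔞 hmem
    exact hgb (Set.mem_biUnion (Finset.mem_coe.2 h𝔞) hmem)
  obtain ⟨r, hr, g, hg⟩ := Ideal.Fiber.exists_smul_eq_one_tmul p gb
  have hone : ∀ s : S, ((1 : p.ResidueField) ⊗ₜ[R] s : p.Fiber S) ∈ Qb ↔ s ∈ q := by
    intro s
    rw [← hcomap]
    rfl
  have hgq : g ∈ q := by
    rw [← hone, ← hg]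
    exact Submodule.smul_of_tower_mem Qb r hgbQ
  refine ⟨g, hgq, ?_⟩
  -- the statement on the fibre module
  have key : ∀ z' : (p.Fiber S) ⊗[S] N, g • z' = 0 → ∃ w, w ∉ q ∧ w • z' = 0 := by
    intro z' hz'
    have hgJ : ((1 : p.ResidueField) ⊗ₜ[R] g : p.Fiber S) ∈
        Module.annihilator (p.Fiber S) (Submodule.span (p.Fiber S) {z'}) := by
      have h0 : ((1 : p.ResidueField) ⊗ₜ[R] g : p.Fiber S) • z' = 0 := by
        rw [FiberAss.one_tmul_smul]; exact hz'
      exact (Submodule.mem_annihilator_span_singleton z' _).2 h0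
    haveI : Module.Finite (p.Fiber S) (Submodule.span (p.Fiber S) {z'}) :=
      Module.Finite.span_singleton _ z'
    have hJnot : ¬ Module.annihilator (p.Fiber S) (Submodule.span (p.Fiber S) {z'}) ≤ Qb := by
      intro hJle
      obtain ⟨𝔞, h𝔞min, h𝔞le⟩ := Ideal.exists_minimalPrimes_le hJle
      have h1 : 𝔞 ∈ associatedPrimes (p.Fiber S) (Submodule.span (p.Fiber S) {z'}) :=
        Module.associatedPrimes.minimalPrimes_annihilator_subset_associatedPrimes (p.Fiber S)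
          (Submodule.span (p.Fiber S) {z'}) h𝔞min
      have h2 : 𝔞 ∈ associatedPrimes (p.Fiber S) ((p.Fiber S) ⊗[S] N) :=
        associatedPrimes.subset_of_injective
          (Submodule.injective_subtype (Submodule.span (p.Fiber S) {z'})) h1
      have h3 : 𝔞 ∈ A := Finset.mem_filter.2 ⟨by simpa using h2, h𝔞le⟩
      have h4 : ((1 : p.ResidueField) ⊗ₜ[R] g : p.Fiber S) ∈ 𝔞 := h𝔞min.1.2 hgJ
      rw [← hg] at h4
      exact hgb' 𝔞 h3 (mem_of_smul_mem p 𝔞 r hr gb h4)
    obtain ⟨wb, hwbJ, hwbQ⟩ := Set.not_subset.1 hJnot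
    obtain ⟨r', hr', w, hw⟩ := Ideal.Fiber.exists_smul_eq_one_tmul p wb
    refine ⟨w, ?_, ?_⟩
    · intro hwq
      have h5 := (hone w).2 hwq
      rw [← hw] at h5
      exact hwbQ (mem_of_smul_mem p Qb r' hr' wb h5)
    · rw [← FiberAss.one_tmul_smul, ← hw, smul_assoc]
      have h6 : wb • z' = 0 := (Submodule.mem_annihilator_span_singleton z' wb).1 hwbJ
      rw [h6, smul_zero]
  intro z hz
  let e := EssLoc3.fibreEquiv (R := R) S p.ResidueField N
  have h7 : g • (e.symm z) = 0 := by rw [← map_smul, hz, map_zero]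
  obtain ⟨w, hw, hwz⟩ := key _ h7
  refine ⟨w, hw, ?_⟩
  have h8 : e.symm (w • z) = 0 := by rw [map_smul]; exact hwz
  exact (LinearEquiv.map_eq_zero_iff e.symm).1 h8

end

end Groth.Agent.Lib.Helper54.EssLoc7
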