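import Mathlib

/-!
# A uniform bound on the number of `K`-points of the fibres of an étale algebra

For an étale `A`-algebra `B` there is an `n` such that for every field `K` over `A`
there are at most `n` `A`-algebra maps `B → K`.
-/

namespace Groth.Agent.Lib.Helper54.EtaleFibreBound

universe u

open Polynomial

/-- For a standard étale algebra `S` with presentation `P`, there are at most `deg P.f`
`A`-algebra maps from `S` to a field. -/
theorem card_le_of_presentation {A S K : Type*} [CommRing A] [CommRing S] [Algebra A S]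
    [Field K] [Algebra A K]
    (P : StandardEtalePresentation A S) (s : Finset (S →ₐ[A] K)) :
    s.card ≤ P.f.natDegree := by
  classical
  have hne : P.f.map (algebraMap A K) ≠ 0 := (P.monic_f.map _).ne_zero
  have h1 : ∀ ψ ∈ s, ψ P.x ∈ (P.f.map (algebraMap A K)).roots.toFinset := by
    intro ψ _
    rw [Multiset.mem_toFinset, mem_roots hne, IsRoot, eval_map_algebraMap]
    have h0 : aeval P.x P.f = 0 := P.hasMap.1
    rw [aeval_algHom_apply, h0, map_zero]
  have h2 : Set.InjOn (fun ψ : S →ₐ[A] K => ψ P.x) s := fun ψ₁ _ ψ₂ _ h => P.hom_ext h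
  calc s.card ≤ (P.f.map (algebraMap A K)).roots.toFinset.card :=
        Finset.card_le_card_of_injOn _ h1 h2
    _ ≤ Multiset.card (P.f.map (algebraMap A K)).roots := Multiset.toFinset_card_le _
    _ ≤ (P.f.map (algebraMap A K)).natDegree := card_roots' _
    _ = P.f.natDegree := P.monic_f.natDegree_map _

/-- Variant: an injective family of algebra maps out of a standard étale algebra. -/
theorem card_le_of_presentation' {A S K ι : Type*} [CommRing A] [CommRing S] [Algebra A S]
    [Field K] [Algebra A K]
    (P : StandardEtalePresentation A S) (s : Finset ι) (F : ι → (S →ₐ[A] K))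
    (hF : Set.InjOn F s) :
    s.card ≤ P.f.natDegree := by
  classical
  rw [← Finset.card_image_of_injOn hF]
  exact card_le_of_presentation P _

/-- The number of algebra maps into a field `K` that do not kill `b`, when `B[1/b]` is
standard étale. -/
theorem card_filter_le {A B K : Type*} [CommRing A] [CommRing B] [Algebra A B]
    [Field K] [Algebra A K] (b : B)
    (P : StandardEtalePresentation A (Localization.Away b)) (s : Finset (B →ₐ[A] K))
    [DecidablePred fun ψ : B →ₐ[A] K => ψ b ≠ 0] :
    (s.filter (fun ψ => ψ b ≠ 0)).card ≤ P.f.natDegree := by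
  classical
  set s' := s.filter (fun ψ => ψ b ≠ 0) with hs'
  have hunit : ∀ ψ : {ψ // ψ ∈ s'}, ∀ y : Submonoid.powers b, IsUnit (ψ.1 (y : B)) := by
    rintro ⟨ψ, hψ⟩ ⟨_, n, rfl⟩
    have h0 : ψ b ≠ 0 := (Finset.mem_filter.mp hψ).2
    simpa using (isUnit_iff_ne_zero.mpr h0).pow n
  let F : {ψ // ψ ∈ s'} → (Localization.Away b →ₐ[A] K) := fun ψ =>
    IsLocalization.liftAlgHom (M := Submonoid.powers b) (hunit ψ)
  have hF : Function.Injective F := by
    intro ψ₁ ψ₂ h
    apply Subtype.ext
    ext x
    have e1 : F ψ₁ (algebraMap B _ x) = ψ₁.1 x := by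
      simp only [F, IsLocalization.liftAlgHom_apply, IsLocalization.lift_eq]
      rfl
    have e2 : F ψ₂ (algebraMap B _ x) = ψ₂.1 x := by
      simp only [F, IsLocalization.liftAlgHom_apply, IsLocalization.lift_eq]
      rfl
    rw [← e1, ← e2, h]
  have := card_le_of_presentation' P s'.attach F (hF.injOn)
  simpa using this

/-- **Uniform bound on the number of points in the fibres of an étale algebra.** -/
theorem exists_bound_algHom_of_etale (A B : Type u) [CommRing A] [CommRing B] [Algebra A B]
    [Algebra.Etale A B] :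
    ∃ n : ℕ, ∀ (K : Type u) [Field K] [Algebra A K] (s : Finset (B →ₐ[A] K)), s.card ≤ n := by
  classical
  have key : ∀ Q : PrimeSpectrum B, ∃ f : B, f ∉ Q.asIdeal ∧
      Algebra.IsStandardEtale A (Localization.Away f) := by
    intro Q
    have : Algebra.IsEtaleAt A Q.asIdeal :=
      Algebra.FormallyEtale.comp A B (Localization.AtPrime Q.asIdeal)
    exact Algebra.IsEtaleAt.exists_isStandardEtale Q.asIdeal
  choose f hfQ hf using key
  have hspan : Ideal.span (Set.range f) = ⊤ := by
    by_contra h
    obtain ⟨m, hm, hle⟩ := Ideal.exists_le_maximal _ h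
    exact hfQ ⟨m, hm.isPrime⟩ (hle (Ideal.subset_span ⟨_, rfl⟩))
  obtain ⟨T, hT, hTspan⟩ := (Ideal.span_eq_top_iff_finite _).mp hspan
  have hstd : ∀ b ∈ T, Nonempty (StandardEtalePresentation A (Localization.Away b)) := by
    intro b hb
    obtain ⟨Q, rfl⟩ := hT hb
    exact (hf Q).nonempty_standardEtalePresentation
  let P : ∀ b : {b // b ∈ T}, StandardEtalePresentation A (Localization.Away b.1) :=
    fun b => (hstd b.1 b.2).some
  refine ⟨∑ b ∈ T.attach, (P b).f.natDegree, ?_⟩
  intro K _ _ s
  have hcover : s ⊆ T.attach.biUnion (fun b => s.filter (fun ψ => ψ b.1 ≠ 0)) := by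
    intro ψ hψ
    by_contra hcon
    have hall : ∀ b ∈ T, ψ b = 0 := by
      intro b hb
      by_contra hne
      exact hcon (Finset.mem_biUnion.mpr ⟨⟨b, hb⟩, Finset.mem_attach _ _,
        Finset.mem_filter.mpr ⟨hψ, hne⟩⟩)
    have hle : Ideal.span (T : Set B) ≤ RingHom.ker (ψ : B →+* K) :=
      Ideal.span_le.mpr fun b hb => (RingHom.mem_ker).mpr (hall b hb)
    rw [hTspan] at hle
    have h1 : (1 : B) ∈ RingHom.ker (ψ : B →+* K) := hle Submodule.mem_top
    rw [RingHom.mem_ker] at h1
    simp at h1
  calc s.card ≤ (T.attach.biUnion (fun b => s.filter (fun ψ => ψ b.1 ≠ 0))).card :=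
        Finset.card_le_card hcover
    _ ≤ ∑ b ∈ T.attach, (s.filter (fun ψ => ψ b.1 ≠ 0)).card := Finset.card_biUnion_le
    _ ≤ ∑ b ∈ T.attach, (P b).f.natDegree :=
        Finset.sum_le_sum fun b _ => card_filter_le b.1 (P b) s

end Groth.Agent.Lib.Helper54.EtaleFibreBound
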