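/-
helper54: injectivity of a localized linear map, elementwise, and the Noetherian stage of the
fibrewise criterion for injectivity with flat cokernel (EGA IV 11.3.7), for an arbitrary linear map
`u : M → N`, deduced from Stacks 00ME (S0393).
-/
import Mathlib
import Groth.Agent.S0393

set_option autoImplicit false
set_option maxHeartbeats 800000
set_option linter.style.haveILetI false

namespace Groth.Agent.Lib.Helper54.MapFibre1

open TensorProduct Function

universe u

section Elementwise

variable {B : Type*} [CommRing B] (W : Submonoid B) {M M' N N' : Type*} [AddCommGroup M]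
  [AddCommGroup M'] [AddCommGroup N] [AddCommGroup N'] [Module B M] [Module B M'] [Module B N]
  [Module B N'] (ℓM : M →ₗ[B] M') [IsLocalizedModule W ℓM] (ℓN : N →ₗ[B] N')
  [IsLocalizedModule W ℓN] (u : M →ₗ[B] N)

/-- Injectivity of a localized map, elementwise on the original modules. -/
theorem injective_localized_iff (u' : M' →ₗ[B] N') (hu' : ∀ m, u' (ℓM m) = ℓN (u m)) :
    (∀ y' : M', u' y' = 0 → y' = 0) ↔
      ∀ y : M, (∃ s ∈ W, s • u y = 0) → ∃ s' ∈ W, s' • y = 0 := by
  constructor
  · rintro h y ⟨s, hs, hy⟩
    have h1 : ℓN (u y) = 0 := by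
      apply IsLocalizedModule.smul_injective ℓN (⟨s, hs⟩ : W)
      show (⟨s, hs⟩ : W) • ℓN (u y) = (⟨s, hs⟩ : W) • (0 : N')
      rw [smul_zero, Submonoid.mk_smul, ← map_smul, hy, map_zero]
    obtain ⟨s', hs'⟩ := (IsLocalizedModule.eq_zero_iff W ℓM).1 (h _ ((hu' y).trans h1))
    exact ⟨s'.1, s'.2, hs'⟩
  · intro h y' hy'
    obtain ⟨⟨y, s⟩, hys⟩ := IsLocalizedModule.surj W ℓM y'
    have hys' : (s : B) • y' = ℓM y := hys
    have h1 : ℓN (u y) = 0 := by
      rw [← hu', ← hys', map_smul, hy', smul_zero]
    obtain ⟨t, ht⟩ := (IsLocalizedModule.eq_zero_iff W ℓN).1 h1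
    obtain ⟨s', hs'W, hs'⟩ := h y ⟨t.1, t.2, ht⟩
    have h2 : ℓM y = 0 := (IsLocalizedModule.eq_zero_iff W ℓM).2 ⟨⟨s', hs'W⟩, hs'⟩
    rw [h2] at hys'
    apply IsLocalizedModule.smul_injective ℓM s
    show s • y' = s • (0 : M')
    rw [smul_zero]
    exact hys'

end Elementwise

section TensorMap

variable {T B : Type*} [CommRing T] [CommRing B] [Algebra T B]
  {M N : Type*} [AddCommGroup M] [Module B M] [Module T M] [IsScalarTower T B M]
  [AddCommGroup N] [Module B N] [Module T N] [IsScalarTower T B N]
  (W : Submonoid B) (u : M →ₗ[B] N) (X : Type*) [AddCommGroup X] [Module T X]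

/-- The localization of `u ⊗ X` is `u_W ⊗ X`. -/
theorem rTensor_map_apply (y : M ⊗[T] X) :
    AlgebraTensorModule.rTensor T X (IsLocalizedModule.map W (LocalizedModule.mkLinearMap W M)
        (LocalizedModule.mkLinearMap W N) u)
      (AlgebraTensorModule.rTensor T X (LocalizedModule.mkLinearMap W M) y) =
    AlgebraTensorModule.rTensor T X (LocalizedModule.mkLinearMap W N)
      (AlgebraTensorModule.rTensor T X u y) := by
  induction y with
  | zero => simp
  | add x y hx hy => simp only [map_add, hx, hy]
  | tmul m x =>
    simp only [AlgebraTensorModule.rTensor_tmul]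
    congr 1
    exact IsLocalizedModule.map_apply W _ _ u m

end TensorMap

section Stage

variable {T B : Type u} [CommRing T] [CommRing B] [Algebra T B] [IsNoetherianRing B]
  {M N : Type u} [AddCommGroup M] [Module B M] [Module T M] [IsScalarTower T B M]
  [Module.Finite B M] [AddCommGroup N] [Module B N] [Module T N] [IsScalarTower T B N]
  (q : Ideal B) [q.IsPrime] (u : M →ₗ[B] N)

/-- **Noetherian stage.** If `N_q` is flat over `T` and `u` is injective on the localization at
`q` of the fibre `M ⊗ κ(p)`, then `u_q` is injective with `T`-flat cokernel. -/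
theorem stage_core
    (hflat : Module.Flat T (LocalizedModule q.primeCompl N))
    (hfib : ∀ y : M ⊗[T] (q.comap (algebraMap T B)).ResidueField,
      (∃ s ∈ q.primeCompl, s • AlgebraTensorModule.rTensor T _ u y = 0) →
        ∃ s' ∈ q.primeCompl, s' • y = 0) :
    Injective (LocalizedModule.map q.primeCompl u) ∧
      Module.Flat T (LocalizedModule q.primeCompl N ⧸
        LinearMap.range ((LocalizedModule.map q.primeCompl u).restrictScalars T)) := by
  set p : Ideal T := q.comap (algebraMap T B) with hp
  set LM := LocalizedModule q.primeCompl M with hLM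
  set LN := LocalizedModule q.primeCompl N with hLN
  let R' := Localization.AtPrime p
  let S := Localization.AtPrime q
  letI algR'S : Algebra R' S := (Localization.localRingHom p q (algebraMap T B) rfl).toAlgebra
  haveI : IsLocalHom (algebraMap R' S) := Localization.isLocalHom_localRingHom p q (algebraMap T B) rfl
  letI modR'LM : Module R' LM := Module.compHom LM (algebraMap R' S)
  letI modR'LN : Module R' LN := Module.compHom LN (algebraMap R' S)
  haveI towR'SLM : IsScalarTower R' S LM := ⟨fun r s y => by
    show (r • s) • y = (algebraMap R' S r) • (s • y)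
    rw [Algebra.smul_def, mul_smul]⟩
  haveI towR'SLN : IsScalarTower R' S LN := ⟨fun r s y => by
    show (r • s) • y = (algebraMap R' S r) • (s • y)
    rw [Algebra.smul_def, mul_smul]⟩
  have hTS : ∀ (t : T), algebraMap R' S (algebraMap T R' t) = algebraMap B S (algebraMap T B t) :=
    fun t => Localization.localRingHom_to_map p q (algebraMap T B) rfl t
  have hTLM : ∀ (t : T) (z : LM), (algebraMap R' S (algebraMap T R' t)) • z = t • z := by
    intro t z
    rw [hTS, algebraMap_smul, algebraMap_smul]
  have hTLN : ∀ (t : T) (z : LN), (algebraMap R' S (algebraMap T R' t)) • z = t • z := by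
    intro t z
    rw [hTS, algebraMap_smul, algebraMap_smul]
  haveI towTR'LM : IsScalarTower T R' LM := ⟨fun t r y => by
    show (algebraMap R' S (t • r)) • y = t • ((algebraMap R' S r) • y)
    rw [Algebra.smul_def, map_mul, mul_smul, hTLM]⟩
  haveI towTR'LN : IsScalarTower T R' LN := ⟨fun t r y => by
    show (algebraMap R' S (t • r)) • y = t • ((algebraMap R' S r) • y)
    rw [Algebra.smul_def, map_mul, mul_smul, hTLN]⟩
  haveI flatR'LN : Module.Flat R' LN :=
    (Module.flat_iff_of_isLocalization (R := T) (M := LN) R' p.primeCompl).2 hflat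
  haveI : IsNoetherianRing S := IsLocalization.isNoetherianRing q.primeCompl S inferInstance
  haveI : Module.Finite S LM := inferInstance
  let uq : LM →ₗ[B] LN := IsLocalizedModule.map q.primeCompl
    (LocalizedModule.mkLinearMap q.primeCompl M) (LocalizedModule.mkLinearMap q.primeCompl N) u
  let uS : LM →ₗ[S] LN := LocalizedModule.map q.primeCompl u
  let u' : LM →ₗ[R'] LN := uS.restrictScalars R'
  have hu' : ∀ y, u' y = uq y := fun y => rfl
  have hkey : ∀ y' : LM ⊗[T] p.ResidueField,
      AlgebraTensorModule.rTensor T p.ResidueField uq y' = 0 → y' = 0 :=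
    (injective_localized_iff q.primeCompl
      (AlgebraTensorModule.rTensor T p.ResidueField (LocalizedModule.mkLinearMap q.primeCompl M))
      (AlgebraTensorModule.rTensor T p.ResidueField (LocalizedModule.mkLinearMap q.primeCompl N))
      (AlgebraTensorModule.rTensor T p.ResidueField u)
      (AlgebraTensorModule.rTensor T p.ResidueField uq)
      (rTensor_map_apply q.primeCompl u p.ResidueField)).2 hfib
  have h : Injective (u'.lTensor (IsLocalRing.ResidueField R')) := by
    let e₁M : p.ResidueField ⊗[R'] LM ≃ₗ[R'] p.ResidueField ⊗[T] LM :=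
      IsLocalization.moduleTensorEquiv p.primeCompl R' p.ResidueField LM
    let e₁N : p.ResidueField ⊗[R'] LN ≃ₗ[R'] p.ResidueField ⊗[T] LN :=
      IsLocalization.moduleTensorEquiv p.primeCompl R' p.ResidueField LN
    let e₂M := TensorProduct.comm T p.ResidueField LM
    let e₂N := TensorProduct.comm T p.ResidueField LN
    have hΦ : ∀ x : p.ResidueField ⊗[R'] LM,
        e₂N (e₁N (u'.lTensor p.ResidueField x)) =
          AlgebraTensorModule.rTensor T p.ResidueField uq (e₂M (e₁M x)) := by
      intro x
      induction x with
      | zero => simp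
      | add x y hx hy => simp only [map_add, hx, hy]
      | tmul c y =>
        rw [LinearMap.lTensor_tmul, hu']
        show e₂N (c ⊗ₜ[T] (uq y)) = AlgebraTensorModule.rTensor T p.ResidueField uq (e₂M (c ⊗ₜ[T] y))
        rw [TensorProduct.comm_tmul, TensorProduct.comm_tmul, AlgebraTensorModule.rTensor_tmul]
    rw [injective_iff_map_eq_zero]
    intro x hx
    have h1 := hkey (e₂M (e₁M x)) (by rw [← hΦ, hx, map_zero, map_zero])
    have h2 : e₁M x = 0 := (LinearEquiv.map_eq_zero_iff e₂M).1 h1
    exact (LinearEquiv.map_eq_zero_iff e₁M).1 h2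
  obtain ⟨hinj, hfl⟩ := Groth.Agent.S0393.result (R := R') (S := S) (M := LN) (N := LM) u' h
  refine ⟨fun x y hxy => hinj hxy, ?_⟩
  have hrange : (LinearMap.range u').restrictScalars T =
      LinearMap.range ((LocalizedModule.map q.primeCompl u).restrictScalars T) := by
    ext y
    simp only [Submodule.restrictScalars_mem, LinearMap.mem_range]
    constructor
    · rintro ⟨x, rfl⟩
      exact ⟨x, rfl⟩
    · rintro ⟨x, rfl⟩
      exact ⟨x, rfl⟩
  haveI : Module.Flat T R' := IsLocalization.flat R' p.primeCompl
  haveI h1 : Module.Flat T (LN ⧸ LinearMap.range u') := Module.Flat.trans T R' _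
  have h2 : Module.Flat T (LN ⧸ (LinearMap.range u').restrictScalars T) :=
    Module.Flat.of_linearEquiv (Submodule.Quotient.restrictScalarsEquiv T (LinearMap.range u'))
  exact Module.Flat.of_linearEquiv (Submodule.quotEquivOfEq _ _ hrange).symm

end Stage

section Consequences

variable {T B : Type*} [CommRing T] [CommRing B] [Algebra T B]
  {M N : Type*} [AddCommGroup M] [Module B M] [Module T M] [IsScalarTower T B M]
  [AddCommGroup N] [Module B N] [Module T N] [IsScalarTower T B N]
  (W : Submonoid B) (u : M →ₗ[B] N)

/-- Universal injectivity: if `u_W` is injective with `T`-flat cokernel, then `u ⊗ X` is injective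
after localization for every `T`-module `X`, in elementwise form. -/
theorem univ_injective
    (hinj : Injective (LocalizedModule.map W u))
    (hfl : Module.Flat T (LocalizedModule W N ⧸
      LinearMap.range ((LocalizedModule.map W u).restrictScalars T)))
    (X : Type*) [AddCommGroup X] [Module T X] (y : M ⊗[T] X)
    (hy : ∃ s ∈ W, s • AlgebraTensorModule.rTensor T X u y = 0) : ∃ s' ∈ W, s' • y = 0 := by
  set LM := LocalizedModule W M with hLM
  set LN := LocalizedModule W N with hLN
  set uq : LM →ₗ[B] LN := IsLocalizedModule.map W (LocalizedModule.mkLinearMap W M)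
    (LocalizedModule.mkLinearMap W N) u with huq
  set uT : LM →ₗ[T] LN := (LocalizedModule.map W u).restrictScalars T with huT
  have huqT : ∀ y, uT y = uq y := fun y => rfl
  have h1 : Injective (uT.lTensor X) :=
    LinearMap.lTensor_injective_of_exact_of_flat (LinearMap.range uT).mkQ
      (Submodule.mkQ_surjective _) uT hinj (LinearMap.exact_map_mkQ_range uT) X
  have hcomm : ∀ y' : LM ⊗[T] X,
      uT.lTensor X (TensorProduct.comm T LM X y') =
        TensorProduct.comm T LN X (AlgebraTensorModule.rTensor T X uq y') := by
    intro y'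
    induction y' with
    | zero => simp
    | add x y hx hy => simp only [map_add, hx, hy]
    | tmul l x =>
      rw [TensorProduct.comm_tmul, LinearMap.lTensor_tmul, AlgebraTensorModule.rTensor_tmul,
        TensorProduct.comm_tmul, huqT]
  have hkey : ∀ y' : LM ⊗[T] X, AlgebraTensorModule.rTensor T X uq y' = 0 → y' = 0 := by
    intro y' hy'
    have h2 := hcomm y'
    rw [hy', map_zero] at h2
    have h3 := h1 (h2.trans (map_zero _).symm)
    exact (LinearEquiv.map_eq_zero_iff _).1 h3
  exact (injective_localized_iff W
    (AlgebraTensorModule.rTensor T X (LocalizedModule.mkLinearMap W M))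
    (AlgebraTensorModule.rTensor T X (LocalizedModule.mkLinearMap W N))
    (AlgebraTensorModule.rTensor T X u) (AlgebraTensorModule.rTensor T X uq)
    (rTensor_map_apply W u X)).1 hkey y hy

/-- Flatness of the localization of a cokernel of `u`. -/
theorem flat_localized_coker
    (hfl : Module.Flat T (LocalizedModule W N ⧸
      LinearMap.range ((LocalizedModule.map W u).restrictScalars T)))
    {Q : Type*} [AddCommGroup Q] [Module B Q] [Module T Q] [IsScalarTower T B Q]
    (π : N →ₗ[B] Q) (hπ : Surjective π) (hex : Function.Exact u π) :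
    Module.Flat T (LocalizedModule W Q) := by
  set LN := LocalizedModule W N with hLN
  let ℓM := LocalizedModule.mkLinearMap W M
  let ℓN := LocalizedModule.mkLinearMap W N
  let ℓQ := LocalizedModule.mkLinearMap W Q
  let f : LN →ₗ[B] LocalizedModule W Q := IsLocalizedModule.map W ℓN ℓQ π
  have hf : Surjective f := IsLocalizedModule.map_surjective W ℓN ℓQ π hπ
  have hexL : Function.Exact (LocalizedModule.map W u) f :=
    IsLocalizedModule.map_exact W ℓM ℓN ℓQ u π hex
  have hker : LinearMap.ker (f.restrictScalars T) =
      LinearMap.range ((LocalizedModule.map W u).restrictScalars T) := by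
    ext y
    simp only [LinearMap.mem_ker, LinearMap.mem_range, LinearMap.coe_restrictScalars]
    exact hexL y
  have e1 : (LN ⧸ LinearMap.ker (f.restrictScalars T)) ≃ₗ[T] LocalizedModule W Q :=
    LinearMap.quotKerEquivOfSurjective (f.restrictScalars T) hf
  have e2 := Submodule.quotEquivOfEq _ _ hker
  exact Module.Flat.of_linearEquiv (e1.symm.trans e2)

end Consequences

end Groth.Agent.Lib.Helper54.MapFibre1
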