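/-
helper54: the stage dictionary for a linear map `u₀ : M₀ → N₀`: naturality of `act` and `Psi`, the
uniform annihilator of the kernel of `u₀` on a fibre over a field, and descent of injectivity on
the fibre to a stage.
-/
import Groth.Agent.Lib.Helper54.RegFibre2
import Groth.Agent.Lib.Helper54.MapFibre1

set_option autoImplicit false
set_option maxHeartbeats 800000
set_option linter.style.haveILetI false

namespace Groth.Agent.Lib.Helper54.MapFibre2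

open TensorProduct Function
open Groth.Agent.Lib.Helper54
open Groth.Agent.Lib.Helper54.FlatStage1
open Groth.Agent.Lib.Helper54.FlatStage4
open Groth.Agent.Lib.Helper54.RegFibre2

attribute [local instance] Algebra.TensorProduct.rightAlgebra

universe u

section Nat

variable (R₀ S₀ : Type*) {M₀ N₀ : Type*} [CommRing R₀] [CommRing S₀] [Algebra R₀ S₀]
  [AddCommGroup M₀] [Module R₀ M₀] [Module S₀ M₀] [IsScalarTower R₀ S₀ M₀]
  [AddCommGroup N₀] [Module R₀ N₀] [Module S₀ N₀] [IsScalarTower R₀ S₀ N₀]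
  (u₀ : M₀ →ₗ[S₀] N₀)
variable (T : Type*) [CommRing T] [Algebra R₀ T]
variable (X : Type*) [AddCommGroup X] [Module R₀ X] [Module T X] [IsScalarTower R₀ T X]

/-- `u₀ ⊗ X`. -/
noncomputable abbrev uX : M₀ ⊗[R₀] X →ₗ[S₀] N₀ ⊗[R₀] X := AlgebraTensorModule.rTensor R₀ X u₀

theorem uX_act (w : S₀ ⊗[R₀] T) (z : M₀ ⊗[R₀] X) :
    uX R₀ S₀ u₀ X (act R₀ S₀ M₀ T X w z) = act R₀ S₀ N₀ T X w (uX R₀ S₀ u₀ X z) := by
  induction w with
  | zero => simp
  | add w₁ w₂ h₁ h₂ =>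
    rw [map_add, LinearMap.add_apply, map_add, h₁, h₂, map_add, LinearMap.add_apply]
  | tmul σ t =>
    induction z with
    | zero => simp
    | add z₁ z₂ h₁ h₂ => rw [map_add, map_add, h₁, h₂, map_add, map_add]
    | tmul m x =>
      rw [act_tmul, AlgebraTensorModule.rTensor_tmul, AlgebraTensorModule.rTensor_tmul, act_tmul,
        map_smul]

theorem Psi_uX (z : M₀ ⊗[R₀] X) :
    Psi R₀ S₀ N₀ T X (uX R₀ S₀ u₀ X z) =
      AlgebraTensorModule.rTensor T X (u₀.baseChange (S₀ ⊗[R₀] T)) (Psi R₀ S₀ M₀ T X z) := by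
  induction z with
  | zero => simp
  | add z₁ z₂ h₁ h₂ => rw [map_add, map_add, h₁, h₂, map_add, map_add]
  | tmul m x =>
    rw [AlgebraTensorModule.rTensor_tmul, Psi_tmul, Psi_tmul, AlgebraTensorModule.rTensor_tmul,
      LinearMap.baseChange_tmul]

variable {X} in
theorem lTensor_uX {X' : Type*} [AddCommGroup X'] [Module R₀ X'] (j : X →ₗ[R₀] X')
    (z : M₀ ⊗[R₀] X) :
    j.lTensor N₀ (uX R₀ S₀ u₀ X z) = uX R₀ S₀ u₀ X' (j.lTensor M₀ z) := by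
  induction z with
  | zero => simp
  | add z₁ z₂ h₁ h₂ => rw [map_add, map_add, h₁, h₂, map_add, map_add]
  | tmul m x =>
    rw [AlgebraTensorModule.rTensor_tmul, LinearMap.lTensor_tmul, LinearMap.lTensor_tmul,
      AlgebraTensorModule.rTensor_tmul]

end Nat

section Uniform

variable (R₀ S₀ M₀ N₀ : Type u) [CommRing R₀] [CommRing S₀] [Algebra R₀ S₀]
  [AddCommGroup M₀] [Module R₀ M₀] [Module S₀ M₀] [IsScalarTower R₀ S₀ M₀]
  [AddCommGroup N₀] [Module R₀ N₀] [Module S₀ N₀] [IsScalarTower R₀ S₀ N₀]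
  [Algebra.FiniteType R₀ S₀] [Module.Finite S₀ M₀]
variable (R : Type u) [CommRing R] [Algebra R₀ R]
variable (K : Type u) [Field K] [Algebra R K] [Algebra R₀ K] [IsScalarTower R₀ R K]

/-- **Uniform annihilator.** If every element of the kernel of `u₀` on the fibre `M₀ ⊗ K` is
killed by some element outside the prime `q`, a single element outside `q` kills the kernel. -/
theorem exists_uniform (q : Ideal (S₀ ⊗[R₀] R)) [q.IsPrime] (u₀ : M₀ →ₗ[S₀] N₀)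
    (hfib : ∀ z : M₀ ⊗[R₀] K, uX R₀ S₀ u₀ K z = 0 → ∃ w, w ∉ q ∧ act R₀ S₀ M₀ R K w z = 0) :
    ∃ w, w ∉ q ∧ ∀ z : M₀ ⊗[R₀] K, uX R₀ S₀ u₀ K z = 0 → act R₀ S₀ M₀ R K w z = 0 := by
  classical
  haveI : Algebra.FiniteType K (S₀ ⊗[R₀] K) := FlatOpenB.finiteType_right R₀ S₀ K
  haveI : IsNoetherianRing (S₀ ⊗[R₀] K) := Algebra.FiniteType.isNoetherianRing K _
  haveI : IsNoetherian (S₀ ⊗[R₀] K) ((S₀ ⊗[R₀] K) ⊗[S₀] M₀) :=
    isNoetherian_of_isNoetherianRing_of_finite _ _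
  let eM : M₀ ⊗[R₀] K ≃ₗ[R₀] (S₀ ⊗[R₀] K) ⊗[S₀] M₀ :=
    (Psi R₀ S₀ M₀ K K).trans
      ((AlgebraTensorModule.rid K (S₀ ⊗[R₀] K) ((S₀ ⊗[R₀] K) ⊗[S₀] M₀)).restrictScalars R₀)
  let eN : N₀ ⊗[R₀] K ≃ₗ[R₀] (S₀ ⊗[R₀] K) ⊗[S₀] N₀ :=
    (Psi R₀ S₀ N₀ K K).trans
      ((AlgebraTensorModule.rid K (S₀ ⊗[R₀] K) ((S₀ ⊗[R₀] K) ⊗[S₀] N₀)).restrictScalars R₀)
  have he : ∀ (c : S₀ ⊗[R₀] K) (z : M₀ ⊗[R₀] K), eM (act R₀ S₀ M₀ K K c z) = c • eM z := by
    intro c z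
    show (AlgebraTensorModule.rid K (S₀ ⊗[R₀] K) ((S₀ ⊗[R₀] K) ⊗[S₀] M₀))
      (Psi R₀ S₀ M₀ K K (act R₀ S₀ M₀ K K c z)) = c •
      (AlgebraTensorModule.rid K (S₀ ⊗[R₀] K) ((S₀ ⊗[R₀] K) ⊗[S₀] M₀)) (Psi R₀ S₀ M₀ K K z)
    rw [← smul_Psi, map_smul]
  have hrid : ∀ y : ((S₀ ⊗[R₀] K) ⊗[S₀] M₀) ⊗[K] K,
      (AlgebraTensorModule.rid K (S₀ ⊗[R₀] K) ((S₀ ⊗[R₀] K) ⊗[S₀] N₀))
        (AlgebraTensorModule.rTensor K K (u₀.baseChange (S₀ ⊗[R₀] K)) y) =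
      u₀.baseChange (S₀ ⊗[R₀] K)
        ((AlgebraTensorModule.rid K (S₀ ⊗[R₀] K) ((S₀ ⊗[R₀] K) ⊗[S₀] M₀)) y) := by
    intro y
    induction y with
    | zero => simp
    | add y₁ y₂ h₁ h₂ => rw [map_add, map_add, h₁, h₂, map_add, map_add]
    | tmul a c =>
      rw [AlgebraTensorModule.rTensor_tmul, AlgebraTensorModule.rid_tmul,
        AlgebraTensorModule.rid_tmul, LinearMap.map_smul_of_tower]
  have heu : ∀ z : M₀ ⊗[R₀] K, eN (uX R₀ S₀ u₀ K z) = u₀.baseChange (S₀ ⊗[R₀] K) (eM z) := by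
    intro z
    show (AlgebraTensorModule.rid K (S₀ ⊗[R₀] K) ((S₀ ⊗[R₀] K) ⊗[S₀] N₀))
      (Psi R₀ S₀ N₀ K K (uX R₀ S₀ u₀ K z)) = _
    rw [Psi_uX, hrid]
    rfl
  let Nk : Submodule (S₀ ⊗[R₀] K) ((S₀ ⊗[R₀] K) ⊗[S₀] M₀) :=
    LinearMap.ker (u₀.baseChange (S₀ ⊗[R₀] K))
  obtain ⟨s, hs⟩ : Nk.FG := IsNoetherian.noetherian Nk
  have hmemN : ∀ z : M₀ ⊗[R₀] K, uX R₀ S₀ u₀ K z = 0 → eM z ∈ Nk := by
    intro z hz
    show u₀.baseChange (S₀ ⊗[R₀] K) (eM z) = 0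
    rw [← heu, hz, map_zero]
  have h1 : ∀ y ∈ s, ∃ w, w ∉ q ∧ act R₀ S₀ M₀ R K w (eM.symm y) = 0 := by
    intro y hy
    apply hfib
    apply eN.injective
    have hyN : y ∈ Nk := hs ▸ Submodule.subset_span hy
    rw [heu, LinearEquiv.apply_symm_apply, map_zero]
    exact hyN
  choose! w hw using h1
  refine ⟨∏ y ∈ s, w y, ?_, ?_⟩
  · rw [Ideal.IsPrime.prod_mem_iff]
    rintro ⟨y, hy, hyq⟩
    exact (hw y hy).1 hyq
  · intro z hz
    let φK := IsScalarTower.toAlgHom R₀ R K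
    have hact : ∀ (w' : S₀ ⊗[R₀] R) (z' : M₀ ⊗[R₀] K),
        eM (act R₀ S₀ M₀ R K w' z') = SM S₀ φK w' • eM z' := by
      intro w' z'
      rw [act_eq_act_field, he]
    have hle : Nk ≤ LinearMap.ker (LinearMap.lsmul (S₀ ⊗[R₀] K) ((S₀ ⊗[R₀] K) ⊗[S₀] M₀)
        (SM S₀ φK (∏ y ∈ s, w y))) := by
      rw [← hs, Submodule.span_le]
      intro y hy
      show SM S₀ φK (∏ y ∈ s, w y) • y = 0
      have h2 : SM S₀ φK (∏ y ∈ s, w y) • y =
          eM (act R₀ S₀ M₀ R K (∏ y ∈ s, w y) (eM.symm y)) := by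
        rw [hact, LinearEquiv.apply_symm_apply]
      rw [h2, ← Finset.prod_erase_mul s w hy, act_mul, (hw y hy).2, map_zero, map_zero]
    have h3 := hle (hmemN z hz)
    apply eM.injective
    rw [hact, map_zero]
    exact h3

end Uniform

section StageFibre

variable (R₀ S₀ M₀ N₀ : Type u) [CommRing R₀] [CommRing S₀] [Algebra R₀ S₀]
  [AddCommGroup M₀] [Module R₀ M₀] [Module S₀ M₀] [IsScalarTower R₀ S₀ M₀]
  [AddCommGroup N₀] [Module R₀ N₀] [Module S₀ N₀] [IsScalarTower R₀ S₀ N₀]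
variable (R : Type u) [CommRing R] [Algebra R₀ R]
variable (K : Type u) [Field K] [Algebra R K] [Algebra R₀ K] [IsScalarTower R₀ R K]
variable (T : Type u) [CommRing T] [Algebra R₀ T] (φ : T →ₐ[R₀] R)

omit [AddCommGroup M₀] [Module R₀ M₀] [Module S₀ M₀] [IsScalarTower R₀ S₀ M₀]
  [AddCommGroup N₀] [Module R₀ N₀] [Module S₀ N₀] [IsScalarTower R₀ S₀ N₀] in
theorem SM_algebraMap_right (t : T) :
    SM S₀ φ (algebraMap T (S₀ ⊗[R₀] T) t) = algebraMap R (S₀ ⊗[R₀] R) (φ t) := by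
  rw [Algebra.TensorProduct.right_algebraMap_apply, Algebra.TensorProduct.right_algebraMap_apply,
    Algebra.TensorProduct.map_tmul, map_one]

/-- **Descent of injectivity on the fibre to a stage.** -/
theorem stage_hfib (q : Ideal (S₀ ⊗[R₀] R)) [q.IsPrime] (u₀ : M₀ →ₗ[S₀] N₀)
    (hK : ∀ r : R, algebraMap R K r = 0 ↔ algebraMap R (S₀ ⊗[R₀] R) r ∈ q)
    (wT : S₀ ⊗[R₀] T) (hwq : SM S₀ φ wT ∉ q)
    (hw : ∀ z : M₀ ⊗[R₀] K, uX R₀ S₀ u₀ K z = 0 →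
      act R₀ S₀ M₀ R K (SM S₀ φ wT) z = 0)
    (qT : Ideal (S₀ ⊗[R₀] T)) [qT.IsPrime] (hqT : ∀ x, x ∈ qT ↔ SM S₀ φ x ∈ q)
    (pT : Ideal T) [pT.IsPrime] (hpT : ∀ t, t ∈ pT ↔ algebraMap T (S₀ ⊗[R₀] T) t ∈ qT)
    (y : ((S₀ ⊗[R₀] T) ⊗[S₀] M₀) ⊗[T] pT.ResidueField)
    (hy : ∃ s ∈ qT.primeCompl,
      s • AlgebraTensorModule.rTensor T pT.ResidueField (u₀.baseChange (S₀ ⊗[R₀] T)) y = 0) :
    ∃ s' ∈ qT.primeCompl, s' • y = 0 := by
  -- the map of residue fields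
  have hmem : ∀ t : T, t ∈ pT ↔ algebraMap R K (φ t) = 0 := by
    intro t
    rw [hK, ← SM_algebraMap_right, hpT, hqT]
  let f : T →+* K := (algebraMap R K).comp φ.toRingHom
  have hf₁ : pT ≤ RingHom.ker f := fun t ht => (hmem t).1 ht
  have hf₂ : pT.primeCompl ≤ (IsUnit.submonoid K).comap f := by
    intro t ht
    show IsUnit (f t)
    rw [isUnit_iff_ne_zero]
    exact fun h0 => ht ((hmem t).2 h0)
  let ι : pT.ResidueField →+* K := Ideal.ResidueField.lift pT f hf₁ hf₂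
  have hι : ∀ t : T, ι (algebraMap T pT.ResidueField t) = algebraMap R K (φ t) :=
    fun t => Ideal.ResidueField.lift_algebraMap pT f hf₁ hf₂ t
  have hιR₀ : ∀ r : R₀, ι (algebraMap R₀ pT.ResidueField r) = algebraMap R₀ K r := by
    intro r
    rw [IsScalarTower.algebraMap_apply R₀ T pT.ResidueField, hι, φ.commutes,
      IsScalarTower.algebraMap_apply R₀ R K]
  let j : pT.ResidueField →ₗ[R₀] K :=
    { toFun := ι
      map_add' := map_add ι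
      map_smul' := fun r x => by
        rw [RingHom.id_apply, Algebra.smul_def, map_mul, hιR₀, Algebra.smul_def] }
  have hj : ∀ (t : T) (x : pT.ResidueField), j (t • x) = φ t • j x := by
    intro t x
    show ι (t • x) = φ t • ι x
    rw [Algebra.smul_def, map_mul, hι, Algebra.smul_def]
  -- injectivity of `j ⊗ M₀`
  have hjinj : Injective (j.lTensor M₀) := by
    letI algκK : Algebra pT.ResidueField K := ι.toAlgebra
    haveI : IsScalarTower R₀ pT.ResidueField K := IsScalarTower.of_algebraMap_eq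
      (fun r => (hιR₀ r).symm)
    obtain ⟨ρ, hρ⟩ := LinearMap.exists_leftInverse_of_injective
      (Algebra.linearMap pT.ResidueField K)
      (LinearMap.ker_eq_bot.2 (algebraMap pT.ResidueField K).injective)
    have hρj : (ρ.restrictScalars R₀) ∘ₗ j = LinearMap.id := by
      ext x
      exact LinearMap.congr_fun hρ x
    have h1 : (ρ.restrictScalars R₀).lTensor M₀ ∘ₗ j.lTensor M₀ = LinearMap.id := by
      rw [← LinearMap.lTensor_comp, hρj, LinearMap.lTensor_id]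
    exact Function.LeftInverse.injective (g := (ρ.restrictScalars R₀).lTensor M₀)
      (fun x => LinearMap.congr_fun h1 x)
  -- translate along `Psi`
  obtain ⟨z, rfl⟩ := (Psi R₀ S₀ M₀ T pT.ResidueField).surjective y
  obtain ⟨s, hs, hsz⟩ := hy
  have hsz' : s • Psi R₀ S₀ N₀ T pT.ResidueField (uX R₀ S₀ u₀ pT.ResidueField z) = 0 :=
    (congrArg (fun t => s • t) (Psi_uX R₀ S₀ u₀ T pT.ResidueField z)).trans hsz
  have h1 : act R₀ S₀ N₀ T pT.ResidueField s (uX R₀ S₀ u₀ pT.ResidueField z) = 0 :=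
    (LinearEquiv.map_eq_zero_iff (Psi R₀ S₀ N₀ T pT.ResidueField)).1
      ((smul_Psi R₀ S₀ N₀ T pT.ResidueField s _).symm.trans hsz')
  have h2 : uX R₀ S₀ u₀ pT.ResidueField (act R₀ S₀ M₀ T pT.ResidueField s z) = 0 := by
    rw [uX_act]; exact h1
  have h3 : uX R₀ S₀ u₀ K (j.lTensor M₀ (act R₀ S₀ M₀ T pT.ResidueField s z)) = 0 := by
    rw [← lTensor_uX, h2, map_zero]
  have h4 := hw _ h3
  rw [← act_natural R₀ S₀ M₀ φ j hj wT] at h4
  have h5 : act R₀ S₀ M₀ T pT.ResidueField wT (act R₀ S₀ M₀ T pT.ResidueField s z) = 0 :=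
    hjinj (h4.trans (map_zero _).symm)
  rw [← act_mul] at h5
  refine ⟨wT * s, ?_, ?_⟩
  · exact Submonoid.mul_mem _ (show wT ∈ qT.primeCompl from fun h => hwq ((hqT wT).1 h)) hs
  · exact (smul_Psi R₀ S₀ M₀ T pT.ResidueField (wT * s) z).trans
      ((congrArg (Psi R₀ S₀ M₀ T pT.ResidueField) h5).trans (map_zero _))

end StageFibre

end Groth.Agent.Lib.Helper54.MapFibre2
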