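/-
helper54: the fibrewise criterion for injectivity with flat cokernel (EGA IV 11.3.7) for the base
change of Noetherian data `u₀ : M₀ → N₀` to an arbitrary ring.
-/
import Groth.Agent.Lib.Helper54.MapFibre2
import Groth.Agent.Lib.Helper54.RegFibre3

set_option autoImplicit false
set_option maxHeartbeats 1600000
set_option linter.style.haveILetI false

namespace Groth.Agent.Lib.Helper54.MapFibre3

open TensorProduct Function
open Groth.Agent.Lib.Helper54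
open Groth.Agent.Lib.Helper54.FlatStage1
open Groth.Agent.Lib.Helper54.FlatStage4
open Groth.Agent.Lib.Helper54.RegFibre2
open Groth.Agent.Lib.Helper54.MapFibre1
open Groth.Agent.Lib.Helper54.MapFibre2

attribute [local instance] Algebra.TensorProduct.rightAlgebra

universe u

section Exactness

variable {S₀ : Type*} [CommRing S₀] (B : Type*) [CommRing B] [Algebra S₀ B]
  {M₀ N₀ : Type*} [AddCommGroup M₀] [Module S₀ M₀] [AddCommGroup N₀] [Module S₀ N₀]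
  (u₀ : M₀ →ₗ[S₀] N₀)

theorem exact_baseChange :
    Function.Exact (u₀.baseChange B) ((LinearMap.range u₀).mkQ.baseChange B) :=
  lTensor_exact B (LinearMap.exact_map_mkQ_range u₀) (Submodule.mkQ_surjective _)

end Exactness

section Stage

variable (R₀ S₀ M₀ N₀ : Type u) [CommRing R₀] [CommRing S₀] [Algebra R₀ S₀]
  [AddCommGroup M₀] [Module R₀ M₀] [Module S₀ M₀] [IsScalarTower R₀ S₀ M₀]
  [AddCommGroup N₀] [Module R₀ N₀] [Module S₀ N₀] [IsScalarTower R₀ S₀ N₀]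
  [Module.Finite S₀ M₀]
variable (R : Type u) [CommRing R] [Algebra R₀ R]
variable (K : Type u) [Field K] [Algebra R K] [Algebra R₀ K] [IsScalarTower R₀ R K]
variable (T : Type u) [CommRing T] [Algebra R₀ T] [Algebra T R] [IsScalarTower R₀ T R]
  (φ : T →ₐ[R₀] R) (hφ : ∀ t, φ t = algebraMap T R t) [IsNoetherianRing (S₀ ⊗[R₀] T)]

include hφ in
/-- The conclusion of the criterion from a single good stage `T`. -/
theorem stage_conclusion (q : Ideal (S₀ ⊗[R₀] R)) [q.IsPrime] (u₀ : M₀ →ₗ[S₀] N₀)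
    (hK : ∀ r : R, algebraMap R K r = 0 ↔ algebraMap R (S₀ ⊗[R₀] R) r ∈ q)
    (wT : S₀ ⊗[R₀] T) (hwq : SM S₀ φ wT ∉ q)
    (hw : ∀ z : M₀ ⊗[R₀] K, uX R₀ S₀ u₀ K z = 0 →
      act R₀ S₀ M₀ R K (SM S₀ φ wT) z = 0)
    (hflatT : Module.Flat T (LocalizedModule (q.comap (SM S₀ φ)).primeCompl
      ((S₀ ⊗[R₀] T) ⊗[S₀] N₀))) :
    (∀ z : M₀ ⊗[R₀] R, uX R₀ S₀ u₀ R z = 0 → ∃ w, w ∉ q ∧ act R₀ S₀ M₀ R R w z = 0) ∧
      Module.Flat R (LocalizedModule q.primeCompl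
        ((S₀ ⊗[R₀] R) ⊗[S₀] (N₀ ⧸ LinearMap.range u₀))) := by
  have hfibT : ∀ y : ((S₀ ⊗[R₀] T) ⊗[S₀] M₀) ⊗[T]
      ((q.comap (SM S₀ φ)).comap (algebraMap T (S₀ ⊗[R₀] T))).ResidueField,
      (∃ s ∈ (q.comap (SM S₀ φ)).primeCompl,
        s • AlgebraTensorModule.rTensor T
          ((q.comap (SM S₀ φ)).comap (algebraMap T (S₀ ⊗[R₀] T))).ResidueField
          (u₀.baseChange (S₀ ⊗[R₀] T)) y = 0) →
      ∃ s' ∈ (q.comap (SM S₀ φ)).primeCompl, s' • y = 0 :=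
    fun y hy => stage_hfib R₀ S₀ M₀ N₀ R K T φ q u₀ hK wT hwq hw (q.comap (SM S₀ φ))
      (fun x => Iff.rfl) ((q.comap (SM S₀ φ)).comap (algebraMap T (S₀ ⊗[R₀] T)))
      (fun t => Iff.rfl) y hy
  have hsc := stage_core (T := T) (B := S₀ ⊗[R₀] T) (M := (S₀ ⊗[R₀] T) ⊗[S₀] M₀)
    (N := (S₀ ⊗[R₀] T) ⊗[S₀] N₀) (q.comap (SM S₀ φ)) (u₀.baseChange (S₀ ⊗[R₀] T))
    hflatT hfibT
  obtain ⟨hinj, hfl⟩ := hsc
  constructor
  · intro z hz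
    obtain ⟨s', hs', hs'y⟩ := univ_injective (T := T) (B := S₀ ⊗[R₀] T)
      (M := (S₀ ⊗[R₀] T) ⊗[S₀] M₀) (N := (S₀ ⊗[R₀] T) ⊗[S₀] N₀)
      (q.comap (SM S₀ φ)).primeCompl (u₀.baseChange (S₀ ⊗[R₀] T)) hinj hfl R
      (Psi R₀ S₀ M₀ T R z)
      ⟨1, Submonoid.one_mem _, by rw [one_smul, ← Psi_uX, hz, map_zero]⟩
    have h1 : act R₀ S₀ M₀ T R s' z = 0 :=
      (LinearEquiv.map_eq_zero_iff (Psi R₀ S₀ M₀ T R)).1
        ((smul_Psi R₀ S₀ M₀ T R s' z).symm.trans hs'y)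
    have h2 := act_natural R₀ S₀ M₀ φ (LinearMap.id : R →ₗ[R₀] R)
      (fun t x => by rw [LinearMap.id_apply, LinearMap.id_apply, hφ, Algebra.smul_def, smul_eq_mul]) s' z
    rw [LinearMap.lTensor_id, LinearMap.id_apply, LinearMap.id_apply, h1] at h2
    exact ⟨SM S₀ φ s', hs', h2.symm⟩
  · have h1 := flat_localized_coker (T := T) (B := S₀ ⊗[R₀] T)
      (M := (S₀ ⊗[R₀] T) ⊗[S₀] M₀) (N := (S₀ ⊗[R₀] T) ⊗[S₀] N₀)
      (q.comap (SM S₀ φ)).primeCompl (u₀.baseChange (S₀ ⊗[R₀] T)) hfl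
      (Q := (S₀ ⊗[R₀] T) ⊗[S₀] (N₀ ⧸ LinearMap.range u₀))
      ((LinearMap.range u₀).mkQ.baseChange (S₀ ⊗[R₀] T))
      (LinearMap.lTensor_surjective _ (Submodule.mkQ_surjective _))
      (exact_baseChange (S₀ ⊗[R₀] T) u₀)
    exact FlatStage5.flat_of_stage_flat R₀ S₀ (N₀ ⧸ LinearMap.range u₀) R T φ hφ q h1

end Stage

section Model

variable (R₀ S₀ M₀ N₀ : Type u) [CommRing R₀] [CommRing S₀] [Algebra R₀ S₀]
  [AddCommGroup M₀] [Module R₀ M₀] [Module S₀ M₀] [IsScalarTower R₀ S₀ M₀]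
  [AddCommGroup N₀] [Module R₀ N₀] [Module S₀ N₀] [IsScalarTower R₀ S₀ N₀]
  [IsNoetherianRing R₀] [Algebra.FiniteType R₀ S₀] [Module.Finite S₀ M₀] [Module.Finite S₀ N₀]
variable (R : Type u) [CommRing R] [Algebra R₀ R]
variable (K : Type u) [Field K] [Algebra R K] [Algebra R₀ K] [IsScalarTower R₀ R K]

/-- **Fibrewise criterion for injectivity with flat cokernel**, model form. -/
theorem model_core (q : Ideal (S₀ ⊗[R₀] R)) [q.IsPrime] (u₀ : M₀ →ₗ[S₀] N₀)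
    (hK : ∀ r : R, algebraMap R K r = 0 ↔ algebraMap R (S₀ ⊗[R₀] R) r ∈ q)
    (hflat : Module.Flat R (LocalizedModule q.primeCompl ((S₀ ⊗[R₀] R) ⊗[S₀] N₀)))
    (hfib : ∀ z : M₀ ⊗[R₀] K, uX R₀ S₀ u₀ K z = 0 →
      ∃ w, w ∉ q ∧ act R₀ S₀ M₀ R K w z = 0) :
    (∀ z : M₀ ⊗[R₀] R, uX R₀ S₀ u₀ R z = 0 → ∃ w, w ∉ q ∧ act R₀ S₀ M₀ R R w z = 0) ∧
      Module.Flat R (LocalizedModule q.primeCompl
        ((S₀ ⊗[R₀] R) ⊗[S₀] (N₀ ⧸ LinearMap.range u₀))) := by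
  classical
  obtain ⟨w, hwq, hw⟩ := exists_uniform R₀ S₀ M₀ N₀ R K q u₀ hfib
  obtain ⟨T₁, hT₁fg, hT₁⟩ := FlatStage5.exists_stage_flat R₀ S₀ N₀ R q hflat
  obtain ⟨T₂, hT₂fg, w₂, hw₂⟩ := exists_fg_mem_range S₀ w
  obtain ⟨T, hT⟩ : ∃ T : Subalgebra R₀ R, T = T₁ ⊔ T₂ := ⟨_, rfl⟩
  have hT₁le : T₁ ≤ T := hT ▸ le_sup_left
  have hT₂le : T₂ ≤ T := hT ▸ le_sup_right
  have hTfg : T.FG := hT ▸ hT₁fg.sup hT₂fg
  have hflatT := FlatStage6.stage_mono R₀ S₀ N₀ R T₁ T hT₁le q hT₁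
  obtain ⟨wT, hwT⟩ : ∃ wT : S₀ ⊗[R₀] T, SM S₀ T.val wT = w := by
    refine ⟨SM S₀ (Subalgebra.inclusion hT₂le) w₂, ?_⟩
    rw [SM_comp, ← hw₂]
    rfl
  haveI : Algebra.FiniteType R₀ T := (Subalgebra.fg_iff_finiteType T).1 hTfg
  haveI : IsNoetherianRing T := Algebra.FiniteType.isNoetherianRing R₀ T
  haveI : Algebra.FiniteType T (S₀ ⊗[R₀] T) := FlatOpenB.finiteType_right R₀ S₀ T
  haveI : IsNoetherianRing (S₀ ⊗[R₀] T) := Algebra.FiniteType.isNoetherianRing T _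
  have hwq' : SM S₀ T.val wT ∉ q := by rw [hwT]; exact hwq
  have hw' : ∀ z : M₀ ⊗[R₀] K, uX R₀ S₀ u₀ K z = 0 →
      act R₀ S₀ M₀ R K (SM S₀ T.val wT) z = 0 := by
    rw [hwT]; exact hw
  exact stage_conclusion R₀ S₀ M₀ N₀ R K T T.val (fun t => rfl) q u₀ hK wT hwq' hw' hflatT

end Model

end Groth.Agent.Lib.Helper54.MapFibre3
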