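/-
helper54: from the model form of the fibrewise criterion for injectivity with flat cokernel to an
arbitrary algebra `B` with modules `M`, `N` and a map `u : M → N` which are semilinearly isomorphic
to the base change of Noetherian data.
-/
import Groth.Agent.Lib.Helper54.MapFibre3
import Groth.Agent.Lib.Helper54.RegFibre5

set_option autoImplicit false
set_option maxHeartbeats 1600000
set_option linter.style.haveILetI false

namespace Groth.Agent.Lib.Helper54.MapFibre4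

open TensorProduct Function
open Groth.Agent.Lib.Helper54
open Groth.Agent.Lib.Helper54.FlatStage1
open Groth.Agent.Lib.Helper54.FlatStage4
open Groth.Agent.Lib.Helper54.RegFibre2
open Groth.Agent.Lib.Helper54.MapFibre2

attribute [local instance] Algebra.TensorProduct.rightAlgebra

universe u

section Coker

variable {B B' S₀ : Type*} [CommRing B] [CommRing B'] [CommRing S₀] [Algebra S₀ B']
  {M₀ N₀ : Type*} [AddCommGroup M₀] [Module S₀ M₀] [AddCommGroup N₀] [Module S₀ N₀]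
  (u₀ : M₀ →ₗ[S₀] N₀) {M N : Type*} [AddCommGroup M] [Module B M] [AddCommGroup N] [Module B N]
  (u : M →ₗ[B] N)

/-- Semilinear isomorphisms compatible with `u₀ ⊗ B'` and `u` induce a semilinear isomorphism of
the cokernels. -/
theorem exists_coker_equiv (θ : B' ≃+* B) (ΘM : B' ⊗[S₀] M₀ ≃+ M) (ΘN : B' ⊗[S₀] N₀ ≃+ N)
    (hΘN : ∀ (b' : B') (x : B' ⊗[S₀] N₀), ΘN (b' • x) = θ b' • ΘN x)
    (hu : ∀ x, ΘN (u₀.baseChange B' x) = u (ΘM x)) :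
    ∃ Ψ : B' ⊗[S₀] (N₀ ⧸ LinearMap.range u₀) ≃+ (N ⧸ LinearMap.range u),
      ∀ (b' : B') (x : B' ⊗[S₀] (N₀ ⧸ LinearMap.range u₀)), Ψ (b' • x) = θ b' • Ψ x := by
  let f : B' ⊗[S₀] M₀ →ₗ[ℤ] B' ⊗[S₀] N₀ := (u₀.baseChange B').restrictScalars ℤ
  let g₁ : B' ⊗[S₀] N₀ →ₗ[ℤ] B' ⊗[S₀] (N₀ ⧸ LinearMap.range u₀) :=
    ((LinearMap.range u₀).mkQ.baseChange B').restrictScalars ℤ
  let g₂ : B' ⊗[S₀] N₀ →ₗ[ℤ] (N ⧸ LinearMap.range u) :=
    ((LinearMap.range u).mkQ.restrictScalars ℤ) ∘ₗ ΘN.toIntLinearEquiv.toLinearMap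
  have hg₂ : ∀ y, g₂ y = Submodule.Quotient.mk (ΘN y) := fun y => rfl
  have h₁ : Function.Exact f g₁ := MapFibre3.exact_baseChange B' u₀
  have s₁ : Surjective g₁ := LinearMap.lTensor_surjective _ (Submodule.mkQ_surjective _)
  have h₂ : Function.Exact f g₂ := by
    intro y
    rw [hg₂, Submodule.Quotient.mk_eq_zero]
    constructor
    · rintro ⟨m, hm⟩
      obtain ⟨x, rfl⟩ := ΘM.surjective m
      refine ⟨x, ?_⟩
      apply ΘN.injective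
      show ΘN (u₀.baseChange B' x) = ΘN y
      rw [hu, hm]
    · rintro ⟨x, rfl⟩
      exact ⟨ΘM x, (hu x).symm⟩
  have s₂ : Surjective g₂ := by
    intro z
    obtain ⟨n, rfl⟩ := Submodule.Quotient.mk_surjective _ z
    exact ⟨ΘN.symm n, by rw [hg₂, AddEquiv.apply_symm_apply]⟩
  let Ψ : B' ⊗[S₀] (N₀ ⧸ LinearMap.range u₀) ≃ₗ[ℤ] (N ⧸ LinearMap.range u) :=
    (h₁.linearEquivOfSurjective s₁).symm ≪≫ₗ (h₂.linearEquivOfSurjective s₂)
  have hΨ : ∀ y, Ψ (g₁ y) = g₂ y := by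
    intro y
    show (h₂.linearEquivOfSurjective s₂) ((h₁.linearEquivOfSurjective s₁).symm (g₁ y)) = g₂ y
    rw [Function.Exact.linearEquivOfSurjective_symm_apply]
    rfl
  refine ⟨Ψ.toAddEquiv, ?_⟩
  intro b' x
  obtain ⟨y, rfl⟩ := s₁ x
  show Ψ (b' • g₁ y) = θ b' • Ψ (g₁ y)
  have h3 : b' • g₁ y = g₁ (b' • y) := by
    show b' • ((LinearMap.range u₀).mkQ.baseChange B') y =
      ((LinearMap.range u₀).mkQ.baseChange B') (b' • y)
    rw [map_smul]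
  rw [h3, hΨ, hΨ, hg₂, hg₂, hΘN, Submodule.Quotient.mk_smul]

end Coker

section Dict

variable {A B M N : Type u} [CommRing A] [CommRing B] [Algebra A B] [AddCommGroup M] [Module B M]
  [Module A M] [IsScalarTower A B M] [AddCommGroup N] [Module B N] [Module A N]
  [IsScalarTower A B N]
variable (R₀ : Type u) [CommRing R₀] [Algebra R₀ A] (S₀ : Type u) [CommRing S₀] [Algebra R₀ S₀]
  (M₀ : Type u) [AddCommGroup M₀] [Module R₀ M₀] [Module S₀ M₀] [IsScalarTower R₀ S₀ M₀]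
  (N₀ : Type u) [AddCommGroup N₀] [Module R₀ N₀] [Module S₀ N₀] [IsScalarTower R₀ S₀ N₀]
  (u₀ : M₀ →ₗ[S₀] N₀) (u : M →ₗ[B] N)
  (θ : S₀ ⊗[R₀] A ≃+* B) (hθ : ∀ r : A, θ (algebraMap A (S₀ ⊗[R₀] A) r) = algebraMap A B r)
  (ΘM : (S₀ ⊗[R₀] A) ⊗[S₀] M₀ ≃+ M)
  (hΘM : ∀ (b' : S₀ ⊗[R₀] A) (x : (S₀ ⊗[R₀] A) ⊗[S₀] M₀), ΘM (b' • x) = θ b' • ΘM x)
  (ΘN : (S₀ ⊗[R₀] A) ⊗[S₀] N₀ ≃+ N)
  (hΘN : ∀ (b' : S₀ ⊗[R₀] A) (x : (S₀ ⊗[R₀] A) ⊗[S₀] N₀), ΘN (b' • x) = θ b' • ΘN x)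
  (hu : ∀ x, ΘN (u₀.baseChange (S₀ ⊗[R₀] A) x) = u (ΘM x))

include hθ hΘM hΘN hu in
/-- The dictionary between `M₀ ⊗[R₀] X` with the action `act` and `M ⊗[A] X`, compatible with
the maps `u₀` and `u`. -/
theorem exists_dict_pair (X : Type*) [AddCommGroup X] [Module A X] [Module R₀ X]
    [IsScalarTower R₀ A X] :
    ∃ (eM : M₀ ⊗[R₀] X ≃+ M ⊗[A] X) (eN : N₀ ⊗[R₀] X ≃+ N ⊗[A] X),
      (∀ (w' : S₀ ⊗[R₀] A) (z₀ : M₀ ⊗[R₀] X),
        eM (act R₀ S₀ M₀ A X w' z₀) = θ w' • eM z₀) ∧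
      (∀ z₀ : M₀ ⊗[R₀] X, eN (uX R₀ S₀ u₀ X z₀) = AlgebraTensorModule.rTensor A X u (eM z₀)) := by
  let ΘMA : (S₀ ⊗[R₀] A) ⊗[S₀] M₀ ≃ₗ[A] M :=
    { ΘM with
      map_smul' := fun r x => by
        show ΘM (r • x) = r • ΘM x
        rw [← algebraMap_smul (S₀ ⊗[R₀] A) r x, hΘM, hθ, algebraMap_smul] }
  let ΘNA : (S₀ ⊗[R₀] A) ⊗[S₀] N₀ ≃ₗ[A] N :=
    { ΘN with
      map_smul' := fun r x => by
        show ΘN (r • x) = r • ΘN x
        rw [← algebraMap_smul (S₀ ⊗[R₀] A) r x, hΘN, hθ, algebraMap_smul] }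
  let EM : ((S₀ ⊗[R₀] A) ⊗[S₀] M₀) ⊗[A] X ≃ₗ[A] M ⊗[A] X :=
    TensorProduct.congr ΘMA (LinearEquiv.refl A X)
  let EN : ((S₀ ⊗[R₀] A) ⊗[S₀] N₀) ⊗[A] X ≃ₗ[A] N ⊗[A] X :=
    TensorProduct.congr ΘNA (LinearEquiv.refl A X)
  have hEM : ∀ (w' : S₀ ⊗[R₀] A) (y : ((S₀ ⊗[R₀] A) ⊗[S₀] M₀) ⊗[A] X),
      EM (w' • y) = θ w' • EM y := by
    intro w' y
    induction y with
    | zero => simp
    | add x y hx hy => rw [smul_add, map_add, hx, hy, map_add, smul_add]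
    | tmul m' x =>
      rw [TensorProduct.smul_tmul', TensorProduct.congr_tmul, TensorProduct.congr_tmul,
        TensorProduct.smul_tmul']
      congr 1
      exact hΘM w' m'
  have hEu : ∀ y : ((S₀ ⊗[R₀] A) ⊗[S₀] M₀) ⊗[A] X,
      EN (AlgebraTensorModule.rTensor A X (u₀.baseChange (S₀ ⊗[R₀] A)) y) =
        AlgebraTensorModule.rTensor A X u (EM y) := by
    intro y
    induction y with
    | zero => simp
    | add x y hx hy => rw [map_add, map_add, hx, hy, map_add, map_add]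
    | tmul m' x =>
      rw [AlgebraTensorModule.rTensor_tmul, TensorProduct.congr_tmul, TensorProduct.congr_tmul,
        AlgebraTensorModule.rTensor_tmul]
      congr 1
      exact hu m'
  refine ⟨(Psi R₀ S₀ M₀ A X).toAddEquiv.trans EM.toAddEquiv,
    (Psi R₀ S₀ N₀ A X).toAddEquiv.trans EN.toAddEquiv, ?_, ?_⟩
  · intro w' z₀
    show EM (Psi R₀ S₀ M₀ A X (act R₀ S₀ M₀ A X w' z₀)) = θ w' • EM (Psi R₀ S₀ M₀ A X z₀)
    rw [← smul_Psi, hEM]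
  · intro z₀
    show EN (Psi R₀ S₀ N₀ A X (uX R₀ S₀ u₀ X z₀)) =
      AlgebraTensorModule.rTensor A X u (EM (Psi R₀ S₀ M₀ A X z₀))
    rw [Psi_uX, hEu]

end Dict

section Core

variable {A B M N : Type u} [CommRing A] [CommRing B] [Algebra A B] [AddCommGroup M] [Module B M]
  [Module A M] [IsScalarTower A B M] [AddCommGroup N] [Module B N] [Module A N]
  [IsScalarTower A B N]
variable (R₀ : Type u) [CommRing R₀] [Algebra R₀ A] [IsNoetherianRing R₀]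
  (S₀ : Type u) [CommRing S₀] [Algebra R₀ S₀] [Algebra.FiniteType R₀ S₀]
  (M₀ : Type u) [AddCommGroup M₀] [Module R₀ M₀] [Module S₀ M₀] [IsScalarTower R₀ S₀ M₀]
  [Module.Finite S₀ M₀]
  (N₀ : Type u) [AddCommGroup N₀] [Module R₀ N₀] [Module S₀ N₀] [IsScalarTower R₀ S₀ N₀]
  [Module.Finite S₀ N₀]
  (u₀ : M₀ →ₗ[S₀] N₀) (u : M →ₗ[B] N)
  (θ : S₀ ⊗[R₀] A ≃+* B) (hθ : ∀ r : A, θ (algebraMap A (S₀ ⊗[R₀] A) r) = algebraMap A B r)
  (ΘM : (S₀ ⊗[R₀] A) ⊗[S₀] M₀ ≃+ M)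
  (hΘM : ∀ (b' : S₀ ⊗[R₀] A) (x : (S₀ ⊗[R₀] A) ⊗[S₀] M₀), ΘM (b' • x) = θ b' • ΘM x)
  (ΘN : (S₀ ⊗[R₀] A) ⊗[S₀] N₀ ≃+ N)
  (hΘN : ∀ (b' : S₀ ⊗[R₀] A) (x : (S₀ ⊗[R₀] A) ⊗[S₀] N₀), ΘN (b' • x) = θ b' • ΘN x)
  (hu : ∀ x, ΘN (u₀.baseChange (S₀ ⊗[R₀] A) x) = u (ΘM x))

include hθ hΘM hΘN hu in
/-- **Fibrewise criterion for injectivity with flat cokernel** for modules and a map which are
the base change of Noetherian data. -/
theorem core_of_model (q : Ideal B) [q.IsPrime] (K : Type u) [Field K] [Algebra A K]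
    (hK : ∀ a : A, algebraMap A K a = 0 ↔ algebraMap A B a ∈ q)
    (hflat : Module.Flat A (LocalizedModule q.primeCompl N))
    (hfib : ∀ z : M ⊗[A] K, AlgebraTensorModule.rTensor A K u z = 0 → ∃ w, w ∉ q ∧ w • z = 0) :
    (∀ m : M, u m = 0 → ∃ w, w ∉ q ∧ w • m = 0) ∧
      Module.Flat A (LocalizedModule q.primeCompl (N ⧸ LinearMap.range u)) := by
  letI algR₀K : Algebra R₀ K := ((algebraMap A K).comp (algebraMap R₀ A)).toAlgebra
  haveI : IsScalarTower R₀ A K := IsScalarTower.of_algebraMap_eq (fun _ => rfl)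
  obtain ⟨q', hq'def⟩ : ∃ q' : Ideal (S₀ ⊗[R₀] A), q' = q.comap θ := ⟨_, rfl⟩
  haveI : q'.IsPrime := hq'def ▸ Ideal.comap_isPrime θ q
  have hq' : ∀ b', b' ∈ q' ↔ θ b' ∈ q := fun b' => by rw [hq'def]; rfl
  have hK' : ∀ r : A, algebraMap A K r = 0 ↔ algebraMap A (S₀ ⊗[R₀] A) r ∈ q' := by
    intro r
    rw [hK, hq', hθ]
  have hflat' : Module.Flat A (LocalizedModule q'.primeCompl ((S₀ ⊗[R₀] A) ⊗[S₀] N₀)) := by
    refine FlatDescent.flat_localized_of_semilinearEquiv θ.symm ?_ ΘN.symm ?_ q' q ?_ hflat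
    · intro r
      rw [← hθ, RingEquiv.symm_apply_apply]
    · intro b m
      apply ΘN.injective
      rw [hΘN, AddEquiv.apply_symm_apply, RingEquiv.apply_symm_apply, AddEquiv.apply_symm_apply]
    · intro b
      rw [hq', RingEquiv.apply_symm_apply]
  obtain ⟨eMK, eNK, heK, heuK⟩ :=
    exists_dict_pair R₀ S₀ M₀ N₀ u₀ u θ hθ ΘM hΘM ΘN hΘN hu K
  have hfib' : ∀ z₀ : M₀ ⊗[R₀] K, uX R₀ S₀ u₀ K z₀ = 0 →
      ∃ w', w' ∉ q' ∧ act R₀ S₀ M₀ A K w' z₀ = 0 := by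
    intro z₀ hz₀
    have h1 : AlgebraTensorModule.rTensor A K u (eMK z₀) = 0 := by
      rw [← heuK, hz₀, map_zero]
    obtain ⟨w, hwq, hw⟩ := hfib _ h1
    refine ⟨θ.symm w, ?_, ?_⟩
    · rw [hq', RingEquiv.apply_symm_apply]
      exact hwq
    · apply eMK.injective
      rw [heK, RingEquiv.apply_symm_apply, hw, map_zero]
  obtain ⟨hreg, hflQ⟩ := MapFibre3.model_core R₀ S₀ M₀ N₀ A K q' u₀ hK' hflat' hfib'
  constructor
  · obtain ⟨eMA, eNA, heA, heuA⟩ :=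
      exists_dict_pair R₀ S₀ M₀ N₀ u₀ u θ hθ ΘM hΘM ΘN hΘN hu A
    intro m hm
    let ρM := AlgebraTensorModule.rid A B M
    let ρN := AlgebraTensorModule.rid A B N
    have hρ : ∀ y : M ⊗[A] A, ρN (AlgebraTensorModule.rTensor A A u y) = u (ρM y) := by
      intro y
      induction y with
      | zero => simp
      | add x y hx hy => rw [map_add, map_add, hx, hy, map_add, map_add]
      | tmul m' a =>
        rw [AlgebraTensorModule.rTensor_tmul, AlgebraTensorModule.rid_tmul,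
          AlgebraTensorModule.rid_tmul, LinearMap.map_smul_of_tower]
    have h1 : uX R₀ S₀ u₀ A (eMA.symm (ρM.symm m)) = 0 := by
      apply eNA.injective
      rw [map_zero, heuA, AddEquiv.apply_symm_apply]
      apply ρN.injective
      rw [hρ, LinearEquiv.apply_symm_apply, hm, map_zero]
    obtain ⟨w', hw'q, hw'⟩ := hreg _ h1
    refine ⟨θ w', (hq' w').not.1 hw'q, ?_⟩
    have h2 : θ w' • ρM.symm m = 0 := by
      have h3 := heA w' (eMA.symm (ρM.symm m))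
      rw [hw', map_zero, AddEquiv.apply_symm_apply] at h3
      exact h3.symm
    rw [← map_smul] at h2
    exact (LinearEquiv.map_eq_zero_iff _).1 h2
  · obtain ⟨Ψ, hΨ⟩ := exists_coker_equiv u₀ u θ ΘM ΘN hΘN hu
    exact FlatDescent.flat_localized_of_semilinearEquiv θ hθ Ψ hΨ q q' hq' hflQ

end Core

end Groth.Agent.Lib.Helper54.MapFibre4
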