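/-
helper54: the fibrewise criterion for injectivity with flat cokernel (EGA IV 11.3.7) for finitely
presented modules over a polynomial ring `A[X₁, …, X_d]` over an arbitrary ring `A`, by descent of
matrix data (helper8's `MatSeq`) to a finitely generated `ℤ`-subalgebra.
-/
import Groth.Agent.Lib.Helper54.MapFibre4
import Groth.Agent.Lib.Helper8.MatSeq2

set_option autoImplicit false
set_option maxHeartbeats 1600000
set_option linter.style.haveILetI false

namespace Groth.Agent.Lib.Helper54.MapFibre5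

open TensorProduct Function
open Groth.Agent.Lib.Helper54
open Groth.Agent.Lib.Helper8.MatCok

attribute [local instance] Algebra.TensorProduct.rightAlgebra

universe u

section Theta

variable {R₀ A S₀ B : Type*} [CommRing R₀] [CommRing A] [Algebra R₀ A] [CommRing S₀]
  [Algebra R₀ S₀] [CommRing B] [Algebra S₀ B]

/-- The semilinear isomorphism from the base change of the cokernel of a matrix to the cokernel
of the mapped matrix. -/
theorem exists_Theta_cok (θ : S₀ ⊗[R₀] A ≃+* B)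
    (hθS : ∀ σ : S₀, θ (σ ⊗ₜ 1) = algebraMap S₀ B σ) {m n : ℕ} (K : Matrix (Fin m) (Fin n) S₀) :
    ∃ Θ : (S₀ ⊗[R₀] A) ⊗[S₀] Cok K ≃+ Cok (K.map (algebraMap S₀ B)),
      (∀ (b' : S₀ ⊗[R₀] A) (x : (S₀ ⊗[R₀] A) ⊗[S₀] Cok K), Θ (b' • x) = θ b' • Θ x) ∧
      ∀ (b' : S₀ ⊗[R₀] A) (z : Cok K), Θ (b' ⊗ₜ z) = θ b' • cokBC B K z := by
  let θL : (S₀ ⊗[R₀] A) ≃ₗ[S₀] B :=
    { θ.toAddEquiv with
      map_smul' := fun σ x => by
        show θ (σ • x) = σ • θ x
        rw [Algebra.smul_def, Algebra.smul_def, map_mul, Algebra.TensorProduct.algebraMap_apply,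
          Algebra.algebraMap_self, RingHom.id_apply, hθS] }
  have hθL : ∀ x, θL x = θ x := fun _ => rfl
  let Θ₁ : (S₀ ⊗[R₀] A) ⊗[S₀] Cok K ≃ₗ[S₀] B ⊗[S₀] Cok K :=
    TensorProduct.congr θL (LinearEquiv.refl S₀ _)
  have hΘ₁ : ∀ (b' : S₀ ⊗[R₀] A) (x : (S₀ ⊗[R₀] A) ⊗[S₀] Cok K),
      Θ₁ (b' • x) = θ b' • Θ₁ x := by
    intro b' x
    induction x with
    | zero => simp
    | add x y hx hy => rw [smul_add, map_add, hx, hy, map_add, smul_add]
    | tmul c y =>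
      rw [TensorProduct.smul_tmul', TensorProduct.congr_tmul, TensorProduct.congr_tmul,
        TensorProduct.smul_tmul', smul_eq_mul, smul_eq_mul, hθL, hθL]
      congr 1
      exact map_mul θ b' c
  let Θ₂ := (isBaseChange_cokBC B K).equiv
  refine ⟨Θ₁.toAddEquiv.trans Θ₂.toAddEquiv, ?_, ?_⟩
  · intro b' x
    show Θ₂ (Θ₁ (b' • x)) = θ b' • Θ₂ (Θ₁ x)
    rw [hΘ₁, map_smul]
  · intro b' z
    show Θ₂ (Θ₁ (b' ⊗ₜ z)) = θ b' • cokBC B K z
    rw [TensorProduct.congr_tmul, hθL, LinearEquiv.refl_apply, IsBaseChange.equiv_tmul]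

end Theta

section Poly

variable {R₀ A : Type u} [CommRing R₀] [CommRing A] [Algebra R₀ A] [IsNoetherianRing R₀] {d : ℕ}
  {M N : Type u} [AddCommGroup M] [Module (MvPolynomial (Fin d) A) M] [Module A M]
  [IsScalarTower A (MvPolynomial (Fin d) A) M]
  [AddCommGroup N] [Module (MvPolynomial (Fin d) A) N] [Module A N]
  [IsScalarTower A (MvPolynomial (Fin d) A) N]
  {mF nF mG nG mH nH : ℕ} (D₀ : MatSeq (MvPolynomial (Fin d) R₀) mF nF mG nG mH nH)

/-- The criterion for modules presented by matrix data coming from a Noetherian ring `R₀`. -/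
theorem core_poly_aux (u : M →ₗ[MvPolynomial (Fin d) A] N)
    (eF : Cok (D₀.KF.map (MvPolynomial.map (algebraMap R₀ A))) ≃ₗ[MvPolynomial (Fin d) A] M)
    (eG : Cok (D₀.KG.map (MvPolynomial.map (algebraMap R₀ A))) ≃ₗ[MvPolynomial (Fin d) A] N)
    (hu : ∀ z, u (eF z) = eG ((D₀.map (MvPolynomial.map (algebraMap R₀ A))).u z))
    (q : Ideal (MvPolynomial (Fin d) A)) [q.IsPrime] (K : Type u) [Field K] [Algebra A K]
    (hK : ∀ a : A, algebraMap A K a = 0 ↔ algebraMap A (MvPolynomial (Fin d) A) a ∈ q)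
    (hflat : Module.Flat A (LocalizedModule q.primeCompl N))
    (hfib : ∀ z : M ⊗[A] K, AlgebraTensorModule.rTensor A K u z = 0 → ∃ w, w ∉ q ∧ w • z = 0) :
    (∀ m : M, u m = 0 → ∃ w, w ∉ q ∧ w • m = 0) ∧
      Module.Flat A (LocalizedModule q.primeCompl (N ⧸ LinearMap.range u)) := by
  let P₀ := MvPolynomial (Fin d) R₀
  let P := MvPolynomial (Fin d) A
  let φ : P₀ →+* P := MvPolynomial.map (algebraMap R₀ A)
  letI algP₀P : Algebra P₀ P := φ.toAlgebra
  let θ : P₀ ⊗[R₀] A ≃+* P :=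
    (Algebra.TensorProduct.comm R₀ P₀ A).toRingEquiv.trans
      (MvPolynomial.algebraTensorAlgEquiv R₀ A).toRingEquiv
  have hθapp : ∀ (σ : P₀) (a : A), θ (σ ⊗ₜ a) = a • φ σ := by
    intro σ a
    show (MvPolynomial.algebraTensorAlgEquiv R₀ A)
      (Algebra.TensorProduct.comm R₀ P₀ A (σ ⊗ₜ a)) = _
    rw [Algebra.TensorProduct.comm_tmul, MvPolynomial.algebraTensorAlgEquiv_tmul]
  have hθ : ∀ r : A, θ (algebraMap A (P₀ ⊗[R₀] A) r) = algebraMap A P r := by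
    intro r
    rw [Algebra.TensorProduct.right_algebraMap_apply, hθapp, map_one,
      Algebra.algebraMap_eq_smul_one]
  have hθS : ∀ σ : P₀, θ (σ ⊗ₜ 1) = algebraMap P₀ P σ := by
    intro σ
    rw [hθapp, one_smul]
    rfl
  obtain ⟨ΘM₀, hΘM₀, hΘM₀t⟩ := exists_Theta_cok θ hθS D₀.KF
  obtain ⟨ΘN₀, hΘN₀, hΘN₀t⟩ := exists_Theta_cok θ hθS D₀.KG
  let ΘM : (P₀ ⊗[R₀] A) ⊗[P₀] Cok D₀.KF ≃+ M := ΘM₀.trans eF.toAddEquiv
  let ΘN : (P₀ ⊗[R₀] A) ⊗[P₀] Cok D₀.KG ≃+ N := ΘN₀.trans eG.toAddEquiv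
  have hΘM : ∀ (b' : P₀ ⊗[R₀] A) (x : (P₀ ⊗[R₀] A) ⊗[P₀] Cok D₀.KF),
      ΘM (b' • x) = θ b' • ΘM x := by
    intro b' x
    show eF (ΘM₀ (b' • x)) = θ b' • eF (ΘM₀ x)
    rw [hΘM₀, map_smul]
  have hΘN : ∀ (b' : P₀ ⊗[R₀] A) (x : (P₀ ⊗[R₀] A) ⊗[P₀] Cok D₀.KG),
      ΘN (b' • x) = θ b' • ΘN x := by
    intro b' x
    show eG (ΘN₀ (b' • x)) = θ b' • eG (ΘN₀ x)
    rw [hΘN₀, map_smul]
  have hu' : ∀ x, ΘN (D₀.u.baseChange (P₀ ⊗[R₀] A) x) = u (ΘM x) := by
    intro x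
    induction x with
    | zero => simp
    | add x y hx hy => rw [map_add, map_add, hx, hy, map_add, map_add]
    | tmul b' z =>
      show eG (ΘN₀ (D₀.u.baseChange (P₀ ⊗[R₀] A) (b' ⊗ₜ z))) = u (eF (ΘM₀ (b' ⊗ₜ z)))
      rw [LinearMap.baseChange_tmul, hΘN₀t, hΘM₀t, map_smul, map_smul, map_smul, hu]
      congr 2
      exact cokBC_cokMap P D₀.KF D₀.KG D₀.U D₀.CU D₀.hU (map_mul_eq D₀.hU φ) z
  exact MapFibre4.core_of_model R₀ P₀ (Cok D₀.KF) (Cok D₀.KG) D₀.u u θ hθ ΘM hΘM ΘN hΘN hu' q K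
    hK hflat hfib

end Poly

section Main

variable {A : Type u} [CommRing A] {d : ℕ}
  {M N : Type u} [AddCommGroup M] [Module (MvPolynomial (Fin d) A) M] [Module A M]
  [IsScalarTower A (MvPolynomial (Fin d) A) M]
  [AddCommGroup N] [Module (MvPolynomial (Fin d) A) N] [Module A N]
  [IsScalarTower A (MvPolynomial (Fin d) A) N]
  [Module.FinitePresentation (MvPolynomial (Fin d) A) M]
  [Module.FinitePresentation (MvPolynomial (Fin d) A) N]

/-- **Fibrewise criterion for injectivity with flat cokernel over a polynomial ring.** Let `M`,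
`N` be finitely presented modules over `P = A[X₁, …, X_d]`, `u : M → N` a `P`-linear map, `q` a
prime of `P` with `N_q` flat over `A`, `K` the residue field of `A` at the contraction of `q`. If
`u ⊗ K` is injective after localization at `q`, then `u_q` is injective and `(N / u(M))_q` is flat
over `A`. -/
theorem core_poly (u : M →ₗ[MvPolynomial (Fin d) A] N)
    (q : Ideal (MvPolynomial (Fin d) A)) [q.IsPrime] (K : Type u) [Field K] [Algebra A K]
    (hK : ∀ a : A, algebraMap A K a = 0 ↔ algebraMap A (MvPolynomial (Fin d) A) a ∈ q)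
    (hflat : Module.Flat A (LocalizedModule q.primeCompl N))
    (hfib : ∀ z : M ⊗[A] K, AlgebraTensorModule.rTensor A K u z = 0 → ∃ w, w ∉ q ∧ w • z = 0) :
    (∀ m : M, u m = 0 → ∃ w, w ∉ q ∧ w • m = 0) ∧
      Module.Flat A (LocalizedModule q.primeCompl (N ⧸ LinearMap.range u)) := by
  obtain ⟨mF, nF, mG, nG, mH, nH, D, eF, eG, eH, hu, hv⟩ :=
    exists_matSeq u (LinearMap.id : N →ₗ[MvPolynomial (Fin d) A] N)
  obtain ⟨R₀, D₀, hfg, rfl⟩ := MatSeq.exists_subalgebra D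
  haveI : Algebra.FiniteType ℤ R₀ := (Subalgebra.fg_iff_finiteType R₀).1 hfg
  haveI : IsNoetherianRing R₀ := Algebra.FiniteType.isNoetherianRing ℤ R₀
  exact core_poly_aux (R₀ := R₀) D₀ u eF eG hu q K hK hflat hfib

end Main

end Groth.Agent.Lib.Helper54.MapFibre5
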