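/-
helper54: the fibrewise criterion for injectivity with flat cokernel (EGA IV 11.3.7) for finitely
presented modules over a finitely presented algebra over an arbitrary ring.
-/
import Groth.Agent.Lib.Helper54.MapFibre5

set_option autoImplicit false
set_option maxHeartbeats 1600000
set_option linter.style.haveILetI false

namespace Groth.Agent.Lib.Helper54.MapFibre6

open TensorProduct Function
open Groth.Agent.Lib.Helper54

universe u

section Transport

variable {R : Type u} [CommRing R] {B B' : Type*} [CommRing B] [CommRing B'] [Algebra R B]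
  [Algebra R B']
variable {M M' : Type*} [AddCommGroup M] [Module R M] [Module B M] [IsScalarTower R B M]
  [AddCommGroup M'] [Module R M'] [Module B' M'] [IsScalarTower R B' M']

/-- Transport of flatness of a localization along a linear isomorphism, when every element of
the first multiplicative set acts as some element of the second one. -/
theorem flat_localized_of_linearEquiv (Θ : M' ≃ₗ[R] M) (W : Submonoid B) (W' : Submonoid B')
    (hW : ∀ w' ∈ W', ∃ w ∈ W, ∀ m' : M', Θ (w' • m') = w • Θ m')
    (h : Module.Flat R (LocalizedModule W' M')) :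
    Module.Flat R (LocalizedModule W M) := by
  apply FlatOpenA.flat_localized_of_forall_ker (N := M) (N' := LocalizedModule W M) B
    W (LocalizedModule.mkLinearMap W M)
  intro J z hz
  have hz' : J.subtype.lTensor M' ((Θ.symm.toLinearMap.rTensor J) z) = 0 := by
    have h2 : (J.subtype.lTensor M') ∘ₗ (Θ.symm.toLinearMap.rTensor J) =
        (Θ.symm.toLinearMap.rTensor R) ∘ₗ (J.subtype.lTensor M) := by
      rw [LinearMap.lTensor_comp_rTensor, LinearMap.rTensor_comp_lTensor]
    have h3 := LinearMap.congr_fun h2 z
    simp only [LinearMap.comp_apply] at h3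
    rw [h3, hz, map_zero]
  obtain ⟨w', hw', hwz'⟩ := FlatOpenA.forall_ker_of_flat_localized (N := M')
    (N' := LocalizedModule W' M') B' W'
    (LocalizedModule.mkLinearMap W' M') J _ hz'
  obtain ⟨w, hw, hcompat⟩ := hW w' hw'
  refine ⟨w, hw, ?_⟩
  have hsemi : ∀ (x : M' ⊗[R] J), (Θ.toLinearMap.rTensor J) (w' • x) =
      w • (Θ.toLinearMap.rTensor J) x := by
    intro x
    induction x with
    | zero => simp
    | add x y hx hy => rw [smul_add, map_add, hx, hy, map_add, smul_add]
    | tmul m' j =>
      rw [TensorProduct.smul_tmul', LinearMap.rTensor_tmul, LinearMap.rTensor_tmul,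
        TensorProduct.smul_tmul']
      congr 1
      exact hcompat m'
  have hzz : z = (Θ.toLinearMap.rTensor J) ((Θ.symm.toLinearMap.rTensor J) z) := by
    rw [← LinearMap.rTensor_comp_apply]
    simp
  rw [hzz, ← hsemi, hwz', map_zero]

end Transport

section Core

variable {A B : Type u} [CommRing A] [CommRing B] [Algebra A B] [Algebra.FinitePresentation A B]
  {M N : Type u} [AddCommGroup M] [Module B M] [Module A M] [IsScalarTower A B M]
  [Module.FinitePresentation B M] [AddCommGroup N] [Module B N] [Module A N]
  [IsScalarTower A B N] [Module.FinitePresentation B N]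

/-- **Fibrewise criterion for injectivity with flat cokernel** (EGA IV 11.3.7). Let `B` be a
finitely presented `A`-algebra, `M`, `N` finitely presented `B`-modules, `u : M → N` a `B`-linear
map, `q` a prime of `B` with `N_q` flat over `A`, and `K` the residue field of `A` at the
contraction of `q`. If `u ⊗ K` is injective after localization at `q` (elementwise: elements of
its kernel are killed by elements outside `q`), then `u_q` is injective and `(N / u(M))_q` is flat
over `A`. -/
theorem core_map (u : M →ₗ[B] N) (q : Ideal B) [q.IsPrime] (K : Type u) [Field K] [Algebra A K]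
    (hK : ∀ a : A, algebraMap A K a = 0 ↔ algebraMap A B a ∈ q)
    (hflat : Module.Flat A (LocalizedModule q.primeCompl N))
    (hfib : ∀ z : M ⊗[A] K, AlgebraTensorModule.rTensor A K u z = 0 → ∃ w, w ∉ q ∧ w • z = 0) :
    (∀ m : M, u m = 0 → ∃ w, w ∉ q ∧ w • m = 0) ∧
      Module.Flat A (LocalizedModule q.primeCompl (N ⧸ LinearMap.range u)) := by
  obtain ⟨d, π, hπ, hker⟩ := Algebra.FinitePresentation.out (R := A) (A := B)
  let P := MvPolynomial (Fin d) A
  letI algPB : Algebra P B := π.toRingHom.toAlgebra
  have halg : ∀ p : P, algebraMap P B p = π p := fun _ => rfl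
  haveI towAPB : IsScalarTower A P B := IsScalarTower.of_algebraMap_eq
    (fun a => (π.commutes a).symm)
  letI modPM : Module P M := Module.compHom M (algebraMap P B)
  letI modPN : Module P N := Module.compHom N (algebraMap P B)
  have hsmulM : ∀ (p : P) (m : M), p • m = π p • m := fun _ _ => rfl
  have hsmulN : ∀ (p : P) (n : N), p • n = π p • n := fun _ _ => rfl
  haveI towPBM : IsScalarTower P B M := ⟨fun p b m => by
    rw [hsmulM, Algebra.smul_def, mul_smul, halg]⟩
  haveI towPBN : IsScalarTower P B N := ⟨fun p b n => by
    rw [hsmulN, Algebra.smul_def, mul_smul, halg]⟩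
  haveI towAPM : IsScalarTower A P M := ⟨fun a p m => by
    rw [hsmulM, hsmulM, map_smul, smul_assoc]⟩
  haveI towAPN : IsScalarTower A P N := ⟨fun a p n => by
    rw [hsmulN, hsmulN, map_smul, smul_assoc]⟩
  haveI fpPB : Module.FinitePresentation P B := by
    refine Module.finitePresentation_of_surjective (Algebra.linearMap P B) hπ ?_
    have : LinearMap.ker (Algebra.linearMap P B) = RingHom.ker π.toRingHom := by
      ext x
      rfl
    rw [this]
    exact hker
  haveI fpPM : Module.FinitePresentation P M := Module.FinitePresentation.trans P M B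
  haveI fpPN : Module.FinitePresentation P N := Module.FinitePresentation.trans P N B
  let uP : M →ₗ[P] N := u.restrictScalars P
  obtain ⟨qP, hqPdef⟩ : ∃ qP : Ideal P, qP = q.comap (algebraMap P B) := ⟨_, rfl⟩
  haveI : qP.IsPrime := hqPdef ▸ Ideal.comap_isPrime _ q
  have hqP : ∀ p : P, p ∈ qP ↔ π p ∈ q := fun p => by rw [hqPdef]; rfl
  have hKP : ∀ a : A, algebraMap A K a = 0 ↔ algebraMap A P a ∈ qP := by
    intro a
    rw [hK, hqP, π.commutes]
  have hflatP : Module.Flat A (LocalizedModule qP.primeCompl N) := by
    refine flat_localized_of_linearEquiv (B := P) (B' := B) (LinearEquiv.refl A N) qP.primeCompl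
      q.primeCompl ?_ hflat
    intro w' hw'
    obtain ⟨p, rfl⟩ := hπ w'
    exact ⟨p, fun hp => hw' ((hqP p).1 hp), fun n => rfl⟩
  have hsmulT : ∀ (p : P) (z : M ⊗[A] K), p • z = π p • z := by
    intro p z
    induction z with
    | zero => simp
    | add x y hx hy => rw [smul_add, smul_add, hx, hy]
    | tmul m k => rfl
  have hfibP : ∀ z : M ⊗[A] K, AlgebraTensorModule.rTensor A K uP z = 0 →
      ∃ w, w ∉ qP ∧ w • z = 0 := by
    intro z hz
    have h1 : AlgebraTensorModule.rTensor A K u z = 0 := by
      rw [← hz]
      clear hz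
      induction z with
      | zero => simp
      | add x y hx hy => rw [map_add, map_add, hx, hy]
      | tmul m k => rfl
    obtain ⟨w, hwq, hw⟩ := hfib z h1
    obtain ⟨p, rfl⟩ := hπ w
    exact ⟨p, fun hp => hwq ((hqP p).1 hp), by rw [hsmulT, hw]⟩
  obtain ⟨c1, c2⟩ := MapFibre5.core_poly uP qP K hKP hflatP hfibP
  constructor
  · intro m hm
    obtain ⟨p, hp, hpm⟩ := c1 m hm
    exact ⟨π p, fun h => hp ((hqP p).2 h), hpm⟩
  · have hrange : (LinearMap.range u).restrictScalars P = LinearMap.range uP := by
      ext n
      simp only [Submodule.restrictScalars_mem, LinearMap.mem_range]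
      rfl
    let e₁ : (N ⧸ LinearMap.range uP) ≃ₗ[P] (N ⧸ (LinearMap.range u).restrictScalars P) :=
      Submodule.quotEquivOfEq _ _ hrange.symm
    let e₂ : (N ⧸ (LinearMap.range u).restrictScalars P) ≃ₗ[P] (N ⧸ LinearMap.range u) :=
      Submodule.Quotient.restrictScalarsEquiv P (LinearMap.range u)
    let e : (N ⧸ LinearMap.range uP) ≃ₗ[A] (N ⧸ LinearMap.range u) :=
      (e₁.trans e₂).restrictScalars A
    have he : ∀ n : N, e (Submodule.Quotient.mk n) = Submodule.Quotient.mk n := fun n => rfl
    refine flat_localized_of_linearEquiv (B := B) (B' := P) e q.primeCompl qP.primeCompl ?_ c2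
    intro p hp
    refine ⟨π p, fun h => hp ((hqP p).2 h), ?_⟩
    intro x
    obtain ⟨n, rfl⟩ := Submodule.Quotient.mk_surjective _ x
    rw [← Submodule.Quotient.mk_smul, he, he, ← Submodule.Quotient.mk_smul, hsmulN]

end Core

end Groth.Agent.Lib.Helper54.MapFibre6
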