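/-
helper54: the fibrewise criterion for injectivity with flat cokernel (`MapFibre6.core_map`),
transported to arbitrary localizations `M₁ → M`, `N₁ → N` of finitely presented modules at a prime.
-/
import Groth.Agent.Lib.Helper54.MapFibre6

set_option autoImplicit false
set_option maxHeartbeats 800000
set_option linter.style.haveILetI false

namespace Groth.Agent.Lib.Helper54.MapFibre7

open TensorProduct Function
open Groth.Agent.Lib.Helper54

universe u

section CoreLoc

variable {A B : Type u} [CommRing A] [CommRing B] [Algebra A B] [Algebra.FinitePresentation A B]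
  (q : Ideal B) [q.IsPrime]
  {M₁ N₁ : Type u} [AddCommGroup M₁] [Module B M₁] [Module A M₁] [IsScalarTower A B M₁]
  [Module.FinitePresentation B M₁] [AddCommGroup N₁] [Module B N₁] [Module A N₁]
  [IsScalarTower A B N₁] [Module.FinitePresentation B N₁]
  {M N : Type u} [AddCommGroup M] [Module B M] [Module A M] [IsScalarTower A B M]
  [AddCommGroup N] [Module B N] [Module A N] [IsScalarTower A B N]
  (fM : M₁ →ₗ[B] M) [IsLocalizedModule q.primeCompl fM]
  (fN : N₁ →ₗ[B] N) [IsLocalizedModule q.primeCompl fN]

include fM fN in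
/-- **Fibrewise criterion for injectivity with flat cokernel, on localizations.** -/
theorem core_map_loc (u : M →ₗ[B] N) (K : Type u) [Field K] [Algebra A K]
    (hK : ∀ a : A, algebraMap A K a = 0 ↔ algebraMap A B a ∈ q)
    (hflat : Module.Flat A N)
    (hfib : ∀ z : M ⊗[A] K, AlgebraTensorModule.rTensor A K u z = 0 → z = 0) :
    Injective u ∧ Module.Flat A (N ⧸ LinearMap.range u) := by
  obtain ⟨u₁, s, hs⟩ :=
    Module.FinitePresentation.exists_lift_of_isLocalizedModule q.primeCompl fN (u ∘ₗ fM)
  have hs' : ∀ m₁ : M₁, fN (u₁ m₁) = (s : B) • u (fM m₁) := fun m₁ => LinearMap.congr_fun hs m₁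
  have hflat' : Module.Flat A (LocalizedModule q.primeCompl N₁) :=
    Module.Flat.of_linearEquiv ((IsLocalizedModule.iso q.primeCompl fN).restrictScalars A)
  -- `s` acts injectively on localized modules
  have hsN : ∀ y : N ⊗[A] K, (s : B) • y = 0 → y = 0 := by
    intro y hy
    apply IsLocalizedModule.smul_injective (AlgebraTensorModule.rTensor A K fN) s
    show s • y = s • (0 : N ⊗[A] K)
    rw [smul_zero]
    exact hy
  have hfib' : ∀ z : M₁ ⊗[A] K, AlgebraTensorModule.rTensor A K u₁ z = 0 →
      ∃ w, w ∉ q ∧ w • z = 0 := by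
    intro z hz
    have h1 : AlgebraTensorModule.rTensor A K fN (AlgebraTensorModule.rTensor A K u₁ z) =
        (s : B) • AlgebraTensorModule.rTensor A K u (AlgebraTensorModule.rTensor A K fM z) := by
      clear hz
      induction z with
      | zero => simp
      | add x y hx hy => simp only [map_add, smul_add, hx, hy]
      | tmul m k =>
        simp only [AlgebraTensorModule.rTensor_tmul]
        rw [hs', TensorProduct.smul_tmul']
    rw [hz, map_zero] at h1
    have h2 := hfib _ (hsN _ h1.symm)
    obtain ⟨w, hw⟩ :=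
      (IsLocalizedModule.eq_zero_iff q.primeCompl (AlgebraTensorModule.rTensor A K fM)).1 h2
    exact ⟨w.1, w.2, hw⟩
  obtain ⟨c1, c2⟩ := MapFibre6.core_map u₁ q K hK hflat' hfib'
  -- the localization of `u₁`
  let u' : M →ₗ[B] N := IsLocalizedModule.map q.primeCompl fM fN u₁
  have hu' : u' = (s : B) • u := by
    apply IsLocalizedModule.ext q.primeCompl fM (IsLocalizedModule.map_units fN)
    ext m₁
    simp only [LinearMap.coe_comp, Function.comp_apply, LinearMap.smul_apply]
    rw [IsLocalizedModule.map_apply, hs']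
  have hsunitM : ∀ m : M, ∃ m' : M, (s : B) • m' = m := by
    intro m
    have := ((Module.End.isUnit_iff _).1 (IsLocalizedModule.map_units fM s)).2 m
    obtain ⟨m', hm'⟩ := this
    exact ⟨m', hm'⟩
  have hsinjN : ∀ n : N, (s : B) • n = 0 → n = 0 := by
    intro n hn
    apply IsLocalizedModule.smul_injective fN s
    show s • n = s • (0 : N)
    rw [smul_zero]
    exact hn
  constructor
  · rw [injective_iff_map_eq_zero]
    intro m hm
    obtain ⟨⟨m₁, t⟩, hmt⟩ := IsLocalizedModule.surj q.primeCompl fM m
    have hmt' : (t : B) • m = fM m₁ := hmt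
    have h1 : fN (u₁ m₁) = 0 := by
      rw [hs', ← hmt', map_smul, hm, smul_zero, smul_zero]
    obtain ⟨w, hw⟩ := (IsLocalizedModule.eq_zero_iff q.primeCompl fN).1 h1
    have h2 : u₁ ((w : B) • m₁) = 0 := by rw [map_smul]; exact hw
    obtain ⟨w', hw'q, hw'⟩ := c1 _ h2
    have h3 : fM m₁ = 0 := by
      rw [IsLocalizedModule.eq_zero_iff q.primeCompl fM]
      exact ⟨⟨w', hw'q⟩ * w, by rw [Submonoid.smul_def, Submonoid.coe_mul, mul_smul]; exact hw'⟩
    rw [h3] at hmt'
    apply IsLocalizedModule.smul_injective fM t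
    show t • m = t • (0 : M)
    rw [smul_zero]
    exact hmt'
  · let Q₁ := N₁ ⧸ LinearMap.range u₁
    let ℓQ := LocalizedModule.mkLinearMap q.primeCompl Q₁
    let π : N →ₗ[B] LocalizedModule q.primeCompl Q₁ :=
      IsLocalizedModule.map q.primeCompl fN ℓQ (LinearMap.range u₁).mkQ
    have hπ : Surjective π :=
      IsLocalizedModule.map_surjective q.primeCompl fN ℓQ _ (Submodule.mkQ_surjective _)
    have hex' : Function.Exact u' π :=
      IsLocalizedModule.map_exact q.primeCompl fM fN ℓQ u₁ (LinearMap.range u₁).mkQ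
        (LinearMap.exact_map_mkQ_range u₁)
    have hex : Function.Exact u π := by
      intro n
      rw [hex' n, hu']
      constructor
      · rintro ⟨m, rfl⟩
        exact ⟨(s : B) • m, by rw [map_smul]; rfl⟩
      · rintro ⟨m, rfl⟩
        obtain ⟨m', rfl⟩ := hsunitM m
        exact ⟨m', by rw [map_smul]; rfl⟩
    let e := hex.linearEquivOfSurjective hπ
    haveI := c2
    exact Module.Flat.of_linearEquiv (e.restrictScalars A)

end CoreLoc

end Groth.Agent.Lib.Helper54.MapFibre7
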