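/-
helper54: fibrewise exactness of a three-term complex of finite free modules; general lemmas
(passage from the residue field fibre to elementwise statements) and the bridge to the fibre
local ring `S_q / p S_q`.
-/
import Groth.Prelude.Def_EGA4b
import Groth.Agent.Lib.Helper54.MapFibre7
import Groth.Agent.Lib.Helper54.FlatCoker
import Groth.Agent.Lib.Helper54.FlatOpenB

set_option autoImplicit false
set_option maxHeartbeats 1000000
set_option linter.style.haveILetI false

namespace Groth.Agent.Lib.Helper54.FibCx1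

open TensorProduct Function

universe u

section General

variable {R S : Type u} [CommRing R] [CommRing S] [Algebra R S]
  {M N : Type u} [AddCommGroup M] [Module S M] [Module R M] [IsScalarTower R S M]
  [AddCommGroup N] [Module S N] [Module R N] [IsScalarTower R S N]

/-- Every element of `M ⊗ κ(p)` is, up to a scalar outside `p`, of the form `m ⊗ 1`. -/
theorem exists_smul_eq_tmul_one (p : Ideal R) [p.IsPrime] (z : M ⊗[R] p.ResidueField) :
    ∃ s : R, s ∉ p ∧ ∃ m : M, s • z = m ⊗ₜ[R] (1 : p.ResidueField) := by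
  induction z with
  | zero =>
    exact ⟨1, (Ideal.ne_top_iff_one p).1 (Ideal.IsPrime.ne_top inferInstance), 0, by
      rw [smul_zero, TensorProduct.zero_tmul]⟩
  | tmul m k =>
    obtain ⟨⟨x, y⟩, hxy⟩ := IsLocalization.surj (nonZeroDivisors (R ⧸ p)) k
    obtain ⟨r, rfl⟩ := Ideal.Quotient.mk_surjective x
    obtain ⟨s, hs⟩ := Ideal.Quotient.mk_surjective (y : R ⧸ p)
    have hsp : s ∉ p := by
      intro h
      have h0 : (y : R ⧸ p) = 0 := by
        rw [← hs]
        exact Ideal.Quotient.eq_zero_iff_mem.2 h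
      exact nonZeroDivisors.ne_zero y.2 h0
    refine ⟨s, hsp, r • m, ?_⟩
    have h1 : s • k = r • (1 : p.ResidueField) := by
      rw [Algebra.smul_def, Algebra.smul_def, mul_one,
        IsScalarTower.algebraMap_apply R (R ⧸ p) p.ResidueField s,
        IsScalarTower.algebraMap_apply R (R ⧸ p) p.ResidueField r,
        Ideal.Quotient.algebraMap_eq, hs, mul_comm]
      exact hxy
    rw [← TensorProduct.tmul_smul, h1, TensorProduct.tmul_smul, TensorProduct.smul_tmul']
  | add z1 z2 h1 h2 =>
    obtain ⟨s1, hs1, m1, hm1⟩ := h1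
    obtain ⟨s2, hs2, m2, hm2⟩ := h2
    refine ⟨s1 * s2, fun h => (Ideal.IsPrime.mem_or_mem inferInstance h).elim hs1 hs2,
      s2 • m1 + s1 • m2, ?_⟩
    rw [smul_add, mul_comm s1 s2, mul_smul, hm1, mul_comm s2 s1, mul_smul, hm2,
      TensorProduct.add_tmul, TensorProduct.smul_tmul', TensorProduct.smul_tmul']

/-- For a flat module, `n ⊗ 1 = 0` in `N ⊗ κ(p)` forces `n ∈ p N`. -/
theorem mem_smul_top_of_tmul_one_eq_zero [Module.Flat R N] (p : Ideal R) [p.IsPrime] (n : N)
    (h : n ⊗ₜ[R] (1 : p.ResidueField) = 0) : n ∈ (p • ⊤ : Submodule R N) := by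
  let j : (R ⧸ p) →ₗ[R] p.ResidueField :=
    (Algebra.linearMap (R ⧸ p) p.ResidueField).restrictScalars R
  have hj : Injective j := IsFractionRing.injective (R ⧸ p) p.ResidueField
  have hinj : Injective (j.lTensor N) := Module.Flat.lTensor_preserves_injective_linearMap j hj
  have h1 : j.lTensor N (n ⊗ₜ[R] (1 : R ⧸ p)) = 0 := by
    rw [LinearMap.lTensor_tmul]
    show n ⊗ₜ[R] (algebraMap (R ⧸ p) p.ResidueField 1) = 0
    rw [map_one]
    exact h
  have h2 : n ⊗ₜ[R] (1 : R ⧸ p) = 0 := hinj (by rw [h1, map_zero])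
  have h4 : (tensorQuotEquivQuotSMul N p).symm (Submodule.Quotient.mk n) = 0 := h2
  have h5 : (Submodule.Quotient.mk n : N ⧸ (p • ⊤ : Submodule R N)) = 0 := by
    have := congrArg (tensorQuotEquivQuotSMul N p) h4
    rwa [LinearEquiv.apply_symm_apply, map_zero] at this
  exact (Submodule.Quotient.mk_eq_zero _).1 h5

/-- Elements of `p M` die in `M ⊗ κ(p)`. -/
theorem tmul_one_eq_zero_of_mem (p : Ideal R) [p.IsPrime] (m : M)
    (h : m ∈ (p • ⊤ : Submodule R M)) : m ⊗ₜ[R] (1 : p.ResidueField) = 0 := by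
  refine Submodule.smul_induction_on h ?_ ?_
  · intro r hr y _
    rw [TensorProduct.smul_tmul, Algebra.smul_def, mul_one,
      Ideal.algebraMap_residueField_eq_zero.2 hr, TensorProduct.tmul_zero]
  · intro x y hx hy
    rw [TensorProduct.add_tmul, hx, hy, add_zero]

/-- The image of `p M` under a linear map lies in `p N`. -/
theorem map_mem_smul_top {X Y : Type*} [AddCommGroup X] [Module R X] [AddCommGroup Y] [Module R Y]
    (g : X →ₗ[R] Y) (p : Ideal R) (x : X) (h : x ∈ (p • ⊤ : Submodule R X)) :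
    g x ∈ (p • ⊤ : Submodule R Y) := by
  refine Submodule.smul_induction_on h ?_ ?_
  · intro r hr y _
    rw [map_smul]
    exact Submodule.smul_mem_smul hr Submodule.mem_top
  · intro x y hx hy
    rw [map_add]
    exact Submodule.add_mem _ hx hy

/-- `p M` is stable under the algebra. -/
theorem smul_mem_smul_top (p : Ideal R) (t : S) (m : M) (h : m ∈ (p • ⊤ : Submodule R M)) :
    t • m ∈ (p • ⊤ : Submodule R M) := by
  refine Submodule.smul_induction_on h ?_ ?_
  · intro r hr y _
    rw [smul_comm]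
    exact Submodule.smul_mem_smul hr Submodule.mem_top
  · intro x y hx hy
    rw [smul_add]
    exact Submodule.add_mem _ hx hy

/-- From the elementwise fibre condition to the tensor form used by `MapFibre6.core_map`. -/
theorem hfib_of_FI [Module.Flat R N] (u : M →ₗ[S] N) (q : Ideal S) [q.IsPrime] (p : Ideal R)
    [p.IsPrime] (hp : p = q.comap (algebraMap R S))
    (FI : ∀ m : M, u m ∈ (p • ⊤ : Submodule R N) →
      ∃ t, t ∉ q ∧ t • m ∈ (p • ⊤ : Submodule R M))
    (z : M ⊗[R] p.ResidueField)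
    (hz : AlgebraTensorModule.rTensor R p.ResidueField u z = 0) :
    ∃ w, w ∉ q ∧ w • z = 0 := by
  obtain ⟨s, hs, m, hm⟩ := exists_smul_eq_tmul_one p z
  have h1 : (u m) ⊗ₜ[R] (1 : p.ResidueField) = 0 := by
    have h0 : AlgebraTensorModule.rTensor R p.ResidueField u (s • z) = 0 := by
      rw [← algebraMap_smul S s z, map_smul, hz, smul_zero]
    rw [hm] at h0
    exact h0
  have h2 := mem_smul_top_of_tmul_one_eq_zero p (u m) h1
  obtain ⟨t, ht, htm⟩ := FI m h2
  have h3 := tmul_one_eq_zero_of_mem p (t • m) htm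
  refine ⟨t * algebraMap R S s, ?_, ?_⟩
  · intro hmem
    rcases Ideal.IsPrime.mem_or_mem inferInstance hmem with h | h
    · exact ht h
    · exact hs (by rw [hp]; exact h)
  · rw [mul_smul, algebraMap_smul, hm, TensorProduct.smul_tmul', h3]

end General

section Bridge

variable (R S : Type u) [CommRing R] [CommRing S] [Algebra R S] (q : Ideal S) [q.IsPrime]

/-- Vanishing in the fibre local ring. -/
theorem algebraMap_eq_zero_iff (y : S) :
    algebraMap S (EGA4.FibLocRing R S q) y = 0 ↔
      ∃ t, t ∉ q ∧ t * y ∈ (q.comap (algebraMap R S)).map (algebraMap R S) := by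
  rw [IsScalarTower.algebraMap_apply S (Localization.AtPrime q) (EGA4.FibLocRing R S q),
    Ideal.Quotient.algebraMap_eq, Ideal.Quotient.eq_zero_iff_mem,
    IsScalarTower.algebraMap_eq R S (Localization.AtPrime q), ← Ideal.map_map,
    IsLocalization.mem_map_algebraMap_iff q.primeCompl]
  constructor
  · rintro ⟨⟨a, s⟩, h⟩
    rw [← map_mul] at h
    obtain ⟨c, hc⟩ := (IsLocalization.eq_iff_exists q.primeCompl _).1 h
    refine ⟨c * s, fun hmem => (Ideal.IsPrime.mem_or_mem inferInstance hmem).elim c.2 s.2, ?_⟩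
    have : (c : S) * s * y = c * a := by
      rw [mul_assoc, mul_comm (s : S) y]
      exact hc
    rw [this]
    exact Ideal.mul_mem_left _ _ a.2
  · rintro ⟨t, ht, hty⟩
    refine ⟨⟨⟨t * y, hty⟩, ⟨t, ht⟩⟩, ?_⟩
    show algebraMap S (Localization.AtPrime q) y * algebraMap S (Localization.AtPrime q) t =
      algebraMap S (Localization.AtPrime q) (t * y)
    rw [map_mul, mul_comm]

/-- Elements outside `q` become units in the fibre local ring. -/
theorem isUnit_algebraMap (t : S) (ht : t ∉ q) :
    IsUnit (algebraMap S (EGA4.FibLocRing R S q) t) := by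
  rw [IsScalarTower.algebraMap_apply S (Localization.AtPrime q) (EGA4.FibLocRing R S q)]
  exact (IsLocalization.map_units (Localization.AtPrime q) (⟨t, ht⟩ : q.primeCompl)).map _

variable {n : ℕ}

theorem coord_mem_of_mem_smul_top (x : Fin n → S)
    (hx : x ∈ ((q.comap (algebraMap R S)) • ⊤ : Submodule R (Fin n → S))) (j : Fin n) :
    x j ∈ (q.comap (algebraMap R S)).map (algebraMap R S) := by
  refine Submodule.smul_induction_on hx ?_ ?_
  · intro r hr y _
    rw [Pi.smul_apply, Algebra.smul_def]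
    exact Ideal.mul_mem_right _ _ (Ideal.mem_map_of_mem _ hr)
  · intro x y hx hy
    rw [Pi.add_apply]
    exact Ideal.add_mem _ hx hy

/-- (P1) -/
theorem algebraMap_coord_eq_zero (x : Fin n → S)
    (hx : x ∈ ((q.comap (algebraMap R S)) • ⊤ : Submodule R (Fin n → S))) (j : Fin n) :
    algebraMap S (EGA4.FibLocRing R S q) (x j) = 0 := by
  rw [algebraMap_eq_zero_iff]
  exact ⟨1, (Ideal.ne_top_iff_one q).1 (Ideal.IsPrime.ne_top inferInstance), by
    rw [one_mul]; exact coord_mem_of_mem_smul_top R S q x hx j⟩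

/-- (P2) -/
theorem exists_smul_mem_smul_top (x : Fin n → S)
    (hx : ∀ j, algebraMap S (EGA4.FibLocRing R S q) (x j) = 0) :
    ∃ t, t ∉ q ∧ t • x ∈ ((q.comap (algebraMap R S)) • ⊤ : Submodule R (Fin n → S)) := by
  classical
  have h1 : ∀ j, ∃ t, t ∉ q ∧ t * x j ∈ (q.comap (algebraMap R S)).map (algebraMap R S) :=
    fun j => (algebraMap_eq_zero_iff R S q (x j)).1 (hx j)
  choose t ht htx using h1
  refine ⟨∏ j, t j, ?_, ?_⟩
  · exact Submonoid.prod_mem q.primeCompl (fun j _ => ht j)
  · rw [← Groth.Agent.Lib.Helper46.FibreFlat.mem_map_smul_top_iff (S := S)]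
    have hsum : (∏ j, t j) • x =
        ∑ i, ((∏ j, t j) * x i) • (Pi.single i (1 : S) : Fin n → S) := by
      ext k
      rw [Finset.sum_apply, Finset.sum_eq_single k]
      · simp
      · intro b _ hb
        simp [Pi.single_apply, hb.symm]
      · intro h
        exact absurd (Finset.mem_univ k) h
    rw [hsum]
    refine Submodule.sum_mem _ (fun i _ => Submodule.smul_mem_smul ?_ Submodule.mem_top)
    obtain ⟨c, hc⟩ := Finset.dvd_prod_of_mem t (Finset.mem_univ i)
    rw [hc, mul_comm (t i) c, mul_assoc]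
    exact Ideal.mul_mem_left _ _ (htx i)

/-- (P3) -/
theorem exists_common_denominator (v : Fin n → EGA4.FibLocRing R S q) :
    ∃ t, t ∉ q ∧ ∃ y : Fin n → S, ∀ j,
      algebraMap S (EGA4.FibLocRing R S q) t * v j = algebraMap S (EGA4.FibLocRing R S q) (y j) := by
  have h1 : ∀ j, ∃ w : Localization.AtPrime q, Ideal.Quotient.mk _ w = v j :=
    fun j => Ideal.Quotient.mk_surjective (v j)
  choose w hw using h1
  obtain ⟨b, hb⟩ := IsLocalization.exist_integer_multiples_of_finite q.primeCompl w
  choose y hy using hb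
  refine ⟨b.1, b.2, y, fun j => ?_⟩
  rw [IsScalarTower.algebraMap_apply S (Localization.AtPrime q) (EGA4.FibLocRing R S q),
    IsScalarTower.algebraMap_apply S (Localization.AtPrime q) (EGA4.FibLocRing R S q),
    Ideal.Quotient.algebraMap_eq, ← hw j, ← map_mul]
  congr 1
  rw [hy j, Algebra.smul_def]

end Bridge

section Matrix

variable (R S : Type u) [CommRing R] [CommRing S] [Algebra R S] (q : Ideal S) [q.IsPrime]
  {n0 n1 n2 : ℕ}

/-- The elementwise fibre condition for matrices, from fibrewise exactness. -/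
theorem FI_matrix (b : Matrix (Fin n0) (Fin n1) S) (a : Matrix (Fin n1) (Fin n2) S)
    (hfib : LinearMap.ker (Matrix.mulVecLin (b.map (algebraMap S (EGA4.FibLocRing R S q)))) ≤
      LinearMap.range (Matrix.mulVecLin (a.map (algebraMap S (EGA4.FibLocRing R S q)))))
    (x : Fin n1 → S)
    (hx : b.mulVec x ∈ ((q.comap (algebraMap R S)) • ⊤ : Submodule R (Fin n0 → S))) :
    ∃ t, t ∉ q ∧ ∃ y, t • x - a.mulVec y ∈
      ((q.comap (algebraMap R S)) • ⊤ : Submodule R (Fin n1 → S)) := by
  set f := algebraMap S (EGA4.FibLocRing R S q) with hf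
  have h1 : (b.map f).mulVec (f ∘ x) = 0 := by
    ext i
    rw [← RingHom.map_mulVec]
    exact algebraMap_coord_eq_zero R S q _ hx i
  have h2 : (f ∘ x) ∈ LinearMap.ker (Matrix.mulVecLin (b.map f)) := by
    rw [LinearMap.mem_ker, Matrix.mulVecLin_apply]
    exact h1
  obtain ⟨v, hv⟩ := hfib h2
  rw [Matrix.mulVecLin_apply] at hv
  obtain ⟨t, ht, y, hy⟩ := exists_common_denominator R S q v
  have h3 : ∀ j, f ((t • x - a.mulVec y) j) = 0 := by
    intro j
    have e1 : f (x j) = (a.map f).mulVec v j := (congrFun hv j).symm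
    have e2 : f (a.mulVec y j) = (a.map f).mulVec (f ∘ y) j := RingHom.map_mulVec f a y j
    have e3 : (f ∘ y) = f t • v := funext (fun k => (hy k).symm)
    rw [Pi.sub_apply, Pi.smul_apply, smul_eq_mul, map_sub, map_mul, e1, e2, e3,
      Matrix.mulVec_smul, Pi.smul_apply, smul_eq_mul, sub_self]
  obtain ⟨t2, ht2, h4⟩ := exists_smul_mem_smul_top R S q _ h3
  refine ⟨t2 * t, fun hmem => (Ideal.IsPrime.mem_or_mem inferInstance hmem).elim ht2 ht,
    t2 • y, ?_⟩
  rw [Matrix.mulVec_smul, mul_smul, ← smul_sub]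
  exact h4

/-- **Forward step**: fibrewise exactness at the middle term gives exactness at the middle term
after localization at `q` (elementwise form) and flatness of the cokernel of the second map at
`q`. -/
theorem step_forward [IsNoetherianRing R] [Algebra.FiniteType R S] [Module.Flat R S]
    (b : Matrix (Fin n0) (Fin n1) S) (a : Matrix (Fin n1) (Fin n2) S) (hba : b * a = 0)
    (hfib : LinearMap.ker (Matrix.mulVecLin (b.map (algebraMap S (EGA4.FibLocRing R S q)))) ≤
      LinearMap.range (Matrix.mulVecLin (a.map (algebraMap S (EGA4.FibLocRing R S q))))) :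
    (∀ x, b.mulVec x = 0 → ∃ w, w ∉ q ∧ ∃ y, w • x = a.mulVec y) ∧
      Module.Flat R (LocalizedModule q.primeCompl
        ((Fin n0 → S) ⧸ LinearMap.range (Matrix.mulVecLin b))) := by
  classical
  set p : Ideal R := q.comap (algebraMap R S) with hp
  haveI : p.IsPrime := Ideal.comap_isPrime _ _
  have hBA : LinearMap.range (Matrix.mulVecLin a) ≤ LinearMap.ker (Matrix.mulVecLin b) := by
    rintro _ ⟨y, rfl⟩
    rw [LinearMap.mem_ker, Matrix.mulVecLin_apply, Matrix.mulVecLin_apply, Matrix.mulVec_mulVec,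
      hba, Matrix.zero_mulVec]
  let ū : ((Fin n1 → S) ⧸ LinearMap.range (Matrix.mulVecLin a)) →ₗ[S] (Fin n0 → S) :=
    (LinearMap.range (Matrix.mulVecLin a)).liftQ (Matrix.mulVecLin b) hBA
  haveI : Algebra.FinitePresentation R S := Algebra.FinitePresentation.of_finiteType.1 inferInstance
  haveI : IsNoetherianRing S := Algebra.FiniteType.isNoetherianRing R S
  haveI : Module.FinitePresentation S ((Fin n1 → S) ⧸ LinearMap.range (Matrix.mulVecLin a)) :=
    Module.finitePresentation_of_finite S _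
  haveI : Module.FinitePresentation S (Fin n0 → S) := Module.finitePresentation_of_finite S _
  haveI : Module.Flat R (Fin n0 → S) := Module.Flat.trans R S _
  have hflat : Module.Flat R (LocalizedModule q.primeCompl (Fin n0 → S)) :=
    FlatOpenA.flat_of_isLocalizedModule S q.primeCompl
      (LocalizedModule.mkLinearMap q.primeCompl (Fin n0 → S))
  have hK : ∀ r : R, algebraMap R p.ResidueField r = 0 ↔ algebraMap R S r ∈ q := fun r => by
    rw [Ideal.algebraMap_residueField_eq_zero]
    rfl
  have FI : ∀ m, ū m ∈ (p • ⊤ : Submodule R (Fin n0 → S)) →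
      ∃ t, t ∉ q ∧ t • m ∈ (p • ⊤ : Submodule R _) := by
    intro m hm
    obtain ⟨x, rfl⟩ := Submodule.Quotient.mk_surjective _ m
    have hm' : b.mulVec x ∈ (p • ⊤ : Submodule R (Fin n0 → S)) := hm
    obtain ⟨t, ht, y, hty⟩ := FI_matrix R S q b a hfib x hm'
    refine ⟨t, ht, ?_⟩
    have h0 : (Submodule.Quotient.mk (a.mulVec y) :
        (Fin n1 → S) ⧸ LinearMap.range (Matrix.mulVecLin a)) = 0 :=
      (Submodule.Quotient.mk_eq_zero _).2 ⟨y, rfl⟩
    have h1 : t • (Submodule.Quotient.mk x : (Fin n1 → S) ⧸ LinearMap.range (Matrix.mulVecLin a)) =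
        Submodule.Quotient.mk (t • x - a.mulVec y) := by
      rw [Submodule.Quotient.mk_sub, h0, sub_zero, Submodule.Quotient.mk_smul]
    rw [h1]
    exact map_mem_smul_top
      ((LinearMap.range (Matrix.mulVecLin a)).mkQ.restrictScalars R) p _ hty
  obtain ⟨c1, c2⟩ := MapFibre6.core_map ū q p.ResidueField hK hflat
    (fun z hz => hfib_of_FI ū q p hp FI z hz)
  refine ⟨?_, ?_⟩
  · intro x hx
    have h0 : ū (Submodule.Quotient.mk x) = 0 := hx
    obtain ⟨w, hw, hwx⟩ := c1 _ h0
    refine ⟨w, hw, ?_⟩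
    rw [← Submodule.Quotient.mk_smul, Submodule.Quotient.mk_eq_zero] at hwx
    obtain ⟨y, hy⟩ := hwx
    exact ⟨y, hy.symm⟩
  · have hr : LinearMap.range ū = LinearMap.range (Matrix.mulVecLin b) :=
      Submodule.range_liftQ _ _ _
    rw [hr] at c2
    exact c2

end Matrix

end Groth.Agent.Lib.Helper54.FibCx1
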