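/-
helper54: fibrewise exactness of a three-term complex of finite free modules: the backward step
(exactness at `q` plus flat cokernel gives fibrewise exactness) and openness of the locus.
-/
import Groth.Agent.Lib.Helper54.FibCx1

set_option autoImplicit false
set_option maxHeartbeats 1000000
set_option linter.style.haveILetI false

namespace Groth.Agent.Lib.Helper54.FibCx2

open TensorProduct Function
open Groth.Agent.Lib.Helper54.FibCx1

universe u

section KC

variable {R S : Type u} [CommRing R] [CommRing S] [Algebra R S]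
  {F' F : Type u} [AddCommGroup F'] [Module S F'] [Module R F'] [IsScalarTower R S F']
  [AddCommGroup F] [Module S F] [Module R F] [IsScalarTower R S F]

omit [Module S F] [IsScalarTower R S F] in
theorem exists_lTensor_eq (p : Ideal R) (n : F) (hn : n ∈ (p • ⊤ : Submodule R F)) :
    ∃ ζ : F ⊗[R] p, p.subtype.lTensor F ζ = n ⊗ₜ[R] (1 : R) := by
  refine Submodule.smul_induction_on hn ?_ ?_
  · intro r hr y _
    refine ⟨y ⊗ₜ[R] ⟨r, hr⟩, ?_⟩
    rw [LinearMap.lTensor_tmul, TensorProduct.smul_tmul]
    simp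
  · rintro x y ⟨ζ1, h1⟩ ⟨ζ2, h2⟩
    exact ⟨ζ1 + ζ2, by rw [map_add, h1, h2, TensorProduct.add_tmul]⟩

omit [Module S F'] [IsScalarTower R S F'] in
theorem rid_lTensor_mem (p : Ideal R) (ζ : F' ⊗[R] p) :
    TensorProduct.rid R F' (p.subtype.lTensor F' ζ) ∈ (p • ⊤ : Submodule R F') := by
  induction ζ with
  | zero => simp
  | tmul x r =>
    rw [LinearMap.lTensor_tmul, TensorProduct.rid_tmul]
    exact Submodule.smul_mem_smul r.2 Submodule.mem_top
  | add a b ha hb =>
    rw [map_add, map_add]
    exact Submodule.add_mem _ ha hb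

/-- Key consequence of flatness of the cokernel at `q`: an element mapping into `p F` is, up to a
multiplier outside `q`, congruent modulo `p F'` to an element of the kernel. -/
theorem KC (q : Ideal S) [q.IsPrime] (p : Ideal R) (B : F' →ₗ[S] F)
    (hG : Module.Flat R (LocalizedModule q.primeCompl (F ⧸ LinearMap.range B)))
    (x' : F') (hx' : B x' ∈ (p • ⊤ : Submodule R F)) :
    ∃ w, w ∉ q ∧ ∃ c, c ∈ (p • ⊤ : Submodule R F') ∧ B (w • x' - c) = 0 := by
  obtain ⟨ζ, hζ⟩ := exists_lTensor_eq p (B x') hx'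
  let π : F →ₗ[S] (F ⧸ LinearMap.range B) := (LinearMap.range B).mkQ
  let ζb : (F ⧸ LinearMap.range B) ⊗[R] p := AlgebraTensorModule.rTensor R p π ζ
  have h1 : p.subtype.lTensor (F ⧸ LinearMap.range B) ζb = 0 := by
    have h2 : (p.subtype.lTensor (F ⧸ LinearMap.range B)) ∘ₗ ((π.restrictScalars R).rTensor p) =
        ((π.restrictScalars R).rTensor R) ∘ₗ (p.subtype.lTensor F) := by
      rw [LinearMap.lTensor_comp_rTensor, LinearMap.rTensor_comp_lTensor]
    have h3 := LinearMap.congr_fun h2 ζ
    simp only [LinearMap.comp_apply] at h3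
    rw [hζ, LinearMap.rTensor_tmul] at h3
    have h0 : (π.restrictScalars R) (B x') = 0 := (Submodule.Quotient.mk_eq_zero _).2 ⟨x', rfl⟩
    rw [h0, TensorProduct.zero_tmul] at h3
    exact h3
  obtain ⟨w, hw, hwz⟩ := FlatOpenA.forall_ker_of_flat_localized S q.primeCompl
    (LocalizedModule.mkLinearMap q.primeCompl (F ⧸ LinearMap.range B)) p ζb h1
  have h4 : (π.restrictScalars R).rTensor p (w • ζ) = 0 := by
    have h0 : AlgebraTensorModule.rTensor R p π (w • ζ) = 0 := by
      rw [map_smul]
      exact hwz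
    exact h0
  have hex0 : Function.Exact (B.restrictScalars R) (π.restrictScalars R) := by
    intro y
    constructor
    · intro hy
      exact (Submodule.Quotient.mk_eq_zero (LinearMap.range B)).1 hy
    · rintro ⟨x, rfl⟩
      exact (Submodule.Quotient.mk_eq_zero (LinearMap.range B)).2 ⟨x, rfl⟩
  have hex : Function.Exact ((B.restrictScalars R).rTensor p) ((π.restrictScalars R).rTensor p) :=
    rTensor_exact p hex0 (Submodule.mkQ_surjective _)
  obtain ⟨ζ', hζ'⟩ := (hex (w • ζ)).1 h4
  refine ⟨w, hw, TensorProduct.rid R F' (p.subtype.lTensor F' ζ'), rid_lTensor_mem p ζ', ?_⟩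
  have hlin : ∀ ζ : F ⊗[R] p, p.subtype.lTensor F (w • ζ) = w • p.subtype.lTensor F ζ := by
    intro ζ
    induction ζ with
    | zero => simp
    | tmul y r =>
      rw [TensorProduct.smul_tmul', LinearMap.lTensor_tmul, LinearMap.lTensor_tmul,
        TensorProduct.smul_tmul']
    | add a b ha hb => rw [smul_add, map_add, ha, hb, map_add, smul_add]
  have h11 : ∀ η : F' ⊗[R] R, TensorProduct.rid R F ((B.restrictScalars R).rTensor R η) =
      B (TensorProduct.rid R F' η) := by
    intro η
    induction η with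
    | zero => simp
    | tmul x r =>
      rw [LinearMap.rTensor_tmul, TensorProduct.rid_tmul, TensorProduct.rid_tmul]
      exact ((B.restrictScalars R).map_smul r x).symm
    | add a b ha hb => simp only [map_add, ha, hb]
  have h5 : B (TensorProduct.rid R F' (p.subtype.lTensor F' ζ')) = w • B x' := by
    have h6 : (p.subtype.lTensor F) ((B.restrictScalars R).rTensor p ζ') =
        (p.subtype.lTensor F) (w • ζ) := by rw [hζ']
    have h7 : (p.subtype.lTensor F) ∘ₗ ((B.restrictScalars R).rTensor p) =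
        ((B.restrictScalars R).rTensor R) ∘ₗ (p.subtype.lTensor F') := by
      rw [LinearMap.lTensor_comp_rTensor, LinearMap.rTensor_comp_lTensor]
    have h8 := LinearMap.congr_fun h7 ζ'
    simp only [LinearMap.comp_apply] at h8
    rw [h8, hlin, hζ, TensorProduct.smul_tmul'] at h6
    have h10 := congrArg (TensorProduct.rid R F) h6
    rw [TensorProduct.rid_tmul, one_smul, h11] at h10
    exact h10
  rw [map_sub, map_smul, h5, sub_self]

end KC

section Matrix

variable (R S : Type u) [CommRing R] [CommRing S] [Algebra R S] (q : Ideal S) [q.IsPrime]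
  {n0 n1 n2 : ℕ}

/-- **Backward step**: exactness at `q` and flat cokernel at `q` give fibrewise exactness. -/
theorem step_backward (b : Matrix (Fin n0) (Fin n1) S) (a : Matrix (Fin n1) (Fin n2) S)
    (hE : ∀ x, b.mulVec x = 0 → ∃ w, w ∉ q ∧ ∃ y, w • x = a.mulVec y)
    (hG : Module.Flat R (LocalizedModule q.primeCompl
      ((Fin n0 → S) ⧸ LinearMap.range (Matrix.mulVecLin b)))) :
    LinearMap.ker (Matrix.mulVecLin (b.map (algebraMap S (EGA4.FibLocRing R S q)))) ≤
      LinearMap.range (Matrix.mulVecLin (a.map (algebraMap S (EGA4.FibLocRing R S q)))) := by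
  intro ξ hξ
  rw [LinearMap.mem_ker, Matrix.mulVecLin_apply] at hξ
  set f := algebraMap S (EGA4.FibLocRing R S q) with hf
  obtain ⟨t, ht, x, hx⟩ := exists_common_denominator R S q ξ
  have e0 : f ∘ x = f t • ξ := funext fun j => (hx j).symm
  have h1 : ∀ i, f (b.mulVec x i) = 0 := by
    intro i
    rw [RingHom.map_mulVec, e0, Matrix.mulVec_smul, hξ, smul_zero]
    rfl
  obtain ⟨t2, ht2, h2⟩ := exists_smul_mem_smul_top R S q _ h1
  have h3 : Matrix.mulVecLin b (t2 • x) ∈
      ((q.comap (algebraMap R S)) • ⊤ : Submodule R (Fin n0 → S)) := by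
    rw [map_smul, Matrix.mulVecLin_apply]
    exact h2
  obtain ⟨w, hw, c, hc, hcw⟩ := KC q (q.comap (algebraMap R S)) (Matrix.mulVecLin b) hG
    (t2 • x) h3
  rw [Matrix.mulVecLin_apply] at hcw
  obtain ⟨w2, hw2, y, hy⟩ := hE _ hcw
  have hnot : w2 * w * t2 * t ∉ q := by
    intro hmem
    rcases Ideal.IsPrime.mem_or_mem inferInstance hmem with h | h
    · rcases Ideal.IsPrime.mem_or_mem inferInstance h with h | h
      · rcases Ideal.IsPrime.mem_or_mem inferInstance h with h | h
        · exact hw2 h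
        · exact hw h
      · exact ht2 h
    · exact ht h
  obtain ⟨υ, hυ⟩ := isUnit_algebraMap R S q _ hnot
  have h5 : (a.map f).mulVec (f ∘ y) = f (w2 * w * t2 * t) • ξ := by
    ext j
    rw [← RingHom.map_mulVec, ← hy]
    simp only [Pi.smul_apply, Pi.sub_apply, smul_eq_mul, map_mul, map_sub]
    rw [algebraMap_coord_eq_zero R S q c hc j, sub_zero, ← hx j]
    ring
  refine ⟨(↑υ⁻¹ : EGA4.FibLocRing R S q) • (f ∘ y), ?_⟩
  rw [Matrix.mulVecLin_apply, Matrix.mulVec_smul, h5, ← hυ, smul_smul, Units.inv_mul, one_smul]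

/-- Openness of the locus where a three-term complex is exact in the middle after localization. -/
theorem isOpen_E [IsNoetherianRing S] (b : Matrix (Fin n0) (Fin n1) S)
    (a : Matrix (Fin n1) (Fin n2) S) :
    IsOpen {q : PrimeSpectrum S | ∀ x, b.mulVec x = 0 →
      ∃ w, w ∉ q.asIdeal ∧ ∃ y, w • x = a.mulVec y} := by
  rw [isOpen_iff_forall_mem_open]
  intro q hq
  let K : Submodule S ((Fin n1 → S) ⧸ LinearMap.range (Matrix.mulVecLin a)) :=
    (LinearMap.ker (Matrix.mulVecLin b)).map (LinearMap.range (Matrix.mulVecLin a)).mkQ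
  have hK : K.FG := IsNoetherian.noetherian K
  obtain ⟨w, hw, hwK⟩ := FlatOpenB.exists_smul_eq_zero_of_fg q.asIdeal.primeCompl K hK (by
    rintro z ⟨x, hx, rfl⟩
    have hx' : b.mulVec x = 0 := hx
    obtain ⟨w, hw, y, hy⟩ := hq x hx'
    refine ⟨w, hw, ?_⟩
    rw [Submodule.mkQ_apply, ← Submodule.Quotient.mk_smul, hy, Submodule.Quotient.mk_eq_zero]
    exact ⟨y, rfl⟩)
  refine ⟨PrimeSpectrum.basicOpen w, ?_, (PrimeSpectrum.basicOpen w).isOpen, hw⟩
  intro q' hq' x hx
  refine ⟨w, hq', ?_⟩
  have h0 := hwK _ ⟨x, hx, rfl⟩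
  rw [Submodule.mkQ_apply, ← Submodule.Quotient.mk_smul, Submodule.Quotient.mk_eq_zero] at h0
  obtain ⟨y, hy⟩ := h0
  exact ⟨y, hy.symm⟩

/-- **Openness of fibrewise exactness in the middle of a three-term complex** of finite free
modules over a flat finite type algebra over a Noetherian ring. -/
theorem isOpen_step [IsNoetherianRing R] [Algebra.FiniteType R S] [Module.Flat R S]
    (b : Matrix (Fin n0) (Fin n1) S) (a : Matrix (Fin n1) (Fin n2) S) (hba : b * a = 0) :
    IsOpen {q : PrimeSpectrum S |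
      LinearMap.ker (Matrix.mulVecLin (b.map (algebraMap S (EGA4.FibLocRing R S q.asIdeal)))) ≤
        LinearMap.range
          (Matrix.mulVecLin (a.map (algebraMap S (EGA4.FibLocRing R S q.asIdeal))))} := by
  haveI : IsNoetherianRing S := Algebra.FiniteType.isNoetherianRing R S
  have hset : {q : PrimeSpectrum S |
      LinearMap.ker (Matrix.mulVecLin (b.map (algebraMap S (EGA4.FibLocRing R S q.asIdeal)))) ≤
        LinearMap.range
          (Matrix.mulVecLin (a.map (algebraMap S (EGA4.FibLocRing R S q.asIdeal))))} =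
      {q : PrimeSpectrum S | ∀ x, b.mulVec x = 0 →
        ∃ w, w ∉ q.asIdeal ∧ ∃ y, w • x = a.mulVec y} ∩
      {q : PrimeSpectrum S | Module.Flat R (LocalizedModule q.asIdeal.primeCompl
        ((Fin n0 → S) ⧸ LinearMap.range (Matrix.mulVecLin b)))} := by
    ext q
    constructor
    · intro h
      exact step_forward R S q.asIdeal b a hba h
    · rintro ⟨h1, h2⟩
      exact step_backward R S q.asIdeal b a h1 h2
  rw [hset]
  exact (isOpen_E S b a).inter (FlatOpenB.isOpen_flatLocus R S _)

end Matrix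

end Groth.Agent.Lib.Helper54.FibCx2
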