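/-
helper54: auxiliary lemmas for the fibrewise flatness criterion when the middle ring is only
essentially of finite type: lifting finite generation through a surjection, finitely generated
ideals of a localization are extended, quotients of localizations of finitely presented algebras
by finitely generated extended ideals are essentially of finite presentation, faithfulness of
faithfully flat modules.
-/
import Mathlib
import Groth.Prelude.Def_CAlgX

set_option autoImplicit false
set_option maxHeartbeats 1000000
set_option linter.style.haveILetI false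

namespace Groth.Agent.Lib.Helper54.FibFT1

open Function

universe u

/-- If the image of an ideal `K` under a surjection `φ` is finitely generated, then `K` is
generated by finitely many elements modulo the kernel of `φ`. -/
theorem exists_fg_lift {T Tb : Type*} [CommRing T] [CommRing Tb] (φ : T →+* Tb)
    (hφ : Surjective φ) (K : Ideal T) (hK : (K.map φ).FG) :
    ∃ K₀ : Ideal T, K₀ ≤ K ∧ K₀.FG ∧ K ≤ K₀ ⊔ RingHom.ker φ := by
  classical
  obtain ⟨t, ht⟩ := hK
  have hmem : ∀ x ∈ t, ∃ k ∈ K, φ k = x := by
    intro x hx
    have hx' : x ∈ K.map φ := by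
      rw [← ht]; exact Submodule.subset_span hx
    exact (Ideal.mem_map_iff_of_surjective φ hφ).1 hx'
  choose! g hgK hgφ using hmem
  refine ⟨Ideal.span (g '' (t : Set Tb)), ?_, ?_, ?_⟩
  · rw [Ideal.span_le]
    rintro _ ⟨x, hx, rfl⟩
    exact hgK x hx
  · exact ⟨t.image g, by rw [Finset.coe_image]⟩
  · intro k hk
    have h1 : φ k ∈ (Ideal.span (g '' (t : Set Tb))).map φ := by
      rw [Ideal.map_span, ← Set.image_comp]
      have h2 : (φ ∘ g) '' (t : Set Tb) = (t : Set Tb) := by
        ext y
        constructor
        · rintro ⟨x, hx, rfl⟩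
          show φ (g x) ∈ (t : Set Tb)
          rw [hgφ x hx]; exact hx
        · intro hy
          exact ⟨y, hy, hgφ y hy⟩
      rw [h2]
      have : φ k ∈ K.map φ := Ideal.mem_map_of_mem φ hk
      rw [← ht] at this
      exact this
    obtain ⟨k₀, hk₀, hk₀φ⟩ := (Ideal.mem_map_iff_of_surjective φ hφ).1 h1
    have h3 : k - k₀ ∈ RingHom.ker φ := by
      rw [RingHom.mem_ker, map_sub, hk₀φ, sub_self]
    have h4 : k = k₀ + (k - k₀) := by ring
    rw [h4]
    exact Submodule.add_mem_sup hk₀ h3

/-- A finitely generated ideal of a localization is the extension of a finitely generated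
ideal. -/
theorem exists_fg_extended {P T : Type*} [CommRing P] [CommRing T] [Algebra P T]
    (W : Submonoid P) [IsLocalization W T] (K₀ : Ideal T) (hK₀ : K₀.FG) :
    ∃ J₀ : Ideal P, J₀.FG ∧ J₀.map (algebraMap P T) = K₀ := by
  classical
  obtain ⟨t, ht⟩ := hK₀
  obtain ⟨b, hb⟩ := IsLocalization.exist_integer_multiples_of_finset W t
  choose! c hc using hb
  refine ⟨Ideal.span (c '' (t : Set T)), ⟨t.image c, by rw [Finset.coe_image]⟩, ?_⟩
  have hu : IsUnit (algebraMap P T (b : P)) := IsLocalization.map_units T b
  rw [Ideal.map_span, ← Set.image_comp, ← ht]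
  apply le_antisymm
  · rw [Ideal.span_le]
    rintro _ ⟨x, hx, rfl⟩
    show algebraMap P T (c x) ∈ _
    rw [hc x hx, Algebra.smul_def]
    exact Ideal.mul_mem_left _ _ (Ideal.subset_span hx)
  · rw [Ideal.span_le]
    intro x hx
    obtain ⟨y, hy⟩ := hu.exists_left_inv
    have h1 : x = y * algebraMap P T (c x) := by
      rw [hc x hx, Algebra.smul_def, ← mul_assoc, hy, one_mul]
    rw [h1]
    exact Ideal.mul_mem_left _ _ (Ideal.subset_span ⟨x, hx, rfl⟩)

/-- The quotient of a localization of a finitely presented algebra by the extension of a finitely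
generated ideal is essentially of finite presentation. -/
theorem essFP_quotient {R P T : Type u} [CommRing R] [CommRing P] [CommRing T] [Algebra R P]
    [Algebra.FinitePresentation R P] [Algebra P T] [Algebra R T] [IsScalarTower R P T]
    (W : Submonoid P) [IsLocalization W T] (J₀ : Ideal P) (hJ₀ : J₀.FG) :
    CAlgX.IsEssFinitePresentation R (T ⧸ J₀.map (algebraMap P T)) := by
  haveI : Algebra.FinitePresentation R (P ⧸ J₀) := Algebra.FinitePresentation.quotient hJ₀
  haveI : IsScalarTower R (P ⧸ J₀) (T ⧸ J₀.map (algebraMap P T)) := by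
    refine IsScalarTower.of_algebraMap_eq (fun a => ?_)
    rw [IsScalarTower.algebraMap_apply R P (P ⧸ J₀),
      IsScalarTower.algebraMap_apply R T (T ⧸ J₀.map (algebraMap P T)),
      IsScalarTower.algebraMap_apply R P T]
    rfl
  exact ⟨P ⧸ J₀, inferInstance, inferInstance, inferInstance, inferInstance,
    Algebra.algebraMapSubmonoid (P ⧸ J₀) W, inferInstance, inferInstance⟩

/-- A faithfully flat module is faithful: if a surjective ring map `S₁ → S` is such that the
`S₁`-module structure on `M` factors through `S` and `M` is faithfully flat over `S₁`, then the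
map is injective. -/
theorem injective_of_faithfullyFlat {S₁ S M : Type*} [CommRing S₁] [CommRing S] [Algebra S₁ S]
    [AddCommGroup M] [Module S₁ M] [Module S M] [IsScalarTower S₁ S M]
    [Module.FaithfullyFlat S₁ M] : Injective (algebraMap S₁ S) := by
  rw [injective_iff_map_eq_zero]
  intro a ha
  have h1 : ∀ m : M, a • m = 0 := fun m => by
    rw [← algebraMap_smul S a m, ha, zero_smul]
  have h2 : (LinearMap.lsmul S₁ S₁ a) = 0 := by
    rw [Module.FaithfullyFlat.zero_iff_lTensor_zero S₁ M]
    ext m
    simp only [TensorProduct.AlgebraTensorModule.curry_apply, LinearMap.restrictScalars_self,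
      TensorProduct.curry_apply, LinearMap.lTensor_tmul, LinearMap.lsmul_apply, smul_eq_mul,
      mul_one, LinearMap.zero_apply]
    have h4 : m ⊗ₜ[S₁] a = (a • m) ⊗ₜ[S₁] (1 : S₁) := by
      rw [TensorProduct.smul_tmul, smul_eq_mul, mul_one]
    rw [h4, h1, TensorProduct.zero_tmul]
  have h3 := LinearMap.congr_fun h2 1
  simpa using h3

/-- A finitely generated nonzero module over a local ring `S'`, flat over a local ring `S₁` with
`S₁ → S'` local, is faithfully flat over `S₁`. -/
theorem faithfullyFlat_of_flat_of_isLocalHom {S₁ S' M : Type*} [CommRing S₁] [CommRing S']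
    [IsLocalRing S₁] [IsLocalRing S'] [Algebra S₁ S'] [IsLocalHom (algebraMap S₁ S')]
    [AddCommGroup M] [Module S₁ M] [Module S' M] [IsScalarTower S₁ S' M] [Module.Finite S' M]
    [Nontrivial M] [Module.Flat S₁ M] : Module.FaithfullyFlat S₁ M := by
  refine ⟨fun m hm htop => ?_⟩
  rw [IsLocalRing.eq_maximalIdeal hm] at htop
  have hle : (IsLocalRing.maximalIdeal S₁).map (algebraMap S₁ S') ≤ IsLocalRing.maximalIdeal S' :=
    ((IsLocalRing.local_hom_TFAE (algebraMap S₁ S')).out 0 2).mp
      (inferInstance : IsLocalHom (algebraMap S₁ S'))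
  have h1 : (⊤ : Submodule S' M) ≤ IsLocalRing.maximalIdeal S' • (⊤ : Submodule S' M) := by
    intro x _
    have hx : x ∈ (IsLocalRing.maximalIdeal S₁ • (⊤ : Submodule S₁ M)) := by
      rw [htop]; exact Submodule.mem_top
    refine Submodule.smul_induction_on hx ?_ ?_
    · intro a ha n _
      rw [← algebraMap_smul S' a n]
      exact Submodule.smul_mem_smul (hle (Ideal.mem_map_of_mem _ ha)) Submodule.mem_top
    · intro x y hx hy
      exact Submodule.add_mem _ hx hy
  have h2 := Submodule.eq_bot_of_le_smul_of_le_jacobson_bot (IsLocalRing.maximalIdeal S')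
    (⊤ : Submodule S' M) Module.Finite.fg_top h1 (IsLocalRing.maximalIdeal_le_jacobson _)
  exact top_ne_bot h2

end Groth.Agent.Lib.Helper54.FibFT1
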