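/-
helper54: descent of flatness of a module along a faithfully flat extension of the ring acting
on it (the base ring being fixed).
-/
import Mathlib

set_option autoImplicit false

namespace Groth.Agent.Lib.Helper54.FibMod1

open TensorProduct Function

universe u

section DL

variable (D' E' E X : Type*) [CommRing D'] [CommRing E'] [CommRing E]
  [Algebra D' E'] [Algebra E' E] [Algebra D' E] [IsScalarTower D' E' E]
  [AddCommGroup X] [Module E' X] [Module D' X] [IsScalarTower D' E' X]

/-- If `E` is faithfully flat over `E'` and `E ⊗[E'] X` is flat over `D'`, then `X` is flat over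
`D'`. -/
theorem flat_of_faithfullyFlat_tensor [Module.FaithfullyFlat E' E]
    (h : Module.Flat D' (E ⊗[E'] X)) : Module.Flat D' X := by
  rw [Module.Flat.iff_lTensor_injectiveₛ]
  intro P _ _ N
  have h1 : Injective (N.subtype.lTensor (E ⊗[E'] X)) :=
    Module.Flat.lTensor_preserves_injective_linearMap _ Subtype.val_injective
  rw [← AlgebraTensorModule.coe_lTensor (A := E')]
  rw [← Module.FaithfullyFlat.lTensor_injective_iff_injective E' E]
  let a1 := AlgebraTensorModule.assoc D' E' E' E X N
  let a2 := AlgebraTensorModule.assoc D' E' E' E X P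
  have key : ((AlgebraTensorModule.lTensor E' X N.subtype).lTensor E) ∘ₗ a1.toLinearMap =
      a2.toLinearMap ∘ₗ (AlgebraTensorModule.lTensor E' (E ⊗[E'] X) N.subtype) := by
    ext e x n
    rfl
  have h2 : Injective (a2.toLinearMap ∘ₗ
      (AlgebraTensorModule.lTensor E' (E ⊗[E'] X) N.subtype)) := by
    rw [LinearMap.coe_comp, LinearEquiv.coe_coe]
    exact a2.injective.comp (by rw [AlgebraTensorModule.coe_lTensor]; exact h1)
  rw [← key, LinearMap.coe_comp, LinearEquiv.coe_coe] at h2
  intro x y hxy
  obtain ⟨x', rfl⟩ := a1.surjective x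
  obtain ⟨y', rfl⟩ := a1.surjective y
  exact congrArg a1 (h2 hxy)

end DL

section Quot

variable {R : Type*} [CommRing R] (I : Ideal R) (M : Type*) [AddCommGroup M] [Module R M]

/-- The quotient `M → M / I M` is a base change along `R → R / I`. -/
theorem isBaseChange_mkQ : IsBaseChange (R ⧸ I) (I • ⊤ : Submodule R M).mkQ := by
  refine IsBaseChange.of_equiv ((quotTensorEquivQuotSMul M I).extendScalarsOfSurjective
    Ideal.Quotient.mk_surjective) ?_
  intro x
  exact quotTensorEquivQuotSMul_mk_one_tmul I x

end Quot

section Compare

variable {S T : Type*} [CommRing S] [CommRing T] [Algebra S T] (I : Ideal S)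
  (N : Type*) [AddCommGroup N] [Module T N] [Module S N] [IsScalarTower S T N]

/-- The quotient of a `T`-module by `I N`, computed over `S` or over `T`. -/
noncomputable def quotCompare : (N ⧸ (I • ⊤ : Submodule S N)) ≃ₗ[S]
    (N ⧸ (I.map (algebraMap S T) • ⊤ : Submodule T N)) :=
  (Submodule.quotEquivOfEq (I • ⊤ : Submodule S N)
    ((I.map (algebraMap S T) • (⊤ : Submodule T N)).restrictScalars S) (by
      rw [Ideal.smul_restrictScalars, Submodule.restrictScalars_top])).trans
    (Submodule.Quotient.restrictScalarsEquiv S (I.map (algebraMap S T) • (⊤ : Submodule T N)))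

@[simp]
theorem quotCompare_mk (x : N) :
    quotCompare I N (Submodule.Quotient.mk x : N ⧸ (I • ⊤ : Submodule S N)) =
      (Submodule.Quotient.mk x : N ⧸ (I.map (algebraMap S T) • ⊤ : Submodule T N)) := rfl

end Compare

section Transport

/-- Transport of flatness over a quotient ring along an isomorphism which is linear over the
ring upstairs. -/
theorem flat_of_linearEquiv_of_surjective {S D X Y : Type*} [CommRing S] [CommRing D] [Algebra S D]
    (hsurj : Surjective (algebraMap S D))
    [AddCommGroup X] [Module S X] [Module D X] [IsScalarTower S D X]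
    [AddCommGroup Y] [Module S Y] [Module D Y] [IsScalarTower S D Y]
    (e : X ≃ₗ[S] Y) (h : Module.Flat D X) : Module.Flat D Y :=
  Module.Flat.of_linearEquiv (e.extendScalarsOfSurjective hsurj).symm

end Transport

end Groth.Agent.Lib.Helper54.FibMod1
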