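/-
helper54: descent of fibrewise flatness of a module along a commutative square of rings whose
vertical maps are flat modulo the given ideals (module version of helper31's
`quotientMap_flat_descent`).
-/
import Groth.Agent.Lib.Helper54.FibMod1

set_option autoImplicit false
set_option maxHeartbeats 1000000
set_option linter.style.haveILetI false

namespace Groth.Agent.Lib.Helper54.FibMod2

open TensorProduct Function
open Groth.Agent.Lib.Helper54.FibMod1

universe u

theorem fibre_descent {S' T' S T : Type u} [CommRing S'] [CommRing T'] [CommRing S] [CommRing T]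
    [IsLocalRing T'] [IsLocalRing T]
    [Algebra S' T'] [Algebra S T] [Algebra S' S] [Algebra T' T] [Algebra S' T]
    [IsScalarTower S' T' T] [IsScalarTower S' S T] [IsLocalHom (algebraMap T' T)]
    (I' : Ideal S') (I : Ideal S) (hσ : I' ≤ I.comap (algebraMap S' S))
    (hτ : I'.map (algebraMap S' T') ≤ (I.map (algebraMap S T)).comap (algebraMap T' T))
    (hJ : I.map (algebraMap S T) ≠ ⊤)
    (ha : (Ideal.quotientMap I (algebraMap S' S) hσ).Flat)
    (hb : (Ideal.quotientMap (I.map (algebraMap S T)) (algebraMap T' T) hτ).Flat)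
    (N' N : Type u) [AddCommGroup N'] [AddCommGroup N] [Module T' N'] [Module S' N']
    [IsScalarTower S' T' N'] [Module T N] [Module S N] [IsScalarTower S T N] [Module T' N]
    [IsScalarTower T' T N]
    (g : N' →ₗ[T'] N) (hg : IsBaseChange T g)
    (hc : Module.Flat (S ⧸ I) (N ⧸ (I • ⊤ : Submodule S N))) :
    Module.Flat (S' ⧸ I') (N' ⧸ (I' • ⊤ : Submodule S' N')) := by
  classical
  -- ideals upstairs
  obtain ⟨J', hJ'⟩ : ∃ J' : Ideal T', J' = I'.map (algebraMap S' T') := ⟨_, rfl⟩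
  obtain ⟨J, hJdef⟩ : ∃ J : Ideal T, J = I.map (algebraMap S T) := ⟨_, rfl⟩
  have hτ' : J' ≤ J.comap (algebraMap T' T) := by rw [hJ', hJdef]; exact hτ
  have hψ' : I' ≤ J'.comap (algebraMap S' T') := by rw [hJ']; exact Ideal.le_comap_map
  have hψ : I ≤ J.comap (algebraMap S T) := by rw [hJdef]; exact Ideal.le_comap_map
  have hJne : J ≠ ⊤ := by rw [hJdef]; exact hJ
  have hJ'ne : J' ≠ ⊤ := by
    intro h
    apply hJne
    rw [Ideal.eq_top_iff_one]
    have h1 : (1 : T') ∈ J' := by rw [h]; trivial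
    simpa using hτ' h1
  -- the four quotient maps
  let α : S' ⧸ I' →+* S ⧸ I := Ideal.quotientMap I (algebraMap S' S) hσ
  let β' : S' ⧸ I' →+* T' ⧸ J' := Ideal.quotientMap J' (algebraMap S' T') hψ'
  let β : S ⧸ I →+* T ⧸ J := Ideal.quotientMap J (algebraMap S T) hψ
  let γ : T' ⧸ J' →+* T ⧸ J := Ideal.quotientMap J (algebraMap T' T) hτ'
  have hcomm : γ.comp β' = β.comp α := by
    refine Ideal.Quotient.ringHom_ext ?_
    ext s
    simp only [RingHom.coe_comp, Function.comp_apply, Ideal.quotientMap_mk, α, β, β', γ]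
    rw [← IsScalarTower.algebraMap_apply S' T' T, ← IsScalarTower.algebraMap_apply S' S T]
  have hαflat : α.Flat := ha
  have hγflat : γ.Flat := by
    subst hJ' hJdef
    exact hb
  -- local rings
  haveI : Nontrivial (T' ⧸ J') := Ideal.Quotient.nontrivial_iff.mpr hJ'ne
  haveI : Nontrivial (T ⧸ J) := Ideal.Quotient.nontrivial_iff.mpr hJne
  haveI : IsLocalRing (T' ⧸ J') :=
    IsLocalRing.of_surjective' (Ideal.Quotient.mk _) Ideal.Quotient.mk_surjective
  haveI : IsLocalRing (T ⧸ J) :=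
    IsLocalRing.of_surjective' (Ideal.Quotient.mk _) Ideal.Quotient.mk_surjective
  haveI : IsLocalHom γ := by
    constructor
    intro x hx
    obtain ⟨t, rfl⟩ := Ideal.Quotient.mk_surjective x
    have hx' : IsUnit (Ideal.Quotient.mk J (algebraMap T' T t)) := hx
    haveI : IsLocalHom (Ideal.Quotient.mk J) :=
      IsLocalHom.of_surjective _ Ideal.Quotient.mk_surjective
    have h1 : IsUnit (algebraMap T' T t) := isUnit_of_map_unit (Ideal.Quotient.mk J) _ hx'
    exact (isUnit_of_map_unit (algebraMap T' T) _ h1).map _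
  -- algebra structures
  letI aα : Algebra (S' ⧸ I') (S ⧸ I) := α.toAlgebra
  letI aβ' : Algebra (S' ⧸ I') (T' ⧸ J') := β'.toAlgebra
  letI aβ : Algebra (S ⧸ I) (T ⧸ J) := β.toAlgebra
  letI aγ : Algebra (T' ⧸ J') (T ⧸ J) := γ.toAlgebra
  letI aγβ : Algebra (S' ⧸ I') (T ⧸ J) := (γ.comp β').toAlgebra
  haveI t1 : IsScalarTower (S' ⧸ I') (T' ⧸ J') (T ⧸ J) := .of_algebraMap_eq (fun _ => rfl)
  haveI t2 : IsScalarTower (S' ⧸ I') (S ⧸ I) (T ⧸ J) :=
    .of_algebraMap_eq (fun x => congr($hcomm x))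
  haveI hDflat : Module.Flat (S' ⧸ I') (S ⧸ I) := RingHom.flat_algebraMap_iff.mp hαflat
  haveI hEflat : Module.Flat (T' ⧸ J') (T ⧸ J) := RingHom.flat_algebraMap_iff.mp hγflat
  haveI : IsLocalHom (algebraMap (T' ⧸ J') (T ⧸ J)) := ‹IsLocalHom γ›
  haveI hEff : Module.FaithfullyFlat (T' ⧸ J') (T ⧸ J) :=
    Module.FaithfullyFlat.of_flat_of_isLocalHom
  -- the quotient modules
  letI mE'Y : Module (T' ⧸ J') (N ⧸ (J • ⊤ : Submodule T N)) :=
    Module.compHom (N ⧸ (J • ⊤ : Submodule T N)) γ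
  letI mDY : Module (S ⧸ I) (N ⧸ (J • ⊤ : Submodule T N)) :=
    Module.compHom (N ⧸ (J • ⊤ : Submodule T N)) β
  letI mD'Y : Module (S' ⧸ I') (N ⧸ (J • ⊤ : Submodule T N)) :=
    Module.compHom (N ⧸ (J • ⊤ : Submodule T N)) (γ.comp β')
  letI mD'X : Module (S' ⧸ I') (N' ⧸ (J' • ⊤ : Submodule T' N')) :=
    Module.compHom (N' ⧸ (J' • ⊤ : Submodule T' N')) β'
  haveI s1 : IsScalarTower (T' ⧸ J') (T ⧸ J) (N ⧸ (J • ⊤ : Submodule T N)) :=
    .of_algebraMap_smul (fun _ _ => rfl)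
  haveI s2 : IsScalarTower (S ⧸ I) (T ⧸ J) (N ⧸ (J • ⊤ : Submodule T N)) :=
    .of_algebraMap_smul (fun _ _ => rfl)
  haveI s3 : IsScalarTower (S' ⧸ I') (T ⧸ J) (N ⧸ (J • ⊤ : Submodule T N)) :=
    .of_algebraMap_smul (fun _ _ => rfl)
  haveI s4 : IsScalarTower (S' ⧸ I') (T' ⧸ J') (N' ⧸ (J' • ⊤ : Submodule T' N')) :=
    .of_algebraMap_smul (fun _ _ => rfl)
  haveI s5 : IsScalarTower (S' ⧸ I') (T' ⧸ J') (N ⧸ (J • ⊤ : Submodule T N)) :=
    .of_algebraMap_smul (fun _ _ => rfl)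
  haveI s6 : IsScalarTower (S' ⧸ I') (S ⧸ I) (N ⧸ (J • ⊤ : Submodule T N)) :=
    .of_algebraMap_smul (fun d y => by
      show β (α d) • y = (γ.comp β') d • y
      rw [hcomm]
      rfl)
  -- towers over `T'`
  haveI s7 : IsScalarTower T' (T' ⧸ J') (N ⧸ (J • ⊤ : Submodule T N)) :=
    .of_algebraMap_smul (fun t y => by
      obtain ⟨n, rfl⟩ := Submodule.Quotient.mk_surjective _ y
      show γ (Ideal.Quotient.mk J' t) • (Submodule.Quotient.mk n : N ⧸ (J • ⊤ : Submodule T N)) =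
        t • (Submodule.Quotient.mk n : N ⧸ (J • ⊤ : Submodule T N))
      rw [← Submodule.Quotient.mk_smul, ← algebraMap_smul T t n]
      rfl)
  haveI s8 : IsScalarTower T' (T ⧸ J) (N ⧸ (J • ⊤ : Submodule T N)) :=
    .of_algebraMap_smul (fun t y => by
      obtain ⟨n, rfl⟩ := Submodule.Quotient.mk_surjective _ y
      rw [← Submodule.Quotient.mk_smul, ← algebraMap_smul T t n]
      rfl)
  haveI s9 : IsScalarTower T' (T' ⧸ J') (T ⧸ J) := .of_algebraMap_eq (fun _ => rfl)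
  -- base changes
  have hπ' : IsBaseChange (T' ⧸ J') (J' • ⊤ : Submodule T' N').mkQ := isBaseChange_mkQ J' N'
  have hπ : IsBaseChange (T ⧸ J) (J • ⊤ : Submodule T N).mkQ := isBaseChange_mkQ J N
  have hcomp : IsBaseChange (T ⧸ J)
      (((J • ⊤ : Submodule T N).mkQ.restrictScalars T').comp g) := IsBaseChange.comp hg hπ
  let gbar : (N' ⧸ (J' • ⊤ : Submodule T' N')) →ₗ[T' ⧸ J'] (N ⧸ (J • ⊤ : Submodule T N)) :=
    hπ'.lift (((J • ⊤ : Submodule T N).mkQ.restrictScalars T').comp g)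
  have hgbar : IsBaseChange (T ⧸ J) gbar := by
    refine IsBaseChange.of_comp hπ' ?_
    have h1 : (gbar.restrictScalars T').comp (J' • ⊤ : Submodule T' N').mkQ =
        ((J • ⊤ : Submodule T N).mkQ.restrictScalars T').comp g := hπ'.lift_comp _
    rw [h1]
    exact hcomp
  -- flatness of `Y` over `S ⧸ I`
  have hYD : Module.Flat (S ⧸ I) (N ⧸ (J • ⊤ : Submodule T N)) := by
    haveI : IsScalarTower S (S ⧸ I) (N ⧸ (J • ⊤ : Submodule T N)) :=
      .of_algebraMap_smul (fun s y => by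
        obtain ⟨n, rfl⟩ := Submodule.Quotient.mk_surjective _ y
        show β (Ideal.Quotient.mk I s) • (Submodule.Quotient.mk n : N ⧸ (J • ⊤ : Submodule T N)) =
          s • (Submodule.Quotient.mk n : N ⧸ (J • ⊤ : Submodule T N))
        rw [← Submodule.Quotient.mk_smul, ← algebraMap_smul T s n]
        rfl)
    subst hJdef
    exact flat_of_linearEquiv_of_surjective Ideal.Quotient.mk_surjective (quotCompare I N) hc
  have hYD' : Module.Flat (S' ⧸ I') (N ⧸ (J • ⊤ : Submodule T N)) :=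
    Module.Flat.trans (S' ⧸ I') (S ⧸ I) (N ⧸ (J • ⊤ : Submodule T N))
  have hten : Module.Flat (S' ⧸ I') ((T ⧸ J) ⊗[T' ⧸ J'] (N' ⧸ (J' • ⊤ : Submodule T' N'))) :=
    Module.Flat.of_linearEquiv (hgbar.equiv.restrictScalars (S' ⧸ I'))
  have hX : Module.Flat (S' ⧸ I') (N' ⧸ (J' • ⊤ : Submodule T' N')) :=
    flat_of_faithfullyFlat_tensor (S' ⧸ I') (T' ⧸ J') (T ⧸ J) _ hten
  haveI : IsScalarTower S' (S' ⧸ I') (N' ⧸ (J' • ⊤ : Submodule T' N')) :=
    .of_algebraMap_smul (fun s y => by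
      obtain ⟨n, rfl⟩ := Submodule.Quotient.mk_surjective _ y
      show β' (Ideal.Quotient.mk I' s) •
          (Submodule.Quotient.mk n : N' ⧸ (J' • ⊤ : Submodule T' N')) =
        s • (Submodule.Quotient.mk n : N' ⧸ (J' • ⊤ : Submodule T' N'))
      rw [← Submodule.Quotient.mk_smul, ← algebraMap_smul T' s n]
      rfl)
  subst hJ'
  exact flat_of_linearEquiv_of_surjective Ideal.Quotient.mk_surjective (quotCompare I' N').symm hX

end Groth.Agent.Lib.Helper54.FibMod2
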