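/-
helper54: spreading out an algebra map from a finitely presented algebra to a localization:
it factors through the localization away from a single element.
-/
import Mathlib

set_option autoImplicit false
set_option maxHeartbeats 1000000
set_option linter.style.haveILetI false

namespace Groth.Agent.Lib.Helper54.FibMod6

open Function

universe u

/-- Let `S₀` be a finitely presented `R`-algebra, `S'` a localization of the `R`-algebra `S'₀` at
`W'` and `φ : S₀ → S'` an `R`-algebra map. Then `φ` factors through the localization of `S'₀` away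
from some `w ∈ W'`, which may be taken to be a multiple of a given `w₀ ∈ W'`. -/
theorem exists_away_lift {R S₀ S'₀ S' : Type u} [CommRing R] [CommRing S₀] [CommRing S'₀]
    [CommRing S'] [Algebra R S₀] [Algebra R S'₀] [Algebra R S'] [Algebra S'₀ S']
    [IsScalarTower R S'₀ S'] [Algebra.FinitePresentation R S₀] (W' : Submonoid S'₀)
    [IsLocalization W' S'] (φ : S₀ →ₐ[R] S') (w₀ : S'₀) (hw₀ : w₀ ∈ W') :
    ∃ w ∈ W', w₀ ∣ w ∧ ∃ (hu : IsUnit (algebraMap S'₀ S' w))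
      (g' : S₀ →ₐ[R] Localization.Away w),
      ∀ x, IsLocalization.Away.lift (S := Localization.Away w) w hu (g' x) = φ x := by
  classical
  obtain ⟨n, π, hπsurj, hker⟩ := Algebra.FinitePresentation.out (R := R) (A := S₀)
  obtain ⟨t, ht⟩ := hker
  -- common denominator
  obtain ⟨b, hb⟩ := IsLocalization.exist_integer_multiples_of_finite W'
    (fun i : Fin n => φ (π (MvPolynomial.X i)))
  choose c hc using hb
  have hw₁ : w₀ * (b : S'₀) ∈ W' := W'.mul_mem hw₀ b.2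
  have hu₁ : IsUnit (algebraMap S'₀ S' (w₀ * b)) := IsLocalization.map_units S' ⟨_, hw₁⟩
  let L₁ := Localization.Away (w₀ * (b : S'₀))
  let y : Fin n → L₁ := fun i =>
    IsLocalization.mk' L₁ (w₀ * c i) (⟨w₀ * b, Submonoid.mem_powers _⟩ : Submonoid.powers (w₀ * (b : S'₀)))
  let ℓ₁ : L₁ →+* S' := IsLocalization.Away.lift (w₀ * (b : S'₀)) hu₁
  have hℓ₁y : ∀ i, ℓ₁ (y i) = φ (π (MvPolynomial.X i)) := by
    intro i
    show IsLocalization.lift _ (IsLocalization.mk' L₁ (w₀ * c i) _) = _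
    rw [IsLocalization.lift_mk'_spec]
    have := hc i
    rw [Algebra.smul_def] at this
    simp only [map_mul]
    rw [this]
    ring
  have hℓ₁alg : ∀ a : S'₀, ℓ₁ (algebraMap S'₀ L₁ a) = algebraMap S'₀ S' a := fun a =>
    IsLocalization.Away.lift_eq _ hu₁ a
  let ℓ₁A : L₁ →ₐ[R] S' :=
    { ℓ₁ with
      commutes' := fun a => by
        show ℓ₁ (algebraMap R L₁ a) = algebraMap R S' a
        rw [IsScalarTower.algebraMap_apply R S'₀ L₁, hℓ₁alg, ← IsScalarTower.algebraMap_apply] }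
  let G₁ : MvPolynomial (Fin n) R →ₐ[R] L₁ := MvPolynomial.aeval y
  have hG₁ : ℓ₁A.comp G₁ = φ.comp π := by
    apply MvPolynomial.algHom_ext
    intro i
    show ℓ₁ (MvPolynomial.aeval y (MvPolynomial.X i)) = φ (π (MvPolynomial.X i))
    rw [MvPolynomial.aeval_X, hℓ₁y]
  have hG₁' : ∀ x, ℓ₁ (G₁ x) = φ (π x) := fun x => congr($hG₁ x)
  -- the relations die after a further localization
  letI aL₁S' : Algebra L₁ S' := ℓ₁.toAlgebra
  haveI : IsScalarTower S'₀ L₁ S' := IsScalarTower.of_algebraMap_eq (fun a => (hℓ₁alg a).symm)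
  have hle : Submonoid.powers (w₀ * (b : S'₀)) ≤ W' := by
    rintro _ ⟨k, rfl⟩
    exact W'.pow_mem hw₁ k
  haveI : IsLocalization (W'.map (algebraMap S'₀ L₁)) S' :=
    IsLocalization.isLocalization_of_submonoid_le L₁ S' (Submonoid.powers (w₀ * (b : S'₀))) W' hle
  have hkill : ∀ p ∈ t, ∃ d ∈ W', algebraMap S'₀ L₁ d * G₁ p = 0 := by
    intro p hp
    have hp0 : π p = 0 := by
      have h1 : p ∈ RingHom.ker π.toRingHom := by
        rw [← ht]
        exact Ideal.subset_span hp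
      exact h1
    have h2 : algebraMap L₁ S' (G₁ p) = 0 := by
      show ℓ₁ (G₁ p) = 0
      rw [hG₁', hp0, map_zero]
    obtain ⟨⟨_, d, hd, rfl⟩, hd0⟩ :=
      (IsLocalization.map_eq_zero_iff (W'.map (algebraMap S'₀ L₁)) S' (G₁ p)).1 h2
    exact ⟨d, hd, hd0⟩
  choose! d hdW hd0 using hkill
  have hb₂ : (∏ p ∈ t, d p) ∈ W' := W'.prod_mem (fun p hp => hdW p hp)
  have hkill' : ∀ p ∈ t, algebraMap S'₀ L₁ (∏ p ∈ t, d p) * G₁ p = 0 := by
    intro p hp
    rw [← Finset.mul_prod_erase t d hp, map_mul]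
    calc algebraMap S'₀ L₁ (d p) * algebraMap S'₀ L₁ (∏ x ∈ t.erase p, d x) * G₁ p
        = algebraMap S'₀ L₁ (∏ x ∈ t.erase p, d x) * (algebraMap S'₀ L₁ (d p) * G₁ p) := by ring
      _ = 0 := by rw [hd0 p hp, mul_zero]
  obtain ⟨b₂, hb₂def⟩ : ∃ b₂ : S'₀, b₂ = ∏ p ∈ t, d p := ⟨_, rfl⟩
  rw [← hb₂def] at hb₂ hkill'
  have hw : w₀ * (b : S'₀) * b₂ ∈ W' := W'.mul_mem hw₁ hb₂
  have hu : IsUnit (algebraMap S'₀ S' (w₀ * (b : S'₀) * b₂)) :=
    IsLocalization.map_units S' ⟨_, hw⟩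
  let L₂ := Localization.Away (w₀ * (b : S'₀) * b₂)
  let κ : L₁ →+* L₂ := IsLocalization.Away.awayToAwayRight (S := L₁) (P := L₂) (w₀ * (b : S'₀)) b₂
  have hκ : ∀ a : S'₀, κ (algebraMap S'₀ L₁ a) = algebraMap S'₀ L₂ a := fun a =>
    IsLocalization.Away.awayToAwayRight_eq (S := L₁) (P := L₂) (w₀ * (b : S'₀)) b₂ a
  have hunit : IsUnit (algebraMap S'₀ L₂ b₂) := by
    have h1 : IsUnit (algebraMap S'₀ L₂ (w₀ * (b : S'₀) * b₂)) :=
      IsLocalization.Away.algebraMap_isUnit _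
    rw [map_mul] at h1
    exact isUnit_of_mul_isUnit_right h1
  have hκ0 : ∀ p ∈ t, κ (G₁ p) = 0 := by
    intro p hp
    have h1 := congrArg κ (hkill' p hp)
    rw [map_mul, hκ, map_zero] at h1
    exact (hunit.mul_right_eq_zero).1 h1
  let κA : L₁ →ₐ[R] L₂ :=
    { κ with
      commutes' := fun a => by
        show κ (algebraMap R L₁ a) = algebraMap R L₂ a
        rw [IsScalarTower.algebraMap_apply R S'₀ L₁, hκ, ← IsScalarTower.algebraMap_apply] }
  let G₂ : MvPolynomial (Fin n) R →ₐ[R] L₂ := κA.comp G₁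
  have hG₂ : ∀ x ∈ RingHom.ker π.toRingHom, G₂ x = 0 := by
    intro x hx
    have h1 : Ideal.span (t : Set (MvPolynomial (Fin n) R)) ≤ RingHom.ker G₂.toRingHom := by
      rw [Ideal.span_le]
      intro p hp
      exact hκ0 p hp
    rw [← ht] at hx
    exact h1 hx
  let e := Ideal.quotientKerAlgEquivOfSurjective hπsurj
  let g' : S₀ →ₐ[R] L₂ := (Ideal.Quotient.liftₐ (RingHom.ker π.toRingHom) G₂ hG₂).comp e.symm.toAlgHom
  have hg'π : ∀ x, g' (π x) = G₂ x := by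
    intro x
    have h1 : e.symm (π x) = Ideal.Quotient.mk _ x := by
      rw [AlgEquiv.symm_apply_eq]
      rfl
    show (Ideal.Quotient.liftₐ (RingHom.ker π.toRingHom) G₂ hG₂) (e.symm (π x)) = G₂ x
    rw [h1]
    rfl
  let ℓ₂ : L₂ →+* S' := IsLocalization.Away.lift (w₀ * (b : S'₀) * b₂) hu
  have hℓ₂κ : ℓ₂.comp κ = ℓ₁ := by
    apply IsLocalization.ringHom_ext (Submonoid.powers (w₀ * (b : S'₀)))
    ext a
    show ℓ₂ (κ (algebraMap S'₀ L₁ a)) = ℓ₁ (algebraMap S'₀ L₁ a)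
    rw [hκ, hℓ₁alg]
    exact IsLocalization.Away.lift_eq _ hu a
  refine ⟨w₀ * (b : S'₀) * b₂, hw, ⟨(b : S'₀) * b₂, by ring⟩, hu, g', ?_⟩
  intro x
  obtain ⟨z, rfl⟩ := hπsurj x
  rw [hg'π]
  show ℓ₂ (κ (G₁ z)) = φ (π z)
  have h2 : ℓ₂ (κ (G₁ z)) = ℓ₁ (G₁ z) := congr($hℓ₂κ (G₁ z))
  rw [h2, hG₁']

end Groth.Agent.Lib.Helper54.FibMod6
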