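/-
helper54: auxiliary lemmas for the fibrewise flatness criterion over rings essentially of finite
presentation: flatness of a localization away from an element from flatness at the primes of the
basic open set; elements outside the contraction of the maximal ideal of a local localization.
-/
import Groth.Agent.Lib.Helper54.FlatOpenA

set_option autoImplicit false
set_option maxHeartbeats 1000000
set_option linter.style.haveILetI false

namespace Groth.Agent.Lib.Helper54.FibMod7

open TensorProduct Function
open Groth.Agent.Lib.Helper54

universe u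

/-- If a module over an algebra `C` is flat over the base `A` at all primes of the basic open set
`D(w)`, then its localization away from `w` is flat over `A`. -/
theorem flat_away {A : Type u} [CommRing A] {C : Type*} [CommRing C] [Algebra A C] (M : Type*)
    [AddCommGroup M] [Module C M] [Module A M] [IsScalarTower A C M] (w : C)
    (h : ∀ q : PrimeSpectrum C, w ∉ q.asIdeal →
      Module.Flat A (LocalizedModule q.asIdeal.primeCompl M)) :
    Module.Flat A (LocalizedModule (Submonoid.powers w) M) := by
  apply FlatOpenA.flat_localized_of_forall_ker (N := M) C (Submonoid.powers w)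
    (LocalizedModule.mkLinearMap (Submonoid.powers w) M)
  intro J z hz
  let I : Ideal C := LinearMap.ker (LinearMap.toSpanSingleton C (M ⊗[A] J) z)
  have hI : ∀ c : C, c ∈ I ↔ c • z = 0 := fun c => by
    simp [I, LinearMap.toSpanSingleton_apply]
  have hrad : w ∈ I.radical := by
    rw [Ideal.radical_eq_sInf, Ideal.mem_sInf]
    rintro q ⟨hIq, hq⟩
    by_contra hwq
    haveI := hq
    haveI := h ⟨q, hq⟩ hwq
    obtain ⟨s, hs, hsz⟩ := FlatOpenA.forall_ker_of_flat_localized (N := M) C q.primeCompl
      (LocalizedModule.mkLinearMap q.primeCompl M) J z hz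
    exact hs (hIq ((hI s).2 hsz))
  obtain ⟨k, hk⟩ := hrad
  exact ⟨w ^ k, ⟨k, rfl⟩, (hI _).1 hk⟩

/-- In a local ring `S` which is a localization of `S₀`, every element of `S₀` outside the
contraction of the maximal ideal has a multiple in the multiplicative set. -/
theorem exists_mul_mem {S₀ S : Type*} [CommRing S₀] [CommRing S] [IsLocalRing S] [Algebra S₀ S]
    (W : Submonoid S₀) [IsLocalization W S] (x : S₀)
    (hx : x ∉ (IsLocalRing.maximalIdeal S).comap (algebraMap S₀ S)) : ∃ m : S₀, m * x ∈ W := by
  have hunit : IsUnit (algebraMap S₀ S x) := by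
    by_contra h
    exact hx ((IsLocalRing.mem_maximalIdeal _).2 h)
  obtain ⟨y, hy⟩ := hunit.exists_left_inv
  obtain ⟨⟨a, w⟩, haw⟩ := IsLocalization.surj W y
  have h1 : algebraMap S₀ S (a * x) = algebraMap S₀ S w := by
    rw [map_mul, ← haw]
    calc y * algebraMap S₀ S w * algebraMap S₀ S x
        = (y * algebraMap S₀ S x) * algebraMap S₀ S w := by ring
      _ = algebraMap S₀ S w := by rw [hy, one_mul]
  obtain ⟨c, hc⟩ := (IsLocalization.eq_iff_exists W S).1 h1
  refine ⟨c * a, ?_⟩
  have : (c : S₀) * a * x = c * w := by rw [mul_assoc]; exact hc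
  rw [this]
  exact W.mul_mem c.2 w.2

/-- The multiplicative set is contained in the complement of the contraction of the maximal
ideal. -/
theorem le_primeCompl {S₀ S : Type*} [CommRing S₀] [CommRing S] [IsLocalRing S] [Algebra S₀ S]
    (W : Submonoid S₀) [IsLocalization W S] :
    W ≤ ((IsLocalRing.maximalIdeal S).comap (algebraMap S₀ S)).primeCompl := by
  intro w hw hwq
  have h1 : algebraMap S₀ S w ∈ IsLocalRing.maximalIdeal S := hwq
  exact (IsLocalRing.mem_maximalIdeal _).1 h1 (IsLocalization.map_units S ⟨w, hw⟩)

end Groth.Agent.Lib.Helper54.FibMod7
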