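/-
helper54: the fibrewise flatness criterion for a module, transfer from a Noetherian model
(module version of helper31's `noetherian_transfer`).
-/
import Groth.Agent.Lib.Helper31.FibCritC
import Groth.Agent.Lib.Helper54.FibMod2
import Groth.Agent.Lib.Helper54.FlatOpenA

set_option autoImplicit false
set_option maxHeartbeats 1600000
set_option linter.style.haveILetI false

namespace Groth.Agent.Lib.Helper54.FibMod3

open TensorProduct Function
open Groth.Agent.Lib.Helper31.FibCrit
open Groth.Agent.Lib.Helper54

universe u

/-- Fibrewise flatness of a `C`-module `M` at a prime `r` of `C` for a tower `A → B → C`: with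
`q`, `p` the contractions of `r`, the module `M_r / p M_r` is flat over `B_q / p B_q`. -/
def FibFlatAtMod (A B C : Type u) [CommRing A] [CommRing B] [CommRing C] [Algebra A B] [Algebra B C]
    [Algebra A C] [IsScalarTower A B C] (M : Type u) [AddCommGroup M] [Module C M]
    (r : Ideal C) [r.IsPrime] : Prop :=
  letI := Localization.AtPrime.algebraOfLiesOver (r.under B) r
  letI : Module (Localization.AtPrime (r.under B)) (LocalizedModule r.primeCompl M) :=
    Module.compHom _ (algebraMap (Localization.AtPrime (r.under B)) (Localization.AtPrime r))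
  Module.Flat (Localization.AtPrime (r.under B) ⧸
      (r.under A).map (algebraMap A (Localization.AtPrime (r.under B))))
    (LocalizedModule r.primeCompl M ⧸
      ((r.under A).map (algebraMap A (Localization.AtPrime (r.under B))) •
        (⊤ : Submodule (Localization.AtPrime (r.under B)) (LocalizedModule r.primeCompl M))))

/-- **Transfer from a Noetherian model, module version.** -/
theorem noetherian_transfer_mod (A' B' C' A B C : Type u) [CommRing A'] [CommRing B'] [CommRing C']
    [CommRing A] [CommRing B] [CommRing C]
    [Algebra A' B'] [Algebra B' C'] [Algebra A' C'] [IsScalarTower A' B' C']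
    [Algebra A B] [Algebra B C] [Algebra A C] [IsScalarTower A B C]
    [Algebra A' A] [Algebra B' B] [Algebra C' C]
    [Algebra A' B] [IsScalarTower A' A B] [IsScalarTower A' B' B]
    [Algebra A' C] [IsScalarTower A' A C] [IsScalarTower A' C' C]
    [Algebra B' C] [IsScalarTower B' B C] [IsScalarTower B' C' C]
    [Algebra.IsPushout A' A B' B] [Algebra.IsPushout A' A C' C]
    [IsNoetherianRing B'] [IsNoetherianRing C']
    (M' : Type u) [AddCommGroup M'] [Module C' M'] [Module B' M'] [Module A' M']
    [IsScalarTower B' C' M'] [IsScalarTower A' C' M'] [Module.Finite C' M'] [Module.Flat A' M']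
    (M : Type u) [AddCommGroup M] [Module C M] [Module B M] [IsScalarTower B C M]
    [Module C' M] [IsScalarTower C' C M]
    (g : M' →ₗ[C'] M) (hg : IsBaseChange C g)
    (r : Ideal C) [r.IsPrime] (hne : Nontrivial (LocalizedModule r.primeCompl M))
    (hfib : FibFlatAtMod A B C M r) :
    Module.Flat A (Localization.AtPrime (r.under B)) ∧
      Module.Flat B (LocalizedModule r.primeCompl M) := by
  haveI tA'B'C : IsScalarTower A' B' C := IsScalarTower.of_algebraMap_eq (fun x => by
    rw [IsScalarTower.algebraMap_apply A' C' C, IsScalarTower.algebraMap_apply A' B' C',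
      ← IsScalarTower.algebraMap_apply B' C' C])
  -- primes
  let q : Ideal B := r.under B
  let p : Ideal A := r.under A
  let r' : Ideal C' := r.under C'
  let q' : Ideal B' := r.under B'
  let p' : Ideal A' := r.under A'
  haveI : q.LiesOver p := liesOver_under_under A B C r
  haveI : q'.LiesOver p' := liesOver_under_under A' B' C r
  haveI : r'.LiesOver q' := liesOver_under_under B' C' C r
  haveI : r'.LiesOver p' := liesOver_under_under A' C' C r
  haveI : q.LiesOver q' := liesOver_under_under B' B C r
  haveI : p.LiesOver p' := liesOver_under_under A' A C r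
  haveI : r.LiesOver q := inferInstance
  haveI : r.LiesOver r' := inferInstance
  haveI : r.LiesOver q' := inferInstance
  haveI : r.LiesOver p := inferInstance
  -- local algebras
  letI aS'T' := Localization.AtPrime.algebraOfLiesOver q' r'
  letI aST := Localization.AtPrime.algebraOfLiesOver q r
  letI aS'S := Localization.AtPrime.algebraOfLiesOver q' q
  letI aT'T := Localization.AtPrime.algebraOfLiesOver r' r
  letI aS'T := Localization.AtPrime.algebraOfLiesOver q' r
  letI aR'S' := Localization.AtPrime.algebraOfLiesOver p' q'
  letI aR'T' := Localization.AtPrime.algebraOfLiesOver p' r'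
  letI aRS := Localization.AtPrime.algebraOfLiesOver p q
  letI aRT := Localization.AtPrime.algebraOfLiesOver p r
  let R' := Localization.AtPrime p'
  let S' := Localization.AtPrime q'
  let T' := Localization.AtPrime r'
  let R := Localization.AtPrime p
  let S := Localization.AtPrime q
  let T := Localization.AtPrime r
  have t1 : IsScalarTower S' T' T := inferInstance
  have t2 : IsScalarTower S' S T := inferInstance
  have t3 : IsScalarTower R' S' T' := inferInstance
  have t4 : IsScalarTower R S T := inferInstance
  -- flatness of the comparison maps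
  have hLS : (canL A' A S' S).toRingHom.Flat := canL_flat A' A B' B q q'
  have hLT : (canL A' A T' T).toRingHom.Flat := canL_flat A' A C' C r r'
  -- ideals
  let I' : Ideal S' := p'.map (algebraMap A' S')
  let I : Ideal S := p.map (algebraMap A S)
  have hσ : I' ≤ I.comap (algebraMap S' S) := by
    rw [← Ideal.map_le_iff_le_comap, Ideal.map_map, ← IsScalarTower.algebraMap_eq,
      IsScalarTower.algebraMap_eq A' A S, ← Ideal.map_map]
    exact Ideal.map_mono (Ideal.map_le_iff_le_comap.2 (le_of_eq (Ideal.LiesOver.over (p := p') (P := p))))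
  have hI'T' : I'.map (algebraMap S' T') = p'.map (algebraMap A' T') := by
    show Ideal.map (algebraMap S' T') (Ideal.map (algebraMap A' S') p') = _
    rw [Ideal.map_map, ← IsScalarTower.algebraMap_eq]
  have hIT : I.map (algebraMap S T) = p.map (algebraMap A T) := by
    show Ideal.map (algebraMap S T) (Ideal.map (algebraMap A S) p) = _
    rw [Ideal.map_map, ← IsScalarTower.algebraMap_eq]
  have hτ : I'.map (algebraMap S' T') ≤ (I.map (algebraMap S T)).comap (algebraMap T' T) := by
    rw [hI'T', hIT, ← Ideal.map_le_iff_le_comap, Ideal.map_map, ← IsScalarTower.algebraMap_eq,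
      IsScalarTower.algebraMap_eq A' A T, ← Ideal.map_map]
    exact Ideal.map_mono (Ideal.map_le_iff_le_comap.2 (le_of_eq (Ideal.LiesOver.over (p := p') (P := p))))
  have ha : (Ideal.quotientMap I (algebraMap S' S) hσ).Flat :=
    quotientMap_flat A' A S' S p' p hLS hσ
  have hb : (Ideal.quotientMap (I.map (algebraMap S T)) (algebraMap T' T) hτ).Flat :=
    quotientMap_flat' A' A T' T p' p hLT _ hI'T' _ hIT hτ
  have hJ : I.map (algebraMap S T) ≠ ⊤ := by
    rw [hIT]
    intro h
    have h1 : p.map (algebraMap A T) ≤ IsLocalRing.maximalIdeal T := by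
      rw [← Localization.AtPrime.map_eq_maximalIdeal]
      show Ideal.map (algebraMap A T) p ≤ _
      rw [IsScalarTower.algebraMap_eq A C T, ← Ideal.map_map]
      exact Ideal.map_mono (Ideal.map_le_iff_le_comap.2 le_rfl)
    rw [h, top_le_iff] at h1
    exact Ideal.IsPrime.ne_top' h1
  -- the localized modules
  let N' := LocalizedModule r'.primeCompl M'
  let N := LocalizedModule r.primeCompl M
  letI mS'N' : Module S' N' := Module.compHom N' (algebraMap S' T')
  haveI tS'T'N' : IsScalarTower S' T' N' := .of_algebraMap_smul (fun _ _ => rfl)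
  letI mSN : Module S N := Module.compHom N (algebraMap S T)
  haveI tSTN : IsScalarTower S T N := .of_algebraMap_smul (fun _ _ => rfl)
  letI mT'N : Module T' N := Module.compHom N (algebraMap T' T)
  haveI tT'TN : IsScalarTower T' T N := .of_algebraMap_smul (fun _ _ => rfl)
  have tC'T'T : IsScalarTower C' T' T := inferInstance
  haveI tC'T'N : IsScalarTower C' T' N := .of_algebraMap_smul (fun c n => by
    show algebraMap T' T (algebraMap C' T' c) • n = c • n
    rw [← IsScalarTower.algebraMap_apply C' T' T, algebraMap_smul])
  -- base change maps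
  let f' : M' →ₗ[C'] N' := LocalizedModule.mkLinearMap r'.primeCompl M'
  let f : M →ₗ[C] N := LocalizedModule.mkLinearMap r.primeCompl M
  have hf' : IsBaseChange T' f' := IsLocalizedModule.isBaseChange r'.primeCompl T' f'
  have hf : IsBaseChange T f := IsLocalizedModule.isBaseChange r.primeCompl T f
  have hcomp : IsBaseChange T ((f.restrictScalars C').comp g) := IsBaseChange.comp hg hf
  let gbar : N' →ₗ[T'] N := hf'.lift ((f.restrictScalars C').comp g)
  have hgbar : IsBaseChange T gbar := by
    refine IsBaseChange.of_comp hf' ?_
    have h1 : (gbar.restrictScalars C').comp f' = (f.restrictScalars C').comp g :=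
      hf'.lift_comp _
    rw [h1]
    exact hcomp
  -- fibre flatness at the model level
  have hfib' : Module.Flat (S' ⧸ I') (N' ⧸ (I' • ⊤ : Submodule S' N')) :=
    FibMod2.fibre_descent I' I hσ hτ hJ ha hb N' N gbar hgbar hfib
  -- `N'` is finite, flat over `R'`, nontrivial
  haveI hfinN' : Module.Finite T' N' := Module.Finite.of_isLocalizedModule r'.primeCompl f'
  have hA'N' : Module.Flat A' N' :=
    FlatOpenA.flat_of_isLocalizedModule (A := A') C' r'.primeCompl f'
  letI mR'N' : Module R' N' := Module.compHom N' (algebraMap R' T')
  haveI tR'T'N' : IsScalarTower R' T' N' := .of_algebraMap_smul (fun _ _ => rfl)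
  haveI tR'S'N' : IsScalarTower R' S' N' := .of_algebraMap_smul (fun x n => by
    show algebraMap S' T' (algebraMap R' S' x) • n = algebraMap R' T' x • n
    rw [← IsScalarTower.algebraMap_apply R' S' T'])
  have tA'R'T' : IsScalarTower A' R' T' := inferInstance
  haveI tA'R'N' : IsScalarTower A' R' N' := .of_algebraMap_smul (fun a n => by
    show algebraMap R' T' (algebraMap A' R' a) • n = a • n
    rw [← IsScalarTower.algebraMap_apply A' R' T', algebraMap_smul])
  have hR'N' : Module.Flat R' N' :=
    (Module.flat_iff_of_isLocalization (S := R') (p := p'.primeCompl) (M := N')).2 hA'N'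
  haveI hntN' : Nontrivial N' := by
    by_contra hsub
    rw [not_nontrivial_iff_subsingleton] at hsub
    haveI : Subsingleton (T ⊗[T'] N') := inferInstance
    exact not_subsingleton N (hgbar.equiv.symm.injective.subsingleton)
  -- the Noetherian criterion
  have hI' : I' = (IsLocalRing.maximalIdeal R').map (algebraMap R' S') := by
    show Ideal.map (algebraMap A' S') p' = _
    rw [← Localization.AtPrime.map_eq_maximalIdeal, Ideal.map_map, ← IsScalarTower.algebraMap_eq]
  have hquot' : Module.Flat (S' ⧸ (IsLocalRing.maximalIdeal R').map (algebraMap R' S'))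
      (N' ⧸ ((IsLocalRing.maximalIdeal R').map (algebraMap R' S') • (⊤ : Submodule S' N'))) :=
    hI' ▸ hfib'
  obtain ⟨hR'S', hS'N'⟩ := (Groth.Agent.Lib.Helper46.FibreFlat.fibre_crit (A := R') (B := S')
    (C := T') (M := N')).1 ⟨hR'N', hquot'⟩
  have hA'S' : Module.Flat A' S' := Module.Flat.trans A' R' S'
  have c1 : Module.Flat A (Localization.AtPrime q) :=
    flat_atPrime_of_isPushout A' A B' B q q' (Ideal.LiesOver.over (p := q') (P := q))
  -- the module
  have tB'S'T' : IsScalarTower B' S' T' := inferInstance
  haveI tB'S'N' : IsScalarTower B' S' N' := .of_algebraMap_smul (fun b n => by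
    show algebraMap S' T' (algebraMap B' S' b) • n = b • n
    rw [← IsScalarTower.algebraMap_apply B' S' T', algebraMap_smul])
  have hB'N' : Module.Flat B' N' := Module.Flat.trans B' S' N'
  haveI : Algebra.IsPushout B' B C' C := by
    have h1 : Algebra.IsPushout A' B' A B := Algebra.IsPushout.symm inferInstance
    have h2 : Algebra.IsPushout A' C' A C := Algebra.IsPushout.symm inferInstance
    haveI : IsScalarTower A' B C := IsScalarTower.of_algebraMap_eq (fun x => by
      rw [IsScalarTower.algebraMap_apply A' A C, IsScalarTower.algebraMap_apply A B C,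
        ← IsScalarTower.algebraMap_apply A' A B])
    exact ((Algebra.IsPushout.comp_iff (R := A') (S := B') (R' := A) (S' := B) (T := C')
      (T' := C)).1 h2).symm
  have hZ : Module.Flat B (C ⊗[C'] N') :=
    Module.Flat.of_linearEquiv (Algebra.IsPushout.cancelBaseChange B' B C' C N')
  let ι : N' →ₗ[C'] C ⊗[C'] N' := TensorProduct.mk C' C N' 1
  have hι : IsBaseChange C ι := TensorProduct.isBaseChange C' N' C
  let ℓ : C ⊗[C'] N' →ₗ[C] N := hι.lift (gbar.restrictScalars C')
  have hid : IsBaseChange T' (LinearMap.id : N' →ₗ[C'] N') := by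
    haveI := isLocalizedModule_id r'.primeCompl N' T'
    exact IsLocalizedModule.isBaseChange r'.primeCompl T' _
  have hℓ : IsBaseChange T ℓ := by
    refine IsBaseChange.of_comp hι ?_
    have h1 : (ℓ.restrictScalars C').comp ι = gbar.restrictScalars C' := hι.lift_comp _
    rw [h1]
    have h2 := IsBaseChange.comp hid hgbar
    rwa [LinearMap.comp_id] at h2
  haveI : IsLocalizedModule r.primeCompl ℓ :=
    (isLocalizedModule_iff_isBaseChange r.primeCompl T ℓ).2 hℓ
  have c2 : Module.Flat B N := FlatOpenA.flat_of_isLocalizedModule (A := B) C r.primeCompl ℓ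
  exact ⟨c1, c2⟩

end Groth.Agent.Lib.Helper54.FibMod3
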