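/-
helper54: the fibrewise flatness criterion for a module: descent of a tower with a module to a
Noetherian stage (module version of helper31's `core_of_model` / `core_of_pushout`).
-/
import Groth.Agent.Lib.Helper31.FibCritD
import Groth.Agent.Lib.Helper54.FibMod3
import Groth.Agent.Lib.Helper54.FlatStage7

set_option autoImplicit false
set_option maxHeartbeats 1600000
set_option linter.style.haveILetI false

namespace Groth.Agent.Lib.Helper54.FibMod4

open TensorProduct Function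
open Groth.Agent.Lib.Helper31.FibCrit
open Groth.Agent.Lib.Helper54
open Groth.Agent.Lib.Helper54.FibMod3

universe u

attribute [local instance] Algebra.TensorProduct.rightAlgebra

theorem core_of_model_mod (A₀ A₁ A B₀ C₀ B C : Type u) [CommRing A₀] [CommRing A₁] [CommRing A]
    [CommRing B₀] [CommRing C₀] [CommRing B] [CommRing C]
    [Algebra A₀ A₁] [Algebra A₁ A] [Algebra A₀ A] [IsScalarTower A₀ A₁ A]
    [Algebra A₀ B₀] [Algebra B₀ C₀] [Algebra A₀ C₀] [IsScalarTower A₀ B₀ C₀]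
    [Algebra A B] [Algebra B C] [Algebra A C] [IsScalarTower A B C]
    [Algebra A₀ B] [IsScalarTower A₀ A B] [Algebra A₀ C] [IsScalarTower A₀ A C]
    [Algebra A₁ B] [IsScalarTower A₁ A B] [IsScalarTower A₀ A₁ B]
    [Algebra A₁ C] [IsScalarTower A₁ A C] [IsScalarTower A₀ A₁ C]
    [Algebra B₀ B] [IsScalarTower A₀ B₀ B]
    [Algebra C₀ C] [IsScalarTower A₀ C₀ C]
    [Algebra B₀ C] [IsScalarTower B₀ B C] [IsScalarTower B₀ C₀ C]
    [Algebra.IsPushout A₀ A B₀ B] [Algebra.IsPushout A₀ A C₀ C]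
    [IsNoetherianRing A₁] [Algebra.FiniteType A₀ B₀] [Algebra.FiniteType A₀ C₀]
    (M₀ : Type u) [AddCommGroup M₀] [Module C₀ M₀] [Module A₀ M₀] [IsScalarTower A₀ C₀ M₀]
    [Module.Finite C₀ M₀]
    [Module.Flat A₁ ((A₁ ⊗[A₀] C₀) ⊗[C₀] M₀)]
    (M : Type u) [AddCommGroup M] [Module C M] [Module B M] [IsScalarTower B C M]
    [Module C₀ M] [IsScalarTower C₀ C M]
    (g₀ : M₀ →ₗ[C₀] M) (hg₀ : IsBaseChange C g₀)
    (r : Ideal C) [r.IsPrime] (hne : Nontrivial (LocalizedModule r.primeCompl M))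
    (hfib : FibFlatAtMod A B C M r) :
    Module.Flat A (Localization.AtPrime (r.under B)) ∧
      Module.Flat B (LocalizedModule r.primeCompl M) := by
  haveI : IsScalarTower A₁ B C := IsScalarTower.of_algebraMap_eq (fun x => by
    rw [IsScalarTower.algebraMap_apply A₁ A C, IsScalarTower.algebraMap_apply A B C,
      ← IsScalarTower.algebraMap_apply A₁ A B])
  let B' := A₁ ⊗[A₀] B₀
  let C' := A₁ ⊗[A₀] C₀
  let φ' : B' →ₐ[A₁] C' := Algebra.TensorProduct.map (AlgHom.id A₁ A₁) (IsScalarTower.toAlgHom A₀ B₀ C₀)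
  letI aB'C' : Algebra B' C' := φ'.toRingHom.toAlgebra
  haveI : IsScalarTower A₁ B' C' := IsScalarTower.of_algebraMap_eq (fun x => (φ'.commutes x).symm)
  let βB : B' →ₐ[A₁] B := Algebra.TensorProduct.lift (Algebra.ofId A₁ B) (IsScalarTower.toAlgHom A₀ B₀ B)
    (fun _ _ => Commute.all _ _)
  let βC : C' →ₐ[A₁] C := Algebra.TensorProduct.lift (Algebra.ofId A₁ C) (IsScalarTower.toAlgHom A₀ C₀ C)
    (fun _ _ => Commute.all _ _)
  letI aB'B : Algebra B' B := βB.toRingHom.toAlgebra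
  letI aC'C : Algebra C' C := βC.toRingHom.toAlgebra
  haveI : IsScalarTower A₁ B' B := IsScalarTower.of_algebraMap_eq (fun x => (βB.commutes x).symm)
  haveI : IsScalarTower A₁ C' C := IsScalarTower.of_algebraMap_eq (fun x => (βC.commutes x).symm)
  letI aB'C : Algebra B' C := ((algebraMap B C).comp (algebraMap B' B)).toAlgebra
  haveI : IsScalarTower B' B C := IsScalarTower.of_algebraMap_eq (fun _ => rfl)
  haveI tB'C'C : IsScalarTower B' C' C := by
    refine IsScalarTower.of_algebraMap_eq (fun x => ?_)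
    have h : ((IsScalarTower.toAlgHom A₁ B C).comp βB) = βC.comp φ' := by
      apply Algebra.TensorProduct.ext'
      intro a b
      show (IsScalarTower.toAlgHom A₁ B C) (βB (a ⊗ₜ b)) = βC (φ' (a ⊗ₜ b))
      have e1 : βB (a ⊗ₜ b) = algebraMap A₁ B a * algebraMap B₀ B b := rfl
      have e2 : φ' (a ⊗ₜ b) = a ⊗ₜ algebraMap B₀ C₀ b := rfl
      have e3 : βC (a ⊗ₜ algebraMap B₀ C₀ b) =
          algebraMap A₁ C a * algebraMap C₀ C (algebraMap B₀ C₀ b) := rfl
      rw [e1, e2, e3, map_mul, IsScalarTower.coe_toAlgHom', ← IsScalarTower.algebraMap_apply A₁ B C,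
        ← IsScalarTower.algebraMap_apply B₀ B C, ← IsScalarTower.algebraMap_apply B₀ C₀ C]
    exact congr($h x)
  -- towers with A₀ and B₀, C₀
  haveI : IsScalarTower A₀ B' B := IsScalarTower.of_algebraMap_eq (fun x => by
    rw [IsScalarTower.algebraMap_apply A₀ A₁ B', ← IsScalarTower.algebraMap_apply A₁ B' B,
      ← IsScalarTower.algebraMap_apply A₀ A₁ B])
  haveI : IsScalarTower A₀ C' C := IsScalarTower.of_algebraMap_eq (fun x => by
    rw [IsScalarTower.algebraMap_apply A₀ A₁ C', ← IsScalarTower.algebraMap_apply A₁ C' C,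
      ← IsScalarTower.algebraMap_apply A₀ A₁ C])
  haveI : IsScalarTower B₀ B' B := IsScalarTower.of_algebraMap_eq (fun x => by
    change algebraMap B₀ B x = algebraMap A₁ B 1 * algebraMap B₀ B x
    rw [map_one, one_mul])
  haveI tC₀C'C : IsScalarTower C₀ C' C := IsScalarTower.of_algebraMap_eq (fun x => by
    change algebraMap C₀ C x = algebraMap A₁ C 1 * algebraMap C₀ C x
    rw [map_one, one_mul])
  haveI : Algebra.IsPushout A₁ A B' B :=
    (Algebra.IsPushout.comp_iff (R := A₀) (S := A₁) (R' := B₀) (S' := B') (T := A) (T' := B)).1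
      inferInstance
  haveI : Algebra.IsPushout A₁ A C' C :=
    (Algebra.IsPushout.comp_iff (R := A₀) (S := A₁) (R' := C₀) (S' := C') (T := A) (T' := C)).1
      inferInstance
  haveI : Algebra.FiniteType A₁ B' := inferInstance
  haveI : Algebra.FiniteType A₁ C' := inferInstance
  haveI : IsNoetherianRing B' := Algebra.FiniteType.isNoetherianRing A₁ B'
  haveI : IsNoetherianRing C' := Algebra.FiniteType.isNoetherianRing A₁ C'
  -- the module at the stage
  let M' := C' ⊗[C₀] M₀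
  haveI tB'C'M' : IsScalarTower B' C' M' := inferInstance
  haveI tA₁C'M' : IsScalarTower A₁ C' M' := inferInstance
  haveI hfinM' : Module.Finite C' M' := inferInstance
  letI mC'M : Module C' M := Module.compHom M (algebraMap C' C)
  haveI tC'CM : IsScalarTower C' C M := .of_algebraMap_smul (fun _ _ => rfl)
  haveI tC₀C'M : IsScalarTower C₀ C' M := .of_algebraMap_smul (fun c m => by
    show algebraMap C' C (algebraMap C₀ C' c) • m = c • m
    rw [← IsScalarTower.algebraMap_apply C₀ C' C, algebraMap_smul])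
  let ι : M₀ →ₗ[C₀] M' := TensorProduct.mk C₀ C' M₀ 1
  have hι : IsBaseChange C' ι := TensorProduct.isBaseChange C₀ M₀ C'
  let g : M' →ₗ[C'] M := hι.lift g₀
  have hg : IsBaseChange C g := by
    refine IsBaseChange.of_comp hι ?_
    have h1 : (g.restrictScalars C₀).comp ι = g₀ := hι.lift_comp _
    rw [h1]
    exact hg₀
  exact noetherian_transfer_mod A₁ B' C' A B C M' M g hg r hne hfib

theorem core_of_pushout_mod (A₀ A B₀ C₀ B C : Type u) [CommRing A₀] [CommRing A]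
    [CommRing B₀] [CommRing C₀] [CommRing B] [CommRing C]
    [Algebra A₀ A]
    [Algebra A₀ B₀] [Algebra B₀ C₀] [Algebra A₀ C₀] [IsScalarTower A₀ B₀ C₀]
    [Algebra A B] [Algebra B C] [Algebra A C] [IsScalarTower A B C]
    [Algebra A₀ B] [IsScalarTower A₀ A B] [Algebra A₀ C] [IsScalarTower A₀ A C]
    [Algebra B₀ B] [IsScalarTower A₀ B₀ B]
    [Algebra C₀ C] [IsScalarTower A₀ C₀ C]
    [Algebra B₀ C] [IsScalarTower B₀ B C] [IsScalarTower B₀ C₀ C]
    [Algebra.IsPushout A₀ A B₀ B] [Algebra.IsPushout A₀ A C₀ C]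
    [IsNoetherianRing A₀] [Algebra.FiniteType A₀ B₀] [Algebra.FiniteType A₀ C₀]
    (M₀ : Type u) [AddCommGroup M₀] [Module C₀ M₀] [Module A₀ M₀] [IsScalarTower A₀ C₀ M₀]
    [Module.Finite C₀ M₀]
    (M : Type u) [AddCommGroup M] [Module C M] [Module B M] [IsScalarTower B C M]
    [Module A M] [IsScalarTower A C M]
    [Module C₀ M] [IsScalarTower C₀ C M] [Module.Flat A M]
    (g₀ : M₀ →ₗ[C₀] M) (hg₀ : IsBaseChange C g₀)
    (r : Ideal C) [r.IsPrime] (hne : Nontrivial (LocalizedModule r.primeCompl M))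
    (hfib : FibFlatAtMod A B C M r) :
    Module.Flat A (Localization.AtPrime (r.under B)) ∧
      Module.Flat B (LocalizedModule r.primeCompl M) := by
  have e1 : C ⊗[C₀] M₀ ≃ₗ[A] A ⊗[A₀] M₀ := Algebra.IsPushout.cancelBaseChange A₀ A C₀ C M₀
  have e2 : (C₀ ⊗[A₀] A) ⊗[C₀] M₀ ≃ₗ[A] A ⊗[A₀] M₀ :=
    Algebra.IsPushout.cancelBaseChange A₀ A C₀ (C₀ ⊗[A₀] A) M₀
  have hflat0 : Module.Flat A (C ⊗[C₀] M₀) :=
    Module.Flat.of_linearEquiv (hg₀.equiv.restrictScalars A)
  have hflat1 : Module.Flat A (A ⊗[A₀] M₀) := Module.Flat.of_linearEquiv e1.symm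
  have hflat : Module.Flat A ((C₀ ⊗[A₀] A) ⊗[C₀] M₀) := Module.Flat.of_linearEquiv e2
  obtain ⟨T, hTfg, hT⟩ := FlatStage7.exists_fg_flat A₀ C₀ M₀ A hflat
  have hTflat := hT T le_rfl
  haveI : Algebra.FiniteType A₀ T := (Subalgebra.fg_iff_finiteType T).1 hTfg
  haveI : IsNoetherianRing T := Algebra.FiniteType.isNoetherianRing A₀ T
  have e3 : (C₀ ⊗[A₀] T) ⊗[C₀] M₀ ≃ₗ[T] T ⊗[A₀] M₀ :=
    Algebra.IsPushout.cancelBaseChange A₀ T C₀ (C₀ ⊗[A₀] T) M₀
  have e4 : (T ⊗[A₀] C₀) ⊗[C₀] M₀ ≃ₗ[T] T ⊗[A₀] M₀ :=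
    Algebra.IsPushout.cancelBaseChange A₀ T C₀ (T ⊗[A₀] C₀) M₀
  haveI : Module.Flat T (T ⊗[A₀] M₀) := Module.Flat.of_linearEquiv e3.symm
  haveI : Module.Flat T ((T ⊗[A₀] C₀) ⊗[C₀] M₀) := Module.Flat.of_linearEquiv e4
  exact core_of_model_mod A₀ T A B₀ C₀ B C M₀ M g₀ hg₀ r hne hfib

end Groth.Agent.Lib.Helper54.FibMod4
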