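/-
helper54: the fibrewise flatness criterion for a finitely presented module over a tower of
finitely presented algebras, flat source (module version of helper31's `core_fp`).
-/
import Groth.Agent.Lib.Helper54.FibMod4
import Groth.Agent.Lib.Helper54.FlatDescent

set_option autoImplicit false
set_option maxHeartbeats 1600000
set_option linter.style.haveILetI false

namespace Groth.Agent.Lib.Helper54.FibMod5

open TensorProduct Function
open Groth.Agent.Lib.Helper31.FibCrit
open Groth.Agent.Lib.Helper54
open Groth.Agent.Lib.Helper54.FibMod3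
open Groth.Agent.Lib.Helper54.FlatDescent

universe u

attribute [local instance] Algebra.TensorProduct.rightAlgebra

/-- Auxiliary form of `core_mod_fp` with a chosen Noetherian coefficient ring. -/
theorem core_mod_fp_aux {A B C : Type u} [CommRing A] [CommRing B] [CommRing C] [Algebra A B]
    [Algebra B C] [Algebra A C] [IsScalarTower A B C] [Algebra.FinitePresentation A B]
    [Algebra.FinitePresentation B C]
    (A₀ : Type u) [CommRing A₀] [Algebra A₀ A] [Algebra A₀ B] [Algebra A₀ C]
    [IsScalarTower A₀ A B] [IsScalarTower A₀ A C]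
    [(Algebra.Presentation.ofFinitePresentation A B).HasCoeffs A₀]
    [((Algebra.Presentation.ofFinitePresentation B C).comp
      (Algebra.Presentation.ofFinitePresentation A B)).HasCoeffs A₀]
    [FaithfulSMul A₀ A] [IsNoetherianRing A₀]
    (M : Type u) [AddCommGroup M] [Module C M] [Module B M] [IsScalarTower B C M]
    [Module A M] [IsScalarTower A C M] [Module.Flat A M]
    {n m : ℕ} (K : Submodule C (Fin n → C)) (eM : M ≃ₗ[C] (Fin n → C) ⧸ K)
    (v : Fin m → Fin n → C) (hv : Submodule.span C (Set.range v) = K)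
    (pol : Fin m → Fin n → MvPolynomial
      (Fin (Algebra.Presentation.ofFinitePresentationVars B C) ⊕
        Fin (Algebra.Presentation.ofFinitePresentationVars A B)) A₀)
    (hpol : ∀ j i, MvPolynomial.aeval
      ((Algebra.Presentation.ofFinitePresentation B C).comp
        (Algebra.Presentation.ofFinitePresentation A B)).val
      (MvPolynomial.map (algebraMap A₀ A) (pol j i)) = v j i)
    (r : Ideal C) [r.IsPrime] (hne : Nontrivial (LocalizedModule r.primeCompl M))
    (hfib : FibFlatAtMod A B C M r) :
    Module.Flat A (Localization.AtPrime (r.under B)) ∧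
      Module.Flat B (LocalizedModule r.primeCompl M) := by
  classical
  let P := Algebra.Presentation.ofFinitePresentation A B
  let ι_ := Fin (Algebra.Presentation.ofFinitePresentationVars A B)
  let Q := Algebra.Presentation.ofFinitePresentation B C
  let PC := Q.comp P
  haveI tA₀BC : IsScalarTower A₀ B C := IsScalarTower.of_algebraMap_eq (fun x => by
    rw [IsScalarTower.algebraMap_apply A₀ A C, IsScalarTower.algebraMap_apply A B C,
      ← IsScalarTower.algebraMap_apply A₀ A B])
  let B₀ := P.ModelOfHasCoeffs A₀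
  let C₀ := PC.ModelOfHasCoeffs A₀
  let φ₀ : B₀ →ₐ[A₀] C₀ := modelMap P Q A₀
  letI aB₀C₀ : Algebra B₀ C₀ := φ₀.toRingHom.toAlgebra
  haveI : IsScalarTower A₀ B₀ C₀ := IsScalarTower.of_algebraMap_eq (fun x => (φ₀.commutes x).symm)
  let eB : A ⊗[A₀] B₀ ≃ₐ[A] B := P.tensorModelOfHasCoeffsEquiv A₀
  let eC : A ⊗[A₀] C₀ ≃ₐ[A] C := PC.tensorModelOfHasCoeffsEquiv A₀
  let ιB : B₀ →ₐ[A₀] B := (eB.toAlgHom.restrictScalars A₀).comp Algebra.TensorProduct.includeRight
  let ιC : C₀ →ₐ[A₀] C := (eC.toAlgHom.restrictScalars A₀).comp Algebra.TensorProduct.includeRight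
  letI aB₀B : Algebra B₀ B := ιB.toRingHom.toAlgebra
  letI aC₀C : Algebra C₀ C := ιC.toRingHom.toAlgebra
  haveI : IsScalarTower A₀ B₀ B := IsScalarTower.of_algebraMap_eq (fun x => (ιB.commutes x).symm)
  haveI : IsScalarTower A₀ C₀ C := IsScalarTower.of_algebraMap_eq (fun x => (ιC.commutes x).symm)
  letI aB₀C : Algebra B₀ C := ((algebraMap B C).comp (algebraMap B₀ B)).toAlgebra
  haveI : IsScalarTower B₀ B C := IsScalarTower.of_algebraMap_eq (fun _ => rfl)
  haveI : IsScalarTower B₀ C₀ C := by
    refine IsScalarTower.of_algebraMap_eq (fun x => ?_)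
    obtain ⟨y, rfl⟩ := Ideal.Quotient.mk_surjective x
    change algebraMap B C (eB (1 ⊗ₜ Ideal.Quotient.mk _ y)) =
      eC (1 ⊗ₜ (modelMap P Q A₀ (Ideal.Quotient.mk _ y)))
    rw [modelMap_mk]
    erw [Algebra.Presentation.tensorModelOfHasCoeffsEquiv_tmul,
      Algebra.Presentation.tensorModelOfHasCoeffsEquiv_tmul]
    rw [map_one, one_mul, map_one, one_mul, MvPolynomial.aeval_rename]
    have hval : (PC.val ∘ Sum.inr : ι_ → C) = algebraMap B C ∘ P.val := by
      funext i
      simp [PC, Algebra.Presentation.comp, Algebra.Generators.comp_val]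
    rw [hval, MvPolynomial.aeval_algebraMap_apply]
  haveI : Algebra.IsPushout A₀ A B₀ B := by
    rw [Algebra.isPushout_iff]
    exact IsBaseChange.of_equiv eB.toLinearEquiv (fun x => rfl)
  haveI : Algebra.IsPushout A₀ A C₀ C := by
    rw [Algebra.isPushout_iff]
    exact IsBaseChange.of_equiv eC.toLinearEquiv (fun x => rfl)
  -- the module model
  let v₀ : Fin m → Fin n → C₀ := fun j i => (Ideal.Quotient.mk _ (pol j i) : C₀)
  have hv₀ : ∀ j i, algebraMap C₀ C (v₀ j i) = v j i := by
    intro j i
    change eC (1 ⊗ₜ (Ideal.Quotient.mk _ (pol j i))) = v j i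
    erw [Algebra.Presentation.tensorModelOfHasCoeffsEquiv_tmul]
    rw [map_one, one_mul, ← MvPolynomial.aeval_map_algebraMap A]
    exact hpol j i
  letI mC₀M : Module C₀ M := Module.compHom M (algebraMap C₀ C)
  haveI tC₀CM : IsScalarTower C₀ C M := .of_algebraMap_smul (fun _ _ => rfl)
  have hK' : Submodule.span C (Set.range fun j => (fun i => algebraMap C₀ C (v₀ j i))) = K := by
    have h1 : (fun j => (fun i => algebraMap C₀ C (v₀ j i))) = v := by
      funext j i
      exact hv₀ j i
    rw [h1, hv]
  let Θ₃ := Submodule.quotEquivOfEq _ K hK'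
  let g₀ : Q₀ C₀ v₀ →ₗ[C₀] M :=
    ((Θ₃.trans eM.symm).toLinearMap.restrictScalars C₀).comp (quotMap C₀ C v₀)
  have hg₀ : IsBaseChange C g₀ :=
    IsBaseChange.comp (isBaseChange_quotMap C₀ C v₀) (IsBaseChange.ofEquiv (Θ₃.trans eM.symm))
  haveI hfinQ : Module.Finite C₀ (Q₀ C₀ v₀) := Module.Finite.quotient C₀ _
  exact FibMod4.core_of_pushout_mod A₀ A B₀ C₀ B C (Q₀ C₀ v₀) M g₀ hg₀ r hne hfib

/-- **Fibrewise criterion for a module, finitely presented case, flat source.** -/
theorem core_mod_fp {A B C : Type u} [CommRing A] [CommRing B] [CommRing C] [Algebra A B]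
    [Algebra B C] [Algebra A C] [IsScalarTower A B C] [Algebra.FinitePresentation A B]
    [Algebra.FinitePresentation A C]
    (M : Type u) [AddCommGroup M] [Module C M] [Module B M] [IsScalarTower B C M]
    [Module A M] [IsScalarTower A C M] [Module.FinitePresentation C M] [Module.Flat A M]
    (r : Ideal C) [r.IsPrime] (hne : Nontrivial (LocalizedModule r.primeCompl M))
    (hfib : FibFlatAtMod A B C M r) :
    Module.Flat A (Localization.AtPrime (r.under B)) ∧
      Module.Flat B (LocalizedModule r.primeCompl M) := by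
  classical
  haveI : Algebra.FinitePresentation B C :=
    Algebra.FinitePresentation.of_restrict_scalars_finitePresentation A B C
  let P := Algebra.Presentation.ofFinitePresentation A B
  let Q := Algebra.Presentation.ofFinitePresentation B C
  let PC := Q.comp P
  -- the module presentation
  obtain ⟨n, K, eM, hK⟩ := Module.FinitePresentation.exists_fin C M
  obtain ⟨m, v, hv⟩ := Submodule.fg_iff_exists_fin_generating_family.1 hK
  have hsurj : Function.Surjective (MvPolynomial.aeval (R := A) PC.val) := PC.aeval_val_surjective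
  choose lift hlift using hsurj
  obtain ⟨cs, hcs⟩ : ∃ cs : Set A, cs =
      ⋃ j : Fin m, ⋃ i : Fin n, ((lift (v j i)).coeffs : Set A) := ⟨_, rfl⟩
  have hfin : cs.Finite := by
    rw [hcs]
    exact Set.finite_iUnion fun j => Set.finite_iUnion fun i => Finset.finite_toSet _
  let A₀ : Subalgebra ℤ A := Algebra.adjoin ℤ (P.coeffs ∪ PC.coeffs ∪ cs)
  haveI hP : P.HasCoeffs A₀ := ⟨by
    rw [Subalgebra.setRange_algebraMap]
    exact (Set.subset_union_left.trans Set.subset_union_left).trans Algebra.subset_adjoin⟩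
  haveI hPC : PC.HasCoeffs A₀ := ⟨by
    rw [Subalgebra.setRange_algebraMap]
    exact (Set.subset_union_right.trans Set.subset_union_left).trans Algebra.subset_adjoin⟩
  haveI : Algebra.FiniteType ℤ A₀ :=
    (Subalgebra.fg_iff_finiteType A₀).1 (Subalgebra.fg_def.mpr ⟨_,
      ((Algebra.Presentation.finite_coeffs).union (Algebra.Presentation.finite_coeffs)).union hfin,
      rfl⟩)
  haveI : IsNoetherianRing A₀ := Algebra.FiniteType.isNoetherianRing ℤ A₀
  have hmem : ∀ j i, lift (v j i) ∈
      Set.range (MvPolynomial.map (algebraMap A₀ A)) := by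
    intro j i
    rw [MvPolynomial.mem_range_map_iff_coeffs_subset]
    intro c' hc'
    have hc'' : c' ∈ cs := by
      rw [hcs]
      exact Set.mem_iUnion.2 ⟨j, Set.mem_iUnion.2 ⟨i, hc'⟩⟩
    exact ⟨⟨c', Algebra.subset_adjoin (Or.inr hc'')⟩, rfl⟩
  choose pol hpol using hmem
  exact core_mod_fp_aux (A₀ : Type u) M K eM v hv pol (fun j i => by rw [hpol, hlift]) r hne hfib

end Groth.Agent.Lib.Helper54.FibMod5
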