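/-
helper54: the fibrewise flatness criterion for a module, with abstract local rings at the top:
`S`, `S'` are the localizations of `B`, `C` at the contractions of their maximal ideals.
-/
import Groth.Agent.Lib.Helper54.FibMod5

set_option autoImplicit false
set_option maxHeartbeats 1600000
set_option linter.style.haveILetI false

namespace Groth.Agent.Lib.Helper54.FibMod8

open TensorProduct Function
open Groth.Agent.Lib.Helper31.FibCrit
open Groth.Agent.Lib.Helper54
open Groth.Agent.Lib.Helper54.FibMod3

universe u

/-- A quotient map induced by a bijective ring map is flat. -/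
theorem quotientMap_flat_of_bijective {X Y : Type*} [CommRing X] [CommRing Y] (σ : X →+* Y)
    (hσ : Bijective σ) (I' : Ideal X) (I : Ideal Y) (h : I = I'.map σ)
    (hle : I' ≤ I.comap σ) : (Ideal.quotientMap I σ hle).Flat := by
  apply RingHom.Flat.of_bijective
  constructor
  · apply Ideal.quotientMap_injective'
    rw [h, Ideal.comap_map_of_bijective σ hσ]
  · exact Ideal.quotientMap_surjective hσ.2

/-- **Fibrewise criterion for a module, abstract local form.** -/
theorem core_local {R B C S S' : Type u} [CommRing R] [CommRing B] [CommRing C] [CommRing S]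
    [CommRing S'] [IsLocalRing S] [IsLocalRing S']
    [Algebra R B] [Algebra B C] [Algebra R C] [IsScalarTower R B C]
    [Algebra.FinitePresentation R B] [Algebra.FinitePresentation R C]
    [Algebra B S] [Algebra C S'] [Algebra S S']
    [Algebra R S] [IsScalarTower R B S]
    (hcompat : ∀ b : B, algebraMap C S' (algebraMap B C b) = algebraMap S S' (algebraMap B S b))
    (q : Ideal B) [q.IsPrime] [hatS : IsLocalization.AtPrime S q]
    (r : Ideal C) [r.IsPrime] [hatS' : IsLocalization.AtPrime S' r] (hq : r.under B = q)
    (M₁ : Type u) [AddCommGroup M₁] [Module C M₁] [Module.FinitePresentation C M₁]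
    [Module R M₁] [IsScalarTower R C M₁] [Module.Flat R M₁]
    (M : Type u) [AddCommGroup M] [Module S' M] [Module S M] [IsScalarTower S S' M]
    [Module C M] [IsScalarTower C S' M]
    (f : M₁ →ₗ[C] M) [hf : IsLocalizedModule r.primeCompl f]
    [Nontrivial M]
    (p : Ideal R) (hp : p = r.under R)
    (hfib : Module.Flat (S ⧸ p.map (algebraMap R S))
      (M ⧸ (p.map (algebraMap R S) • (⊤ : Submodule S M)))) :
    Module.Flat R S ∧ Module.Flat S M := by
  classical
  subst hq
  subst hp
  -- concrete local rings
  let q : Ideal B := r.under B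
  let S_c := Localization.AtPrime q
  let T_c := Localization.AtPrime r
  letI aST_c : Algebra S_c T_c := Localization.AtPrime.algebraOfLiesOver q r
  let N_c := LocalizedModule r.primeCompl M₁
  let eS : S_c ≃ₐ[B] S := IsLocalization.algEquiv q.primeCompl S_c S
  let eT : T_c ≃ₐ[C] S' := IsLocalization.algEquiv r.primeCompl T_c S'
  letI aS_cS : Algebra S_c S := eS.toAlgHom.toRingHom.toAlgebra
  letI aT_cS' : Algebra T_c S' := eT.toAlgHom.toRingHom.toAlgebra
  haveI tBS_cS : IsScalarTower B S_c S := IsScalarTower.of_algebraMap_eq (fun b => (eS.commutes b).symm)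
  haveI tCT_cS' : IsScalarTower C T_c S' :=
    IsScalarTower.of_algebraMap_eq (fun c => (eT.commutes c).symm)
  letI aS_cS' : Algebra S_c S' := ((algebraMap S S').comp (algebraMap S_c S)).toAlgebra
  haveI tS_cSS' : IsScalarTower S_c S S' := IsScalarTower.of_algebraMap_eq (fun _ => rfl)
  have tBS_cT_c : IsScalarTower B S_c T_c := inferInstance
  have tBCT_c : IsScalarTower B C T_c := inferInstance
  haveI tS_cT_cS' : IsScalarTower S_c T_c S' := by
    refine IsScalarTower.of_algebraMap_eq' ?_
    apply IsLocalization.ringHom_ext q.primeCompl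
    ext b
    show algebraMap S S' (algebraMap S_c S (algebraMap B S_c b)) =
      algebraMap T_c S' (algebraMap S_c T_c (algebraMap B S_c b))
    rw [← IsScalarTower.algebraMap_apply B S_c S, ← IsScalarTower.algebraMap_apply B S_c T_c,
      IsScalarTower.algebraMap_apply B C T_c, ← IsScalarTower.algebraMap_apply C T_c S', hcompat]
  have hbijS : Bijective (algebraMap S_c S) := eS.bijective
  have hbijT : Bijective (algebraMap T_c S') := eT.bijective
  haveI hlocT : IsLocalHom (algebraMap T_c S') := by
    constructor
    intro a ha
    have h1 : IsUnit (eT.symm (algebraMap T_c S' a)) := ha.map eT.symm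
    have h2 : eT.symm (algebraMap T_c S' a) = a := eT.symm_apply_apply a
    rwa [h2] at h1
  -- module structures
  letI mS_cN_c : Module S_c N_c := Module.compHom N_c (algebraMap S_c T_c)
  haveI tS_cT_cN_c : IsScalarTower S_c T_c N_c := .of_algebraMap_smul (fun _ _ => rfl)
  letI mT_cM : Module T_c M := Module.compHom M (algebraMap T_c S')
  haveI tT_cS'M : IsScalarTower T_c S' M := .of_algebraMap_smul (fun _ _ => rfl)
  haveI tCT_cM : IsScalarTower C T_c M := .of_algebraMap_smul (fun c m => by
    show algebraMap T_c S' (algebraMap C T_c c) • m = c • m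
    rw [← IsScalarTower.algebraMap_apply C T_c S', algebraMap_smul])
  -- the comparison map
  let f_c : M₁ →ₗ[C] N_c := LocalizedModule.mkLinearMap r.primeCompl M₁
  have hf_c : IsBaseChange T_c f_c := IsLocalizedModule.isBaseChange r.primeCompl T_c f_c
  have hfS' : IsBaseChange S' f := IsLocalizedModule.isBaseChange r.primeCompl S' f
  let g : N_c →ₗ[T_c] M := hf_c.lift f
  have hg : IsBaseChange S' g := by
    refine IsBaseChange.of_comp hf_c ?_
    have h1 : (g.restrictScalars C).comp f_c = f := hf_c.lift_comp _
    rw [h1]
    exact hfS'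
  -- ideals
  let I' : Ideal S_c := (r.under R).map (algebraMap R S_c)
  let I : Ideal S := (r.under R).map (algebraMap R S)
  have tRBS_c : IsScalarTower R B S_c := inferInstance
  haveI tRS_cS : IsScalarTower R S_c S := IsScalarTower.of_algebraMap_eq (fun a => by
    rw [IsScalarTower.algebraMap_apply R B S, IsScalarTower.algebraMap_apply B S_c S,
      ← IsScalarTower.algebraMap_apply R B S_c])
  have hIeq : I = I'.map (algebraMap S_c S) := by
    show Ideal.map (algebraMap R S) (r.under R) =
      Ideal.map (algebraMap S_c S) (Ideal.map (algebraMap R S_c) (r.under R))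
    rw [Ideal.map_map, ← IsScalarTower.algebraMap_eq]
  have hσ : I' ≤ I.comap (algebraMap S_c S) := by rw [hIeq]; exact Ideal.le_comap_map
  have ha : (Ideal.quotientMap I (algebraMap S_c S) hσ).Flat :=
    quotientMap_flat_of_bijective (algebraMap S_c S) hbijS I' I hIeq hσ
  have hJeq : I.map (algebraMap S S') =
      (I'.map (algebraMap S_c T_c)).map (algebraMap T_c S') := by
    calc I.map (algebraMap S S') = (I'.map (algebraMap S_c S)).map (algebraMap S S') := by
          rw [hIeq]
      _ = I'.map ((algebraMap S S').comp (algebraMap S_c S)) := Ideal.map_map _ _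
      _ = I'.map (algebraMap S_c S') := by rw [← IsScalarTower.algebraMap_eq S_c S S']
      _ = I'.map ((algebraMap T_c S').comp (algebraMap S_c T_c)) := by
          rw [← IsScalarTower.algebraMap_eq S_c T_c S']
      _ = _ := (Ideal.map_map _ _).symm
  have hτ : I'.map (algebraMap S_c T_c) ≤
      (I.map (algebraMap S S')).comap (algebraMap T_c S') := by
    rw [hJeq]; exact Ideal.le_comap_map
  have hb : (Ideal.quotientMap (I.map (algebraMap S S')) (algebraMap T_c S') hτ).Flat :=
    quotientMap_flat_of_bijective (algebraMap T_c S') hbijT _ _ hJeq hτ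
  have hJ : I.map (algebraMap S S') ≠ ⊤ := by
    intro htop
    have hle : I.map (algebraMap S S') ≤ IsLocalRing.maximalIdeal S' := by
      show Ideal.map (algebraMap S S') (Ideal.map (algebraMap R S) (r.under R)) ≤ _
      rw [Ideal.map_map, Ideal.map_le_iff_le_comap]
      intro a ha'
      rw [Ideal.mem_comap]
      show algebraMap S S' (algebraMap R S a) ∈ _
      rw [IsScalarTower.algebraMap_apply R B S, ← hcompat, ← IsScalarTower.algebraMap_apply R B C,
        ← IsLocalization.AtPrime.map_eq_maximalIdeal r S']
      exact Ideal.mem_map_of_mem _ ha'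
    rw [htop, top_le_iff] at hle
    exact Ideal.IsPrime.ne_top' hle
  -- fibre flatness for the concrete localizations
  have hfib_c : FibFlatAtMod R B C M₁ r :=
    FibMod2.fibre_descent I' I hσ hτ hJ ha hb N_c M g hg hfib
  -- apply the criterion
  letI mBM₁ : Module B M₁ := Module.compHom M₁ (algebraMap B C)
  haveI tBCM₁ : IsScalarTower B C M₁ := .of_algebraMap_smul (fun _ _ => rfl)
  have hne_c : Nontrivial N_c := (IsLocalizedModule.iso r.primeCompl f).toEquiv.nontrivial
  obtain ⟨c1, c2⟩ := FibMod5.core_mod_fp (A := R) (B := B) (C := C) M₁ r hne_c hfib_c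
  have hRS : Module.Flat R S :=
    Module.Flat.of_linearEquiv ((eS.toLinearEquiv.restrictScalars R).symm)
  letI mBM : Module B M := Module.compHom M (algebraMap B S)
  haveI tBSM : IsScalarTower B S M := .of_algebraMap_smul (fun _ _ => rfl)
  haveI tBCM : IsScalarTower B C M := .of_algebraMap_smul (fun b m => by
    show algebraMap B C b • m = algebraMap B S b • m
    rw [← algebraMap_smul S' (algebraMap B C b) m, hcompat, algebraMap_smul S'])
  have hBM : Module.Flat B M :=
    Module.Flat.of_linearEquiv ((IsLocalizedModule.iso r.primeCompl f).restrictScalars B).symm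
  have hSM : Module.Flat S M :=
    (Module.flat_iff_of_isLocalization (S := S) (p := q.primeCompl) (M := M)).2 hBM
  exact ⟨hRS, hSM⟩

end Groth.Agent.Lib.Helper54.FibMod8
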