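/-
helper54: the fibrewise flatness criterion for a module when the middle local ring is only
essentially of finite type over the base (the top ring being essentially of finite presentation).
-/
import Groth.Agent.Lib.Helper54.FibFT1
import Groth.Agent.Lib.Helper54.FibMod2
import Groth.Agent.S2106

set_option autoImplicit false
set_option maxHeartbeats 1000000
set_option linter.style.haveILetI false

namespace Groth.Agent.Lib.Helper54.FibFT2

open Function
open Groth.Agent.Lib.Helper54

universe u

/-- Auxiliary form: the middle ring `S` is a quotient of a local ring `S₁` essentially of finite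
presentation, with the same fibre. -/
theorem core_ft_aux {R S₁ S S' M : Type u} [CommRing R] [CommRing S₁] [CommRing S] [CommRing S']
    [IsLocalRing R] [IsLocalRing S₁] [IsLocalRing S] [IsLocalRing S']
    [Algebra R S] [Algebra S S'] [Algebra R S'] [IsScalarTower R S S']
    [IsLocalHom (algebraMap R S)] [IsLocalHom (algebraMap S S')]
    [Algebra R S₁] [Algebra S₁ S] [IsScalarTower R S₁ S]
    (hsurj : Surjective (algebraMap S₁ S))
    (hker : RingHom.ker (algebraMap S₁ S) ≤ (IsLocalRing.maximalIdeal R).map (algebraMap R S₁))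
    (hS₁ : CAlgX.IsEssFinitePresentation R S₁) (hS' : CAlgX.IsEssFinitePresentation R S')
    [AddCommGroup M] [Module S' M] [Module S M] [Module R M] [IsScalarTower S S' M]
    [IsScalarTower R S' M] [IsScalarTower R S M] [Module.FinitePresentation S' M] [Nontrivial M]
    [Module.Flat R M]
    (hfib : Module.Flat (S ⧸ (IsLocalRing.maximalIdeal R).map (algebraMap R S))
      (M ⧸ (IsLocalRing.maximalIdeal R).map (algebraMap R S) • (⊤ : Submodule S M))) :
    Module.Flat R S ∧ Module.Flat S M := by
  classical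
  letI aS₁S' : Algebra S₁ S' := ((algebraMap S S').comp (algebraMap S₁ S)).toAlgebra
  haveI t1 : IsScalarTower S₁ S S' := IsScalarTower.of_algebraMap_eq (fun _ => rfl)
  haveI t2 : IsScalarTower R S₁ S' := IsScalarTower.of_algebraMap_eq (fun a => by
    rw [IsScalarTower.algebraMap_apply R S S', IsScalarTower.algebraMap_apply R S₁ S]; rfl)
  letI mS₁M : Module S₁ M := Module.compHom M (algebraMap S₁ S)
  haveI t3 : IsScalarTower S₁ S M := .of_algebraMap_smul (fun _ _ => rfl)
  haveI t4 : IsScalarTower S₁ S' M := .of_algebraMap_smul (fun a m => by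
    show algebraMap S S' (algebraMap S₁ S a) • m = algebraMap S₁ S a • m
    rw [algebraMap_smul])
  haveI t5 : IsScalarTower R S₁ M := .of_algebraMap_smul (fun a m => by
    show algebraMap S₁ S (algebraMap R S₁ a) • m = a • m
    rw [← IsScalarTower.algebraMap_apply R S₁ S, algebraMap_smul])
  haveI l1 : IsLocalHom (algebraMap S₁ S) := IsLocalHom.of_surjective _ hsurj
  haveI l2 : IsLocalHom (algebraMap S₁ S') := by
    show IsLocalHom ((algebraMap S S').comp (algebraMap S₁ S))
    infer_instance
  haveI l3 : IsLocalHom (algebraMap R S₁) := by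
    constructor
    intro a ha
    have h1 : IsUnit (algebraMap R S a) := by
      rw [IsScalarTower.algebraMap_apply R S₁ S]; exact ha.map _
    exact isUnit_of_map_unit (algebraMap R S) a h1
  haveI l4 : IsLocalHom (algebraMap S' S') := ⟨fun a h => h⟩
  -- ideals
  obtain ⟨I', hI'⟩ : ∃ I' : Ideal S₁, I' = (IsLocalRing.maximalIdeal R).map (algebraMap R S₁) :=
    ⟨_, rfl⟩
  obtain ⟨I, hI⟩ : ∃ I : Ideal S, I = (IsLocalRing.maximalIdeal R).map (algebraMap R S) :=
    ⟨_, rfl⟩
  have hIeq : I = I'.map (algebraMap S₁ S) := by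
    rw [hI, hI', Ideal.map_map, ← IsScalarTower.algebraMap_eq]
  have hσ : I' ≤ I.comap (algebraMap S₁ S) := by rw [hIeq]; exact Ideal.le_comap_map
  have ha : (Ideal.quotientMap I (algebraMap S₁ S) hσ).Flat := by
    apply RingHom.Flat.of_bijective
    constructor
    · apply Ideal.quotientMap_injective'
      rw [hIeq, Ideal.comap_map_of_surjective _ hsurj]
      refine sup_le le_rfl ?_
      rw [← RingHom.ker_eq_comap_bot, hI']
      exact hker
    · exact Ideal.quotientMap_surjective hsurj
  have hJeq : I.map (algebraMap S S') = I'.map (algebraMap S₁ S') := by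
    rw [hIeq, Ideal.map_map]
    rfl
  have hτ : I'.map (algebraMap S₁ S') ≤
      (I.map (algebraMap S S')).comap (algebraMap S' S') := by
    rw [hJeq]
    exact fun x hx => hx
  have hb : (Ideal.quotientMap (I.map (algebraMap S S')) (algebraMap S' S') hτ).Flat := by
    apply RingHom.Flat.of_bijective
    constructor
    · apply Ideal.quotientMap_injective'
      rw [hJeq]
      exact fun x hx => hx
    · exact Ideal.quotientMap_surjective (fun x => ⟨x, rfl⟩)
  have hJ : I.map (algebraMap S S') ≠ ⊤ := by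
    intro htop
    have hle : I.map (algebraMap S S') ≤ IsLocalRing.maximalIdeal S' := by
      rw [hI, Ideal.map_map, Ideal.map_le_iff_le_comap, ← IsScalarTower.algebraMap_eq]
      intro a ha'
      rw [Ideal.mem_comap, IsScalarTower.algebraMap_apply R S S',
        ← Ideal.mem_comap (f := algebraMap S S'), IsLocalRing.maximalIdeal_comap,
        ← Ideal.mem_comap (f := algebraMap R S), IsLocalRing.maximalIdeal_comap]
      exact ha'
    rw [htop, top_le_iff] at hle
    exact Ideal.IsPrime.ne_top' hle
  have hfib' : Module.Flat (S ⧸ I) (M ⧸ (I • ⊤ : Submodule S M)) := by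
    subst hI; exact hfib
  have hfib₁ : Module.Flat (S₁ ⧸ I') (M ⧸ (I' • ⊤ : Submodule S₁ M)) :=
    FibMod2.fibre_descent (S' := S₁) (T' := S') (S := S) (T := S') I' I hσ hτ hJ ha hb M M
      (LinearEquiv.refl S' M).toLinearMap (IsBaseChange.ofEquiv (LinearEquiv.refl S' M)) hfib'
  subst hI'
  obtain ⟨c1, c2⟩ := Groth.Agent.S2106.result (R := R) (S := S₁) (S' := S') (M := M) hS₁ hS' hfib₁
  haveI := c2
  haveI ff : Module.FaithfullyFlat S₁ M :=
    FibFT1.faithfullyFlat_of_flat_of_isLocalHom (S₁ := S₁) (S' := S') (M := M)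
  have hinj : Injective (algebraMap S₁ S) := FibFT1.injective_of_faithfullyFlat (M := M)
  have hbij : Bijective (algebraMap S₁ S) := ⟨hinj, hsurj⟩
  have hRS : Module.Flat R S := by
    let e : S₁ ≃ₐ[R] S := AlgEquiv.ofBijective (IsScalarTower.toAlgHom R S₁ S) hbij
    exact Module.Flat.of_linearEquiv e.toLinearEquiv.symm
  haveI locS : IsLocalization (⊥ : Submonoid S₁) S :=
    IsLocalization.of_le_isUnit_of_bijective (by
      rintro _ ⟨a, ha, rfl⟩
      rw [Submonoid.mem_bot.1 ha, map_one]
      exact isUnit_one) hbij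
  have hSM : Module.Flat S M :=
    (Module.flat_iff_of_isLocalization (S := S) (p := (⊥ : Submonoid S₁)) (M := M)).2 c2
  exact ⟨hRS, hSM⟩

/-- **Fibrewise criterion for a module, middle ring essentially of finite type.** The ring `S` is
described as a ring of fractions of the image of a finitely presented algebra `P`. -/
theorem core_ft {R S S' M P : Type u} [CommRing R] [CommRing S] [CommRing S'] [CommRing P]
    [IsLocalRing R] [IsLocalRing S] [IsLocalRing S'] [Algebra R S] [Algebra S S'] [Algebra R S']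
    [IsScalarTower R S S'] [IsLocalHom (algebraMap R S)] [IsLocalHom (algebraMap S S')]
    [Algebra R P] [Algebra.FinitePresentation R P] (ψ : P →ₐ[R] S)
    (hψ : ∀ x : S, ∃ a b : P, IsUnit (ψ b) ∧ x * ψ b = ψ a)
    (hS' : CAlgX.IsEssFinitePresentation R S')
    [AddCommGroup M] [Module S' M] [Module S M] [Module R M] [IsScalarTower S S' M]
    [IsScalarTower R S' M] [IsScalarTower R S M] [Module.FinitePresentation S' M] [Nontrivial M]
    [Module.Flat R M]
    (hfib : Module.Flat (S ⧸ (IsLocalRing.maximalIdeal R).map (algebraMap R S))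
      (M ⧸ (IsLocalRing.maximalIdeal R).map (algebraMap R S) • (⊤ : Submodule S M))) :
    Module.Flat R S ∧ Module.Flat S M := by
  classical
  obtain ⟨q, hqdef⟩ : ∃ q : Ideal P, q = (IsLocalRing.maximalIdeal S).comap (ψ : P →+* S) :=
    ⟨_, rfl⟩
  haveI hq : q.IsPrime := by rw [hqdef]; infer_instance
  have hmemq : ∀ z : P, z ∈ q ↔ ψ z ∈ IsLocalRing.maximalIdeal S := fun z => by
    rw [hqdef]; rfl
  have hunits : ∀ y : q.primeCompl, IsUnit (ψ y) := by
    intro y
    by_contra h
    exact y.2 ((hmemq _).2 ((IsLocalRing.mem_maximalIdeal _).2 h))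
  let T := Localization.AtPrime q
  let τ : T →ₐ[R] S := IsLocalization.liftAlgHom (M := q.primeCompl) (S := T) (f := ψ) hunits
  have hτsurj : Surjective τ := by
    intro x
    obtain ⟨a, b, hb, hab⟩ := hψ x
    have hbq : b ∈ q.primeCompl := by
      intro hbq
      exact (IsLocalRing.mem_maximalIdeal _).1 ((hmemq _).1 hbq) hb
    refine ⟨IsLocalization.mk' T a ⟨b, hbq⟩, ?_⟩
    show IsLocalization.lift hunits (IsLocalization.mk' T a ⟨b, hbq⟩) = x
    rw [IsLocalization.lift_mk'_spec]
    rw [mul_comm]
    exact hab.symm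
  -- the residue ring is Noetherian
  obtain ⟨mT, hmT⟩ : ∃ mT : Ideal T, mT = (IsLocalRing.maximalIdeal R).map (algebraMap R T) :=
    ⟨_, rfl⟩
  haveI noeth : IsNoetherianRing (T ⧸ mT) := by
    subst hmT
    letI := Ideal.Quotient.field (IsLocalRing.maximalIdeal R)
    haveI : Algebra.EssFiniteType R T := inferInstance
    exact Algebra.EssFiniteType.isNoetherianRing (R ⧸ IsLocalRing.maximalIdeal R) _
  obtain ⟨K₀, hK₀le, hK₀fg, hK⟩ := FibFT1.exists_fg_lift (Ideal.Quotient.mk mT)
    Ideal.Quotient.mk_surjective (RingHom.ker (τ : T →+* S)) (IsNoetherian.noetherian _)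
  rw [Ideal.mk_ker] at hK
  obtain ⟨J₀, hJ₀fg, hJ₀⟩ := FibFT1.exists_fg_extended q.primeCompl K₀ hK₀fg
  subst hJ₀
  -- the ring `S₁`
  have hS₁ : CAlgX.IsEssFinitePresentation R (T ⧸ J₀.map (algebraMap P T)) :=
    FibFT1.essFP_quotient q.primeCompl J₀ hJ₀fg
  have hne : J₀.map (algebraMap P T) ≠ ⊤ := by
    intro h
    rw [h] at hK₀le
    have h1 : (1 : T) ∈ RingHom.ker (τ : T →+* S) := hK₀le trivial
    rw [RingHom.mem_ker, map_one] at h1
    exact one_ne_zero h1
  haveI : Nontrivial (T ⧸ J₀.map (algebraMap P T)) := Ideal.Quotient.nontrivial_iff.mpr hne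
  haveI : IsLocalRing (T ⧸ J₀.map (algebraMap P T)) :=
    IsLocalRing.of_surjective' (Ideal.Quotient.mk _) Ideal.Quotient.mk_surjective
  let σ : (T ⧸ J₀.map (algebraMap P T)) →ₐ[R] S :=
    Ideal.Quotient.liftₐ (J₀.map (algebraMap P T)) τ (fun a ha => hK₀le ha)
  letI aS₁S : Algebra (T ⧸ J₀.map (algebraMap P T)) S := σ.toRingHom.toAlgebra
  haveI : IsScalarTower R (T ⧸ J₀.map (algebraMap P T)) S :=
    IsScalarTower.of_algebraMap_eq (fun a => (σ.commutes a).symm)
  have hσmk : ∀ t : T, algebraMap (T ⧸ J₀.map (algebraMap P T)) S (Ideal.Quotient.mk _ t) = τ t :=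
    fun t => rfl
  have hsurj : Surjective (algebraMap (T ⧸ J₀.map (algebraMap P T)) S) := fun x => by
    obtain ⟨t, rfl⟩ := hτsurj x
    exact ⟨Ideal.Quotient.mk _ t, hσmk t⟩
  have hker : RingHom.ker (algebraMap (T ⧸ J₀.map (algebraMap P T)) S) ≤
      (IsLocalRing.maximalIdeal R).map (algebraMap R (T ⧸ J₀.map (algebraMap P T))) := by
    intro y hy
    obtain ⟨t, rfl⟩ := Ideal.Quotient.mk_surjective y
    have ht : t ∈ RingHom.ker (τ : T →+* S) := by
      rw [RingHom.mem_ker] at hy ⊢
      rw [hσmk] at hy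
      exact hy
    obtain ⟨k₀, hk₀, m, hm, rfl⟩ := Submodule.mem_sup.1 (hK ht)
    rw [map_add, Ideal.Quotient.eq_zero_iff_mem.2 hk₀, zero_add]
    have h2 : (IsLocalRing.maximalIdeal R).map (algebraMap R (T ⧸ J₀.map (algebraMap P T))) =
        mT.map (Ideal.Quotient.mk (J₀.map (algebraMap P T))) := by
      rw [hmT, Ideal.map_map]
      rfl
    rw [h2]
    exact Ideal.mem_map_of_mem _ hm
  exact core_ft_aux hsurj hker hS₁ hS' hfib

/-- **Fibrewise criterion for a module**: `R → S → S'` local homomorphisms of local rings, `S`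
essentially of finite type and `S'` essentially of finite presentation over `R`, `M` a nonzero
finitely presented `S'`-module flat over `R` whose fibre is flat over the fibre of `S`. Then `S` is
flat over `R` and `M` is flat over `S`. -/
theorem core_essFiniteType {R S S' M : Type u} [CommRing R] [CommRing S] [CommRing S']
    [IsLocalRing R] [IsLocalRing S] [IsLocalRing S'] [Algebra R S] [Algebra S S'] [Algebra R S']
    [IsScalarTower R S S'] [IsLocalHom (algebraMap R S)] [IsLocalHom (algebraMap S S')]
    [Algebra.EssFiniteType R S] (hS' : CAlgX.IsEssFinitePresentation R S')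
    [AddCommGroup M] [Module S' M] [Module S M] [Module R M] [IsScalarTower S S' M]
    [IsScalarTower R S' M] [IsScalarTower R S M] [Module.FinitePresentation S' M] [Nontrivial M]
    [Module.Flat R M]
    (hfib : Module.Flat (S ⧸ (IsLocalRing.maximalIdeal R).map (algebraMap R S))
      (M ⧸ (IsLocalRing.maximalIdeal R).map (algebraMap R S) • (⊤ : Submodule S M))) :
    Module.Flat R S ∧ Module.Flat S M := by
  classical
  let s : Finset S := Algebra.EssFiniteType.finset R S
  let ψ : MvPolynomial s R →ₐ[R] S := MvPolynomial.aeval (fun i : s => (i : S))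
  have hrange : ∀ a ∈ Algebra.adjoin R (s : Set S), ∃ pa : MvPolynomial s R, ψ pa = a := by
    intro a ha
    rw [Algebra.adjoin_eq_range] at ha
    exact ha
  refine core_ft ψ ?_ hS' hfib
  intro x
  obtain ⟨⟨a, w⟩, haw⟩ := IsLocalization.surj (Algebra.EssFiniteType.submonoid R S) x
  obtain ⟨pa, hpa⟩ := hrange a.1 a.2
  obtain ⟨pw, hpw⟩ := hrange w.1.1 w.1.2
  refine ⟨pa, pw, ?_, ?_⟩
  · rw [hpw]
    exact w.2
  · rw [hpw, hpa]
    exact haw

end Groth.Agent.Lib.Helper54.FibFT2
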