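/-
helper54: tools for passing flatness of a base change through a directed colimit of rings:
* `flat_of_algHom`: flatness of the model is preserved by an arbitrary change of the base;
* `linearEquiv_of_semilinear`, `flat_baseChange_iff`: comparison of `C ⊗[A₀] M₀` with the base
  change of a model of `M₀`;
* `exists_algHom_of_colimit`: a finitely presented algebra mapping to a directed colimit factors
  through a stage.
-/
import Groth.Agent.Lib.Helper54.FlatPkg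
import Groth.Prelude.Def_FlatCA

set_option autoImplicit false
set_option maxHeartbeats 1600000

namespace Groth.Agent.Lib.Helper54.FlatColim

open TensorProduct Function
open Groth.Agent.Lib.Helper54
open Groth.Agent.Lib.Helper54.FlatStage4
open Groth.Agent.Lib.Helper54.FlatStage6

attribute [local instance] Algebra.TensorProduct.rightAlgebra

universe u

section AlgHom

variable (R₀ S₀ M₀ : Type u) [CommRing R₀] [CommRing S₀] [Algebra R₀ S₀]
  [AddCommGroup M₀] [Module R₀ M₀] [Module S₀ M₀] [IsScalarTower R₀ S₀ M₀]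

/-- Flatness of the base change of the model is preserved by a change of the base. -/
theorem flat_of_algHom (T T' : Type u) [CommRing T] [Algebra R₀ T] [CommRing T']
    [Algebra R₀ T'] (φ : T →ₐ[R₀] T') (h : Module.Flat T ((S₀ ⊗[R₀] T) ⊗[S₀] M₀)) :
    Module.Flat T' ((S₀ ⊗[R₀] T') ⊗[S₀] M₀) := by
  apply flat_of_forall_maximal (S₀ ⊗[R₀] T') ((S₀ ⊗[R₀] T') ⊗[S₀] M₀)
  intro P hP
  haveI := hP.isPrime
  apply flat_of_stage_flat' R₀ S₀ M₀ T T' φ P
  exact FlatOpenA.flat_of_isLocalizedModule (N := (S₀ ⊗[R₀] T) ⊗[S₀] M₀)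
    (N' := LocalizedModule (P.comap (SM S₀ φ)).primeCompl ((S₀ ⊗[R₀] T) ⊗[S₀] M₀)) (S₀ ⊗[R₀] T)
    (P.comap (SM S₀ φ)).primeCompl
    (LocalizedModule.mkLinearMap (P.comap (SM S₀ φ)).primeCompl ((S₀ ⊗[R₀] T) ⊗[S₀] M₀))

end AlgHom

section Compare

variable {R S M : Type u} [CommRing R] [CommRing S] [Algebra R S] [AddCommGroup M]
  [Module S M] [Module R M] [IsScalarTower R S M]

/-- A semilinear isomorphism is linear over the base. -/
theorem linearEquiv_of_semilinear (R₀ : Type u) [CommRing R₀] [Algebra R₀ R] (S₀ : Type u)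
    [CommRing S₀] [Algebra R₀ S₀] (M₀ : Type u) [AddCommGroup M₀] [Module R₀ M₀] [Module S₀ M₀]
    [IsScalarTower R₀ S₀ M₀] (θ : S₀ ⊗[R₀] R ≃+* S)
    (hθ : ∀ r : R, θ (algebraMap R (S₀ ⊗[R₀] R) r) = algebraMap R S r)
    (Θ : (S₀ ⊗[R₀] R) ⊗[S₀] M₀ ≃+ M)
    (hΘ : ∀ (b' : S₀ ⊗[R₀] R) (x : (S₀ ⊗[R₀] R) ⊗[S₀] M₀), Θ (b' • x) = θ b' • Θ x) :
    Nonempty ((S₀ ⊗[R₀] R) ⊗[S₀] M₀ ≃ₗ[R] M) :=
  ⟨{ Θ with
      map_smul' := fun r x => by
        show Θ (r • x) = r • Θ x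
        rw [← algebraMap_smul (S₀ ⊗[R₀] R) r x, hΘ, hθ, algebraMap_smul] }⟩

variable (Z₀ A₀ S₀ N₀ M₀ : Type u) [CommRing Z₀] [CommRing A₀] [Algebra Z₀ A₀] [CommRing S₀]
  [Algebra Z₀ S₀] [AddCommGroup N₀] [Module Z₀ N₀] [Module S₀ N₀] [IsScalarTower Z₀ S₀ N₀]
  [AddCommGroup M₀] [Module A₀ M₀]

/-- If `M₀` is the base change of the model `N₀`, then for every `A₀`-algebra `C` the module
`C ⊗[A₀] M₀` is flat over `C` if and only if the base change of `N₀` to `S₀ ⊗[Z₀] C` is. -/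
theorem flat_baseChange_iff (e : (S₀ ⊗[Z₀] A₀) ⊗[S₀] N₀ ≃ₗ[A₀] M₀)
    (C : Type u) [CommRing C] [Algebra A₀ C] [Algebra Z₀ C] [IsScalarTower Z₀ A₀ C] :
    Module.Flat C (C ⊗[A₀] M₀) ↔ Module.Flat C ((S₀ ⊗[Z₀] C) ⊗[S₀] N₀) := by
  let E₁ : C ⊗[A₀] M₀ ≃ₗ[C] C ⊗[A₀] ((S₀ ⊗[Z₀] A₀) ⊗[S₀] N₀) :=
    AlgebraTensorModule.congr (LinearEquiv.refl C C) e.symm
  let E₂ : C ⊗[A₀] ((S₀ ⊗[Z₀] A₀) ⊗[S₀] N₀) ≃ₗ[C] C ⊗[A₀] (A₀ ⊗[Z₀] N₀) :=
    AlgebraTensorModule.congr (LinearEquiv.refl C C)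
      (Algebra.IsPushout.cancelBaseChange Z₀ A₀ S₀ (S₀ ⊗[Z₀] A₀) N₀)
  let E₃ : C ⊗[A₀] (A₀ ⊗[Z₀] N₀) ≃ₗ[C] C ⊗[Z₀] N₀ :=
    AlgebraTensorModule.cancelBaseChange Z₀ A₀ C C N₀
  let E₄ : (S₀ ⊗[Z₀] C) ⊗[S₀] N₀ ≃ₗ[C] C ⊗[Z₀] N₀ :=
    Algebra.IsPushout.cancelBaseChange Z₀ C S₀ (S₀ ⊗[Z₀] C) N₀
  exact Module.Flat.equiv_iff (E₁ ≪≫ₗ E₂ ≪≫ₗ E₃ ≪≫ₗ E₄.symm)

end Compare

section Colimit

variable {Z₀ : Type u} [CommRing Z₀] {ι : Type u} [Preorder ι] (G : ι → Type u)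
  [∀ i, CommRing (G i)] [∀ i, Algebra Z₀ (G i)] (g : ∀ i j, i ≤ j → G i →+* G j)
  (hg : ∀ i j (h : i ≤ j) (z : Z₀), g i j h (algebraMap Z₀ (G i) z) = algebraMap Z₀ (G j) z)
  (A : Type u) [CommRing A] [Algebra Z₀ A] [∀ i, Algebra (G i) A]
  [∀ i, IsScalarTower Z₀ (G i) A] (hcolim : FlatCA.IsDirectedColimitRing G g A)

include hcolim in
theorem exists_lift_finset (s : Finset A) :
    ∃ i, ∀ a ∈ s, ∃ y : G i, algebraMap (G i) A y = a := by
  classical
  obtain ⟨hdir, hne, hid, hcomp, hcompat, hsurj, hinj⟩ := hcolim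
  induction s using Finset.induction_on with
  | empty => exact ⟨hne.some, by simp⟩
  | insert a s _ ih =>
    obtain ⟨i₁, h₁⟩ := ih
    obtain ⟨i₂, y₂, hy₂⟩ := hsurj a
    obtain ⟨k, hk₁, hk₂⟩ := hdir.directed i₁ i₂
    refine ⟨k, fun b hb => ?_⟩
    rcases Finset.mem_insert.1 hb with rfl | hb
    · exact ⟨g i₂ k hk₂ y₂, (RingHom.congr_fun (hcompat i₂ k hk₂) y₂).trans hy₂⟩
    · obtain ⟨y, hy⟩ := h₁ b hb
      exact ⟨g i₁ k hk₁ y, (RingHom.congr_fun (hcompat i₁ k hk₁) y).trans hy⟩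

include hcolim in
theorem exists_kill_finset (i : ι) (s : Finset (G i))
    (hs : ∀ x ∈ s, algebraMap (G i) A x = 0) :
    ∃ j, ∃ h : i ≤ j, ∀ x ∈ s, g i j h x = 0 := by
  classical
  obtain ⟨hdir, hne, hid, hcomp, hcompat, hsurj, hinj⟩ := hcolim
  induction s using Finset.induction_on with
  | empty => exact ⟨i, le_rfl, by simp⟩
  | insert a s _ ih =>
    obtain ⟨j₁, h₁, hj₁⟩ := ih (fun x hx => hs x (Finset.mem_insert_of_mem hx))
    obtain ⟨j₂, h₂, hj₂⟩ := hinj i a (hs a (Finset.mem_insert_self a s))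
    obtain ⟨k, hk₁, hk₂⟩ := hdir.directed j₁ j₂
    refine ⟨k, h₁.trans hk₁, fun x hx => ?_⟩
    rcases Finset.mem_insert.1 hx with rfl | hx
    · have e := RingHom.congr_fun (hcomp i j₂ k h₂ hk₂) x
      refine e.symm.trans ?_
      show g j₂ k hk₂ (g i j₂ h₂ x) = 0
      rw [hj₂, map_zero]
    · have e := RingHom.congr_fun (hcomp i j₁ k h₁ hk₁) x
      refine e.symm.trans ?_
      show g j₁ k hk₁ (g i j₁ h₁ x) = 0
      rw [hj₁ x hx, map_zero]

include hg hcolim in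
/-- A finitely presented algebra mapping to a directed colimit factors through a stage. -/
theorem exists_algHom_of_colimit (T : Type u) [CommRing T] [Algebra Z₀ T]
    [Algebra.FinitePresentation Z₀ T] (τ : T →ₐ[Z₀] A) :
    ∃ (i : ι) (χ : T →ₐ[Z₀] G i), ∀ t, algebraMap (G i) A (χ t) = τ t := by
  classical
  obtain ⟨n, f, hfsurj, s, hs⟩ := Algebra.FinitePresentation.out (R := Z₀) (A := T)
  obtain ⟨i, hi⟩ := exists_lift_finset G g A hcolim
    (Finset.univ.image (fun k : Fin n => τ (f (MvPolynomial.X k))))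
  have hi' : ∀ k : Fin n, ∃ y : G i, algebraMap (G i) A y = τ (f (MvPolynomial.X k)) :=
    fun k => hi _ (Finset.mem_image_of_mem _ (Finset.mem_univ k))
  choose y hy using hi'
  have hF : ∀ p : MvPolynomial (Fin n) Z₀,
      algebraMap (G i) A (MvPolynomial.aeval y p) = τ (f p) := by
    intro p
    have h1 : (IsScalarTower.toAlgHom Z₀ (G i) A).comp (MvPolynomial.aeval y) = τ.comp f := by
      apply MvPolynomial.algHom_ext
      intro k
      simp [hy]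
    exact AlgHom.congr_fun h1 p
  have hker0 : ∀ p ∈ s, algebraMap (G i) A (MvPolynomial.aeval y p) = 0 := by
    intro p hp
    have hp' : p ∈ RingHom.ker f.toRingHom := by
      rw [← hs]
      exact Ideal.subset_span hp
    rw [hF]
    have : f p = 0 := hp'
    rw [this, map_zero]
  obtain ⟨j, hij, hj⟩ := exists_kill_finset G g A hcolim i (s.image (MvPolynomial.aeval y))
    (fun x hx => by
      obtain ⟨p, hp, rfl⟩ := Finset.mem_image.1 hx
      exact hker0 p hp)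
  let gA : G i →ₐ[Z₀] G j := { g i j hij with commutes' := hg i j hij }
  have hgA : ∀ x, gA x = g i j hij x := fun _ => rfl
  have hker : RingHom.ker f.toRingHom ≤ RingHom.ker (gA.comp (MvPolynomial.aeval y)).toRingHom := by
    rw [← hs, Ideal.span_le]
    intro p hp
    show gA (MvPolynomial.aeval y p) = 0
    rw [hgA]
    exact hj _ (Finset.mem_image_of_mem _ hp)
  refine ⟨j, AlgHom.liftOfSurjective f hfsurj (gA.comp (MvPolynomial.aeval y)) hker, ?_⟩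
  intro t
  obtain ⟨p, rfl⟩ := hfsurj t
  rw [AlgHom.liftOfSurjective_apply]
  show algebraMap (G j) A (g i j hij (MvPolynomial.aeval y p)) = _
  obtain ⟨hdir, hne, hid, hcomp, hcompat, hsurj, hinj⟩ := hcolim
  exact (RingHom.congr_fun (hcompat i j hij) _).trans (hF p)

end Colimit

end Groth.Agent.Lib.Helper54.FlatColim
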