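/-
helper54: openness of the flat locus on an intermediate ring.  For a tower `A → B → C` and a
`C`-module `M` whose `A`-flat locus in `Spec C` is open, the set of primes `q` of `B` such that the
localization `M_q` (of `M` as a `B`-module) is flat over `A` is open in `Spec B`: it is the
complement of the closure of the image of the non-flat locus.
-/
import Groth.Agent.Lib.Helper54.FlatOpenA

set_option autoImplicit false
set_option maxHeartbeats 800000

namespace Groth.Agent.Lib.Helper54.FlatOpenC

open TensorProduct Function
open Groth.Agent.Lib.Helper54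

universe u

theorem isOpen_of_tower {A B C : Type u} [CommRing A] [CommRing B] [CommRing C]
    [Algebra A B] [Algebra B C] [Algebra A C] [IsScalarTower A B C]
    (M : Type u) [AddCommGroup M] [Module C M] [Module B M] [Module A M]
    [IsScalarTower B C M] [IsScalarTower A C M] [IsScalarTower A B M]
    (hopen : IsOpen {r : PrimeSpectrum C |
      Module.Flat A (LocalizedModule r.asIdeal.primeCompl M)}) :
    IsOpen {q : PrimeSpectrum B | Module.Flat A (LocalizedModule q.asIdeal.primeCompl M)} := by
  classical
  obtain ⟨U, hU⟩ : ∃ U : Set (PrimeSpectrum C), U =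
      {r | Module.Flat A (LocalizedModule r.asIdeal.primeCompl M)} := ⟨_, rfl⟩
  rw [← hU] at hopen
  have hset : {q : PrimeSpectrum B | Module.Flat A (LocalizedModule q.asIdeal.primeCompl M)} =
      (PrimeSpectrum.zeroLocus ((Ideal.comap (algebraMap B C)
        (PrimeSpectrum.vanishingIdeal Uᶜ) : Ideal B) : Set B))ᶜ := by
    ext q
    rw [Set.mem_compl_iff, PrimeSpectrum.mem_zeroLocus, Set.mem_setOf_eq]
    constructor
    · intro hq hle
      have hdisj : Disjoint ((PrimeSpectrum.vanishingIdeal Uᶜ : Ideal C) : Set C)
          ((Submonoid.map (algebraMap B C) q.asIdeal.primeCompl : Submonoid C) : Set C) := by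
        rw [Set.disjoint_left]
        rintro c hcI ⟨s, hs, rfl⟩
        exact hs (hle (Ideal.mem_comap.2 hcI))
      obtain ⟨r, hr, hIr, hrS⟩ := Ideal.exists_le_prime_disjoint _ _ hdisj
      haveI := hr
      have hrU : (⟨r, hr⟩ : PrimeSpectrum C) ∉ U := by
        have h1 : (⟨r, hr⟩ : PrimeSpectrum C) ∈ PrimeSpectrum.zeroLocus
            ((PrimeSpectrum.vanishingIdeal Uᶜ : Ideal C) : Set C) :=
          (PrimeSpectrum.mem_zeroLocus _ _).2 hIr
        rw [PrimeSpectrum.zeroLocus_vanishingIdeal_eq_closure,
          hopen.isClosed_compl.closure_eq] at h1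
        exact h1
      apply hrU
      rw [hU]
      show Module.Flat A (LocalizedModule r.primeCompl M)
      apply FlatOpenA.flat_localized_of_forall_ker (N := M)
        (N' := LocalizedModule r.primeCompl M) C r.primeCompl
        (LocalizedModule.mkLinearMap r.primeCompl M)
      intro J z hz
      haveI := hq
      obtain ⟨w, hw, hwz⟩ := FlatOpenA.forall_ker_of_flat_localized (N := M)
        (N' := LocalizedModule q.asIdeal.primeCompl M) B q.asIdeal.primeCompl
        (LocalizedModule.mkLinearMap q.asIdeal.primeCompl M) J z hz
      refine ⟨algebraMap B C w, ?_, ?_⟩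
      · intro hmem
        exact Set.disjoint_left.1 hrS hmem ⟨w, hw, rfl⟩
      · rw [algebraMap_smul]
        exact hwz
    · intro hnle
      obtain ⟨s, hsI, hsq⟩ := Set.not_subset.1 hnle
      have hsI' : algebraMap B C s ∈ PrimeSpectrum.vanishingIdeal Uᶜ := Ideal.mem_comap.1 hsI
      apply FlatOpenA.flat_localized_of_forall_ker (N := M)
        (N' := LocalizedModule q.asIdeal.primeCompl M) B q.asIdeal.primeCompl
        (LocalizedModule.mkLinearMap q.asIdeal.primeCompl M)
      intro J z hz
      have hrad : algebraMap B C s ∈ ((Submodule.span C {z}).annihilator).radical := by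
        rw [Ideal.radical_eq_sInf, Ideal.mem_sInf]
        rintro r ⟨hle, hr⟩
        haveI := hr
        by_contra hsr
        have hrU : (⟨r, hr⟩ : PrimeSpectrum C) ∈ U := by
          by_contra hrU
          exact hsr ((PrimeSpectrum.mem_vanishingIdeal _ _).1 hsI' ⟨r, hr⟩ hrU)
        rw [hU] at hrU
        haveI : Module.Flat A (LocalizedModule r.primeCompl M) := hrU
        obtain ⟨c, hc, hcz⟩ := FlatOpenA.forall_ker_of_flat_localized (N := M)
          (N' := LocalizedModule r.primeCompl M) C r.primeCompl
          (LocalizedModule.mkLinearMap r.primeCompl M) J z hz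
        exact hc (hle ((Submodule.mem_annihilator_span_singleton _ _).2 hcz))
      obtain ⟨n, hn⟩ := hrad
      refine ⟨s ^ n, ?_, ?_⟩
      · exact fun h => hsq (q.isPrime.mem_of_pow_mem n h)
      · have h1 := (Submodule.mem_annihilator_span_singleton _ _).1 hn
        rw [← map_pow, algebraMap_smul] at h1
        exact h1
  rw [hset]
  exact (PrimeSpectrum.isClosed_zeroLocus _).isOpen_compl

end Groth.Agent.Lib.Helper54.FlatOpenC
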