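/-
helper54: algebra-only packaging of a flat model over a finitely generated subalgebra, as a
pushout square in the category of commutative rings.
-/
import Groth.Agent.Lib.Helper54.FlatPkg2
import Mathlib.Algebra.Category.Ring.Constructions

set_option autoImplicit false
set_option maxHeartbeats 1600000

namespace Groth.Agent.Lib.Helper54.FlatPkg3

open TensorProduct Function CategoryTheory
open Groth.Agent.Lib.Helper54
open Groth.Agent.Lib.Helper54.FlatStage4

attribute [local instance] Algebra.TensorProduct.rightAlgebra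

universe u

section Package

variable {R S : Type u} [CommRing R] [CommRing S] [Algebra R S]
variable (R₀ : Type u) [CommRing R₀] [Algebra R₀ R] (S₀ : Type u) [CommRing S₀] [Algebra R₀ S₀]
  (θ : S₀ ⊗[R₀] R ≃+* S) (hθ : ∀ r : R, θ (algebraMap R (S₀ ⊗[R₀] R) r) = algebraMap R S r)
  (T : Type u) [CommRing T] [Algebra R₀ T] [Algebra T R] [IsScalarTower R₀ T R]

include hθ in
/-- The stage `S₀ ⊗[R₀] T` over `T` gives back `S` over `R` by base change. -/
theorem package_alg :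
    ∃ b : S₀ ⊗[R₀] T →+* S,
      IsPushout (CommRingCat.ofHom (algebraMap T R))
        (CommRingCat.ofHom (algebraMap T (S₀ ⊗[R₀] T)))
        (CommRingCat.ofHom (algebraMap R S)) (CommRingCat.ofHom b) := by
  let φ : T →ₐ[R₀] R := IsScalarTower.toAlgHom R₀ T R
  let ψ : S₀ ⊗[R₀] T →+* S := θ.toRingHom.comp (SM S₀ φ).toRingHom
  letI algS'S : Algebra (S₀ ⊗[R₀] T) S := ψ.toAlgebra
  letI algTS : Algebra T S := ((algebraMap R S).comp (algebraMap T R)).toAlgebra
  letI algR₀S : Algebra R₀ S := ((algebraMap R S).comp (algebraMap R₀ R)).toAlgebra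
  letI algS₀S : Algebra S₀ S := (θ.toRingHom.comp (algebraMap S₀ (S₀ ⊗[R₀] R))).toAlgebra
  have hS₀ : ∀ σ : S₀, algebraMap S₀ S σ = θ (σ ⊗ₜ 1) := fun σ => by
    show θ (algebraMap S₀ (S₀ ⊗[R₀] R) σ) = _
    rw [Algebra.TensorProduct.algebraMap_apply, Algebra.algebraMap_self, RingHom.id_apply]
  have hone : ∀ r : R, θ ((1 : S₀) ⊗ₜ r) = algebraMap R S r := fun r => by
    rw [← hθ, Algebra.TensorProduct.right_algebraMap_apply]
  haveI tTRS : IsScalarTower T R S := IsScalarTower.of_algebraMap_eq (fun _ => rfl)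
  haveI tR₀RS : IsScalarTower R₀ R S := IsScalarTower.of_algebraMap_eq (fun _ => rfl)
  haveI tR₀S₀S : IsScalarTower R₀ S₀ S := IsScalarTower.of_algebraMap_eq (fun r => by
    show algebraMap R S (algebraMap R₀ R r) = algebraMap S₀ S (algebraMap R₀ S₀ r)
    rw [hS₀, ← hone]
    congr 1
    rw [Algebra.algebraMap_eq_smul_one r, Algebra.algebraMap_eq_smul_one r,
      TensorProduct.smul_tmul])
  haveI tTS'S : IsScalarTower T (S₀ ⊗[R₀] T) S := IsScalarTower.of_algebraMap_eq (fun t => by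
    show algebraMap R S (algebraMap T R t) = θ (SM S₀ φ (algebraMap T (S₀ ⊗[R₀] T) t))
    rw [Algebra.TensorProduct.right_algebraMap_apply, Algebra.TensorProduct.map_tmul, map_one,
      hone]
    rfl)
  haveI tR₀S'S : IsScalarTower R₀ (S₀ ⊗[R₀] T) S := IsScalarTower.of_algebraMap_eq (fun r => by
    show algebraMap R S (algebraMap R₀ R r) = θ (SM S₀ φ (algebraMap R₀ (S₀ ⊗[R₀] T) r))
    rw [SM_algebraMap, IsScalarTower.algebraMap_apply R₀ R (S₀ ⊗[R₀] R), hθ])
  haveI tS₀S'S : IsScalarTower S₀ (S₀ ⊗[R₀] T) S := IsScalarTower.of_algebraMap_eq (fun σ => by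
    show θ (algebraMap S₀ (S₀ ⊗[R₀] R) σ) = θ (SM S₀ φ (algebraMap S₀ (S₀ ⊗[R₀] T) σ))
    rw [AlgHom.commutes])
  have hbig : Algebra.IsPushout R₀ R S₀ S := by
    let e : S₀ ⊗[R₀] R ≃ₐ[R] S := AlgEquiv.ofRingEquiv (f := θ) hθ
    exact Algebra.IsPushout.of_equiv (R := R₀) (R' := R) (S := S₀) (S' := S₀ ⊗[R₀] R) e
      (RingHom.ext fun σ => rfl)
  have hpush : Algebra.IsPushout T R (S₀ ⊗[R₀] T) S :=
    (Algebra.IsPushout.comp_iff R₀ T S₀ (S' := S₀ ⊗[R₀] T) (T := R) (T' := S)).1 hbig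
  refine ⟨ψ, ?_⟩
  exact CommRingCat.isPushout_of_isPushout T R (S₀ ⊗[R₀] T) S

/-- Flatness of the stage algebra from flatness of the stage module with `M₀ = S₀`. -/
theorem flat_stage_self (h : Module.Flat T ((S₀ ⊗[R₀] T) ⊗[S₀] S₀)) :
    Module.Flat T (S₀ ⊗[R₀] T) :=
  Module.Flat.of_linearEquiv
    ((TensorProduct.AlgebraTensorModule.rid S₀ (S₀ ⊗[R₀] T) (S₀ ⊗[R₀] T)).restrictScalars T).symm

end Package

end Groth.Agent.Lib.Helper54.FlatPkg3
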