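/-
helper54: kernels of surjections onto finitely presented modules which are flat over the base of
a finitely presented algebra are finitely presented (EGA IV 11.3.9.1-type statement), part 1:
tensoring an exact sequence with flat cokernel, and Schanuel's trick.
-/
import Mathlib
import Groth.Agent.Lib.Helper54.LocalFlat

set_option autoImplicit false
set_option maxHeartbeats 1000000
set_option linter.style.haveILetI false

namespace Groth.Agent.Lib.Helper54.FpKer1

open TensorProduct Function

universe u

/-- Auxiliary form with a chosen flat cover `ρ : P → Q`. -/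
theorem rTensor_injective_of_flat_coker_aux {R M N C P Q : Type*} [CommRing R] [AddCommGroup M]
    [AddCommGroup N] [AddCommGroup C] [Module R M] [Module R N] [Module R C]
    [AddCommGroup P] [Module R P] [AddCommGroup Q] [Module R Q]
    (u : M →ₗ[R] N) (π : N →ₗ[R] C) (hu : Injective u) (hex : Exact u π) (hπ : Surjective π)
    [Module.Flat R C] [Module.Flat R P] (ρ : P →ₗ[R] Q) (hρ : Surjective ρ) :
    Injective (u.rTensor Q) := by
  have h1 : Injective ((LinearMap.ker ρ).subtype.lTensor C) :=
    Module.Flat.lTensor_preserves_injective_linearMap (M := C) (LinearMap.ker ρ).subtype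
      (Submodule.injective_subtype _)
  have h2 : Injective (u.rTensor P) :=
    Module.Flat.rTensor_preserves_injective_linearMap (M := P) u hu
  exact LocalFlat.rTensor_injective_of_lTensor_injective (K := LinearMap.ker ρ)
    (LinearMap.ker ρ).subtype ρ
    (LinearMap.exact_subtype_ker_map ρ) hρ u π h2 hex hπ h1

/-- If `0 → M → N → C → 0` is exact with `C` flat, then `M ⊗ Q → N ⊗ Q` is injective for every
module `Q`. -/
theorem rTensor_injective_of_flat_coker {R : Type*} {M N C : Type*} [CommRing R] [AddCommGroup M]
    [AddCommGroup N] [AddCommGroup C] [Module R M] [Module R N] [Module R C]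
    (u : M →ₗ[R] N) (π : N →ₗ[R] C) (hu : Injective u) (hex : Exact u π) (hπ : Surjective π)
    [Module.Flat R C] (Q : Type*) [AddCommGroup Q] [Module R Q] :
    Injective (u.rTensor Q) := by
  have hρ : Surjective (Finsupp.linearCombination R (id : Q → Q)) :=
    fun q => ⟨Finsupp.single q 1, by simp⟩
  exact rTensor_injective_of_flat_coker_aux u π hu hex hπ
    (Finsupp.linearCombination R (id : Q → Q)) hρ

/-- Left-tensor version. -/
theorem lTensor_injective_of_flat_coker {R : Type*} {M N C : Type*} [CommRing R] [AddCommGroup M]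
    [AddCommGroup N] [AddCommGroup C] [Module R M] [Module R N] [Module R C]
    (u : M →ₗ[R] N) (π : N →ₗ[R] C) (hu : Injective u) (hex : Exact u π) (hπ : Surjective π)
    [Module.Flat R C] (Q : Type*) [AddCommGroup Q] [Module R Q] :
    Injective (u.lTensor Q) := by
  have h := rTensor_injective_of_flat_coker u π hu hex hπ Q
  have h2 : u.lTensor Q = (TensorProduct.comm R N Q).toLinearMap ∘ₗ u.rTensor Q ∘ₗ
      (TensorProduct.comm R Q M).toLinearMap := by
    ext q m
    simp
  rw [h2]
  exact (TensorProduct.comm R N Q).injective.comp (h.comp (TensorProduct.comm R Q M).injective)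

theorem fp_of_equiv {B : Type*} [CommRing B] (M N : Type*) [AddCommGroup M] [AddCommGroup N]
    [Module B M] [Module B N] (e : M ≃ₗ[B] N) (h : Module.FinitePresentation B M) :
    Module.FinitePresentation B N := Module.FinitePresentation.of_equiv e

theorem fp_of_surjective {B : Type*} [CommRing B] (M N : Type*) [AddCommGroup M] [AddCommGroup N]
    [Module B M] [Module B N] (h : Module.FinitePresentation B M) (l : M →ₗ[B] N)
    (hl : Surjective l) (hk : (LinearMap.ker l).FG) :
    Module.FinitePresentation B N := Module.finitePresentation_of_surjective l hl hk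

/-- **Schanuel's trick.** If a module `N` admits one surjection from a finite projective module
with finitely presented kernel, then the kernel of any surjection from a finitely presented
module onto `N` is finitely presented. -/
theorem fp_ker_of_exists {B : Type*} [CommRing B] {M N F : Type*} [AddCommGroup M] [AddCommGroup N]
    [AddCommGroup F] [Module B M] [Module B N] [Module B F] [Module.FinitePresentation B M]
    [Module.Finite B F] [Module.Projective B F]
    (p' : F →ₗ[B] N) (hp' : Surjective p') [Module.FinitePresentation B (LinearMap.ker p')]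
    (p : M →ₗ[B] N) (hp : Surjective p) : Module.FinitePresentation B (LinearMap.ker p) := by
  classical
  -- the fibre product
  let d : (M × F) →ₗ[B] N := p.coprod (-p')
  have hd : ∀ x : M × F, d x = p x.1 - p' x.2 := fun x => by
    simp [d, LinearMap.coprod_apply, sub_eq_add_neg]
  let L : Submodule B (M × F) := LinearMap.ker d
  have hL : ∀ x : M × F, x ∈ L ↔ p x.1 = p' x.2 := fun x => by
    rw [LinearMap.mem_ker, hd, sub_eq_zero]
  let π₁ : L →ₗ[B] M := (LinearMap.fst B M F) ∘ₗ L.subtype
  let π₂ : L →ₗ[B] F := (LinearMap.snd B M F) ∘ₗ L.subtype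
  have hπ₁ : Surjective π₁ := fun x => by
    obtain ⟨y, hy⟩ := hp' (p x)
    exact ⟨⟨(x, y), (hL _).2 hy.symm⟩, rfl⟩
  have hπ₂ : Surjective π₂ := fun y => by
    obtain ⟨x, hx⟩ := hp (p' y)
    exact ⟨⟨(x, y), (hL _).2 hx⟩, rfl⟩
  -- `ker π₁ ≃ ker p'`
  let e₁ : LinearMap.ker p' ≃ₗ[B] LinearMap.ker π₁ :=
    { toFun := fun y => ⟨⟨(0, y.1), (hL _).2 (by rw [map_zero]; exact (LinearMap.mem_ker.1 y.2).symm)⟩,
        LinearMap.mem_ker.2 rfl⟩
      map_add' := fun y y' => by
        apply Subtype.ext; apply Subtype.ext
        simp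
      map_smul' := fun b y => by
        apply Subtype.ext; apply Subtype.ext
        simp
      invFun := fun z => ⟨z.1.1.2, by
        have h1 : p z.1.1.1 = p' z.1.1.2 := (hL _).1 z.1.2
        have h2 : z.1.1.1 = 0 := LinearMap.mem_ker.1 z.2
        rw [LinearMap.mem_ker, ← h1, h2, map_zero]⟩
      left_inv := fun y => rfl
      right_inv := fun z => by
        have h2 : z.1.1.1 = 0 := LinearMap.mem_ker.1 z.2
        apply Subtype.ext; apply Subtype.ext
        exact Prod.ext h2.symm rfl }
  haveI : Module.FinitePresentation B (LinearMap.ker π₁) :=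
    fp_of_equiv (LinearMap.ker p') (LinearMap.ker π₁) e₁ inferInstance
  haveI fpL : Module.FinitePresentation B L := Module.finitePresentation_of_ker π₁ hπ₁
  -- a section of `π₂`
  obtain ⟨s, hs⟩ := Module.projective_lifting_property π₂ LinearMap.id hπ₂
  have hs' : ∀ y, π₂ (s y) = y := fun y => LinearMap.congr_fun hs y
  -- the retraction onto `ker π₂`
  let r : L →ₗ[B] LinearMap.ker π₂ :=
    LinearMap.codRestrict (LinearMap.ker π₂) (LinearMap.id - s ∘ₗ π₂) (fun z => by
      rw [LinearMap.mem_ker]
      show π₂ (z - s (π₂ z)) = 0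
      rw [map_sub, hs' (π₂ z), sub_self])
  have hr : Surjective r := fun z => by
    refine ⟨z.1, Subtype.ext ?_⟩
    show z.1 - s (π₂ z.1) = z.1
    rw [LinearMap.mem_ker.1 z.2, map_zero, sub_zero]
  have hkr : (LinearMap.ker r).FG := by
    have h1 : LinearMap.ker r = LinearMap.range s := by
      ext z
      rw [LinearMap.mem_ker, LinearMap.mem_range]
      constructor
      · intro hz
        have h2 : z - s (π₂ z) = 0 := congrArg Subtype.val hz
        exact ⟨π₂ z, (sub_eq_zero.1 h2).symm⟩
      · rintro ⟨y, rfl⟩
        apply Subtype.ext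
        show s y - s (π₂ (s y)) = 0
        rw [hs', sub_self]
    rw [h1, LinearMap.range_eq_map]
    exact Module.Finite.fg_top.map s
  haveI : Module.FinitePresentation B (LinearMap.ker π₂) :=
    fp_of_surjective L (LinearMap.ker π₂) fpL r hr hkr
  -- `ker π₂ ≃ ker p`
  let e₂ : LinearMap.ker π₂ ≃ₗ[B] LinearMap.ker p :=
    { toFun := fun z => ⟨z.1.1.1, by
        have h1 : p z.1.1.1 = p' z.1.1.2 := (hL _).1 z.1.2
        have h2 : z.1.1.2 = 0 := LinearMap.mem_ker.1 z.2
        rw [LinearMap.mem_ker, h1, h2, map_zero]⟩
      map_add' := fun z z' => rfl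
      map_smul' := fun b z => rfl
      invFun := fun x => ⟨⟨(x.1, 0), (hL _).2 (by rw [map_zero]; exact LinearMap.mem_ker.1 x.2)⟩,
        LinearMap.mem_ker.2 rfl⟩
      left_inv := fun z => by
        have h2 : z.1.1.2 = 0 := LinearMap.mem_ker.1 z.2
        apply Subtype.ext; apply Subtype.ext
        exact Prod.ext rfl h2.symm
      right_inv := fun x => rfl }
  exact fp_of_equiv (LinearMap.ker π₂) (LinearMap.ker p) e₂ inferInstance

end Groth.Agent.Lib.Helper54.FpKer1
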