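/-
helper54: kernels of surjections onto finitely presented modules which are flat over the base of
a finitely presented algebra are finitely presented (EGA IV 11.3.9.1-type statement), part 2:
Noetherian descent (via S9456) produces one good presentation; Schanuel does the rest.
-/
import Mathlib
import Groth.Agent.Lib.Helper54.FpKer1
import Groth.Agent.S9456

set_option autoImplicit false
set_option maxHeartbeats 1000000
set_option linter.style.haveILetI false

namespace Groth.Agent.Lib.Helper54.FpKer2

open TensorProduct Function

universe u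

section Pushout

/-- In a pushout square `S = R ⊗[R₀] S₀`, the base change to `S` of an injective `S₀`-linear map
whose cokernel is flat over `R₀` is injective. -/
theorem baseChange_injective_of_flat_coker
    (R₀ R S₀ S : Type*) [CommRing R₀] [CommRing R] [CommRing S₀] [CommRing S]
    [Algebra R₀ R] [Algebra R₀ S₀] [Algebra R₀ S] [Algebra S₀ S] [Algebra R S]
    [IsScalarTower R₀ S₀ S] [IsScalarTower R₀ R S] [Algebra.IsPushout R₀ R S₀ S]
    {X Y C : Type*}
    [AddCommGroup X] [Module S₀ X] [Module R₀ X] [IsScalarTower R₀ S₀ X]
    [AddCommGroup Y] [Module S₀ Y] [Module R₀ Y] [IsScalarTower R₀ S₀ Y]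
    [AddCommGroup C] [Module S₀ C] [Module R₀ C] [IsScalarTower R₀ S₀ C]
    (g : X →ₗ[S₀] Y) (π : Y →ₗ[S₀] C) (hg : Injective g) (hex : Exact g π) (hπ : Surjective π)
    [Module.Flat R₀ C] : Injective (g.baseChange S) := by
  have h1 : Injective ((g.restrictScalars R₀).lTensor R) :=
    FpKer1.lTensor_injective_of_flat_coker (g.restrictScalars R₀) (π.restrictScalars R₀) hg hex hπ R
  have hnat : ∀ z : R ⊗[R₀] X, (Algebra.IsPushout.cancelBaseChange R₀ R S₀ S Y).symm
      ((g.restrictScalars R₀).lTensor R z) =
      g.baseChange S ((Algebra.IsPushout.cancelBaseChange R₀ R S₀ S X).symm z) := by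
    intro z
    induction z with
    | zero => simp
    | add x y hx hy => simp only [map_add, hx, hy]
    | tmul r x => simp
  intro a b hab
  obtain ⟨a', rfl⟩ := (Algebra.IsPushout.cancelBaseChange R₀ R S₀ S X).symm.surjective a
  obtain ⟨b', rfl⟩ := (Algebra.IsPushout.cancelBaseChange R₀ R S₀ S X).symm.surjective b
  rw [← hnat, ← hnat] at hab
  rw [h1 ((Algebra.IsPushout.cancelBaseChange R₀ R S₀ S Y).symm.injective hab)]

end Pushout

/-- A finitely presented module over a finitely presented algebra `A → B`, flat over `A`, admits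
a surjection from a finite projective `B`-module with finitely presented kernel. -/
theorem exists_cover (A B N : Type u) [CommRing A] [CommRing B] [Algebra A B]
    [Algebra.FinitePresentation A B] [AddCommGroup N] [Module B N] [Module A N]
    [IsScalarTower A B N] [Module.FinitePresentation B N] [Module.Flat A N] :
    ∃ (F : Type u) (_ : AddCommGroup F) (_ : Module B F) (_ : Module.Finite B F)
      (_ : Module.Projective B F) (p' : F →ₗ[B] N),
      Surjective p' ∧ Module.FinitePresentation B (LinearMap.ker p') := by
  obtain ⟨R₀, _, _, S₀, _, _, _, _, _, _, M₀, _, _, _, _, _, _, f, hR₀, hS₀, hM₀fin, hM₀flat,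
    hpush, hbc⟩ := Groth.Agent.S9456.result A B N
  haveI : IsNoetherianRing R₀ := Algebra.FiniteType.isNoetherianRing ℤ R₀
  haveI : IsNoetherianRing S₀ := Algebra.FiniteType.isNoetherianRing R₀ S₀
  obtain ⟨n, p₀, hp₀⟩ := Module.Finite.exists_fin' S₀ M₀
  haveI : Module.FinitePresentation S₀ (LinearMap.ker p₀) :=
    Module.finitePresentation_of_finite S₀ (LinearMap.ker p₀)
  -- the base-changed presentation
  have hj : Injective ((LinearMap.ker p₀).subtype.baseChange B) :=
    baseChange_injective_of_flat_coker R₀ A S₀ B (LinearMap.ker p₀).subtype p₀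
      (Submodule.injective_subtype _) (LinearMap.exact_subtype_ker_map p₀) hp₀
  have hex : Exact ((LinearMap.ker p₀).subtype.baseChange B) (p₀.baseChange B) :=
    lTensor_exact B (LinearMap.exact_subtype_ker_map p₀) hp₀
  have hsurj : Surjective (p₀.baseChange B) := LinearMap.lTensor_surjective B hp₀
  refine ⟨B ⊗[S₀] (Fin n → S₀), inferInstance, inferInstance, inferInstance, inferInstance,
    hbc.equiv.toLinearMap ∘ₗ p₀.baseChange B, hbc.equiv.surjective.comp hsurj, ?_⟩
  have hker : LinearMap.ker (hbc.equiv.toLinearMap ∘ₗ p₀.baseChange B) =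
      LinearMap.range ((LinearMap.ker p₀).subtype.baseChange B) := by
    rw [LinearMap.ker_comp_of_ker_eq_bot _ (LinearEquiv.ker hbc.equiv), ← LinearMap.exact_iff]
    exact hex
  haveI : Module.FinitePresentation B (B ⊗[S₀] (LinearMap.ker p₀)) :=
    _root_.FinitePresentation.of_isBaseChange (TensorProduct.mk S₀ B (LinearMap.ker p₀) 1)
      (TensorProduct.isBaseChange S₀ (LinearMap.ker p₀) B)
  rw [hker]
  exact FpKer1.fp_of_equiv (B ⊗[S₀] (LinearMap.ker p₀))
    (LinearMap.range ((LinearMap.ker p₀).subtype.baseChange B))
    (LinearEquiv.ofInjective _ hj) inferInstance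

/-- **EGA IV 11.3.9.1 (module form).** Let `A → B` be of finite presentation, `M`, `N` finitely
presented `B`-modules with `N` flat over `A`. The kernel of any surjection `M → N` is finitely
presented. -/
theorem fp_ker_of_flat (A B : Type u) [CommRing A] [CommRing B] [Algebra A B]
    [Algebra.FinitePresentation A B] (M N : Type u) [AddCommGroup M] [AddCommGroup N]
    [Module B M] [Module B N] [Module A N] [IsScalarTower A B N]
    [Module.FinitePresentation B M] [Module.FinitePresentation B N] [Module.Flat A N]
    (p : M →ₗ[B] N) (hp : Surjective p) : Module.FinitePresentation B (LinearMap.ker p) := by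
  obtain ⟨F, _, _, _, _, p', hp', hfp⟩ := exists_cover A B N
  exact FpKer1.fp_ker_of_exists p' hp' p hp

end Groth.Agent.Lib.Helper54.FpKer2
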