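/-
helper54: domination of maps can be tested on finitely presented modules (Stacks 059B-ish),
and the pushout characterization of domination.
-/
import Groth.Agent.Lib.Helper54.MLDom2

set_option autoImplicit false
set_option maxHeartbeats 400000
universe u

namespace Groth.Agent.Lib.Helper54

open TensorProduct Function

section Dom3

variable {R : Type u} [CommRing R]

/-- Every element `x ∈ ker (f ⊗ Q)` is the image of an element `x' ∈ ker (f ⊗ Q')` for a finitely
presented module `Q'` mapping to `Q`. -/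
theorem exists_finitePresentation_of_mem_ker_rTensor {M N Q : Type u} [AddCommGroup M]
    [Module R M] [AddCommGroup N] [Module R N] [AddCommGroup Q] [Module R Q] (f : M →ₗ[R] N)
    (x : M ⊗[R] Q) (hx : f.rTensor Q x = 0) :
    ∃ (Q' : Type u) (_ : AddCommGroup Q') (_ : Module R Q') (_ : Module.FinitePresentation R Q')
      (h : Q' →ₗ[R] Q) (x' : M ⊗[R] Q'), f.rTensor Q' x' = 0 ∧ h.lTensor M x' = x := by
  classical
  obtain ⟨n, m, q, rfl⟩ := TensorProduct.exists_sum_tmul_eq x
  let φ : (Fin n → R) →ₗ[R] Q := Fintype.linearCombination R q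
  let y : M ⊗[R] (Fin n → R) := ∑ k, m k ⊗ₜ[R] (Pi.single k (1 : R) : Fin n → R)
  have hy : φ.lTensor M y = ∑ k, m k ⊗ₜ[R] q k := by
    rw [map_sum]
    apply Finset.sum_congr rfl
    intro k _
    rw [LinearMap.lTensor_tmul]
    congr 1
    simp [φ, Fintype.linearCombination_apply]
  have hz : φ.rTensor N (TensorProduct.comm R N (Fin n → R) (f.rTensor (Fin n → R) y)) = 0 := by
    rw [comm_lTensor', ← rTensor_lTensor_comm, hy, hx, map_zero]
  obtain ⟨Q', _, _, _, φ', h, hfac, hφ'⟩ := exists_factor_of_rTensor_eq_zero φ _ hz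
  refine ⟨Q', inferInstance, inferInstance, inferInstance, h, φ'.lTensor M y, ?_, ?_⟩
  · rw [rTensor_lTensor_comm]
    rw [comm_lTensor'] at hφ'
    exact (LinearEquiv.map_eq_zero_iff _).1 hφ'
  · rw [← LinearMap.comp_apply, ← LinearMap.lTensor_comp, ← hfac, hy]

/-- Domination can be tested on finitely presented modules. -/
theorem dominates_iff_finitePresentation {M N M' : Type u}
    [AddCommGroup M] [Module R M] [AddCommGroup N] [Module R N] [AddCommGroup M'] [Module R M']
    (f : M →ₗ[R] N) (g : M →ₗ[R] M') :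
    (∀ (Q : Type u) [AddCommGroup Q] [Module R Q],
        LinearMap.ker (f.rTensor Q) ≤ LinearMap.ker (g.rTensor Q)) ↔
      ∀ (Q : Type u) [AddCommGroup Q] [Module R Q], Module.FinitePresentation R Q →
        LinearMap.ker (f.rTensor Q) ≤ LinearMap.ker (g.rTensor Q) := by
  constructor
  · intro h Q _ _ _
    exact h Q
  · intro h Q _ _ x hx
    obtain ⟨Q', _, _, hQ', t, x', hx', rfl⟩ :=
      exists_finitePresentation_of_mem_ker_rTensor f x (LinearMap.mem_ker.1 hx)
    have h1 : g.rTensor Q' x' = 0 := LinearMap.mem_ker.1 (h Q' hQ' (LinearMap.mem_ker.2 hx'))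
    rw [LinearMap.mem_ker, rTensor_lTensor_comm, h1, map_zero]

end Dom3

end Groth.Agent.Lib.Helper54
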