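import Mathlib
import Groth.Agent.Lib.Helper54.NFStep

/-!
# Converse direction of Hironaka's criterion, one step

`Q = K + (f)`, `f` in the Jacobson radical and regular on `A/K`.  If `gr_Q(M)` is flat over `A/Q`
and `f`-power torsion of `gr_K(M)` dies at (primes above) the associated primes of `A/Q`,
then `gr_K(M)` is flat over `A/K`.
-/

set_option autoImplicit false
set_option linter.style.haveILetI false
set_option maxHeartbeats 1000000

universe u

namespace Groth.Agent.Lib.Helper54.NFConv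

open Groth.Agent.Lib.Helper54.GFClosed1 Groth.Agent.Lib.Helper54.NFStep
open TensorProduct Function

section ker

variable {R : Type*} [CommRing R]
variable {K F M : Type*} [AddCommGroup K] [AddCommGroup F] [AddCommGroup M]
  [Module R K] [Module R F] [Module R M]

/-- The kernel of a surjection of flat modules is flat. -/
theorem flat_of_exact_of_flat_right (ι : K →ₗ[R] F) (π : F →ₗ[R] M)
    (hι : Injective ι) (hex : Exact ι π) (hπ : Surjective π) [Module.Flat R F] [Module.Flat R M] :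
    Module.Flat R K := by
  rw [Module.Flat.iff_rTensor_preserves_injective_linearMap]
  intro N' N _ _ _ _ g hg
  have h1 : Injective (ι.lTensor N') :=
    LinearMap.lTensor_injective_of_exact_of_flat π hπ ι hι hex N'
  have h2 : Injective (g.rTensor F) := Module.Flat.rTensor_preserves_injective_linearMap g hg
  have h3 : (ι.lTensor N) ∘ₗ (g.rTensor K) = (g.rTensor F) ∘ₗ (ι.lTensor N') := by
    apply TensorProduct.ext'
    intro a b
    simp
  have h4 : Injective ((ι.lTensor N) ∘ₗ (g.rTensor K)) := by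
    rw [h3, LinearMap.coe_comp]
    exact h2.comp h1
  rw [LinearMap.coe_comp] at h4
  exact Function.Injective.of_comp h4

end ker

section core

variable {A : Type u} [CommRing A] (K : Ideal A) (f : A) (M : Type u) [AddCommGroup M] [Module A M]

/-- one level of `reg_gr`. -/
theorem reg_gr1 (hreg : IsSMulRegular (A ⧸ K) (Ideal.Quotient.mk K f)) (n : ℕ)
    [Module.Flat (A ⧸ K) (Gr K M n)] (x : Gr K M n) (hx : f • x = 0) : x = 0 := by
  have h1 : IsSMulRegular (Gr K M n) (Ideal.Quotient.mk K f) :=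
    ((TensorProduct.lid (A ⧸ K) (Gr K M n)).isSMulRegular_congr _).mp
      (IsSMulRegular.rTensor (Gr K M n) hreg)
  apply h1
  change (Ideal.Quotient.mk K f) • x = (Ideal.Quotient.mk K f) • (0 : Gr K M n)
  rw [smul_zero]
  rw [← hx]
  rfl

/-- `f` is a nonzerodivisor on `M / K^j M` for `j ≤ k`, if it is so on `gr_K^j(M)` for `j < k`. -/
theorem reg_quot' (k : ℕ) (hreg : ∀ j < k, ∀ x : Gr K M j, f • x = 0 → x = 0) :
    ∀ j ≤ k, ∀ x : M, f • x ∈ (K ^ j • ⊤ : Submodule A M) → x ∈ (K ^ j • ⊤ : Submodule A M)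
  | 0, _, x, _ => by
    rw [pow_zero, Ideal.one_eq_top, Submodule.top_smul]
    trivial
  | j + 1, hj, x, hx => by
    have h1 : x ∈ (K ^ j • ⊤ : Submodule A M) :=
      reg_quot' k hreg j (by omega) x (pow_succ_smul_le K j hx)
    have h2 : (Submodule.Quotient.mk (⟨x, h1⟩ : ↥(K ^ j • ⊤ : Submodule A M)) : Gr K M j) = 0 := by
      apply hreg j (by omega)
      rw [← Submodule.Quotient.mk_smul, Submodule.Quotient.mk_eq_zero,
        Submodule.mem_smul_top_iff]
      rw [pow_succ', mul_smul] at hx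
      exact hx
    rw [Submodule.Quotient.mk_eq_zero, Submodule.mem_smul_top_iff] at h2
    rw [pow_succ', mul_smul]
    exact h2

theorem inclMap_injective' (k : ℕ)
    (hk : ∀ x : M, f • x ∈ (K ^ k • ⊤ : Submodule A M) → x ∈ (K ^ k • ⊤ : Submodule A M)) :
    Function.Injective (inclMap (M := M) K (K_le K f) k) := by
  rw [injective_iff_map_eq_zero]
  intro c hc
  obtain ⟨x, rfl⟩ := Submodule.Quotient.mk_surjective _ c
  rw [inclMap_mk, Submodule.Quotient.mk_eq_zero, Submodule.mem_smul_top_iff] at hc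
  rw [Submodule.Quotient.mk_eq_zero, Submodule.mem_smul_top_iff]
  simp only at hc
  rw [← mul_smul, ← pow_succ'] at hc
  obtain ⟨g, hg, w, hw, e⟩ := mem_pow_succ_smul K f M k _ hc
  have h1 : f • w ∈ (K ^ k • ⊤ : Submodule A M) := by
    have : f • w = (x : M) - g := by rw [e]; abel
    rw [this]
    exact Submodule.sub_mem _ x.2 (pow_succ_smul_le K k hg)
  have h2 := hk w h1
  rw [e]
  apply Submodule.add_mem
  · rw [pow_succ', mul_smul] at hg
    exact Submodule.smul_mono_left (K_le K f) hg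
  · exact Submodule.smul_mem_smul (f_mem K f) h2

theorem mulMap_quot_bijective (k : ℕ)
    (hk : ∀ x : M, f • x ∈ (K ^ (k + 1) • ⊤ : Submodule A M) →
      x ∈ (K ^ (k + 1) • ⊤ : Submodule A M)) :
    Function.Bijective
      ((LinearMap.range (inclMap (M := M) K (K_le K f) (k + 1))).mkQ ∘ₗ
        mulMap (M := M) f (f_mem K f) k) := by
  constructor
  · rw [injective_iff_map_eq_zero]
    intro y hy
    obtain ⟨x, rfl⟩ := Submodule.Quotient.mk_surjective _ y
    rw [LinearMap.comp_apply, Submodule.mkQ_apply, Submodule.Quotient.mk_eq_zero] at hy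
    obtain ⟨c, hc⟩ := hy
    obtain ⟨u, rfl⟩ := Submodule.Quotient.mk_surjective _ c
    rw [inclMap_mk, mulMap_mk, Submodule.Quotient.eq, Submodule.mem_smul_top_iff] at hc
    simp only [AddSubgroupClass.coe_sub] at hc
    rw [← mul_smul, ← pow_succ'] at hc
    obtain ⟨g, hg, w, hw, e⟩ := mem_pow_succ_smul K f M (k + 1) _ hc
    have h1 : f • ((x : M) + w) ∈ (K ^ (k + 1) • ⊤ : Submodule A M) := by
      have : f • ((x : M) + w) = (u : M) - g := by
        rw [smul_add, eq_sub_iff_add_eq]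
        rw [sub_eq_iff_eq_add] at e
        rw [e]
        abel
      rw [this]
      exact Submodule.sub_mem _ u.2 (pow_succ_smul_le K (k + 1) hg)
    have h2 := pow_smul_le_sup K f M (k + 1) (hk _ h1)
    rw [Submodule.Quotient.mk_eq_zero, Submodule.mem_smul_top_iff, ← mul_smul, ← pow_succ']
    have : (x : M) = ((x : M) + w) - w := by abel
    rw [this]
    exact Submodule.sub_mem _ h2 hw
  · intro y
    obtain ⟨y, rfl⟩ := Submodule.Quotient.mk_surjective _ y
    obtain ⟨c0, z, rfl⟩ := exists_decomp K f M k y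
    refine ⟨z, ?_⟩
    rw [LinearMap.comp_apply, Submodule.mkQ_apply, Submodule.Quotient.mk_add]
    have : (Submodule.Quotient.mk (inclMap (M := M) K (K_le K f) (k + 1) c0) :
        Gr (K ⊔ Ideal.span {f}) M (k + 1) ⧸
          LinearMap.range (inclMap (M := M) K (K_le K f) (k + 1))) = 0 :=
      (Submodule.Quotient.mk_eq_zero _).2 ⟨c0, rfl⟩
    rw [this, zero_add]

/-- `K^k M / Q K^k M` is flat over `A/Q`, if the `gr_Q` are flat and `f` is regular on `M/K^k M`. -/
theorem flat_C (hflatQ : ∀ k, Module.Flat (A ⧸ (K ⊔ Ideal.span {f})) (Gr (K ⊔ Ideal.span {f}) M k))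
    (k : ℕ)
    (hk : ∀ x : M, f • x ∈ (K ^ k • ⊤ : Submodule A M) → x ∈ (K ^ k • ⊤ : Submodule A M)) :
    Module.Flat (A ⧸ (K ⊔ Ideal.span {f}))
      (↥(K ^ k • ⊤ : Submodule A M) ⧸
        ((K ⊔ Ideal.span {f}) • ⊤ : Submodule A ↥(K ^ k • ⊤ : Submodule A M))) := by
  have hs : Function.Surjective (algebraMap A (A ⧸ (K ⊔ Ideal.span {f}))) :=
    Ideal.Quotient.mk_surjective
  cases k with
  | zero =>
    haveI := hflatQ 0
    let e0 := LinearEquiv.ofBijective (inclMap (M := M) K (K_le K f) 0)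
      (inclMap_zero_bijective K f M)
    exact Module.Flat.of_linearEquiv (e0.extendScalarsOfSurjective hs)
  | succ k =>
    haveI := hflatQ k
    haveI := hflatQ (k + 1)
    let ι' := (inclMap (M := M) K (K_le K f) (k + 1)).extendScalarsOfSurjective hs
    let π' := (LinearMap.range ι').mkQ
    let c : Gr (K ⊔ Ideal.span {f}) M k →ₗ[A ⧸ (K ⊔ Ideal.span {f})]
        (Gr (K ⊔ Ideal.span {f}) M (k + 1) ⧸ LinearMap.range ι') :=
      π' ∘ₗ ((mulMap (M := M) f (f_mem K f) k).extendScalarsOfSurjective hs)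
    have hc : Function.Bijective c := mulMap_quot_bijective K f M k hk
    haveI : Module.Flat (A ⧸ (K ⊔ Ideal.span {f}))
        (Gr (K ⊔ Ideal.span {f}) M (k + 1) ⧸ LinearMap.range ι') :=
      Module.Flat.of_linearEquiv (LinearEquiv.ofBijective c hc).symm
    refine flat_of_exact_of_flat_right ι' π' (inclMap_injective' K f M (k + 1) hk) ?_
      (Submodule.Quotient.mk_surjective _)
    intro y
    constructor
    · intro hy
      exact (Submodule.Quotient.mk_eq_zero _).1 hy
    · intro hy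
      exact (Submodule.Quotient.mk_eq_zero _).2 hy

open Pointwise in
/-- `f` is regular on `gr_K^k(M)`: Krull intersection + prime avoidance on `Ass(A/Q)`. -/
theorem reg_gr_of_local [IsNoetherianRing A] [Module.Finite A M]
    (hrad : f ∈ (⊥ : Ideal A).jacobson) (k : ℕ)
    (hk : ∀ x : M, f • x ∈ (K ^ k • ⊤ : Submodule A M) → x ∈ (K ^ k • ⊤ : Submodule A M))
    (hflatQk : Module.Flat (A ⧸ (K ⊔ Ideal.span {f})) (Gr (K ⊔ Ideal.span {f}) M k))
    (hloc : ∀ q ∈ associatedPrimes A (A ⧸ (K ⊔ Ideal.span {f})), ∃ q' : Ideal A, q ≤ q' ∧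
      ∀ (z : Gr K M k) (i : ℕ), f ^ i • z = 0 → ∃ s : A, s ∉ q' ∧ s • z = 0) :
    ∀ z : Gr K M k, f • z = 0 → z = 0 := by
  intro z hz
  by_contra hne
  have hkr := Ideal.iInf_pow_smul_eq_bot_of_le_jacobson (M := Gr K M k) (Ideal.span {f})
    (by rw [Ideal.span_le, Set.singleton_subset_iff]; exact hrad)
  have hex : ∃ i, z ∉ ((Ideal.span {f}) ^ i • ⊤ : Submodule A (Gr K M k)) := by
    by_contra hall
    push Not at hall
    have h1 : z ∈ (⨅ i : ℕ, (Ideal.span {f}) ^ i • ⊤ : Submodule A (Gr K M k)) :=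
      (Submodule.mem_iInf _).2 hall
    rw [hkr] at h1
    exact hne ((Submodule.mem_bot A).1 h1)
  classical
  have hi := Nat.find_spec hex
  have hi0 : Nat.find hex ≠ 0 := by
    intro h0
    rw [h0, pow_zero, Ideal.one_eq_top, Submodule.top_smul] at hi
    exact hi trivial
  obtain ⟨j, hj⟩ := Nat.exists_eq_succ_of_ne_zero hi0
  have hzj : z ∈ ((Ideal.span {f}) ^ j • ⊤ : Submodule A (Gr K M k)) := by
    by_contra h
    exact Nat.find_min hex (by omega : j < Nat.find hex) h
  rw [Ideal.span_singleton_pow, Submodule.ideal_span_singleton_smul] at hzj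
  obtain ⟨y, -, rfl⟩ := (Submodule.mem_smul_pointwise_iff_exists _ _ _).1 hzj
  have hy : y ∉ (Ideal.span {f} • ⊤ : Submodule A (Gr K M k)) := by
    intro hy
    apply hi
    rw [hj, Nat.succ_eq_add_one, pow_succ, mul_smul]
    exact Submodule.smul_mem_smul (Ideal.pow_mem_pow (Ideal.mem_span_singleton_self f) j) hy
  have hfy : f ^ (j + 1) • y = 0 := by
    rw [pow_succ', mul_smul]
    exact hz
  obtain ⟨y', rfl⟩ := Submodule.Quotient.mk_surjective _ y
  -- the class of `y'` in `K^k M / Q K^k M`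
  have hc : (Submodule.Quotient.mk y' : ↥(K ^ k • ⊤ : Submodule A M) ⧸
      ((K ⊔ Ideal.span {f}) • ⊤ : Submodule A ↥(K ^ k • ⊤ : Submodule A M))) ≠ 0 := by
    intro h0
    rw [Submodule.Quotient.mk_eq_zero, Submodule.sup_smul] at h0
    obtain ⟨a, ha, b, hb, hab⟩ := Submodule.mem_sup.1 h0
    apply hy
    have h1 : (Submodule.Quotient.mk y' : Gr K M k) = Submodule.Quotient.mk b := by
      rw [← hab, Submodule.Quotient.mk_add, (Submodule.Quotient.mk_eq_zero _).2 ha, zero_add]
    rw [h1]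
    have h2 : (Ideal.span {f} • ⊤ : Submodule A (Gr K M k)) =
        (Ideal.span {f} • ⊤ : Submodule A ↥(K ^ k • ⊤ : Submodule A M)).map
          (Submodule.mkQ _) := by
      rw [Submodule.map_smul'', Submodule.map_top, Submodule.range_mkQ]
    rw [h2]
    exact Submodule.mem_map_of_mem hb
  set x := inclMap (M := M) K (K_le K f) k (Submodule.Quotient.mk y') with hx
  have hx0 : x ≠ 0 := by
    intro h0
    apply hc
    apply inclMap_injective' K f M k hk
    rw [map_zero]
    exact h0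
  -- annihilator of `x` consists of zero divisors of `A/Q`
  let I : Ideal A := LinearMap.ker (LinearMap.toSpanSingleton A _ x)
  have hI : ∀ a : A, a ∈ I ↔ a • x = 0 := fun a => by
    simp only [I, LinearMap.mem_ker, LinearMap.toSpanSingleton_apply]
  have hsub : (I : Set A) ⊆ ⋃ q ∈ associatedPrimes A (A ⧸ (K ⊔ Ideal.span {f})), (q : Set A) := by
    intro a ha
    rw [SetLike.mem_coe, hI] at ha
    rw [biUnion_associatedPrimes_eq_zero_divisors]
    by_contra hcon
    simp only [Set.mem_ofPred_eq, not_exists, not_and] at hcon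
    have hreg : IsSMulRegular (A ⧸ (K ⊔ Ideal.span {f})) (Ideal.Quotient.mk (K ⊔ Ideal.span {f}) a) := by
      intro b₁ b₂ h
      by_contra hb
      refine hcon (b₁ - b₂) (sub_ne_zero.2 hb) ?_
      rw [smul_sub, sub_eq_zero]
      exact h
    have h1 : IsSMulRegular (Gr (K ⊔ Ideal.span {f}) M k)
        (Ideal.Quotient.mk (K ⊔ Ideal.span {f}) a) :=
      ((TensorProduct.lid (A ⧸ (K ⊔ Ideal.span {f})) (Gr (K ⊔ Ideal.span {f}) M k)).isSMulRegular_congr _).mp
        (IsSMulRegular.rTensor (Gr (K ⊔ Ideal.span {f}) M k) hreg)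
    apply hx0
    apply h1
    change (Ideal.Quotient.mk (K ⊔ Ideal.span {f}) a) • x =
      (Ideal.Quotient.mk (K ⊔ Ideal.span {f}) a) • (0 : Gr (K ⊔ Ideal.span {f}) M k)
    rw [smul_zero, ← ha]
    rfl
  have hfin := associatedPrimes.finite A (A ⧸ (K ⊔ Ideal.span {f}))
  have hsub' : (I : Set A) ⊆ ⋃ q ∈ (↑hfin.toFinset : Set (Ideal A)), ((id q : Ideal A) : Set A) := by
    simpa using hsub
  obtain ⟨q, hq, hIq⟩ := (Ideal.subset_union_prime (f := id) (⊥ : Ideal A) ⊥
    (fun q hq _ _ => by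
      rw [Set.Finite.mem_toFinset] at hq
      exact hq.isPrime)).1 hsub'
  rw [Set.Finite.mem_toFinset] at hq
  obtain ⟨q', hqq', hq'⟩ := hloc q hq
  obtain ⟨s, hs, hsz⟩ := hq' _ (j + 1) hfy
  apply hs
  apply hqq'
  apply hIq
  rw [hI, hx, ← map_smul, ← Submodule.Quotient.mk_smul]
  rw [← Submodule.Quotient.mk_smul, Submodule.Quotient.mk_eq_zero] at hsz
  have : (Submodule.Quotient.mk (s • y') : ↥(K ^ k • ⊤ : Submodule A M) ⧸
      ((K ⊔ Ideal.span {f}) • ⊤ : Submodule A ↥(K ^ k • ⊤ : Submodule A M))) = 0 := by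
    rw [Submodule.Quotient.mk_eq_zero]
    exact Submodule.smul_mono_left (K_le K f) hsz
  rw [this, map_zero]

/-- **Core lemma (one step of the converse).** -/
theorem core [IsNoetherianRing A] [Module.Finite A M]
    (hrad : f ∈ (⊥ : Ideal A).jacobson)
    (hregK : IsSMulRegular (A ⧸ K) (Ideal.Quotient.mk K f))
    (hflatQ : ∀ k, Module.Flat (A ⧸ (K ⊔ Ideal.span {f})) (Gr (K ⊔ Ideal.span {f}) M k))
    (hloc : ∀ q ∈ associatedPrimes A (A ⧸ (K ⊔ Ideal.span {f})), ∃ q' : Ideal A, q ≤ q' ∧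
      ∀ (k : ℕ) (z : Gr K M k) (i : ℕ), f ^ i • z = 0 → ∃ s : A, s ∉ q' ∧ s • z = 0) :
    ∀ k, Module.Flat (A ⧸ K) (Gr K M k) := by
  intro k
  induction k using Nat.strong_induction_on with
  | _ k ih =>
    have hreg' : ∀ j < k, ∀ x : Gr K M j, f • x = 0 → x = 0 := fun j hj x hx => by
      haveI := ih j hj
      exact reg_gr1 K f M hregK j x hx
    have hk := reg_quot' K f M k hreg' k le_rfl
    have hC := flat_C K f M hflatQ k hk
    have hregN : IsSMulRegular (Gr K M k) f := by
      intro z₁ z₂ h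
      have h0 : f • (z₁ - z₂) = 0 := by rw [smul_sub, sub_eq_zero]; exact h
      have := reg_gr_of_local K f M hrad k hk (hflatQ k)
        (fun q hq => by
          obtain ⟨q', h1, h2⟩ := hloc q hq
          exact ⟨q', h1, h2 k⟩) _ h0
      exact sub_eq_zero.1 this
    exact Groth.Agent.Lib.Helper15.RegFlat.flat_quot_of_isSMulRegular
      (X := ↥(K ^ k • ⊤ : Submodule A M)) K f hrad hregN hC

end core

section ass

variable {A : Type u} [CommRing A] [IsNoetherianRing A] (K : Ideal A) (f : A)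

/-- Associated primes of `A/K` are contained in associated primes of `A/(K+(f))` when `f` is
`A/K`-regular and in the Jacobson radical. -/
theorem exists_le_mem_associatedPrimes (hrad : f ∈ (⊥ : Ideal A).jacobson)
    (hreg : ∀ a : A, f * a ∈ K → a ∈ K)
    (q₀ : Ideal A) (hq₀ : q₀ ∈ associatedPrimes A (A ⧸ K)) :
    ∃ q ∈ associatedPrimes A (A ⧸ (K ⊔ Ideal.span {f})), q₀ ≤ q := by
  obtain ⟨hprime, x₀, hx₀⟩ := isAssociatedPrime_iff.1 hq₀
  obtain ⟨a₀, rfl⟩ := Ideal.Quotient.mk_surjective x₀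
  have hmem : ∀ a : A, a ∈ q₀ ↔ a * a₀ ∈ K := fun a => by
    rw [hx₀, Submodule.mem_colon_singleton, Submodule.mem_bot]
    rw [← Ideal.Quotient.eq_zero_iff_mem, map_mul]
    rfl
  have ha₀ : a₀ ∉ K := by
    intro h
    apply hprime.ne_top
    rw [Ideal.eq_top_iff_one, hmem, one_mul]
    exact h
  -- the colon ideal `J = (K : q₀)`
  let J : Ideal A :=
    { carrier := {b | ∀ a ∈ q₀, a * b ∈ K}
      add_mem' := fun {b c} hb hc a ha => by
        rw [mul_add]
        exact K.add_mem (hb a ha) (hc a ha)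
      zero_mem' := fun a _ => by rw [mul_zero]; exact K.zero_mem
      smul_mem' := fun r b hb a ha => by
        rw [smul_eq_mul, mul_left_comm]
        exact K.mul_mem_left r (hb a ha) }
  have hJ : ∀ b, b ∈ J ↔ ∀ a ∈ q₀, a * b ∈ K := fun b => Iff.rfl
  have ha₀J : a₀ ∈ J := fun a ha => (hmem a).1 ha
  have hex : ∃ b ∈ J, b ∉ K ⊔ Ideal.span {f} := by
    by_contra hcon
    push Not at hcon
    have hJQ : J ≤ K ⊔ Ideal.span {f} := fun b hb => hcon b hb
    have hJK : J ≤ K := by
      refine Submodule.le_of_le_smul_of_le_jacobson_bot (I := Ideal.span {f}) (N := K) (N' := J)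
        (IsNoetherian.noetherian J)
        (by rw [Ideal.span_le, Set.singleton_subset_iff]; exact hrad) ?_
      intro b hb
      obtain ⟨κ, hκ, c', hc', hbc⟩ := Submodule.mem_sup.1 (hJQ hb)
      obtain ⟨c, rfl⟩ := Ideal.mem_span_singleton'.1 hc'
      have hcJ : c ∈ J := by
        intro a ha
        apply hreg
        have h1 : f * (a * c) = a * b - a * κ := by rw [← hbc]; ring
        rw [h1]
        exact K.sub_mem (hb a ha) (K.mul_mem_left a hκ)
      rw [← hbc]
      refine Submodule.add_mem_sup hκ ?_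
      rw [mul_comm, ← smul_eq_mul]
      exact Submodule.smul_mem_smul (Ideal.mem_span_singleton_self f) hcJ
    exact ha₀ (hJK ha₀J)
  obtain ⟨b, hbJ, hbQ⟩ := hex
  have hb0 : (Ideal.Quotient.mk (K ⊔ Ideal.span {f}) b : A ⧸ (K ⊔ Ideal.span {f})) ≠ 0 := by
    rwa [Ne, Ideal.Quotient.eq_zero_iff_mem]
  obtain ⟨q, hq, hle⟩ := exists_le_isAssociatedPrime_of_isNoetherianRing A _ hb0
  refine ⟨q, hq, fun a ha => hle ?_⟩
  rw [Submodule.mem_colon_singleton, Submodule.mem_bot]
  change (Ideal.Quotient.mk (K ⊔ Ideal.span {f}) (a * b)) = 0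
  rw [Ideal.Quotient.eq_zero_iff_mem]
  exact (le_sup_left : K ≤ K ⊔ Ideal.span {f}) (hbJ a ha)

end ass

end Groth.Agent.Lib.Helper54.NFConv
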