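import Mathlib
import Groth.Agent.Lib.Helper54.NFStep

/-!
# Graded pieces commute with localisation of the module (over the base ring `A`)
-/

set_option autoImplicit false
set_option linter.style.haveILetI false
set_option maxHeartbeats 1000000

universe u

namespace Groth.Agent.Lib.Helper54.NFLoc

open Groth.Agent.Lib.Helper54.GFClosed1

section quot

variable {A : Type*} [CommRing A] (S : Submonoid A)
  {N N' : Type*} [AddCommGroup N] [AddCommGroup N'] [Module A N] [Module A N']
  (g : N →ₗ[A] N') [IsLocalizedModule S g]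

/-- Quotients by a submodule and its localisation: the induced map is a localisation. -/
theorem isLocalizedModule_mapQ (P : Submodule A N) (P' : Submodule A N')
    (hP : P' = P.localized₀ S g) (h : P ≤ P'.comap g) :
    IsLocalizedModule S (Submodule.mapQ P P' g h) where
  map_units s := by
    rw [Module.End.isUnit_iff]
    constructor
    · rw [injective_iff_map_eq_zero]
      intro x hx
      obtain ⟨n', rfl⟩ := Submodule.Quotient.mk_surjective _ x
      rw [Module.algebraMap_end_apply, ← Submodule.Quotient.mk_smul,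
        Submodule.Quotient.mk_eq_zero, hP] at hx
      obtain ⟨p, hp, t, ht⟩ := hx
      rw [Submodule.Quotient.mk_eq_zero, hP]
      refine ⟨p, hp, t * s, ?_⟩
      rw [IsLocalizedModule.mk'_eq_iff] at ht ⊢
      rw [ht, Submonoid.smul_def, Submonoid.smul_def, Submonoid.coe_mul, mul_smul]
    · intro y
      obtain ⟨n', rfl⟩ := Submodule.Quotient.mk_surjective _ y
      have hu := IsLocalizedModule.map_units g s
      rw [Module.End.isUnit_iff] at hu
      obtain ⟨n'', hn''⟩ := hu.2 n'
      refine ⟨Submodule.Quotient.mk n'', ?_⟩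
      rw [Module.algebraMap_end_apply] at hn'' ⊢
      rw [← Submodule.Quotient.mk_smul, hn'']
  surj y := by
    obtain ⟨n', rfl⟩ := Submodule.Quotient.mk_surjective _ y
    obtain ⟨⟨n, t⟩, hnt⟩ := IsLocalizedModule.surj S g n'
    refine ⟨⟨Submodule.Quotient.mk n, t⟩, ?_⟩
    simp only at hnt ⊢
    rw [Submodule.mapQ_apply, ← hnt]
    rfl
  exists_of_eq {x₁ x₂} e := by
    obtain ⟨n₁, rfl⟩ := Submodule.Quotient.mk_surjective _ x₁
    obtain ⟨n₂, rfl⟩ := Submodule.Quotient.mk_surjective _ x₂
    rw [Submodule.mapQ_apply, Submodule.mapQ_apply, Submodule.Quotient.eq, hP, ← map_sub] at e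
    obtain ⟨p, hp, t, ht⟩ := e
    rw [IsLocalizedModule.mk'_eq_iff, Submonoid.smul_def, ← map_smul] at ht
    obtain ⟨u, hu⟩ := IsLocalizedModule.exists_of_eq (S := S) ht
    refine ⟨u * t, ?_⟩
    rw [← Submodule.Quotient.mk_smul, ← Submodule.Quotient.mk_smul, Submodule.Quotient.eq,
      ← smul_sub]
    have : (u * t) • (n₁ - n₂) = u • p := by
      rw [mul_smul, hu]
      rfl
    rw [this]
    exact P.smul_mem _ hp

end quot

section gr

variable {A : Type*} [CommRing A] (S : Submonoid A)
  {M M' : Type*} [AddCommGroup M] [AddCommGroup M'] [Module A M] [Module A M']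
  (g : M →ₗ[A] M') [IsLocalizedModule S g] (I : Ideal A) (k : ℕ)

theorem localized₀_pow_smul_top :
    (I ^ k • ⊤ : Submodule A M).localized₀ S g = (I ^ k • ⊤ : Submodule A M') := by
  rw [Submodule.localized₀_smul, Submodule.localized₀_top]

/-- `I^k M → I^k M'`. -/
noncomputable def powMap : ↥(I ^ k • ⊤ : Submodule A M) →ₗ[A] ↥(I ^ k • ⊤ : Submodule A M') :=
  (LinearEquiv.ofEq _ _ (localized₀_pow_smul_top S g I k)).toLinearMap ∘ₗ
    Submodule.toLocalized₀ S g (I ^ k • ⊤ : Submodule A M)

instance : IsLocalizedModule S (powMap S g I k) := by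
  unfold powMap
  exact IsLocalizedModule.of_linearEquiv _ _ _

theorem powMap_coe (x : ↥(I ^ k • ⊤ : Submodule A M)) :
    ((powMap S g I k x : ↥(I ^ k • ⊤ : Submodule A M')) : M') = g (x : M) := rfl

theorem smul_top_eq_localized₀ :
    (I • ⊤ : Submodule A ↥(I ^ k • ⊤ : Submodule A M')) =
      (I • ⊤ : Submodule A ↥(I ^ k • ⊤ : Submodule A M)).localized₀ S (powMap S g I k) := by
  rw [Submodule.localized₀_smul, Submodule.localized₀_top]

/-- `gr_I^k(M) → gr_I^k(M')`. -/
noncomputable def grLoc : Gr I M k →ₗ[A] Gr I M' k :=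
  Submodule.mapQ _ _ (powMap S g I k) (by
    rw [← Submodule.map_le_iff_le_comap, smul_top_eq_localized₀ S g I k]
    exact Submodule.map_le_localized₀ S (powMap S g I k) _)

instance : IsLocalizedModule S (grLoc S g I k) := by
  unfold grLoc
  exact isLocalizedModule_mapQ S (powMap S g I k) _ _ (smul_top_eq_localized₀ S g I k) _

end gr

end Groth.Agent.Lib.Helper54.NFLoc
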