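import Mathlib
import Groth.Agent.Lib.Helper54.NFConv
import Groth.Agent.Lib.Helper54.NFLoc

/-!
# Converse direction of Hironaka's criterion, several steps
-/

set_option autoImplicit false
set_option linter.style.haveILetI false
set_option maxHeartbeats 1000000

universe u

namespace Groth.Agent.Lib.Helper54.NFConv2

open Groth.Agent.Lib.Helper54.GFClosed1 Groth.Agent.Lib.Helper54.NFStep
  Groth.Agent.Lib.Helper54.NFConv Groth.Agent.Lib.Helper54.NFLoc
open RingTheory.Sequence

variable {A : Type u} [CommRing A]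

/-- `(A/R)/(gs)(A/R) ≅ A/(R + (gs))`. -/
noncomputable def quotOfListEquiv (R : Ideal A) (gs : List A) :
    ((A ⧸ R) ⧸ (Ideal.ofList gs • ⊤ : Submodule A (A ⧸ R))) ≃ₗ[A] A ⧸ (R ⊔ Ideal.ofList gs) :=
  Submodule.quotEquivOfEq (Ideal.ofList gs • (⊤ : Submodule A (A ⧸ R)))
    (Submodule.map (Submodule.mkQ R) (Ideal.ofList gs : Submodule A A)) (by
    have : (Ideal.ofList gs : Submodule A A) = Ideal.ofList gs • (⊤ : Submodule A A) := by
      rw [smul_eq_mul, Ideal.mul_top]
    conv_rhs => rw [this]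
    rw [Submodule.map_smul'', Submodule.map_top, Submodule.range_mkQ]) ≪≫ₗ
  Submodule.quotientQuotientEquivQuotientSup R (Ideal.ofList gs)

theorem isSMulRegular_quot_of_append (R : Ideal A) (gs : List A) (f : A)
    (h : IsWeaklyRegular (A ⧸ R) (gs ++ [f])) :
    IsSMulRegular (A ⧸ (R ⊔ Ideal.ofList gs)) (Ideal.Quotient.mk (R ⊔ Ideal.ofList gs) f) := by
  have h1 := ((isWeaklyRegular_append_iff (A ⧸ R) gs [f]).1 h).2
  have h2 := ((quotOfListEquiv R gs).isWeaklyRegular_congr [f]).1 h1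
  have h3 := ((isWeaklyRegular_cons_iff _ f []).1 h2).1
  exact (isSMulRegular_map (M := A ⧸ (R ⊔ Ideal.ofList gs)) (a := f)
    (Ideal.Quotient.mk (R ⊔ Ideal.ofList gs)) (fun m => rfl)).2 h3

variable (M : Type u) [AddCommGroup M] [Module A M]

/-- `f`-power torsion of `gr_K^k(M)` dies at `q'` if `gr_K(M_{q'})` is flat over `A/K`. -/
theorem torsion_dies (K : Ideal A) (f : A)
    (hregK : IsSMulRegular (A ⧸ K) (Ideal.Quotient.mk K f)) (q' : Ideal A) [q'.IsPrime]
    (hflat : ∀ k, Module.Flat (A ⧸ K) (Gr K (LocalizedModule q'.primeCompl M) k))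
    (k : ℕ) (z : Gr K M k) (i : ℕ) (hz : f ^ i • z = 0) : ∃ s : A, s ∉ q' ∧ s • z = 0 := by
  let lam := grLoc q'.primeCompl (LocalizedModule.mkLinearMap q'.primeCompl M) K k
  have h1 : ∀ (i : ℕ) (w : Gr K (LocalizedModule q'.primeCompl M) k), f ^ i • w = 0 → w = 0 := by
    intro i
    induction i with
    | zero => intro w hw; rwa [pow_zero, one_smul] at hw
    | succ i ih =>
      intro w hw
      rw [pow_succ', mul_smul] at hw
      haveI := hflat k
      exact ih w (reg_gr1 K f _ hregK k _ hw)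
  have h2 : lam z = lam 0 := by
    rw [map_zero]
    apply h1 i
    rw [← map_smul, hz, map_zero]
  obtain ⟨s, hs⟩ := IsLocalizedModule.exists_of_eq (S := q'.primeCompl) h2
  refine ⟨s, s.2, ?_⟩
  rw [smul_zero] at hs
  exact hs

/-- **Converse, several steps.** -/
theorem conv_ofList [IsNoetherianRing A] [Module.Finite A M] (R : Ideal A) (gs : List A) :
    (∀ g ∈ gs, g ∈ (⊥ : Ideal A).jacobson) → IsWeaklyRegular (A ⧸ R) gs →
    (∀ k, Module.Flat (A ⧸ (R ⊔ Ideal.ofList gs)) (Gr (R ⊔ Ideal.ofList gs) M k)) →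
    (∀ q ∈ associatedPrimes A (A ⧸ (R ⊔ Ideal.ofList gs)), ∃ q' : Ideal A, ∃ _ : q'.IsPrime,
      q ≤ q' ∧ ∀ k, Module.Flat (A ⧸ R) (Gr R (LocalizedModule q'.primeCompl M) k)) →
    ∀ k, Module.Flat (A ⧸ R) (Gr R M k) := by
  induction gs using List.reverseRecOn with
  | nil =>
    intro _ _ h _
    rw [Ideal.ofList_nil, sup_bot_eq] at h
    exact h
  | append_singleton gs f ih =>
    intro hrad hw hflat hloc
    have heq : R ⊔ Ideal.ofList (gs ++ [f]) = (R ⊔ Ideal.ofList gs) ⊔ Ideal.span {f} := by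
      rw [Ideal.ofList_append, Ideal.ofList_singleton, sup_assoc]
    rw [heq] at hflat hloc
    have hradf : f ∈ (⊥ : Ideal A).jacobson := hrad f (by simp)
    have hradgs : ∀ g ∈ gs, g ∈ (⊥ : Ideal A).jacobson := fun g hg => hrad g (by simp [hg])
    have hwgs : IsWeaklyRegular (A ⧸ R) gs := ((isWeaklyRegular_append_iff (A ⧸ R) gs [f]).1 hw).1
    have hregK := isSMulRegular_quot_of_append R gs f hw
    -- step 1: the core lemma for `(K, f)`
    have hK : ∀ k, Module.Flat (A ⧸ (R ⊔ Ideal.ofList gs)) (Gr (R ⊔ Ideal.ofList gs) M k) := by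
      refine core (R ⊔ Ideal.ofList gs) f M hradf hregK hflat ?_
      intro q hq
      obtain ⟨q', hq'prime, hqq', hq'⟩ := hloc q hq
      refine ⟨q', hqq', ?_⟩
      have h1 := flat_gr_sup_ofList (LocalizedModule q'.primeCompl M) gs R hwgs hq'
      intro k z i hz
      exact torsion_dies M (R ⊔ Ideal.ofList gs) f hregK q' h1 k z i hz
    -- step 2: induction
    refine ih hradgs hwgs hK ?_
    intro q₀ hq₀
    have hreg' : ∀ a : A, f * a ∈ R ⊔ Ideal.ofList gs → a ∈ R ⊔ Ideal.ofList gs := by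
      intro a ha
      rw [← Ideal.Quotient.eq_zero_iff_mem] at ha ⊢
      apply hregK
      simp only [smul_eq_mul, ← map_mul, mul_zero]
      exact ha
    obtain ⟨q, hq, hle⟩ := exists_le_mem_associatedPrimes (R ⊔ Ideal.ofList gs) f hradf hreg' q₀ hq₀
    obtain ⟨q', hq'prime, hqq', hq'⟩ := hloc q hq
    exact ⟨q', hq'prime, hle.trans hqq', hq'⟩

end Groth.Agent.Lib.Helper54.NFConv2
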