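import Groth.Agent.Lib.Helper54.SerreRank

set_option autoImplicit false
set_option maxHeartbeats 400000
universe u

namespace Groth.Agent.Lib.Helper54.Serre

open Module TopologicalSpace

variable {R : Type u} [CommRing R] {M : Type u} [AddCommGroup M] [Module R M]

theorem rk_one_lt_one_iff (x : MaximalSpectrum R) (z : M) :
    rk x 1 (fun _ => z) < 1 ↔ ∀ φ : M →ₗ[R] R, φ z ∈ x.asIdeal := by
  letI := Ideal.Quotient.field x.asIdeal
  rw [rk_lt_iff]
  constructor
  · intro h φ
    have h1 := h (fun _ => 0)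
    by_contra hφ
    apply h1
    rw [linearIndependent_unique_iff]
    intro h0
    have := congrFun h0 φ
    simp only [ev, Pi.zero_apply] at this
    exact hφ (Ideal.Quotient.eq_zero_iff_mem.1 this)
  · intro h σ hli
    have h0 : ev x z = 0 := by
      funext φ
      simp only [ev, Pi.zero_apply]
      exact Ideal.Quotient.eq_zero_iff_mem.2 (h φ)
    rw [linearIndependent_unique_iff] at hli
    exact hli h0

theorem exists_form_eq_one_of_forall (z : M)
    (h : ∀ x : MaximalSpectrum R, ∃ φ : M →ₗ[R] R, φ z ∉ x.asIdeal) :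
    ∃ φ : M →ₗ[R] R, φ z = 1 := by
  let O : Ideal R := LinearMap.range ((LinearMap.applyₗ z : (M →ₗ[R] R) →ₗ[R] R))
  have hO : O = ⊤ := by
    by_contra hne
    obtain ⟨m, hm, hle⟩ := Ideal.exists_le_maximal O hne
    obtain ⟨φ, hφ⟩ := h ⟨m, hm⟩
    exact hφ (hle ⟨φ, rfl⟩)
  have h1 : (1 : R) ∈ O := hO ▸ Submodule.mem_top
  obtain ⟨φ, hφ⟩ := h1
  exact ⟨φ, hφ⟩

theorem ev_mem_span (x : MaximalSpectrum R) {k : ℕ} (t : Fin k → M) (z : M)
    (hz : z ∈ Submodule.span R (Set.range t)) :
    ev x z ∈ Submodule.span (R ⧸ x.asIdeal) (Set.range (fun i => ev x (t i))) := by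
  induction hz using Submodule.span_induction with
  | mem y hy =>
    obtain ⟨i, rfl⟩ := hy
    exact Submodule.subset_span ⟨i, rfl⟩
  | zero =>
    have : ev x (0 : M) = 0 := by funext φ; simp [ev]
    rw [this]; exact Submodule.zero_mem _
  | add a b _ _ ha hb => rw [ev_add]; exact Submodule.add_mem _ ha hb
  | smul r a _ ha => rw [ev_smul]; exact Submodule.smul_mem _ _ ha

/-- A determinantal witness gives a lower bound for the rank. -/
theorem le_rk_of_det (x : MaximalSpectrum R) {k w : ℕ} (t : Fin k → M) (mm : Fin w → M)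
    (hmm : ∀ j, mm j ∈ Submodule.span R (Set.range t)) (φ : Fin w → (M →ₗ[R] R))
    (hdet : (Matrix.of fun j k => φ k (mm j)).det ∉ x.asIdeal) : w ≤ rk x k t := by
  letI := Ideal.Quotient.field x.asIdeal
  have hli := (linearIndependent_ev_iff x mm).2 ⟨φ, hdet⟩
  have h1 : finrank (R ⧸ x.asIdeal)
      (Submodule.span (R ⧸ x.asIdeal) (Set.range (fun j => ev x (mm j)))) = w := by
    rw [finrank_span_eq_card hli, Fintype.card_fin]
  have h2 : Submodule.span (R ⧸ x.asIdeal) (Set.range (fun j => ev x (mm j))) ≤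
      Submodule.span (R ⧸ x.asIdeal) (Set.range (fun i => ev x (t i))) := by
    rw [Submodule.span_le]
    rintro _ ⟨j, rfl⟩
    exact ev_mem_span x t (mm j) (hmm j)
  have h3 := Submodule.finrank_mono h2
  rw [h1] at h3
  exact h3

/-- The basic element reduction theorem for modules over a ring with Noetherian maximal
spectrum. -/
theorem exists_reduction_module [NoetherianSpace (MaximalSpectrum R)]
    (F : Set (MaximalSpectrum R)) (hF : IsClosed F) (N : ℕ) (n : ℕ) (t : Fin (n + 1) → M)
    (H : ∀ w ≤ n + 1, ∀ C : IrreducibleCloseds (MaximalSpectrum R), ¬ (C : Set _) ⊆ F →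
      (C : Set _) ⊆ F ∪ {x | rk x (n + 1) t < w} → ((N + 1 : ℕ) : ℕ∞) ≤ Order.coheight C + w) :
    ∃ y ∈ Submodule.span R (Set.range (fun j : Fin n => t j.succ)),
      ∀ C : IrreducibleCloseds (MaximalSpectrum R), ¬ (C : Set _) ⊆ F →
        (C : Set _) ⊆ F ∪ {x | ∀ φ : M →ₗ[R] R, φ (t 0 + y) ∈ x.asIdeal} →
          (N : ℕ∞) ≤ Order.coheight C := by
  obtain ⟨y, hy, hconc⟩ := exists_reduction (R := R) (M := M) rk isClosed_rk_lt rk_drop rk_choice
    F hF N n t H
  refine ⟨y, hy, fun C hCF hC => hconc C hCF ?_⟩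
  intro x hx
  rcases hC hx with h | h
  · exact Or.inl h
  · exact Or.inr ((rk_one_lt_one_iff x _).2 h)

/-- Points of the maximal spectrum as irreducible closed sets. -/
def ptIrr (x : MaximalSpectrum R) : IrreducibleCloseds (MaximalSpectrum R) :=
  ⟨{x}, isIrreducible_singleton, isClosed_singleton⟩

theorem coheight_le_dim (C : IrreducibleCloseds (MaximalSpectrum R)) :
    ((Order.coheight C : ℕ∞) : WithBot ℕ∞) ≤ topologicalKrullDim (MaximalSpectrum R) :=
  Order.coheight_le_krullDim C

end Groth.Agent.Lib.Helper54.Serre
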