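import Groth.Agent.Lib.Helper54.SerreLocal

set_option autoImplicit false
set_option maxHeartbeats 400000
universe u

namespace Groth.Agent.Lib.Helper54.Serre

open Module TopologicalSpace

variable {R : Type u} [CommRing R] {A : Type u} [AddCommGroup A] [Module R A]

/-- Determinantal form of "rank at least `N` at every closed point". -/
def HasDetRank (R : Type u) [CommRing R] (A : Type u) [AddCommGroup A] [Module R A] (N : ℕ) : Prop :=
  ∀ x : MaximalSpectrum R, ∃ (mm : Fin N → A) (φ : Fin N → (A →ₗ[R] R)),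
    (Matrix.of fun j k => φ k (mm j)).det ∉ x.asIdeal

/-- Bass: if `(a₀, r₀)` is unimodular and the rank exceeds the dimension, then some
`a₀ + r₀ a'` is unimodular. -/
theorem bass_unimodular [NoetherianSpace (MaximalSpectrum R)] (d : ℕ)
    (hdim : topologicalKrullDim (MaximalSpectrum R) ≤ d) [Module.Finite R A]
    (hA : HasDetRank R A (d + 1)) (a₀ : A) (r₀ : R)
    (hu : ∀ x : MaximalSpectrum R, r₀ ∈ x.asIdeal → ∃ φ : A →ₗ[R] R, φ a₀ ∉ x.asIdeal) :
    ∃ (a' : A) (β : A →ₗ[R] R), β (a₀ + r₀ • a') = 1 := by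
  classical
  obtain ⟨u, g, hg⟩ := Module.Finite.exists_fin (R := R) (M := A)
  let T : Fin (u + 1) → A := Fin.cons a₀ (fun j => r₀ • g j)
  let F : Set (MaximalSpectrum R) := {x | r₀ ∈ x.asIdeal}
  have hF : IsClosed F := isClosed_mem r₀
  have hTmem : ∀ m : A, r₀ • m ∈ Submodule.span R (Set.range T) := by
    intro m
    have hm : m ∈ Submodule.span R (Set.range g) := hg ▸ Submodule.mem_top
    induction hm using Submodule.span_induction with
    | mem z hz =>
      obtain ⟨i, rfl⟩ := hz
      exact Submodule.subset_span ⟨i.succ, by simp [T]⟩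
    | zero => rw [smul_zero]; exact Submodule.zero_mem _
    | add a c _ _ ha hc => rw [smul_add]; exact Submodule.add_mem _ ha hc
    | smul r a _ ha => rw [smul_comm]; exact Submodule.smul_mem _ _ ha
  have hspan : ∀ y ∈ Submodule.span R (Set.range (fun j : Fin u => T j.succ)),
      ∃ a' : A, y = r₀ • a' := by
    intro y hy
    induction hy using Submodule.span_induction with
    | mem z hz =>
      obtain ⟨i, rfl⟩ := hz
      exact ⟨g i, by simp [T]⟩
    | zero => exact ⟨0, by simp⟩
    | add a c _ _ ha hc =>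
      obtain ⟨a1, rfl⟩ := ha
      obtain ⟨c1, rfl⟩ := hc
      exact ⟨a1 + c1, by rw [smul_add]⟩
    | smul r a _ ha =>
      obtain ⟨a1, rfl⟩ := ha
      exact ⟨r • a1, by rw [smul_comm]⟩
  have hrank : ∀ x : MaximalSpectrum R, x ∉ F → d + 1 ≤ rk x (u + 1) T := by
    intro x hx
    obtain ⟨mm, φ, hφ⟩ := hA x
    have hdet : (Matrix.of fun j k => φ k (r₀ • mm j)).det ∉ x.asIdeal := by
      have : (Matrix.of fun j k => φ k (r₀ • mm j)) = r₀ • (Matrix.of fun j k => φ k (mm j)) := by
        ext j k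
        simp [map_smul]
      rw [this, Matrix.det_smul]
      intro hmem
      rcases (Ideal.IsMaximal.isPrime x.isMaximal).mem_or_mem hmem with h1 | h1
      · exact hx ((Ideal.IsMaximal.isPrime x.isMaximal).mem_of_pow_mem _ h1)
      · exact hφ h1
    exact le_rk_of_det x T (fun j => r₀ • mm j) (fun j => hTmem (mm j)) φ hdet
  obtain ⟨y, hy, hconc⟩ := exists_reduction_module (R := R) (M := A) F hF (d + 1) u T (by
    intro w _ C hCF hC
    obtain ⟨x, hxC, hxF⟩ := Set.not_subset.1 hCF
    rcases hC hxC with h1 | h1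
    · exact (hxF h1).elim
    · have h2 : d + 1 < w := lt_of_le_of_lt (hrank x hxF) h1
      have h3 : ((d + 1 + 1 : ℕ) : ℕ∞) ≤ (w : ℕ∞) := by exact_mod_cast h2
      exact h3.trans le_add_self)
  have hT0 : T 0 = a₀ := rfl
  rw [hT0] at hconc
  obtain ⟨a', rfl⟩ := hspan y hy
  refine ⟨a', ?_⟩
  apply exists_form_eq_one_of_forall
  intro x
  by_cases hxF : x ∈ F
  · obtain ⟨φ, hφ⟩ := hu x hxF
    refine ⟨φ, fun hmem => hφ ?_⟩
    rw [map_add, map_smul, smul_eq_mul] at hmem
    have h2 : r₀ * φ a' ∈ x.asIdeal := Ideal.mul_mem_right _ _ hxF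
    exact (Submodule.add_mem_iff_left _ h2).1 hmem
  · by_contra hcon
    push Not at hcon
    have h1 := hconc (ptIrr x) (fun hsub => hxF (hsub (Set.mem_singleton x)))
      (by
        intro z hz
        rw [show z = x from hz]
        exact Or.inr hcon)
    have h2 := coheight_le_dim (ptIrr x)
    have h3 : (((d + 1 : ℕ) : ℕ∞) : WithBot ℕ∞) ≤ (d : WithBot ℕ∞) :=
      (WithBot.coe_le_coe.2 h1).trans (h2.trans hdim)
    have h4 : ((d + 1 : ℕ) : ℕ∞) ≤ (d : ℕ∞) := by exact_mod_cast h3
    have h5 : d + 1 ≤ d := by exact_mod_cast h4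
    omega

end Groth.Agent.Lib.Helper54.Serre
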