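import Groth.Agent.Lib.Helper54.SerreBass

set_option autoImplicit false
set_option maxHeartbeats 400000
universe u

namespace Groth.Agent.Lib.Helper54.Serre

open Module TopologicalSpace

variable {R : Type u} [CommRing R] {A : Type u} [AddCommGroup A] [Module R A]
  {A' : Type u} [AddCommGroup A'] [Module R A']

theorem fst_symm_of_fix (ε : (A × R) ≃ₗ[R] (A' × R)) (hε : ε (0, 1) = (0, 1)) (a : A) :
    (ε.symm ((ε (a, 0)).1, 0)).1 = a := by
  have h : ε (a, -(ε (a, 0)).2) = ((ε (a, 0)).1, 0) := by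
    have h1 : ((a, -(ε (a, 0)).2) : A × R) = (a, 0) - (ε (a, 0)).2 • ((0, 1) : A × R) := by
      ext <;> simp
    rw [h1, map_sub, map_smul, hε]
    ext <;> simp
  rw [← h, LinearEquiv.symm_apply_apply]

/-- An isomorphism `A × R ≃ A' × R` fixing `(0,1)` induces `A ≃ A'`. -/
theorem nonempty_equiv_of_fix (ε : (A × R) ≃ₗ[R] (A' × R)) (hε : ε (0, 1) = (0, 1)) :
    Nonempty (A ≃ₗ[R] A') := by
  have hε' : ε.symm (0, 1) = (0, 1) := by
    rw [← hε, LinearEquiv.symm_apply_apply]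
  let θ : A →ₗ[R] A' := (LinearMap.fst R A' R) ∘ₗ ε.toLinearMap ∘ₗ (LinearMap.inl R A R)
  let θ' : A' →ₗ[R] A := (LinearMap.fst R A R) ∘ₗ ε.symm.toLinearMap ∘ₗ (LinearMap.inl R A' R)
  refine ⟨LinearEquiv.ofLinear θ θ' ?_ ?_⟩
  · ext a'
    have := fst_symm_of_fix ε.symm hε' a'
    simpa [θ, θ'] using this
  · ext a
    have := fst_symm_of_fix ε hε a
    simpa [θ, θ'] using this

/-- A shear of `A × R`. -/
def shearL (v : A) : (A × R) ≃ₗ[R] (A × R) where
  toFun p := (p.1 + p.2 • v, p.2)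
  map_add' p q := by
    ext
    · simp only [Prod.fst_add, Prod.snd_add, add_smul]; abel
    · simp
  map_smul' r p := by
    ext
    · simp [mul_smul]
    · simp
  invFun p := (p.1 - p.2 • v, p.2)
  left_inv p := by ext <;> simp
  right_inv p := by ext <;> simp

theorem shearL_apply (v : A) (p : A × R) : shearL v p = (p.1 + p.2 • v, p.2) := rfl

/-- Cancellation of one free summand of rank one. -/
theorem cancel_one [NoetherianSpace (MaximalSpectrum R)] (d : ℕ)
    (hdim : topologicalKrullDim (MaximalSpectrum R) ≤ d) [Module.Finite R A]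
    (hA : HasDetRank R A (d + 1)) (ε : (A × R) ≃ₗ[R] (A' × R)) : Nonempty (A ≃ₗ[R] A') := by
  -- the preimage of `(0, 1)`
  set p : A × R := ε.symm (0, 1) with hp
  set a₀ : A := p.1 with ha₀
  set r₀ : R := p.2 with hr₀
  have hpe : p = (a₀, r₀) := rfl
  have h01 : ε (a₀, r₀) = (0, 1) := by
    rw [← hpe, hp, LinearEquiv.apply_symm_apply]
  let ψ : (A × R) →ₗ[R] R := (LinearMap.snd R A' R) ∘ₗ ε.toLinearMap
  let α : A →ₗ[R] R := ψ ∘ₗ LinearMap.inl R A R
  have h1 : α a₀ + r₀ * ψ (0, 1) = 1 := by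
    have e1 : ((a₀, r₀) : A × R) = (a₀, 0) + r₀ • ((0, 1) : A × R) := by ext <;> simp
    have e2 : ψ (a₀, r₀) = 1 := by
      simp only [ψ, LinearMap.comp_apply, LinearEquiv.coe_coe, h01, LinearMap.snd_apply]
    rw [e1, map_add, map_smul, smul_eq_mul] at e2
    exact e2
  have hu : ∀ x : MaximalSpectrum R, r₀ ∈ x.asIdeal → ∃ φ : A →ₗ[R] R, φ a₀ ∉ x.asIdeal := by
    intro x hx
    refine ⟨α, fun hmem => ?_⟩
    have : (1 : R) ∈ x.asIdeal := by
      rw [← h1]
      exact Submodule.add_mem _ hmem (Ideal.mul_mem_right _ _ hx)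
    exact x.isMaximal.ne_top ((Ideal.eq_top_iff_one _).2 this)
  obtain ⟨a', β, hβ⟩ := bass_unimodular d hdim hA a₀ r₀ hu
  set q : A := a₀ + r₀ • a' with hq
  let τ₂ : (A × R) ≃ₗ[R] (A × R) :=
    LinearEquiv.skewProd (LinearEquiv.refl R A) (LinearEquiv.refl R R) ((1 - r₀) • β)
  let τ : (A × R) ≃ₗ[R] (A × R) := (shearL a').trans (τ₂.trans (shearL (-q)))
  have hτ : τ (a₀, r₀) = (0, 1) := by
    simp only [τ, LinearEquiv.trans_apply, shearL_apply, τ₂, LinearEquiv.skewProd_apply,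
      LinearEquiv.refl_apply, LinearMap.smul_apply, ← hq, hβ]
    ext
    · simp
    · simp
  let ε' : (A × R) ≃ₗ[R] (A' × R) := τ.symm.trans ε
  have hε' : ε' (0, 1) = (0, 1) := by
    simp only [ε', LinearEquiv.trans_apply]
    rw [← hτ, LinearEquiv.symm_apply_apply, h01]
  exact nonempty_equiv_of_fix ε' hε'

end Groth.Agent.Lib.Helper54.Serre
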