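import Groth.Agent.Lib.Helper54.SerreQuot

set_option autoImplicit false
set_option maxHeartbeats 400000
universe u

namespace Groth.Agent.Lib.Helper54.Serre

open Module TopologicalSpace

variable {R : Type u} [CommRing R] {M : Type u} [AddCommGroup M] [Module R M]

/-- The classes of the elements all of whose linear forms take values in `x`. -/
def Bq (x : MaximalSpectrum R) :
    Submodule (R ⧸ x.asIdeal) (M ⧸ (x.asIdeal • ⊤ : Submodule R M)) :=
  Submodule.span (R ⧸ x.asIdeal)
    ((x.asIdeal • ⊤ : Submodule R M).mkQ '' {m : M | ∀ φ : M →ₗ[R] R, φ m ∈ x.asIdeal})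

/-- The image of an element in `V(x) = M(x)/B(x)`. -/
def img (x : MaximalSpectrum R) (m : M) : (M ⧸ (x.asIdeal • ⊤ : Submodule R M)) ⧸ Bq (M := M) x :=
  (Bq x).mkQ ((x.asIdeal • ⊤ : Submodule R M).mkQ m)

theorem img_surjective (x : MaximalSpectrum R) : Function.Surjective (img (M := M) x) := by
  intro z
  obtain ⟨z', rfl⟩ := Submodule.mkQ_surjective _ z
  obtain ⟨m, rfl⟩ := Submodule.mkQ_surjective _ z'
  exact ⟨m, rfl⟩

/-- `R`-linear evaluation. -/
def evR (x : MaximalSpectrum R) : M →ₗ[R] ((M →ₗ[R] R) → R ⧸ x.asIdeal) where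
  toFun := ev x
  map_add' := ev_add x
  map_smul' r m := by
    rw [ev_smul]
    funext φ
    simp [Algebra.smul_def]

theorem smul_top_le_ker_evR (x : MaximalSpectrum R) :
    (x.asIdeal • ⊤ : Submodule R M) ≤ LinearMap.ker (evR (M := M) x) := by
  rw [Submodule.smul_le]
  intro a ha m _
  rw [LinearMap.mem_ker]
  show ev x (a • m) = 0
  rw [ev_smul, Ideal.Quotient.eq_zero_iff_mem.2 ha, zero_smul]

/-- Evaluation on `M/xM`, linear over the residue field. -/
def psi (x : MaximalSpectrum R) :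
    (M ⧸ (x.asIdeal • ⊤ : Submodule R M)) →ₗ[R ⧸ x.asIdeal] ((M →ₗ[R] R) → R ⧸ x.asIdeal) where
  toFun := Submodule.liftQ _ (evR x) (smul_top_le_ker_evR x)
  map_add' := map_add _
  map_smul' c z := by
    obtain ⟨r, rfl⟩ := Ideal.Quotient.mk_surjective c
    obtain ⟨m, rfl⟩ := Submodule.mkQ_surjective _ z
    show Submodule.liftQ _ (evR x) (smul_top_le_ker_evR x)
      (Ideal.Quotient.mk x.asIdeal r • Submodule.Quotient.mk m) = _
    rw [Module.Quotient.mk_smul_mk]
    show ev x (r • m) = _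
    rw [ev_smul]
    rfl

theorem psi_mk (x : MaximalSpectrum R) (m : M) :
    psi x ((x.asIdeal • ⊤ : Submodule R M).mkQ m) = ev x m := rfl

theorem Bq_le_ker_psi (x : MaximalSpectrum R) : Bq (M := M) x ≤ LinearMap.ker (psi x) := by
  unfold Bq
  rw [Submodule.span_le]
  rintro _ ⟨m, hm, rfl⟩
  rw [SetLike.mem_coe, LinearMap.mem_ker, psi_mk]
  funext φ
  exact Ideal.Quotient.eq_zero_iff_mem.2 (hm φ)

/-- The comparison map from `V(x)` to the function space. -/
def cmp (x : MaximalSpectrum R) :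
    ((M ⧸ (x.asIdeal • ⊤ : Submodule R M)) ⧸ Bq (M := M) x) →ₗ[R ⧸ x.asIdeal]
      ((M →ₗ[R] R) → R ⧸ x.asIdeal) :=
  (Bq x).liftQ (psi x) (Bq_le_ker_psi x)

theorem cmp_img (x : MaximalSpectrum R) (m : M) : cmp x (img x m) = ev x m := rfl

theorem ker_cmp (x : MaximalSpectrum R) : LinearMap.ker (cmp (M := M) x) = ⊥ := by
  rw [eq_bot_iff]
  intro z hz
  obtain ⟨m, rfl⟩ := img_surjective x z
  rw [LinearMap.mem_ker, cmp_img] at hz
  rw [Submodule.mem_bot]
  have hm : ∀ φ : M →ₗ[R] R, φ m ∈ x.asIdeal := by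
    intro φ
    have := congrFun hz φ
    exact Ideal.Quotient.eq_zero_iff_mem.1 this
  show (Bq x).mkQ _ = 0
  rw [Submodule.mkQ_apply, Submodule.Quotient.mk_eq_zero]
  exact Submodule.subset_span ⟨m, hm, rfl⟩

/-- Independence in `V(x)` is independence of evaluations. -/
theorem linearIndependent_img_iff (x : MaximalSpectrum R) {ι : Type*} (m : ι → M) :
    LinearIndependent (R ⧸ x.asIdeal) (fun i => img x (m i)) ↔
      LinearIndependent (R ⧸ x.asIdeal) (fun i => ev x (m i)) :=
  ((cmp x).linearIndependent_iff (ker_cmp x)).symm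

end Groth.Agent.Lib.Helper54.Serre
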