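import Mathlib

set_option autoImplicit false
set_option maxHeartbeats 400000
universe u

namespace Groth.Agent.Lib.Helper54.Serre

open TopologicalSpace

/-- An irreducible closed set not inside `F` and covered by `F` and finitely many closed sets has a
point outside `F` which is "generic" with respect to the family. -/
theorem exists_generic_point {Ω : Type u} [TopologicalSpace Ω] (F : Set Ω) (hF : IsClosed F)
    (𝒞 : Finset (Set Ω)) (h𝒞 : ∀ C ∈ 𝒞, IsClosed C) (C : Set Ω) (hC : IsIrreducible C)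
    (hCF : ¬ C ⊆ F) :
    ∃ x ∈ C, x ∉ F ∧ ∀ C' ∈ 𝒞, x ∈ C' → C ⊆ C' := by
  classical
  by_contra hcon
  push Not at hcon
  let T : Finset (Set Ω) := insert F (𝒞.filter (fun C' => ¬ C ⊆ C'))
  have hT : ∀ z ∈ T, IsClosed z := by
    intro z hz
    rcases Finset.mem_insert.1 hz with rfl | hz
    · exact hF
    · exact h𝒞 z (Finset.mem_filter.1 hz).1
  have hsub : C ⊆ ⋃₀ (T : Set (Set Ω)) := by
    intro x hx
    by_cases hxF : x ∈ F
    · exact ⟨F, by simp [T], hxF⟩
    · obtain ⟨C', hC', hxC', hCC'⟩ := hcon x hx hxF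
      exact ⟨C', by simp [T, hC', hCC'], hxC'⟩
  obtain ⟨z, hz, hCz⟩ := isIrreducible_iff_sUnion_isClosed.1 hC T hT hsub
  rcases Finset.mem_insert.1 hz with rfl | hz
  · exact hCF hCz
  · exact (Finset.mem_filter.1 hz).2 hCz

/-- The abstract basic element reduction theorem. `rk x k t` is the rank at the point `x` of the
`k`-tuple `t`. -/
theorem exists_reduction {Ω : Type u} [TopologicalSpace Ω] [NoetherianSpace Ω]
    {R : Type u} [CommRing R] {M : Type u} [AddCommGroup M] [Module R M]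
    (rk : Ω → ∀ k : ℕ, (Fin k → M) → ℕ)
    (hcl : ∀ (k : ℕ) (t : Fin k → M) (w : ℕ), IsClosed {x | rk x k t < w})
    (hdrop : ∀ (x : Ω) (n : ℕ) (t : Fin (n + 1) → M) (a : Fin n → R),
      rk x (n + 1) t ≤ rk x n (fun i => t i.castSucc + a i • t (Fin.last n)) + 1)
    (hchoice : ∀ (P : Finset Ω) (n : ℕ) (t : Fin (n + 1) → M), ∃ a : Fin n → R, ∀ x ∈ P,
      min n (rk x (n + 1) t) ≤ rk x n (fun i => t i.castSucc + a i • t (Fin.last n)))
    (F : Set Ω) (hF : IsClosed F) (N : ℕ) :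
    ∀ (n : ℕ) (t : Fin (n + 1) → M),
      (∀ w ≤ n + 1, ∀ C : IrreducibleCloseds Ω, ¬ (C : Set Ω) ⊆ F →
        (C : Set Ω) ⊆ F ∪ {x | rk x (n + 1) t < w} → ((N + 1 : ℕ) : ℕ∞) ≤ Order.coheight C + w) →
      ∃ y ∈ Submodule.span R (Set.range (fun j : Fin n => t j.succ)),
        ∀ C : IrreducibleCloseds Ω, ¬ (C : Set Ω) ⊆ F →
          (C : Set Ω) ⊆ F ∪ {x | rk x 1 (fun _ => t 0 + y) < 1} → (N : ℕ∞) ≤ Order.coheight C := by
  classical
  intro n
  induction n with
  | zero =>
    intro t H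
    refine ⟨0, Submodule.zero_mem _, ?_⟩
    intro C hCF hC
    have ht : (fun _ => t 0 + 0 : Fin 1 → M) = t := by
      funext i
      rw [add_zero]
      congr 1
      exact (Fin.fin_one_eq_zero i).symm
    rw [ht] at hC
    have := H 1 le_rfl C hCF hC
    have h2 : ((N + 1 : ℕ) : ℕ∞) = (N : ℕ∞) + 1 := by push_cast; rfl
    rw [h2, Nat.cast_one] at this
    exact (ENat.add_le_add_iff_right ENat.one_ne_top).1 this
  | succ n ih =>
    intro t H
    -- decompositions
    have hZ : ∀ w : ℕ, IsClosed (F ∪ {x | rk x (n + 2) t < w}) := fun w => hF.union (hcl _ t w)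
    choose S hSfin hSclosed hSirr hSU using fun w : ℕ =>
      NoetherianSpace.exists_finite_set_isClosed_irreducible (hZ w)
    let 𝒞 : Finset (Set Ω) := ((Finset.range (n + 3)).biUnion (fun w => (hSfin w).toFinset)).filter
      (fun C => ¬ C ⊆ F)
    have mem𝒞 : ∀ w < n + 3, ∀ C ∈ S w, ¬ C ⊆ F → C ∈ 𝒞 := by
      intro w hw C hC hCF
      refine Finset.mem_filter.2 ⟨Finset.mem_biUnion.2 ⟨w, Finset.mem_range.2 hw, ?_⟩, hCF⟩
      exact (hSfin w).mem_toFinset.2 hC
    have h𝒞 : ∀ C ∈ 𝒞, IsClosed C ∧ IsIrreducible C ∧ ¬ C ⊆ F := by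
      intro C hC
      obtain ⟨h1, h2⟩ := Finset.mem_filter.1 hC
      obtain ⟨w, _, hw⟩ := Finset.mem_biUnion.1 h1
      have := (hSfin w).mem_toFinset.1 hw
      exact ⟨hSclosed w C this, hSirr w C this, h2⟩
    choose pt hpt using fun C : {C // C ∈ 𝒞} =>
      exists_generic_point F hF 𝒞 (fun C' hC' => (h𝒞 C' hC').1) C.1
        (h𝒞 C.1 C.2).2.1 (h𝒞 C.1 C.2).2.2
    let P : Finset Ω := 𝒞.attach.image pt
    obtain ⟨a, ha⟩ := hchoice P (n + 1) t
    let t' : Fin (n + 1) → M := fun i => t i.castSucc + a i • t (Fin.last (n + 1))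
    have H' : ∀ w ≤ n + 1, ∀ C : IrreducibleCloseds Ω, ¬ (C : Set Ω) ⊆ F →
        (C : Set Ω) ⊆ F ∪ {x | rk x (n + 1) t' < w} →
        ((N + 1 : ℕ) : ℕ∞) ≤ Order.coheight C + w := by
      intro w hw D hDF hD
      have hDZ : (D : Set Ω) ⊆ F ∪ {x | rk x (n + 2) t < w + 1} := by
        intro x hx
        rcases hD hx with h | h
        · exact Or.inl h
        · refine Or.inr ?_
          have := hdrop x (n + 1) t a
          simp only [Set.mem_setOf_eq] at h ⊢
          exact lt_of_le_of_lt this (Nat.add_lt_add_right h 1)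
      rw [hSU (w + 1)] at hDZ
      obtain ⟨C, hCS, hDC⟩ := isIrreducible_iff_sUnion_isClosed.1 D.isIrreducible
        (hSfin (w + 1)).toFinset (fun z hz => hSclosed _ z ((hSfin _).mem_toFinset.1 hz))
        (by rwa [Set.Finite.coe_toFinset])
      have hCS' : C ∈ S (w + 1) := (hSfin _).mem_toFinset.1 hCS
      have hCF : ¬ C ⊆ F := fun h => hDF (hDC.trans h)
      have hC𝒞 : C ∈ 𝒞 := mem𝒞 (w + 1) (by omega) C hCS' hCF
      let C' : IrreducibleCloseds Ω := ⟨C, hSirr _ C hCS', hSclosed _ C hCS'⟩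
      have hCZ : (C' : Set Ω) ⊆ F ∪ {x | rk x (n + 2) t < w + 1} := by
        rw [hSU (w + 1)]
        exact Set.subset_sUnion_of_mem hCS'
      have hH := H (w + 1) (by omega) C' hCF hCZ
      have hle : D ≤ C' := hDC
      rcases eq_or_lt_of_le hle with heq | hlt
      · -- D = C
        have hx := hpt ⟨C, hC𝒞⟩
        have hxD : pt ⟨C, hC𝒞⟩ ∈ (D : Set Ω) := by
          rw [heq]; exact hx.1
        have hxP : pt ⟨C, hC𝒞⟩ ∈ P := Finset.mem_image.2 ⟨⟨C, hC𝒞⟩, Finset.mem_attach _ _, rfl⟩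
        have h1 : rk (pt ⟨C, hC𝒞⟩) (n + 1) t' < w := by
          rcases hD hxD with h | h
          · exact (hx.2.1 h).elim
          · exact h
        have h2 := ha _ hxP
        have h3 : rk (pt ⟨C, hC𝒞⟩) (n + 2) t < w := by
          have : min (n + 1) (rk (pt ⟨C, hC𝒞⟩) (n + 2) t) < w := lt_of_le_of_lt h2 h1
          rcases min_lt_iff.1 this with h | h
          · omega
          · exact h
        have h4 : pt ⟨C, hC𝒞⟩ ∈ F ∪ {x | rk x (n + 2) t < w} := Or.inr h3
        rw [hSU w] at h4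
        obtain ⟨C'', hC''S, hxC''⟩ := h4
        have hC''F : ¬ C'' ⊆ F := fun h => hx.2.1 (h hxC'')
        have hC''𝒞 : C'' ∈ 𝒞 := mem𝒞 w (by omega) C'' hC''S hC''F
        have hCC'' : C ⊆ C'' := hx.2.2 C'' hC''𝒞 hxC''
        have hDw : (D : Set Ω) ⊆ F ∪ {x | rk x (n + 2) t < w} := by
          rw [hSU w]
          exact (hDC.trans hCC'').trans (Set.subset_sUnion_of_mem hC''S)
        exact H w (by omega) D hDF hDw
      · have h5 := Order.coheight_add_one_le hlt
        calc ((N + 1 : ℕ) : ℕ∞) ≤ Order.coheight C' + ((w + 1 : ℕ) : ℕ∞) := hH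
          _ = (Order.coheight C' + 1) + (w : ℕ∞) := by push_cast; ring
          _ ≤ Order.coheight D + (w : ℕ∞) := add_le_add_left h5 _
    obtain ⟨y', hy', hconc⟩ := ih t' H'
    refine ⟨a 0 • t (Fin.last (n + 1)) + y', ?_, ?_⟩
    · refine Submodule.add_mem _ ?_ ?_
      · refine Submodule.smul_mem _ _ (Submodule.subset_span ⟨Fin.last n, ?_⟩)
        simp
      · refine Submodule.span_le.2 ?_ hy'
        rintro _ ⟨j, rfl⟩
        simp only [t']
        refine Submodule.add_mem _ (Submodule.subset_span ⟨j.castSucc, ?_⟩)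
          (Submodule.smul_mem _ _ (Submodule.subset_span ⟨Fin.last n, ?_⟩))
        · simp
        · simp
    · intro C hCF hC
      apply hconc C hCF
      have : t' 0 + y' = t 0 + (a 0 • t (Fin.last (n + 1)) + y') := by
        simp only [t', Fin.castSucc_zero]
        rw [add_assoc]
      rw [this]
      exact hC

end Groth.Agent.Lib.Helper54.Serre
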