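import Mathlib

set_option autoImplicit false
set_option maxHeartbeats 400000
universe u v

namespace Groth.Agent.Lib.Helper54.Serre

open Module

section LA

variable {K : Type u} [Field K] {W : Type v} [AddCommGroup W] [Module K W]

/-- rank of a finite family -/
noncomputable def frank {k : ℕ} (v : Fin k → W) : ℕ :=
  finrank K (Submodule.span K (Set.range v))

instance {k : ℕ} (v : Fin k → W) : FiniteDimensional K (Submodule.span K (Set.range v)) :=
  FiniteDimensional.span_of_finite K (Set.finite_range v)

theorem frank_le_add_one {n : ℕ} (v : Fin (n + 1) → W) (c : Fin n → K) :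
    frank (K := K) v ≤
      frank (K := K) (fun i => v i.castSucc + c i • v (Fin.last n)) + 1 := by
  unfold frank
  set A := Submodule.span K (Set.range (fun i => v i.castSucc + c i • v (Fin.last n))) with hA
  have hle : Submodule.span K (Set.range v) ≤ A ⊔ Submodule.span K {v (Fin.last n)} := by
    rw [Submodule.span_le]
    rintro _ ⟨i, rfl⟩
    have hlast : v (Fin.last n) ∈ A ⊔ Submodule.span K {v (Fin.last n)} :=
      Submodule.mem_sup_right (Submodule.subset_span rfl)
    induction i using Fin.lastCases with
    | last => exact hlast
    | cast i =>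
      have h1 : v i.castSucc + c i • v (Fin.last n) ∈ A ⊔ Submodule.span K {v (Fin.last n)} :=
        Submodule.mem_sup_left (Submodule.subset_span ⟨i, rfl⟩)
      have : v i.castSucc = (v i.castSucc + c i • v (Fin.last n)) - c i • v (Fin.last n) := by
        abel
      rw [SetLike.mem_coe, this]
      exact Submodule.sub_mem _ h1 (Submodule.smul_mem _ _ hlast)
  haveI : FiniteDimensional K (Submodule.span K {v (Fin.last n)}) :=
    FiniteDimensional.span_of_finite K (Set.finite_singleton _)
  calc finrank K (Submodule.span K (Set.range v))
      ≤ finrank K ↥(A ⊔ Submodule.span K {v (Fin.last n)}) := Submodule.finrank_mono hle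
    _ ≤ finrank K A + finrank K (Submodule.span K {v (Fin.last n)}) :=
        Submodule.finrank_add_le_finrank_add_finrank _ _
    _ ≤ finrank K A + 1 := by
        gcongr
        exact (finrank_span_le_card ({v (Fin.last n)} : Set W)).trans (by simp)

theorem exists_coeff_frank {n : ℕ} (v : Fin (n + 1) → W) :
    ∃ c : Fin n → K, min n (frank (K := K) v) ≤
      frank (K := K) (fun i => v i.castSucc + c i • v (Fin.last n)) := by
  classical
  by_cases hli : LinearIndependent K (fun i : Fin n => v i.castSucc)
  · refine ⟨0, ?_⟩
    have : (fun i : Fin n => v i.castSucc + (0 : Fin n → K) i • v (Fin.last n)) =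
        fun i : Fin n => v i.castSucc := by
      funext i; simp
    rw [this]
    unfold frank
    rw [finrank_span_eq_card hli, Fintype.card_fin]
    exact min_le_left _ _
  · rw [Fintype.not_linearIndependent_iff] at hli
    obtain ⟨b, hb, i₀, hi₀⟩ := hli
    refine ⟨Pi.single i₀ 1, (min_le_right _ _).trans ?_⟩
    unfold frank
    apply Submodule.finrank_mono
    set B := Submodule.span K (Set.range
      (fun i => v i.castSucc + (Pi.single i₀ (1 : K) : Fin n → K) i • v (Fin.last n))) with hB
    have hmem : ∀ i, v i.castSucc + (Pi.single i₀ (1 : K) : Fin n → K) i • v (Fin.last n) ∈ B :=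
      fun i => Submodule.subset_span ⟨i, rfl⟩
    have hsum : ∑ i, b i • (v i.castSucc + (Pi.single i₀ (1 : K) : Fin n → K) i • v (Fin.last n))
        = b i₀ • v (Fin.last n) := by
      simp only [smul_add, Finset.sum_add_distrib, hb, zero_add]
      rw [Finset.sum_eq_single i₀]
      · simp
      · intro j _ hj
        simp [Pi.single_eq_of_ne hj]
      · intro h; exact (h (Finset.mem_univ _)).elim
    have hL : v (Fin.last n) ∈ B := by
      have h1 : b i₀ • v (Fin.last n) ∈ B := by
        rw [← hsum]
        exact Submodule.sum_mem _ (fun i _ => Submodule.smul_mem _ _ (hmem i))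
      have := Submodule.smul_mem B (b i₀)⁻¹ h1
      rwa [smul_smul, inv_mul_cancel₀ hi₀, one_smul] at this
    rw [Submodule.span_le]
    rintro _ ⟨i, rfl⟩
    induction i using Fin.lastCases with
    | last => exact hL
    | cast i =>
      have : v i.castSucc = (v i.castSucc + (Pi.single i₀ (1 : K) : Fin n → K) i • v (Fin.last n))
          - (Pi.single i₀ (1 : K) : Fin n → K) i • v (Fin.last n) := by abel
      rw [SetLike.mem_coe, this]
      exact Submodule.sub_mem _ (hmem i) (Submodule.smul_mem _ _ hL)

/-- Independent vectors in a function space stay independent after restriction to suitably many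
coordinates. -/
theorem exists_coords {I : Type v} {w : ℕ} (c : Fin w → (I → K)) (hc : LinearIndependent K c) :
    ∃ ι : Fin w → I, LinearIndependent K (fun j => fun k => c j (ι k)) := by
  classical
  set U : Submodule K (I → K) := Submodule.span K (Set.range c) with hU
  haveI : FiniteDimensional K U := FiniteDimensional.span_of_finite K (Set.finite_range c)
  have hUw : finrank K U = w := by
    rw [hU, finrank_span_eq_card hc, Fintype.card_fin]
  let proj : I → Module.Dual K U := fun i => (LinearMap.proj i).domRestrict U
  set Ψ : Submodule K (Module.Dual K U) := Submodule.span K (Set.range proj) with hΨ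
  have hco : Ψ.dualCoannihilator = ⊥ := by
    rw [eq_bot_iff]
    intro u hu
    rw [Submodule.mem_dualCoannihilator] at hu
    rw [Submodule.mem_bot]
    apply Subtype.ext
    funext i
    exact hu (proj i) (Submodule.subset_span ⟨i, rfl⟩)
  have hΨw : finrank K Ψ = w := by
    have := Subspace.finrank_add_finrank_dualCoannihilator_eq Ψ
    rw [hco, finrank_bot, add_zero, hUw] at this
    exact this
  obtain ⟨κ', a, _, hspan, hli⟩ := exists_linearIndependent' K proj
  haveI : Finite κ' := hli.finite
  haveI : Fintype κ' := Fintype.ofFinite κ'
  have hcard : Fintype.card κ' = w := by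
    rw [← finrank_span_eq_card hli, hspan, hΨw]
  let e : Fin w ≃ κ' := (Fintype.equivFinOfCardEq hcard).symm
  refine ⟨fun k => a (e k), ?_⟩
  -- the restriction map
  let T : U →ₗ[K] (Fin w → K) := LinearMap.pi (fun k => proj (a (e k)))
  have hT : LinearMap.ker T = ⊥ := by
    rw [eq_bot_iff]
    intro u hu
    rw [LinearMap.mem_ker] at hu
    have hu' : u ∈ Ψ.dualCoannihilator := by
      rw [Submodule.mem_dualCoannihilator]
      intro ψ hψ
      rw [hΨ, ← hspan] at hψ
      induction hψ using Submodule.span_induction with
      | mem x hx =>
        obtain ⟨k', rfl⟩ := hx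
        have := congrFun hu (e.symm k')
        simpa [T] using this
      | zero => simp
      | add x y _ _ hx hy => rw [LinearMap.add_apply, hx, hy, add_zero]
      | smul r x _ hx => rw [LinearMap.smul_apply, hx, smul_zero]
    rw [hco] at hu'
    exact hu'
  let c' : Fin w → U := fun j => ⟨c j, Submodule.subset_span ⟨j, rfl⟩⟩
  have hc' : LinearIndependent K c' := by
    apply LinearIndependent.of_comp U.subtype
    exact hc
  have := hc'.map' T hT
  exact this

end LA

end Groth.Agent.Lib.Helper54.Serre
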