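import Groth.Agent.Lib.Helper54.SerreApp

set_option autoImplicit false
set_option maxHeartbeats 400000
universe u

namespace Groth.Agent.Lib.Helper54.Serre

open Module

variable {R : Type u} [CommRing R] {M : Type u} [AddCommGroup M] [Module R M]

/-- A free direct summand of rank `n` of the localization at a maximal ideal gives a determinantal
witness. -/
theorem exists_det_of_local_summand (m : Ideal R) [m.IsMaximal] [Module.FinitePresentation R M]
    (n : ℕ)
    (f : (Fin n → Localization.AtPrime m) →ₗ[Localization.AtPrime m]
      LocalizedModule m.primeCompl M)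
    (g : LocalizedModule m.primeCompl M →ₗ[Localization.AtPrime m]
      (Fin n → Localization.AtPrime m))
    (hgf : g ∘ₗ f = LinearMap.id) :
    ∃ (mm : Fin n → M) (φ : Fin n → (M →ₗ[R] R)),
      (Matrix.of fun j k => φ k (mm j)).det ∉ m := by
  classical
  choose mm s hms using fun j : Fin n =>
    LocalizedModule.induction_on
      (β := fun z => ∃ (m' : M) (s' : m.primeCompl), z = LocalizedModule.mk m' s')
      (fun m' s' => ⟨m', s', rfl⟩) (f (Pi.single j 1))
  let G : Fin n → (M →ₗ[R] Localization.AtPrime m) := fun k =>
    ((LinearMap.proj k ∘ₗ g).restrictScalars R) ∘ₗ (LocalizedModule.mkLinearMap m.primeCompl M)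
  choose φ u hφu using fun k : Fin n =>
    Module.FinitePresentation.exists_lift_of_isLocalizedModule m.primeCompl
      (Algebra.linearMap R (Localization.AtPrime m)) (G k)
  refine ⟨mm, φ, ?_⟩
  -- the entries in the localization
  have hentry : ∀ j k, algebraMap R (Localization.AtPrime m) (φ k (mm j)) =
      if j = k then algebraMap R (Localization.AtPrime m) ((u k : R) * (s j : R)) else 0 := by
    intro j k
    have h1 := LinearMap.congr_fun (hφu k) (mm j)
    simp only [LinearMap.comp_apply, Algebra.linearMap_apply, LinearMap.smul_apply] at h1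
    rw [h1]
    have h2 : LocalizedModule.mkLinearMap m.primeCompl M (mm j) =
        (s j : R) • f (Pi.single j 1) := by
      rw [hms j, LocalizedModule.mkLinearMap_apply, LocalizedModule.smul'_mk]
      exact (LocalizedModule.mk_cancel (s j) (mm j)).symm
    have h3 : G k (mm j) = (s j : R) • (Pi.single j (1 : Localization.AtPrime m) : Fin n → _) k := by
      simp only [G, LinearMap.comp_apply, LinearMap.restrictScalars_apply, LinearMap.proj_apply]
      rw [h2, LinearMap.map_smul_of_tower]
      have : g (f (Pi.single j 1)) = Pi.single j 1 := LinearMap.congr_fun hgf _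
      rw [this]
      rfl
    rw [h3]
    by_cases hjk : j = k
    · subst hjk
      simp only [Pi.single_eq_same, if_true]
      rw [Submonoid.smul_def, Algebra.smul_def, Algebra.smul_def, mul_one, map_mul]
    · rw [if_neg hjk, Pi.single_eq_of_ne (Ne.symm hjk), smul_zero, smul_zero]
  set A₀ : Matrix (Fin n) (Fin n) R := Matrix.of fun j k => φ k (mm j) with hA₀
  have hmap : (algebraMap R (Localization.AtPrime m)).mapMatrix A₀ =
      Matrix.diagonal (fun j => algebraMap R (Localization.AtPrime m) ((u j : R) * (s j : R))) := by
    ext j k
    simp only [RingHom.mapMatrix_apply, Matrix.map_apply, hA₀, Matrix.of_apply, hentry,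
      Matrix.diagonal_apply]
    by_cases hjk : j = k
    · subst hjk; simp
    · simp [hjk]
  have hdet : algebraMap R (Localization.AtPrime m) A₀.det =
      algebraMap R (Localization.AtPrime m) (∏ j, ((u j : R) * (s j : R))) := by
    rw [RingHom.map_det, hmap, Matrix.det_diagonal, map_prod]
  intro hmem
  have hp : (∏ j, ((u j : R) * (s j : R))) ∈ m.primeCompl :=
    Submonoid.prod_mem _ (fun j _ => Submonoid.mul_mem _ (u j).2 (s j).2)
  have h1 := (IsLocalization.AtPrime.isUnit_to_map_iff (Localization.AtPrime m) m _).2 hp
  rw [← hdet] at h1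
  exact ((IsLocalization.AtPrime.isUnit_to_map_iff (Localization.AtPrime m) m _).1 h1) hmem

end Groth.Agent.Lib.Helper54.Serre
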