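import Groth.Agent.Lib.Helper54.SerreCancel

set_option autoImplicit false
set_option maxHeartbeats 400000
universe u

namespace Groth.Agent.Lib.Helper54.Serre

open Module TopologicalSpace

variable {R : Type u} [CommRing R] {P : Type u} [AddCommGroup P] [Module R P]

theorem hasDetRank_of_rankAtStalk [Module.Finite R P] [Module.Projective R P] (N : ℕ)
    (h : ∀ p : PrimeSpectrum R, N ≤ Module.rankAtStalk (R := R) P p) : HasDetRank R P N := by
  intro x
  haveI : Module.FinitePresentation R P := Module.finitePresentation_of_projective R P
  set m := x.asIdeal with hm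
  haveI : Module.Free (Localization.AtPrime m) (LocalizedModule m.primeCompl P) :=
    Module.free_of_flat_of_isLocalRing
  let b := Module.finBasis (Localization.AtPrime m) (LocalizedModule m.primeCompl P)
  have hN : N ≤ Module.finrank (Localization.AtPrime m) (LocalizedModule m.primeCompl P) :=
    h ⟨m, inferInstance⟩
  let f : (Fin N → Localization.AtPrime m) →ₗ[Localization.AtPrime m]
      LocalizedModule m.primeCompl P :=
    (Pi.basisFun (Localization.AtPrime m) (Fin N)).constr (Localization.AtPrime m)
      (fun i => b (Fin.castLE hN i))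
  let g : LocalizedModule m.primeCompl P →ₗ[Localization.AtPrime m]
      (Fin N → Localization.AtPrime m) :=
    LinearMap.pi (fun i => b.coord (Fin.castLE hN i))
  have hgf : g ∘ₗ f = LinearMap.id := by
    apply (Pi.basisFun (Localization.AtPrime m) (Fin N)).ext
    intro i
    have hfi : f ((Pi.basisFun (Localization.AtPrime m) (Fin N)) i) = b (Fin.castLE hN i) :=
      Module.Basis.constr_basis _ _ _ i
    rw [LinearMap.comp_apply, hfi]
    funext j
    simp only [g, LinearMap.pi_apply, Module.Basis.coord_apply, Module.Basis.repr_self,
      LinearMap.id_apply, Pi.basisFun_apply]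
    rw [Finsupp.single_apply, Pi.single_apply]
    by_cases hij : i = j
    · subst hij; simp
    · rw [if_neg (fun h => hij (Fin.castLE_injective hN h)), if_neg (Ne.symm hij)]
  exact exists_det_of_local_summand m N f g hgf

theorem noetherianSpace_maximalSpectrum [IsNoetherianRing R] :
    NoetherianSpace (MaximalSpectrum R) :=
  Topology.IsInducing.noetherianSpace (i := MaximalSpectrum.toPrimeSpectrum) ⟨rfl⟩

theorem dim_maximalSpectrum_le (d : ℕ) (hdim : ringKrullDim R = d) :
    topologicalKrullDim (MaximalSpectrum R) ≤ d := by
  have h1 : topologicalKrullDim (MaximalSpectrum R) ≤ topologicalKrullDim (PrimeSpectrum R) :=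
    Topology.IsInducing.topologicalKrullDim_le (f := MaximalSpectrum.toPrimeSpectrum) ⟨rfl⟩
  rw [PrimeSpectrum.topologicalKrullDim_eq_ringKrullDim, hdim] at h1
  exact h1

end Groth.Agent.Lib.Helper54.Serre
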