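import Groth.Agent.Lib.Helper54.SerreCompare

set_option autoImplicit false
set_option maxHeartbeats 400000
universe u

namespace Groth.Agent.Lib.Helper54.Serre

open Module TopologicalSpace

variable {R : Type u} [CommRing R] {M : Type u} [AddCommGroup M] [Module R M]

/-- A closed subset of a Noetherian maximal spectrum is cut out by finitely many elements. -/
theorem exists_fin_generators_closed [NoetherianSpace (MaximalSpectrum R)]
    (F : Set (MaximalSpectrum R)) (hF : IsClosed F) :
    ∃ (l : ℕ) (b : Fin l → R), (∀ i, ∀ x ∈ F, b i ∈ x.asIdeal) ∧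
      ∀ x, x ∉ F → ∃ i, b i ∉ x.asIdeal := by
  classical
  obtain ⟨Z, hZ, hZF⟩ := isClosed_induced_iff.1 hF
  obtain ⟨I, rfl⟩ := (PrimeSpectrum.isClosed_iff_zeroLocus_ideal Z).1 hZ
  have hmemF : ∀ x : MaximalSpectrum R, x ∈ F ↔ (I : Set R) ⊆ x.asIdeal := by
    intro x
    rw [← hZF]
    simp [MaximalSpectrum.toPrimeSpectrum]
  have hcover : Fᶜ ⊆ ⋃ a : I, {x : MaximalSpectrum R | (a : R) ∉ x.asIdeal} := by
    intro x hx
    rw [Set.mem_compl_iff, hmemF, Set.not_subset] at hx
    obtain ⟨a, haI, hax⟩ := hx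
    exact Set.mem_iUnion.2 ⟨⟨a, haI⟩, hax⟩
  obtain ⟨t, ht⟩ := (NoetherianSpace.isCompact (Fᶜ)).elim_finite_subcover
    (fun a : I => {x : MaximalSpectrum R | (a : R) ∉ x.asIdeal})
    (fun a => (isClosed_mem (a : R)).isOpen_compl) hcover
  refine ⟨t.card, fun i => ((t.equivFin.symm i : t) : I), ?_, ?_⟩
  · intro i x hx
    exact (hmemF x).1 hx ((t.equivFin.symm i : t) : I).2
  · intro x hx
    have := ht hx
    simp only [Set.mem_iUnion] at this
    obtain ⟨a, hat, hax⟩ := this
    refine ⟨t.equivFin ⟨a, hat⟩, ?_⟩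
    simpa using hax

/-- Chinese remainder theorem for the fibres of a module at finitely many closed points. -/
theorem exists_crt_module {n : ℕ} (xs : Fin n → MaximalSpectrum R) (hxs : Function.Injective xs)
    (v : ∀ i, M ⧸ ((xs i).asIdeal • ⊤ : Submodule R M)) :
    ∃ s₀ : M, ∀ i, ((xs i).asIdeal • ⊤ : Submodule R M).mkQ s₀ = v i := by
  classical
  choose vt hvt using fun i => Submodule.mkQ_surjective _ (v i)
  have hcop : Pairwise (Function.onFun IsCoprime (fun i : Fin n => (xs i).asIdeal)) := by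
    intro i j hij
    apply Ideal.isCoprime_of_isMaximal
    intro h
    exact hij (hxs (MaximalSpectrum.ext h))
  choose e he using fun i : Fin n =>
    Ideal.exists_forall_sub_mem_ideal hcop (fun j => if j = i then (1 : R) else 0)
  refine ⟨∑ i, e i • vt i, fun j => ?_⟩
  rw [← hvt j, map_sum]
  have hterm : ∀ i, ((xs j).asIdeal • ⊤ : Submodule R M).mkQ (e i • vt i) =
      if i = j then ((xs j).asIdeal • ⊤ : Submodule R M).mkQ (vt j) else 0 := by
    intro i
    by_cases hij : i = j
    · subst hij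
      rw [if_pos rfl]
      have h1 := he i i
      rw [if_pos rfl] at h1
      have : e i • vt i = vt i + (e i - 1) • vt i := by rw [sub_smul, one_smul]; abel
      rw [this, map_add]
      have h0 : ((xs i).asIdeal • ⊤ : Submodule R M).mkQ ((e i - 1) • vt i) = 0 := by
        rw [Submodule.mkQ_apply, Submodule.Quotient.mk_eq_zero]
        exact Submodule.smul_mem_smul h1 Submodule.mem_top
      rw [h0, add_zero]
    · rw [if_neg hij]
      have h1 := he i j
      rw [if_neg (Ne.symm hij), sub_zero] at h1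
      rw [Submodule.mkQ_apply, Submodule.Quotient.mk_eq_zero]
      exact Submodule.smul_mem_smul h1 Submodule.mem_top
  simp only [hterm]
  rw [Finset.sum_ite_eq' Finset.univ j]
  simp

/-- Outside `F` the relative rank of a tuple containing `b • M` (with `b` a unit at `x`) is at
least `k`. -/
theorem le_rkq_of_fibre_dim {h k : ℕ} (s : Fin h → M) (x : MaximalSpectrum R)
    (hdimx : h + k ≤ finrank (R ⧸ x.asIdeal)
      ((M ⧸ (x.asIdeal • ⊤ : Submodule R M)) ⧸ Bq (M := M) x))
    {N' : ℕ} (T : Fin N' → M) (b : R) (hb : b ∉ x.asIdeal)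
    (hT : ∀ m : M, b • m ∈ Submodule.span R (Set.range T)) : k ≤ rkq s x N' T := by
  letI := Ideal.Quotient.field x.asIdeal
  obtain ⟨f, hf⟩ := exists_linearIndependent_of_le_finrank hdimx
  choose m hm using fun j => img_surjective x (f j)
  have hli : LinearIndependent (R ⧸ x.asIdeal) (fun j => img x (m j)) := by
    have : (fun j => img x (m j)) = f := funext hm
    rw [this]; exact hf
  rw [linearIndependent_img_iff] at hli
  obtain ⟨φ, hφ⟩ := (linearIndependent_ev_iff x m).1 hli
  have hdet : (Matrix.of fun j k => φ k (b • m j)).det ∉ x.asIdeal := by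
    have : (Matrix.of fun j k => φ k (b • m j)) = b • (Matrix.of fun j k => φ k (m j)) := by
      ext j k
      simp [map_smul]
    rw [this, Matrix.det_smul]
    intro hmem
    rcases (Ideal.IsMaximal.isPrime x.isMaximal).mem_or_mem hmem with h1 | h1
    · exact hb ((Ideal.IsMaximal.isPrime x.isMaximal).mem_of_pow_mem _ h1)
    · exact hφ h1
  have hsub : Submodule.span R (Set.range T) ≤ Submodule.span R (Set.range (app s T)) := by
    apply Submodule.span_mono
    rw [range_app]
    exact Set.subset_union_right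
  have h1 := le_rk_of_det x (app s T) (fun j => b • m j) (fun j => hsub (hT (m j))) φ hdet
  have h2 := rk_app s x T
  have h3 : finrank (R ⧸ x.asIdeal) (Sx s x) ≤ h := by
    unfold Sx
    exact (finrank_range_le_card _).trans (by simp)
  omega

theorem rkq_one_lt_one_of_mem {h : ℕ} (s : Fin h → M) (x : MaximalSpectrum R) (z : M)
    (hz : ev x z ∈ Sx s x) : rkq s x 1 (fun _ => z) < 1 := by
  letI := Ideal.Quotient.field x.asIdeal
  unfold rkq frank
  have h0 : (Sx s x).mkQ (ev x z) = 0 := by
    rw [Submodule.mkQ_apply, Submodule.Quotient.mk_eq_zero]; exact hz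
  have : Submodule.span (R ⧸ x.asIdeal) (Set.range (fun _ : Fin 1 => (Sx s x).mkQ (ev x z))) = ⊥ := by
    rw [Submodule.span_eq_bot]
    rintro _ ⟨_, rfl⟩
    exact h0
  rw [this, finrank_bot]
  exact Nat.zero_lt_one

/-- Serre's proposition on sections in general position. -/
theorem serre_prop [NoetherianSpace (MaximalSpectrum R)] [Module.Finite R M]
    (h : ℕ) (s : Fin h → M) (F : Set (MaximalSpectrum R)) (hF : IsClosed F)
    (n : ℕ) (xs : Fin n → MaximalSpectrum R) (hxs : Function.Injective xs) (hxF : ∀ i, xs i ∈ F)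
    (v : ∀ i : Fin n, M ⧸ ((xs i).asIdeal • ⊤ : Submodule R M)) (k : ℕ)
    (hdim : ∀ x : MaximalSpectrum R, h + k ≤ finrank (R ⧸ x.asIdeal)
      ((M ⧸ (x.asIdeal • ⊤ : Submodule R M)) ⧸ Bq (M := M) x))
    (hsF : ∀ x : MaximalSpectrum R,
      ¬ LinearIndependent (R ⧸ x.asIdeal) (fun i => img x (s i)) → x ∈ F) :
    ∃ (t : M) (F' : Set (MaximalSpectrum R)), IsClosed F' ∧
      (∀ i : Fin n, img (xs i) t = (Bq (xs i)).mkQ (v i)) ∧
      (∀ x : MaximalSpectrum R, ¬ LinearIndependent (R ⧸ x.asIdeal)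
        (Fin.snoc (fun i => img x (s i)) (img x t) : Fin (h + 1) → _) → x ∈ F ∪ F') ∧
      ∀ Z : IrreducibleCloseds (MaximalSpectrum R), (Z : Set (MaximalSpectrum R)) ⊆ F' →
        (k : ℕ∞) ≤ Order.coheight Z := by
  classical
  obtain ⟨l, b, hbF, hbU⟩ := exists_fin_generators_closed F hF
  obtain ⟨s₀, hs₀⟩ := exists_crt_module xs hxs v
  obtain ⟨u, g, hg⟩ := Module.Finite.exists_fin (R := R) (M := M)
  let T' : Fin (l * u) → M :=
    fun p => b (finProdFinEquiv.symm p).1 • g (finProdFinEquiv.symm p).2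
  let T : Fin (l * u + 1) → M := Fin.cons s₀ T'
  have hsF' : ∀ x : MaximalSpectrum R, x ∉ F →
      LinearIndependent (R ⧸ x.asIdeal) (fun i => ev x (s i)) := fun x hx =>
    (linearIndependent_img_iff x s).1 (by_contra fun hcon => hx (hsF x hcon))
  have hrank : ∀ x : MaximalSpectrum R, x ∉ F → k ≤ rkq s x (l * u + 1) T := by
    intro x hx
    obtain ⟨i₀, hi₀⟩ := hbU x hx
    apply le_rkq_of_fibre_dim s x (hdim x) T (b i₀) hi₀
    intro m
    have hm : m ∈ Submodule.span R (Set.range g) := hg ▸ Submodule.mem_top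
    induction hm using Submodule.span_induction with
    | mem z hz =>
      obtain ⟨j, rfl⟩ := hz
      refine Submodule.subset_span ⟨(finProdFinEquiv (i₀, j)).succ, ?_⟩
      simp only [T, Fin.cons_succ, T', Equiv.symm_apply_apply]
    | zero => rw [smul_zero]; exact Submodule.zero_mem _
    | add a c _ _ ha hc => rw [smul_add]; exact Submodule.add_mem _ ha hc
    | smul r a _ ha => rw [smul_comm]; exact Submodule.smul_mem _ _ ha
  have hcl := isClosed_union_rkq_lt s F hF hsF'
  obtain ⟨y, hy, hconc⟩ := exists_reduction' (R := R) (M := M) (rkq s) (rkq_drop s) (rkq_choice s)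
    F hF hcl k (l * u) T (by
      intro w _ C hCF hC
      obtain ⟨x, hxC, hxF'⟩ := Set.not_subset.1 hCF
      rcases hC hxC with h1 | h1
      · exact (hxF' h1).elim
      · have h2 : k < w := lt_of_le_of_lt (hrank x hxF') h1
        have h3 : ((k + 1 : ℕ) : ℕ∞) ≤ (w : ℕ∞) := by exact_mod_cast h2
        exact h3.trans le_add_self)
  have hT0 : T 0 = s₀ := rfl
  rw [hT0] at hconc
  set tstar := s₀ + y with htstar
  -- the closed set where `tstar` is dependent on `s`
  have hZcl := hcl 1 (fun _ => tstar) 1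
  obtain ⟨S, hSfin, hSclosed, hSirr, hSU⟩ :=
    NoetherianSpace.exists_finite_set_isClosed_irreducible hZcl
  let S' : Finset (Set (MaximalSpectrum R)) := hSfin.toFinset.filter (fun C => ¬ C ⊆ F)
  have hS' : ∀ C ∈ S', C ∈ S ∧ ¬ C ⊆ F := by
    intro C hC
    obtain ⟨h1, h2⟩ := Finset.mem_filter.1 hC
    exact ⟨hSfin.mem_toFinset.1 h1, h2⟩
  refine ⟨tstar, ⋃ C ∈ S', C, isClosed_biUnion_finset (fun C hC => hSclosed C (hS' C hC).1),
    ?_, ?_, ?_⟩
  · -- values at the points `xs i`
    intro i
    have hyi : y ∈ ((xs i).asIdeal • ⊤ : Submodule R M) := by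
      refine Submodule.span_le.2 ?_ hy
      rintro _ ⟨p, rfl⟩
      simp only [T, Fin.cons_succ, T']
      exact Submodule.smul_mem_smul (hbF _ (xs i) (hxF i)) Submodule.mem_top
    have : ((xs i).asIdeal • ⊤ : Submodule R M).mkQ tstar = v i := by
      rw [htstar, map_add, hs₀ i]
      have : ((xs i).asIdeal • ⊤ : Submodule R M).mkQ y = 0 := by
        rw [Submodule.mkQ_apply, Submodule.Quotient.mk_eq_zero]; exact hyi
      rw [this, add_zero]
    unfold img
    rw [this]
  · -- dependence locus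
    intro x hx
    by_contra hxFF
    rw [Set.mem_union, not_or] at hxFF
    obtain ⟨hxF', hxF''⟩ := hxFF
    apply hx
    letI := Ideal.Quotient.field x.asIdeal
    have hli : LinearIndependent (R ⧸ x.asIdeal) (fun i => img x (s i)) :=
      by_contra fun hcon => hxF' (hsF x hcon)
    rw [linearIndependent_finSnoc]
    refine ⟨hli, fun hmem => ?_⟩
    have h1 : ev x tstar ∈ Sx s x := by
      have := Submodule.apply_mem_span_image_of_mem_span (cmp x) hmem
      rw [cmp_img, ← Set.range_comp] at this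
      exact this
    have h2 : x ∈ F ∪ {x | rkq s x 1 (fun _ => tstar) < 1} :=
      Or.inr (rkq_one_lt_one_of_mem s x tstar h1)
    rw [hSU] at h2
    obtain ⟨C, hCS, hxC⟩ := h2
    apply hxF''
    have hCS' : C ∈ S' := Finset.mem_filter.2
      ⟨hSfin.mem_toFinset.2 hCS, fun hCF => hxF' (hCF hxC)⟩
    exact Set.mem_biUnion hCS' hxC
  · -- codimension
    intro Z hZ
    have hZ' : (Z : Set (MaximalSpectrum R)) ⊆ ⋃₀ (S' : Set (Set (MaximalSpectrum R))) := by
      intro z hz
      have := hZ hz
      simp only [Set.mem_iUnion] at this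
      obtain ⟨C, hC, hzC⟩ := this
      exact ⟨C, hC, hzC⟩
    obtain ⟨C, hCS', hZC⟩ := isIrreducible_iff_sUnion_isClosed.1 Z.isIrreducible S'
      (fun C hC => hSclosed C (hS' C hC).1) hZ'
    obtain ⟨hCS, hCF⟩ := hS' C hCS'
    let C' : IrreducibleCloseds (MaximalSpectrum R) := ⟨C, hSirr C hCS, hSclosed C hCS⟩
    have h1 : (k : ℕ∞) ≤ Order.coheight C' := by
      apply hconc C' hCF
      rw [hSU]
      exact Set.subset_sUnion_of_mem hCS
    have h2 : Z ≤ C' := hZC
    exact h1.trans (Order.coheight_anti h2)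

end Groth.Agent.Lib.Helper54.Serre
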