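import Groth.Agent.Lib.Helper54.SerreApp
import Groth.Agent.Lib.Helper54.SerreCore2

set_option autoImplicit false
set_option maxHeartbeats 400000
universe u

namespace Groth.Agent.Lib.Helper54.Serre

open Module TopologicalSpace

variable {R : Type u} [CommRing R] {M : Type u} [AddCommGroup M] [Module R M]
variable {h : ℕ} (s : Fin h → M)

/-- The span of the evaluations of a fixed family. -/
def Sx (x : MaximalSpectrum R) :
    Submodule (R ⧸ x.asIdeal) ((M →ₗ[R] R) → R ⧸ x.asIdeal) :=
  Submodule.span (R ⧸ x.asIdeal) (Set.range fun i => ev x (s i))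

/-- Rank modulo the span of a fixed family. -/
noncomputable def rkq (x : MaximalSpectrum R) (k : ℕ) (t : Fin k → M) : ℕ :=
  letI := Ideal.Quotient.field x.asIdeal
  frank (K := R ⧸ x.asIdeal) (fun i => (Sx s x).mkQ (ev x (t i)))

theorem rkq_drop (x : MaximalSpectrum R) (n : ℕ) (t : Fin (n + 1) → M) (a : Fin n → R) :
    rkq s x (n + 1) t ≤ rkq s x n (fun i => t i.castSucc + a i • t (Fin.last n)) + 1 := by
  letI := Ideal.Quotient.field x.asIdeal
  unfold rkq
  have := frank_le_add_one (K := R ⧸ x.asIdeal) (fun i => (Sx s x).mkQ (ev x (t i)))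
    (fun i => Ideal.Quotient.mk x.asIdeal (a i))
  have key : (fun i => (Sx s x).mkQ (ev x ((fun i => t i.castSucc + a i • t (Fin.last n)) i))) =
      fun i => (Sx s x).mkQ (ev x (t i.castSucc)) +
        Ideal.Quotient.mk x.asIdeal (a i) • (Sx s x).mkQ (ev x (t (Fin.last n))) := by
    funext i
    show (Sx s x).mkQ (ev x (t i.castSucc + a i • t (Fin.last n))) = _
    rw [ev_add, ev_smul, map_add, map_smul]
  rw [key]
  exact this

theorem rkq_choice (P : Finset (MaximalSpectrum R)) (n : ℕ) (t : Fin (n + 1) → M) :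
    ∃ a : Fin n → R, ∀ x ∈ P,
      min n (rkq s x (n + 1) t) ≤ rkq s x n (fun i => t i.castSucc + a i • t (Fin.last n)) := by
  classical
  have hloc : ∀ x : MaximalSpectrum R, ∃ r : Fin n → R,
      ∀ a : Fin n → R, (∀ i, a i - r i ∈ x.asIdeal) →
      min n (rkq s x (n + 1) t) ≤
        rkq s x n (fun i => t i.castSucc + a i • t (Fin.last n)) := by
    intro x
    letI := Ideal.Quotient.field x.asIdeal
    obtain ⟨c, hc⟩ := exists_coeff_frank (K := R ⧸ x.asIdeal)
      (fun i => (Sx s x).mkQ (ev x (t i)))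
    choose r hr using fun i => Ideal.Quotient.mk_surjective (c i)
    refine ⟨r, fun a ha => ?_⟩
    unfold rkq
    have key : (fun i => (Sx s x).mkQ (ev x ((fun i => t i.castSucc + a i • t (Fin.last n)) i))) =
        fun i => (Sx s x).mkQ (ev x (t i.castSucc)) +
          c i • (Sx s x).mkQ (ev x (t (Fin.last n))) := by
      funext i
      show (Sx s x).mkQ (ev x (t i.castSucc + a i • t (Fin.last n))) = _
      rw [ev_add, ev_smul, map_add, map_smul, ← hr i, Ideal.Quotient.eq.2 (ha i)]
    rw [key]
    exact hc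
  choose r hr using hloc
  have hcop : Pairwise (Function.onFun IsCoprime (fun x : P => x.1.asIdeal)) := by
    intro x y hxy
    apply Ideal.isCoprime_of_isMaximal
    intro h
    exact hxy (Subtype.ext (MaximalSpectrum.ext h))
  choose a ha using fun i : Fin n =>
    Ideal.exists_forall_sub_mem_ideal hcop (fun x : P => r x.1 i)
  refine ⟨a, fun x hx => hr x a (fun i => ha i ⟨x, hx⟩)⟩

/-- The concatenation of two families. -/
def app {k : ℕ} (t : Fin k → M) : Fin (h + k) → M :=
  fun i => Sum.elim s t (finSumFinEquiv.symm i)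

theorem range_app {k : ℕ} (t : Fin k → M) :
    Set.range (app s t) = Set.range s ∪ Set.range t := by
  have : app s t = Sum.elim s t ∘ finSumFinEquiv.symm := rfl
  rw [this, (finSumFinEquiv.symm.surjective).range_comp, Set.Sum.elim_range]

theorem rk_app (x : MaximalSpectrum R) {k : ℕ} (t : Fin k → M) :
    letI := Ideal.Quotient.field x.asIdeal
    rk x (h + k) (app s t) = finrank (R ⧸ x.asIdeal) (Sx s x) + rkq s x k t := by
  letI := Ideal.Quotient.field x.asIdeal
  let A : Submodule (R ⧸ x.asIdeal) ((M →ₗ[R] R) → R ⧸ x.asIdeal) := Sx s x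
  let T : Submodule (R ⧸ x.asIdeal) ((M →ₗ[R] R) → R ⧸ x.asIdeal) :=
    Submodule.span (R ⧸ x.asIdeal) (Set.range fun i => ev x (t i))
  haveI : FiniteDimensional (R ⧸ x.asIdeal) A :=
    FiniteDimensional.span_of_finite _ (Set.finite_range _)
  haveI : FiniteDimensional (R ⧸ x.asIdeal) T :=
    FiniteDimensional.span_of_finite _ (Set.finite_range _)
  have e1 : Submodule.span (R ⧸ x.asIdeal) (Set.range (fun i => ev x (app s t i))) = A ⊔ T := by
    have : Set.range (fun i => ev x (app s t i)) =
        Set.range (fun i => ev x (s i)) ∪ Set.range (fun i => ev x (t i)) := by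
      have e1 : (fun i => ev x (app s t i)) = ev x ∘ app s t := rfl
      have e2 : (fun i => ev x (s i)) = ev x ∘ s := rfl
      have e3 : (fun i => ev x (t i)) = ev x ∘ t := rfl
      rw [e1, e2, e3, Set.range_comp, Set.range_comp, Set.range_comp, range_app, Set.image_union]
    rw [this, Submodule.span_union]
    rfl
  have e2 : Submodule.span (R ⧸ x.asIdeal) (Set.range (fun i => (Sx s x).mkQ (ev x (t i)))) =
      T.map A.mkQ := by
    have e3 : (fun i => (Sx s x).mkQ (ev x (t i))) = A.mkQ ∘ (fun i => ev x (t i)) := rfl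
    rw [e3, Set.range_comp, Submodule.map_span]
  have h1 : rk x (h + k) (app s t) = finrank (R ⧸ x.asIdeal) ↥(A ⊔ T) := by
    unfold rk frank
    rw [e1]
  have h2 : rkq s x k t = finrank (R ⧸ x.asIdeal) ↥(T.map A.mkQ) := by
    unfold rkq frank
    rw [e2]
  let f : ↥(A ⊔ T) →ₗ[R ⧸ x.asIdeal] (((M →ₗ[R] R) → R ⧸ x.asIdeal) ⧸ A) :=
    A.mkQ.domRestrict (A ⊔ T)
  have hrange : LinearMap.range f = T.map A.mkQ := by
    rw [LinearMap.range_domRestrict, Submodule.map_sup, Submodule.mkQ_map_self, bot_sup_eq]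
  have hker : finrank (R ⧸ x.asIdeal) (LinearMap.ker f) = finrank (R ⧸ x.asIdeal) A := by
    have : LinearMap.ker f = Submodule.comap (A ⊔ T).subtype A := by
      rw [LinearMap.ker_domRestrict, Submodule.ker_mkQ]
    rw [this]
    exact (Submodule.comapSubtypeEquivOfLe (le_sup_left : A ≤ A ⊔ T)).finrank_eq
  have hrn := LinearMap.finrank_range_add_finrank_ker f
  rw [hrange, hker] at hrn
  rw [h1, h2, ← hrn, add_comm]

theorem isClosed_union_rkq_lt (F : Set (MaximalSpectrum R)) (hF : IsClosed F)
    (hsF : ∀ x : MaximalSpectrum R, x ∉ F →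
      letI := Ideal.Quotient.field x.asIdeal
      LinearIndependent (R ⧸ x.asIdeal) (fun i => ev x (s i)))
    (k : ℕ) (t : Fin k → M) (w : ℕ) :
    IsClosed (F ∪ {x | rkq s x k t < w}) := by
  have : F ∪ {x | rkq s x k t < w} = F ∪ {x | rk x (h + k) (app s t) < h + w} := by
    ext x
    simp only [Set.mem_union, Set.mem_setOf_eq]
    by_cases hx : x ∈ F
    · simp [hx]
    · letI := Ideal.Quotient.field x.asIdeal
      have h1 := rk_app s x t
      have h2 : finrank (R ⧸ x.asIdeal) (Sx s x) = h := by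
        unfold Sx
        rw [finrank_span_eq_card (hsF x hx), Fintype.card_fin]
      rw [h2] at h1
      simp only [hx, false_or]
      omega
  rw [this]
  exact hF.union (isClosed_rk_lt _ _ _)

end Groth.Agent.Lib.Helper54.Serre
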