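import Groth.Agent.Lib.Helper54.SerreLA
import Groth.Agent.Lib.Helper54.SerreCore

set_option autoImplicit false
set_option maxHeartbeats 400000
universe u

namespace Groth.Agent.Lib.Helper54.Serre

open Module

variable {R : Type u} [CommRing R] {M : Type u} [AddCommGroup M] [Module R M]

/-- Evaluation of all linear forms at an element, modulo a maximal ideal. -/
def ev (x : MaximalSpectrum R) (m : M) : (M →ₗ[R] R) → R ⧸ x.asIdeal :=
  fun φ => Ideal.Quotient.mk x.asIdeal (φ m)

theorem ev_add (x : MaximalSpectrum R) (m m' : M) : ev x (m + m') = ev x m + ev x m' := by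
  funext φ; simp [ev]

theorem ev_smul (x : MaximalSpectrum R) (r : R) (m : M) :
    ev x (r • m) = Ideal.Quotient.mk x.asIdeal r • ev x m := by
  funext φ; simp [ev]

/-- The rank at `x` of a tuple of elements. -/
noncomputable def rk (x : MaximalSpectrum R) (k : ℕ) (t : Fin k → M) : ℕ :=
  letI := Ideal.Quotient.field x.asIdeal
  frank (K := R ⧸ x.asIdeal) (fun i => ev x (t i))

theorem rk_drop (x : MaximalSpectrum R) (n : ℕ) (t : Fin (n + 1) → M) (a : Fin n → R) :
    rk x (n + 1) t ≤ rk x n (fun i => t i.castSucc + a i • t (Fin.last n)) + 1 := by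
  letI := Ideal.Quotient.field x.asIdeal
  unfold rk
  have := frank_le_add_one (K := R ⧸ x.asIdeal) (fun i => ev x (t i))
    (fun i => Ideal.Quotient.mk x.asIdeal (a i))
  simp only [ev_add, ev_smul]
  exact this

theorem rk_choice (P : Finset (MaximalSpectrum R)) (n : ℕ) (t : Fin (n + 1) → M) :
    ∃ a : Fin n → R, ∀ x ∈ P,
      min n (rk x (n + 1) t) ≤ rk x n (fun i => t i.castSucc + a i • t (Fin.last n)) := by
  classical
  -- local choices
  have hloc : ∀ x : MaximalSpectrum R, ∃ r : Fin n → R,
      ∀ a : Fin n → R, (∀ i, a i - r i ∈ x.asIdeal) →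
      min n (rk x (n + 1) t) ≤ rk x n (fun i => t i.castSucc + a i • t (Fin.last n)) := by
    intro x
    letI := Ideal.Quotient.field x.asIdeal
    obtain ⟨c, hc⟩ := exists_coeff_frank (K := R ⧸ x.asIdeal) (fun i => ev x (t i))
    choose r hr using fun i => Ideal.Quotient.mk_surjective (c i)
    refine ⟨r, fun a ha => ?_⟩
    unfold rk
    have key : (fun i => ev x ((fun i => t i.castSucc + a i • t (Fin.last n)) i)) =
        fun i => ev x (t i.castSucc) + c i • ev x (t (Fin.last n)) := by
      funext i
      show ev x (t i.castSucc + a i • t (Fin.last n)) = _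
      rw [ev_add, ev_smul, ← hr i, Ideal.Quotient.eq.2 (ha i)]
    rw [key]
    exact hc
  choose r hr using hloc
  have hcop : Pairwise (Function.onFun IsCoprime (fun x : P => x.1.asIdeal)) := by
    intro x y hxy
    apply Ideal.isCoprime_of_isMaximal
    intro h
    exact hxy (Subtype.ext (MaximalSpectrum.ext h))
  choose a ha using fun i : Fin n =>
    Ideal.exists_forall_sub_mem_ideal hcop (fun x : P => r x.1 i)
  refine ⟨a, fun x hx => hr x a (fun i => ha i ⟨x, hx⟩)⟩

/-- Determinantal criterion for independence of evaluations. -/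
theorem linearIndependent_ev_iff (x : MaximalSpectrum R) {w : ℕ} (m : Fin w → M) :
    letI := Ideal.Quotient.field x.asIdeal
    LinearIndependent (R ⧸ x.asIdeal) (fun j => ev x (m j)) ↔
      ∃ φ : Fin w → (M →ₗ[R] R), (Matrix.of fun j k => φ k (m j)).det ∉ x.asIdeal := by
  letI := Ideal.Quotient.field x.asIdeal
  have hdet : ∀ φ : Fin w → (M →ₗ[R] R),
      LinearIndependent (R ⧸ x.asIdeal) (fun j => fun k => ev x (m j) (φ k)) ↔
        (Matrix.of fun j k => φ k (m j)).det ∉ x.asIdeal := by
    intro φ
    set A₀ : Matrix (Fin w) (Fin w) R := Matrix.of fun j k => φ k (m j) with hA₀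
    set A : Matrix (Fin w) (Fin w) (R ⧸ x.asIdeal) := (Ideal.Quotient.mk x.asIdeal).mapMatrix A₀
      with hA
    have h1 : (fun j => fun k => ev x (m j) (φ k)) = A.row := by
      funext j k
      simp [hA, hA₀, ev, Matrix.row]
    rw [h1, Matrix.linearIndependent_rows_iff_isUnit, Matrix.isUnit_iff_isUnit_det, hA,
      ← RingHom.map_det, isUnit_iff_ne_zero, Ne, Ideal.Quotient.eq_zero_iff_mem]
  constructor
  · intro h
    obtain ⟨ι, hι⟩ := exists_coords (K := R ⧸ x.asIdeal) (fun j => ev x (m j)) h
    exact ⟨ι, (hdet ι).1 hι⟩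
  · rintro ⟨φ, hφ⟩
    have := (hdet φ).2 hφ
    exact LinearIndependent.of_comp (LinearMap.funLeft (R ⧸ x.asIdeal) (R ⧸ x.asIdeal) φ) this

theorem rk_lt_iff (x : MaximalSpectrum R) (k : ℕ) (t : Fin k → M) (w : ℕ) :
    letI := Ideal.Quotient.field x.asIdeal
    rk x k t < w ↔ ∀ σ : Fin w → Fin k,
      ¬ LinearIndependent (R ⧸ x.asIdeal) (fun j => ev x (t (σ j))) := by
  letI := Ideal.Quotient.field x.asIdeal
  classical
  constructor
  · intro h σ hli
    have h1 : finrank (R ⧸ x.asIdeal)
        (Submodule.span (R ⧸ x.asIdeal) (Set.range (fun j => ev x (t (σ j))))) = w := by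
      rw [finrank_span_eq_card hli, Fintype.card_fin]
    have h2 : Submodule.span (R ⧸ x.asIdeal) (Set.range (fun j => ev x (t (σ j)))) ≤
        Submodule.span (R ⧸ x.asIdeal) (Set.range (fun i => ev x (t i))) := by
      apply Submodule.span_mono
      rintro _ ⟨j, rfl⟩
      exact ⟨σ j, rfl⟩
    have h3 := Submodule.finrank_mono h2
    rw [h1] at h3
    unfold rk frank at h
    omega
  · intro h
    by_contra hge
    rw [not_lt] at hge
    obtain ⟨κ', a, ha, hspan, hli⟩ :=
      exists_linearIndependent' (R ⧸ x.asIdeal) (fun i => ev x (t i))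
    haveI : Finite κ' := Finite.of_injective a ha
    haveI : Fintype κ' := Fintype.ofFinite κ'
    have hcard : w ≤ Fintype.card κ' := by
      rw [← finrank_span_eq_card hli, hspan]
      exact hge
    let e := Fintype.equivFin κ'
    let g : Fin w → κ' := fun j => e.symm (Fin.castLE hcard j)
    have hg : Function.Injective g := by
      intro i j hij
      exact Fin.castLE_injective hcard (e.symm.injective hij)
    exact h (fun j => a (g j)) (hli.comp g hg)

theorem isClosed_mem (r : R) : IsClosed {x : MaximalSpectrum R | r ∈ x.asIdeal} := by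
  have : {x : MaximalSpectrum R | r ∈ x.asIdeal} =
      MaximalSpectrum.toPrimeSpectrum ⁻¹' (PrimeSpectrum.zeroLocus {r}) := by
    ext x
    simp [MaximalSpectrum.toPrimeSpectrum]
  rw [this]
  exact (PrimeSpectrum.isClosed_zeroLocus _).preimage MaximalSpectrum.toPrimeSpectrum_continuous

theorem isClosed_rk_lt (k : ℕ) (t : Fin k → M) (w : ℕ) :
    IsClosed {x : MaximalSpectrum R | rk x k t < w} := by
  have : {x : MaximalSpectrum R | rk x k t < w} =
      ⋂ (σ : Fin w → Fin k), ⋂ (φ : Fin w → (M →ₗ[R] R)),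
        {x : MaximalSpectrum R | (Matrix.of fun j k => φ k (t (σ j))).det ∈ x.asIdeal} := by
    ext x
    simp only [Set.mem_setOf_eq, Set.mem_iInter]
    rw [rk_lt_iff]
    constructor
    · intro h σ φ
      by_contra hdet
      exact h σ ((linearIndependent_ev_iff x (fun j => t (σ j))).2 ⟨φ, hdet⟩)
    · intro h σ hli
      obtain ⟨φ, hφ⟩ := (linearIndependent_ev_iff x (fun j => t (σ j))).1 hli
      exact hφ (h σ φ)
  rw [this]
  exact isClosed_iInter fun σ => isClosed_iInter fun φ => isClosed_mem _

end Groth.Agent.Lib.Helper54.Serre
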