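import Groth.Agent.Lib.Helper54.SerreProj

set_option autoImplicit false
set_option maxHeartbeats 400000
universe u

namespace Groth.Agent.Lib.Helper54.Serre

open Module TopologicalSpace

variable {R : Type u} [CommRing R]

/-- Splitting off `ker φ` when `φ s = 1`. -/
noncomputable def kerProdEquiv {P : Type u} [AddCommGroup P] [Module R P] (φ : P →ₗ[R] R) (s : P)
    (hs : φ s = 1) : P ≃ₗ[R] (LinearMap.ker φ × R) where
  toFun p := (⟨p - φ p • s, by
    rw [LinearMap.mem_ker, map_sub, map_smul, hs, smul_eq_mul, mul_one, sub_self]⟩, φ p)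
  map_add' p q := by
    ext
    · simp only [map_add, add_smul, Prod.mk_add_mk, Submodule.coe_add]; abel
    · simp
  map_smul' c p := by
    ext
    · simp only [map_smul, smul_eq_mul, RingHom.id_apply, Prod.smul_mk, Submodule.coe_smul,
        smul_sub, mul_smul]
    · simp
  invFun x := x.1.1 + x.2 • s
  left_inv p := by simp
  right_inv x := by
    obtain ⟨⟨p', hp'⟩, c⟩ := x
    rw [LinearMap.mem_ker] at hp'
    ext
    · simp [hp', hs]
    · simp [hp', hs]

/-- Serre: a projective module of rank at least `d + j` everywhere has a free direct summand of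
rank `j`, in the form of a split injection. -/
theorem exists_split_free [NoetherianSpace (MaximalSpectrum R)] (d : ℕ)
    (hdim : topologicalKrullDim (MaximalSpectrum R) ≤ d) (j : ℕ) :
    ∀ (P : Type u) [AddCommGroup P] [Module R P] [Module.Finite R P] [Module.Projective R P],
      (∀ p : PrimeSpectrum R, d + j ≤ Module.rankAtStalk (R := R) P p) →
      ∃ (i : (Fin j → R) →ₗ[R] P) (r : P →ₗ[R] (Fin j → R)), r ∘ₗ i = LinearMap.id := by
  classical
  rcases subsingleton_or_nontrivial R with hR | hR
  · intro P _ _ _ _ _
    refine ⟨0, 0, ?_⟩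
    haveI : Subsingleton (Fin j → R) := inferInstance
    exact Subsingleton.elim _ _
  induction j with
  | zero =>
    intro P _ _ _ _ _
    refine ⟨0, 0, ?_⟩
    haveI : Subsingleton (Fin 0 → R) := inferInstance
    apply LinearMap.ext
    intro x
    exact Subsingleton.elim _ _
  | succ j ih =>
    intro P _ _ _ _ hrk
    have hA : HasDetRank R P (d + 1) :=
      hasDetRank_of_rankAtStalk (d + 1) (fun p => by have := hrk p; omega)
    obtain ⟨a', β, hβ⟩ := bass_unimodular d hdim hA (0 : P) (1 : R) (by
      intro x hx
      exact (x.isMaximal.ne_top ((Ideal.eq_top_iff_one _).2 hx)).elim)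
    set s : P := 0 + (1 : R) • a' with hs
    let E := kerProdEquiv β s hβ
    haveI : Module.Finite R (LinearMap.ker β) :=
      Module.Finite.of_surjective ((LinearMap.fst R (LinearMap.ker β) R) ∘ₗ E.toLinearMap)
        (by
          intro x
          exact ⟨E.symm (x, 0), by simp⟩)
    haveI : Module.Projective R (LinearMap.ker β) :=
      Module.Projective.of_split (E.symm.toLinearMap ∘ₗ LinearMap.inl R (LinearMap.ker β) R)
        ((LinearMap.fst R (LinearMap.ker β) R) ∘ₗ E.toLinearMap)
        (by
          apply LinearMap.ext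
          intro x
          simp)
    have hrk' : ∀ p : PrimeSpectrum R,
        d + j ≤ Module.rankAtStalk (R := R) (LinearMap.ker β) p := by
      intro p
      have h1 := congrFun (Module.rankAtStalk_eq_of_equiv (R := R) E) p
      have h2 := congrFun (Module.rankAtStalk_prod (R := R) (LinearMap.ker β) R) p
      rw [h2, Pi.add_apply, Module.rankAtStalk_self, Pi.one_apply] at h1
      have := hrk p
      omega
    obtain ⟨i', r', hri'⟩ := ih (LinearMap.ker β) hrk'
    let K : (Fin (j + 1) → R) ≃ₗ[R] ((Fin j → R) × R) :=
      (Fin.consLinearEquiv R (fun _ : Fin (j + 1) => R)).symm.trans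
        (LinearEquiv.prodComm R R (Fin j → R))
    refine ⟨E.symm.toLinearMap ∘ₗ (i'.prodMap LinearMap.id) ∘ₗ K.toLinearMap,
      K.symm.toLinearMap ∘ₗ (r'.prodMap LinearMap.id) ∘ₗ E.toLinearMap, ?_⟩
    apply LinearMap.ext
    intro x
    simp only [LinearMap.comp_apply, LinearEquiv.coe_coe, LinearEquiv.apply_symm_apply,
      LinearMap.id_apply]
    have : (r'.prodMap (LinearMap.id : R →ₗ[R] R)) ((i'.prodMap LinearMap.id) (K x)) = K x := by
      have h1 : r' (i' (K x).1) = (K x).1 := LinearMap.congr_fun hri' _
      rw [LinearMap.prodMap_apply, LinearMap.prodMap_apply]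
      exact Prod.ext h1 rfl
    rw [this, LinearEquiv.symm_apply_apply]

end Groth.Agent.Lib.Helper54.Serre
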