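/-
helper54: the local ring of a scheme locally of finite presentation over a base, at a point, is
essentially of finite presentation (`CAlgX.IsEssFinitePresentation`) over the local ring of the
base.
-/
import Mathlib
import Groth.Prelude.Def_CAlgX

set_option autoImplicit false
set_option maxHeartbeats 1000000
set_option linter.style.haveILetI false

namespace Groth.Agent.Lib.Helper54.StalkEssFP

open TensorProduct

universe u

/-- Chart form: if `B` is a finitely presented `A`-algebra, `R` is the localization of `A` at a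
prime and `S` the localization of `B` at a prime, compatibly, then `S` is essentially of finite
presentation over `R`. -/
theorem essFP_of_charts {A B R S : Type u} [CommRing A] [CommRing B] [CommRing R] [CommRing S]
    [Algebra A B] [Algebra.FinitePresentation A B] [Algebra A R] (p : Ideal A) [p.IsPrime]
    [IsLocalization.AtPrime R p] [Algebra B S] (q : Ideal B) [q.IsPrime]
    [IsLocalization.AtPrime S q] [Algebra R S] [Algebra A S] [IsScalarTower A R S]
    [IsScalarTower A B S] : CAlgX.IsEssFinitePresentation R S := by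
  classical
  letI aB : Algebra B (R ⊗[A] B) := Algebra.TensorProduct.rightAlgebra
  haveI locS₀ : IsLocalization (Algebra.algebraMapSubmonoid B p.primeCompl) (R ⊗[A] B) :=
    IsLocalization.tensorRight R p.primeCompl
  let ψ : R ⊗[A] B →ₐ[R] S :=
    Algebra.TensorProduct.lift (Algebra.ofId R S) (IsScalarTower.toAlgHom A B S)
      (fun _ _ => Commute.all _ _)
  letI aS₀S : Algebra (R ⊗[A] B) S := ψ.toRingHom.toAlgebra
  haveI t1 : IsScalarTower R (R ⊗[A] B) S :=
    IsScalarTower.of_algebraMap_eq (fun a => (ψ.commutes a).symm)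
  haveI t2 : IsScalarTower B (R ⊗[A] B) S := by
    refine IsScalarTower.of_algebraMap_eq (fun b => ?_)
    show algebraMap B S b = ψ ((1 : R) ⊗ₜ[A] b)
    rw [Algebra.TensorProduct.lift_tmul, map_one, one_mul]
    rfl
  have hle : Algebra.algebraMapSubmonoid B p.primeCompl ≤ q.primeCompl := by
    rintro _ ⟨a, ha, rfl⟩
    rw [← IsLocalization.AtPrime.isUnit_to_map_iff S q]
    have h1 : algebraMap B S (algebraMap A B a) = algebraMap R S (algebraMap A R a) := by
      rw [← IsScalarTower.algebraMap_apply A B S, ← IsScalarTower.algebraMap_apply A R S]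
    rw [h1]
    exact (IsLocalization.map_units R (⟨a, ha⟩ : p.primeCompl)).map (algebraMap R S)
  have hloc : IsLocalization (q.primeCompl.map (algebraMap B (R ⊗[A] B))) S :=
    IsLocalization.isLocalization_of_submonoid_le (R ⊗[A] B) S
      (Algebra.algebraMapSubmonoid B p.primeCompl) q.primeCompl hle
  exact ⟨R ⊗[A] B, inferInstance, inferInstance, aS₀S, t1, _, inferInstance, hloc⟩

open AlgebraicGeometry CategoryTheory

/-- The local ring of `X` at `x` is essentially of finite presentation over the local ring of `S`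
at `f x`, for `f : X ⟶ S` locally of finite presentation. -/
theorem stalk_isEssFinitePresentation {X S : Scheme.{u}} (f : X ⟶ S)
    [LocallyOfFinitePresentation f] (x : X) :
    letI := (f.stalkMap x).hom.toAlgebra
    CAlgX.IsEssFinitePresentation (S.presheaf.stalk (f x)) (X.presheaf.stalk x) := by
  letI aRS : Algebra (S.presheaf.stalk (f x)) (X.presheaf.stalk x) := (f.stalkMap x).hom.toAlgebra
  obtain ⟨_, ⟨V, hV : IsAffineOpen V, rfl⟩, hfxV, -⟩ :=
    (S.isBasis_affineOpens).exists_subset_of_mem_open (Set.mem_univ (f x)) isOpen_univ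
  obtain ⟨_, ⟨U, hU : IsAffineOpen U, rfl⟩, hxU, hUV⟩ :=
    (X.isBasis_affineOpens).exists_subset_of_mem_open
      (show x ∈ ((f ⁻¹ᵁ V : X.Opens) : Set X) from hfxV) (f ⁻¹ᵁ V).2
  have hUV' : U ≤ f ⁻¹ᵁ V := hUV
  letI aAB : Algebra Γ(S, V) Γ(X, U) := (f.appLE V U hUV').hom.toAlgebra
  haveI fpAB : Algebra.FinitePresentation Γ(S, V) Γ(X, U) :=
    HasRingHomProperty.appLE (P := @LocallyOfFinitePresentation) f ‹_› ⟨V, hV⟩ ⟨U, hU⟩ hUV'
  letI aAR := S.presheaf.algebra_section_stalk ⟨f x, hfxV⟩
  haveI locR := hV.isLocalization_stalk ⟨f x, hfxV⟩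
  letI aBS := X.presheaf.algebra_section_stalk ⟨x, hxU⟩
  haveI locS := hU.isLocalization_stalk ⟨x, hxU⟩
  letI aAS : Algebra Γ(S, V) (X.presheaf.stalk x) :=
    ((algebraMap (S.presheaf.stalk (f x)) (X.presheaf.stalk x)).comp
      (algebraMap Γ(S, V) (S.presheaf.stalk (f x)))).toAlgebra
  haveI t1 : IsScalarTower Γ(S, V) (S.presheaf.stalk (f x)) (X.presheaf.stalk x) :=
    IsScalarTower.of_algebraMap_eq (fun _ => rfl)
  haveI t2 : IsScalarTower Γ(S, V) Γ(X, U) (X.presheaf.stalk x) := by
    refine IsScalarTower.of_algebraMap_eq (fun a => ?_)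
    simp only [RingHom.algebraMap_toAlgebra, RingHom.coe_comp, Function.comp_apply,
      Scheme.Hom.germ_stalkMap_apply, Scheme.Hom.appLE,
      homOfLE_leOfHom, CommRingCat.hom_comp, X.presheaf.germ_res_apply]
  exact essFP_of_charts (hV.primeIdealOf ⟨f x, hfxV⟩).asIdeal (hU.primeIdealOf ⟨x, hxU⟩).asIdeal

end Groth.Agent.Lib.Helper54.StalkEssFP
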