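/-
helper54: the core of Stacks 10.99.8 without local / Noetherian hypotheses.
Given a commutative square `R → S`, `R → R'`, `S → S'`, `R' → S'` with `S'` a localization of
`S ⊗[R] R'`, an `S`-module `M` with `M ⧸ I M` flat over `R ⧸ I`, and `M' = S' ⊗[S] M`, such that the
kernel of `I ⊗ M → M` dies in `IR' ⊗[R'] M'`: then `IR' ⊗[R'] M' → M'` is injective and
`M' ⧸ IR' M'` is flat over `R' ⧸ IR'`.
-/
import Groth.Agent.Lib.Helper54.QFlat

set_option autoImplicit false
set_option maxHeartbeats 800000

namespace Groth.Agent.Lib.Helper54.TorLoc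

open TensorProduct Function
open Groth.Agent.Lib.Helper54

attribute [local instance] Algebra.TensorProduct.rightAlgebra

universe u

theorem core (R S R' S' : Type u) [CommRing R] [CommRing S] [CommRing R'] [CommRing S']
    [Algebra R S] [Algebra R R'] [Algebra S S'] [Algebra R' S'] [Algebra R S']
    [IsScalarTower R S S'] [IsScalarTower R R' S']
    (I : Ideal R) (M : Type u) [AddCommGroup M] [Module S M] [Module R M] [IsScalarTower R S M]
    (M' : Type u) [AddCommGroup M'] [Module S' M'] [Module R' M'] [IsScalarTower R' S' M']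
    [Module S M'] [IsScalarTower S S' M'] [Module R M'] [IsScalarTower R R' M']
    [IsScalarTower R S M']
    (f : M →ₗ[S] M') (hf : IsBaseChange S' f)
    (W : Submonoid (S ⊗[R] R'))
    (hW : letI : Algebra (S ⊗[R] R') S' :=
        (Algebra.TensorProduct.lift (IsScalarTower.toAlgHom R S S') (IsScalarTower.toAlgHom R R' S')
          (fun s r => Commute.all _ _)).toRingHom.toAlgebra;
      IsLocalization W S')
    [Module.Flat (R ⧸ I) ((R ⧸ I) ⊗[R] M)]
    (h3 : ∀ x : ↥I ⊗[R] M, TorBC.mu I M x = 0 → TorBC.phi R' I (f.restrictScalars R) x = 0) :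
    Injective ((I.map (algebraMap R R')).subtype.rTensor M') ∧
      Module.Flat (R' ⧸ I.map (algebraMap R R')) ((R' ⧸ I.map (algebraMap R R')) ⊗[R'] M') := by
  letI algT : Algebra (S ⊗[R] R') S' :=
    (Algebra.TensorProduct.lift (IsScalarTower.toAlgHom R S S') (IsScalarTower.toAlgHom R R' S')
      (fun s r => Commute.all _ _)).toRingHom.toAlgebra
  haveI : IsLocalization W S' := hW
  have halg : ∀ (s : S) (r' : R'), algebraMap (S ⊗[R] R') S' (s ⊗ₜ r') =
      algebraMap S S' s * algebraMap R' S' r' := fun s r' => rfl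
  haveI tow1 : IsScalarTower S (S ⊗[R] R') S' := IsScalarTower.of_algebraMap_eq fun s => by
    rw [Algebra.TensorProduct.algebraMap_apply, halg]
    simp
  haveI tow2 : IsScalarTower R' (S ⊗[R] R') S' := IsScalarTower.of_algebraMap_eq fun r' => by
    rw [Algebra.TensorProduct.right_algebraMap_apply, halg]
    simp
  letI modT : Module (S ⊗[R] R') M' := Module.compHom M' (algebraMap (S ⊗[R] R') S')
  haveI tow3 : IsScalarTower (S ⊗[R] R') S' M' := IsScalarTower.of_algebraMap_smul fun _ _ => rfl
  haveI tow4 : IsScalarTower S (S ⊗[R] R') M' := IsScalarTower.of_algebraMap_smul fun s m => by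
    show algebraMap (S ⊗[R] R') S' (algebraMap S (S ⊗[R] R') s) • m = s • m
    rw [← IsScalarTower.algebraMap_apply S (S ⊗[R] R') S', algebraMap_smul]
  haveI tow5 : IsScalarTower R' (S ⊗[R] R') M' := IsScalarTower.of_algebraMap_smul fun r' m => by
    show algebraMap (S ⊗[R] R') S' (algebraMap R' (S ⊗[R] R') r') • m = r' • m
    rw [← IsScalarTower.algebraMap_apply R' (S ⊗[R] R') S', algebraMap_smul]
  -- the localization map
  let ℓ : (S ⊗[R] R') ⊗[S] M →ₗ[S ⊗[R] R'] M' := LinearMap.liftBaseChange (S ⊗[R] R') f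
  have hℓbc : IsBaseChange S' ℓ := by
    apply IsBaseChange.of_comp (TensorProduct.isBaseChange S M (S ⊗[R] R'))
    have : (ℓ.restrictScalars S) ∘ₗ (TensorProduct.mk S (S ⊗[R] R') M 1) = f := by
      ext m
      simp [ℓ]
    rw [this]
    exact hf
  haveI : IsLocalizedModule W ℓ := (isLocalizedModule_iff_isBaseChange W S' ℓ).2 hℓbc
  -- the base change map
  let g : M →ₗ[R] (S ⊗[R] R') ⊗[S] M := (TensorProduct.mk S (S ⊗[R] R') M 1).restrictScalars R
  have hg : IsBaseChange R' g := by
    apply IsBaseChange.of_equiv (Algebra.IsPushout.cancelBaseChange R R' S (S ⊗[R] R') M).symm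
    intro x
    simp [g]
  have hℓg : ((ℓ.restrictScalars R').restrictScalars R) ∘ₗ g = f.restrictScalars R := by
    ext m
    simp [ℓ, g]
  constructor
  · rw [← LinearMap.lTensor_inj_iff_rTensor_inj]
    apply QFlat.lTensor_injective_of_forall_ker (I.map (algebraMap R R')) (S ⊗[R] R') W ℓ
    intro x hx
    have hz : TorBC.mu (I.map (algebraMap R R')) _ (TensorProduct.comm R' _ _ x) = 0 := by
      rw [TorBC.mu_eq_zero_iff, LinearMap.rTensor_comm, hx, map_zero]
    have hspan := TorBC.mem_span_of_isBaseChange R' I g hg _ hz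
    have hsub : TorBC.phi R' I g '' {x | TorBC.mu I M x = 0} ⊆
        (LinearMap.ker ((ℓ.restrictScalars R').lTensor (I.map (algebraMap R R'))) : Set _) := by
      rintro _ ⟨x₀, hx₀, rfl⟩
      rw [SetLike.mem_coe, LinearMap.mem_ker, TorBC.lTensor_phi, hℓg]
      exact h3 x₀ hx₀
    have h0 := (Submodule.span_le.2 hsub) hspan
    rw [LinearMap.mem_ker, LinearMap.lTensor_comm] at h0
    exact (LinearEquiv.map_eq_zero_iff _).1 h0
  · have q1 : QFlat.QF I M := QFlat.qf_of_flat I M
    have q2 : QFlat.QF (I.map (algebraMap R R')) ((S ⊗[R] R') ⊗[S] M) :=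
      QFlat.qf_of_isBaseChange I g hg q1
    have q3 : QFlat.QF (I.map (algebraMap R R')) M' :=
      QFlat.qf_of_isLocalizedModule (I.map (algebraMap R R')) (S ⊗[R] R') W ℓ q2
    exact QFlat.flat_of_qf _ M' q3

end Groth.Agent.Lib.Helper54.TorLoc
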